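import Cfsg.Statements.S2970
import Cfsg.Agent.Lib.Helper55.Isolated
import Mathlib.GroupTheory.Transfer
import Mathlib.NumberTheory.Basic
import Mathlib.RingTheory.Int.Basic
import Mathlib.RingTheory.Coprime.Lemmas
import Mathlib.RingTheory.PrincipalIdealDomain

set_option autoImplicit false
open Cfsg

namespace Cfsg.Agent.S2970

open Cfsg.Agent.Lib.Helper55

theorem mem_of_pow_mem_of_coprime {G : Type*} [Group G] (C : Subgroup G) {n : G} {a b : ℕ}
    (ha : n ^ a ∈ C) (hb : n ^ b ∈ C) (hab : a.Coprime b) : n ∈ C := by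
  have h1 : ((Nat.gcd a b : ℕ) : ℤ) = a * Nat.gcdA a b + b * Nat.gcdB a b := Nat.gcd_eq_gcd_ab a b
  rw [hab] at h1
  have h2 : n = (n ^ a) ^ (Nat.gcdA a b) * (n ^ b) ^ (Nat.gcdB a b) := by
    rw [← zpow_natCast n a, ← zpow_natCast n b, ← zpow_mul, ← zpow_mul, ← zpow_add, ← h1]
    simp
  rw [h2]
  exact C.mul_mem (C.zpow_mem ha _) (C.zpow_mem hb _)

theorem conj_pow_eq {G : Type*} [Group G] {n a : G} {r : ℤ} (h : n * a * n⁻¹ = a ^ r) (j : ℕ) :
    n ^ j * a * (n ^ j)⁻¹ = a ^ (r ^ j) := by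
  induction j with
  | zero => simp
  | succ j ih =>
    calc n ^ (j + 1) * a * (n ^ (j + 1))⁻¹ = n * (n ^ j * a * (n ^ j)⁻¹) * n⁻¹ := by
          rw [pow_succ']; group
      _ = n * (a ^ (r ^ j)) * n⁻¹ := by rw [ih]
      _ = (n * a * n⁻¹) ^ (r ^ j) := (conj_zpow).symm
      _ = a ^ (r ^ (j + 1)) := by rw [h, ← zpow_mul, pow_succ']

theorem normalizer_le_centralizer_of_cyclic {G : Type*} [Group G] [Finite G] {p : ℕ} [Fact p.Prime]
    (P : Sylow p G) (hcyc : IsCyclic ↥(P : Subgroup G)) {x : G} (hxP : x ∈ (P : Subgroup G)) (hx1 : x ≠ 1)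
    (hN : Subgroup.normalizer ((P : Subgroup G) : Set G) ≤ Subgroup.centralizer ({x} : Set G)) :
    Subgroup.normalizer ((P : Subgroup G) : Set G) ≤ Subgroup.centralizer ((P : Subgroup G) : Set G) := by
  obtain ⟨a, ha⟩ := IsCyclic.exists_generator (α := ↥(P : Subgroup G))
  have hgen : ∀ y ∈ (P : Subgroup G), ∃ s : ℤ, (a : G) ^ s = y := by
    intro y hy
    obtain ⟨s, hs⟩ := Subgroup.mem_zpowers_iff.1 (ha ⟨y, hy⟩)
    exact ⟨s, by simpa using congrArg Subtype.val hs⟩
  obtain ⟨m, hm⟩ := P.2.exists_card_eq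
  have hord : orderOf (a : G) = p ^ m := by
    rw [Subgroup.orderOf_coe, orderOf_eq_card_of_forall_mem_zpowers ha, hm]
  -- commuting with a suffices
  have hsuff : ∀ c : G, c * a = a * c → c ∈ Subgroup.centralizer ((P : Subgroup G) : Set G) := by
    intro c hc
    rw [Subgroup.mem_centralizer_iff]
    intro y hy
    obtain ⟨s, rfl⟩ := hgen y hy
    exact ((Commute.zpow_right (show Commute c (a : G) from hc) s)).symm
  have hPC : (P : Subgroup G) ≤ Subgroup.centralizer ((P : Subgroup G) : Set G) := by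
    intro y hy
    obtain ⟨s, rfl⟩ := hgen y hy
    apply hsuff
    exact ((Commute.refl (a : G)).zpow_left s)
  intro n hn
  obtain ⟨r, hr⟩ := hgen (n * a * n⁻¹) ((hn a).1 a.2)
  obtain ⟨s, hs⟩ := hgen x hxP
  have hnx : n * x * n⁻¹ = x := by
    have := hN hn
    rw [Subgroup.mem_centralizer_singleton_iff] at this
    rw [this]; group
  have h1 : (a : G) ^ (r * s - s) = 1 := by
    have : (a : G) ^ (r * s) = (a : G) ^ s := by
      calc (a : G) ^ (r * s) = ((a : G) ^ r) ^ s := zpow_mul _ _ _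
        _ = (n * a * n⁻¹) ^ s := by rw [hr]
        _ = n * (a : G) ^ s * n⁻¹ := conj_zpow
        _ = (a : G) ^ s := by rw [hs, hnx]
    rw [zpow_sub, this]; group
  have h2 : ((p ^ m : ℕ) : ℤ) ∣ r * s - s := by
    rw [← hord]; exact orderOf_dvd_iff_zpow_eq_one.2 h1
  have h3 : ¬ ((p ^ m : ℕ) : ℤ) ∣ s := by
    intro h
    rw [← hord] at h
    exact hx1 (hs ▸ orderOf_dvd_iff_zpow_eq_one.1 h)
  have hpp : Prime (p : ℤ) := Nat.prime_iff_prime_int.1 Fact.out
  have h4 : (p : ℤ) ∣ r - 1 := by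
    by_contra hnd
    have hco : IsCoprime (p : ℤ) (r - 1) := (hpp.irreducible.coprime_iff_not_dvd).2 hnd
    have hco' : IsCoprime ((p ^ m : ℕ) : ℤ) (r - 1) := by
      push_cast
      exact hco.pow_left
    apply h3
    apply hco'.dvd_of_dvd_mul_left
    have : (r - 1) * s = r * s - s := by ring
    rw [this]; exact h2
  have hm0 : m ≠ 0 := by
    rintro rfl
    apply h3; simp
  obtain ⟨k, rfl⟩ := Nat.exists_eq_succ_of_ne_zero hm0
  have h5 : ((p : ℤ) ^ (k + 1)) ∣ r ^ p ^ k - 1 ^ p ^ k := dvd_sub_pow_of_dvd_sub h4 k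
  have h6 : n ^ (p ^ k) * a * (n ^ (p ^ k))⁻¹ = a := by
    rw [conj_pow_eq hr.symm]
    have h7 : (a : G) ^ (r ^ p ^ k - 1) = 1 := by
      apply orderOf_dvd_iff_zpow_eq_one.1
      rw [hord]
      push_cast
      simpa using h5
    calc (a : G) ^ (r ^ p ^ k) = (a : G) ^ (r ^ p ^ k - 1) * a := by
          rw [← zpow_add_one]; congr 1; ring
      _ = a := by rw [h7, one_mul]
  have h8 : n ^ (p ^ k) ∈ Subgroup.centralizer ((P : Subgroup G) : Set G) := by
    apply hsuff
    calc n ^ (p ^ k) * a = (n ^ (p ^ k) * a * (n ^ (p ^ k))⁻¹) * n ^ (p ^ k) := by group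
      _ = a * n ^ (p ^ k) := by rw [h6]
  have h9 : n ^ ((Subgroup.centralizer ((P : Subgroup G) : Set G)).relIndex
      (Subgroup.normalizer ((P : Subgroup G) : Set G))) ∈ Subgroup.centralizer ((P : Subgroup G) : Set G) := by
    have := Subgroup.pow_index_mem ((Subgroup.centralizer ((P : Subgroup G) : Set G)).subgroupOf
      (Subgroup.normalizer ((P : Subgroup G) : Set G))) ⟨n, hn⟩
    rw [Subgroup.mem_subgroupOf] at this
    exact this
  refine mem_of_pow_mem_of_coprime _ h8 h9 ?_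
  apply Nat.Coprime.pow_left
  apply Nat.Coprime.coprime_dvd_right (Subgroup.relIndex_dvd_of_le_left _ hPC)
  apply Nat.Coprime.coprime_dvd_right (Subgroup.relIndex_dvd_index_of_le Subgroup.le_normalizer)
  rw [Nat.Prime.coprime_iff_not_dvd Fact.out]
  exact P.not_dvd_index

/-- Let G be a finite group, p a prime and x ∈ G an element of p-power order which is isolated in G. Then the image of x in any quotient G ⧸ N is isolated in G ⧸ N; and if x ≠ 1 and the Sylow p-subgroups of G are cyclic, then G has a normal p-complement. -/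
theorem result {G : Type*} [Group G] [Finite G] {p : ℕ} [Fact p.Prime] (x : G) (hx : ∃ k : ℕ, orderOf x = p ^ k) (hiso : Cfsg.IsIsolated x) : (∀ (N : Subgroup G) [N.Normal], Cfsg.IsIsolated (QuotientGroup.mk x : G ⧸ N)) ∧ (x ≠ 1 → (∀ P : Sylow p G, IsCyclic ↥(P : Subgroup G)) → Cfsg.HasNormalPComplement p G) := by
  refine ⟨?_, ?_⟩
  · intro N _ gbar hcomm
    obtain ⟨g, rfl⟩ := QuotientGroup.mk_surjective gbar
    let H : Subgroup G := (Subgroup.centralizer
      ({(QuotientGroup.mk (g * x * g⁻¹) : G ⧸ N)} : Set (G ⧸ N))).comap (QuotientGroup.mk' N)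
    have hxH : x ∈ H := by
      show (QuotientGroup.mk' N) x ∈ Subgroup.centralizer _
      rw [Subgroup.mem_centralizer_singleton_iff]
      exact hcomm
    have hyH : g * x * g⁻¹ ∈ H := by
      show (QuotientGroup.mk' N) (g * x * g⁻¹) ∈ Subgroup.centralizer _
      rw [Subgroup.mem_centralizer_singleton_iff]
      rfl
    obtain ⟨h, hh, hconj⟩ := isolated_exists_conj_eq hiso hx H hxH hyH
    have hh' : (QuotientGroup.mk' N) h ∈ Subgroup.centralizer
      ({(QuotientGroup.mk (g * x * g⁻¹) : G ⧸ N)} : Set (G ⧸ N)) := hh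
    rw [Subgroup.mem_centralizer_singleton_iff] at hh'
    have h1 : (QuotientGroup.mk x : G ⧸ N) = (QuotientGroup.mk' N) h * (QuotientGroup.mk (g * x * g⁻¹) : G ⧸ N) * ((QuotientGroup.mk' N) h)⁻¹ := by
      conv_lhs => rw [← hconj]
      rfl
    rw [hh'] at h1
    have h2 : (QuotientGroup.mk x : G ⧸ N) = (QuotientGroup.mk (g * x * g⁻¹) : G ⧸ N) := by
      rw [h1]; group
    exact h2.symm
  · intro hx1 hcyc
    obtain ⟨P, hP⟩ := (isPGroup_zpowers_of_orderOf hx).exists_le_sylow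
    have hxP : x ∈ (P : Subgroup G) := hP (Subgroup.mem_zpowers x)
    have hN : Subgroup.normalizer ((P : Subgroup G) : Set G) ≤ Subgroup.centralizer ({x} : Set G) := by
      intro n hn
      have h1 : n * x * n⁻¹ ∈ (P : Subgroup G) := (hn x).1 hxP
      have h2 := isolated_conj_eq_of_mem_pgroup hiso P.2 hxP h1
      rw [Subgroup.mem_centralizer_singleton_iff]
      calc n * x = (n * x * n⁻¹) * n := by group
        _ = x * n := by rw [h2]
    have hNC := normalizer_le_centralizer_of_cyclic P (hcyc P) hxP hx1 hN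
    exact ⟨P, _, inferInstance, MonoidHom.ker_transferSylow_isComplement' P hNC⟩

end Cfsg.Agent.S2970
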