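import Cfsg.Statements.S2971
import Cfsg.Agent.Lib.Helper55.Isolated
import Cfsg.Agent.S2970
import Cfsg.Agent.S0016

set_option autoImplicit false
open Cfsg

namespace Cfsg.Agent.S2971

open Cfsg.Agent.Lib.Helper55

theorem elemAb_closure_pair {G : Type*} [Group G] {p : ℕ} {h x : G} (hc : Commute h x)
    (hh : h ^ p = 1) (hx : x ^ p = 1) :
    IsMulCommutative ↥(Subgroup.closure ({h, x} : Set G)) ∧
      ∀ a ∈ Subgroup.closure ({h, x} : Set G), a ^ p = 1 := by
  have hcomm : IsMulCommutative ↥(Subgroup.closure ({h, x} : Set G)) := by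
    apply Subgroup.isMulCommutative_closure
    intro a ha b hb
    simp only [Set.mem_insert_iff, Set.mem_singleton_iff] at ha hb
    rcases ha with rfl | rfl <;> rcases hb with rfl | rfl
    · rfl
    · exact hc
    · exact hc.symm
    · rfl
  refine ⟨hcomm, ?_⟩
  intro a ha
  induction ha using Subgroup.closure_induction with
  | mem y hy =>
    simp only [Set.mem_insert_iff, Set.mem_singleton_iff] at hy
    rcases hy with rfl | rfl
    · exact hh
    · exact hx
  | one => simp
  | mul y z hy hz ihy ihz =>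
    have h1 : Commute y z := by
      have := mul_comm' (⟨y, hy⟩ : ↥(Subgroup.closure ({h, x} : Set G))) ⟨z, hz⟩
      exact congrArg Subtype.val this
    rw [h1.mul_pow, ihy, ihz, one_mul]
  | inv y hy ihy => rw [inv_pow, ihy, inv_one]

theorem cyclic_of_rank_one {G : Type*} [Group G] [Finite G] {p : ℕ} [Fact p.Prime] (hp : p ≠ 2)
    (hrk : Cfsg.PRankLE p 1 G) (P : Subgroup G) (hP : IsPGroup p ↥P) {x : G} (hxP : x ∈ P)
    (hx : orderOf x = p) (hxc : ∀ y ∈ P, Commute x y) : IsCyclic ↥P := by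
  have key : ∀ H : Subgroup ↥P, Nat.card H = p → H = Subgroup.zpowers (⟨x, hxP⟩ : ↥P) := by
    intro H hH
    have hcyc : IsCyclic ↥H := isCyclic_of_prime_card hH
    obtain ⟨h, hh⟩ := IsCyclic.exists_generator (α := ↥H)
    have hhp : ((h : ↥P) : G) ^ p = 1 := by
      have h1 : h ^ Nat.card ↥H = 1 := pow_card_eq_one'
      rw [hH] at h1
      have h2 := congrArg (fun z : ↥H => ((z : ↥P) : G)) h1
      simpa using h2
    have hxp : x ^ p = 1 := by rw [← hx]; exact pow_orderOf_eq_one x
    obtain ⟨hA1, hA2⟩ := elemAb_closure_pair (hxc _ (h : ↥P).2).symm hhp hxp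
    have hcard := hrk _ hA1 hA2
    rw [pow_one] at hcard
    -- both zpowers are equal to the closure
    have hx_le : Subgroup.zpowers x ≤ Subgroup.closure ({((h : ↥P) : G), x} : Set G) := by
      rw [Subgroup.zpowers_le]
      exact Subgroup.subset_closure (by simp)
    have hh_le : Subgroup.zpowers ((h : ↥P) : G) ≤ Subgroup.closure ({((h : ↥P) : G), x} : Set G) := by
      rw [Subgroup.zpowers_le]
      exact Subgroup.subset_closure (by simp)
    have hcx : Nat.card ↥(Subgroup.zpowers x) = p := by rw [Nat.card_zpowers, hx]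
    have hordh : orderOf ((h : ↥P) : G) = p := by
      rw [Subgroup.orderOf_coe, Subgroup.orderOf_coe, orderOf_eq_card_of_forall_mem_zpowers hh, hH]
    have hch : Nat.card ↥(Subgroup.zpowers ((h : ↥P) : G)) = p := by rw [Nat.card_zpowers, hordh]
    have e1 := Subgroup.eq_of_le_of_card_ge hx_le (by rw [hcx]; exact hcard)
    have e2 := Subgroup.eq_of_le_of_card_ge hh_le (by rw [hch]; exact hcard)
    have e3 : Subgroup.zpowers ((h : ↥P) : G) = Subgroup.zpowers x := e2.trans e1.symm
    -- transfer to P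
    have hH' : H = Subgroup.zpowers (h : ↥P) := by
      ext y
      constructor
      · intro hy
        obtain ⟨k, hk⟩ := Subgroup.mem_zpowers_iff.1 (hh ⟨y, hy⟩)
        rw [Subgroup.mem_zpowers_iff]
        exact ⟨k, by simpa using congrArg Subtype.val hk⟩
      · intro hy
        obtain ⟨k, hk⟩ := Subgroup.mem_zpowers_iff.1 hy
        rw [← hk]
        exact H.zpow_mem h.2 k
    rw [hH']
    apply Subgroup.map_injective P.subtype_injective
    rw [MonoidHom.map_zpowers, MonoidHom.map_zpowers]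
    exact e3
  have huniq : ∀ H K : Subgroup ↥P, Nat.card H = p → Nat.card K = p → H = K := by
    intro H K hH hK
    rw [key H hH, key K hK]
  rcases Cfsg.Agent.S0016.result p hP huniq with h | ⟨h, -⟩
  · exact h
  · exact absurd h hp

/-- Let G be a finite group and p an odd prime such that G has p-rank at most 1 (no elementary abelian subgroup of order p²). If x ∈ G is an isolated element of order p, then x is central modulo the largest normal subgroup of G of order prime to p. -/
theorem result {G : Type*} [Group G] [Finite G] {p : ℕ} [Fact p.Prime] (hp : p ≠ 2) (hrk : Cfsg.PRankLE p 1 G) (x : G) (hx : orderOf x = p) (hiso : Cfsg.IsIsolated x) : Cfsg.InZStar p x := by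
  have hx' : ∃ k : ℕ, orderOf x = p ^ k := ⟨1, by rw [hx, pow_one]⟩
  have hx1 : x ≠ 1 := by
    intro h
    rw [h, orderOf_one] at hx
    exact (Fact.out : p.Prime).one_lt.ne hx
  obtain ⟨P₀, hP₀⟩ := (isPGroup_zpowers_of_orderOf hx').exists_le_sylow
  have hxP₀ : x ∈ (P₀ : Subgroup G) := hP₀ (Subgroup.mem_zpowers x)
  have hcyc₀ : IsCyclic ↥(P₀ : Subgroup G) :=
    cyclic_of_rank_one hp hrk _ P₀.2 hxP₀ hx (isolated_commute_of_mem_pgroup hiso P₀.2 hxP₀)
  have hcyc : ∀ P : Sylow p G, IsCyclic ↥(P : Subgroup G) := by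
    intro P
    exact isCyclic_of_surjective (P₀.equiv P) (P₀.equiv P).surjective
  obtain ⟨P, N, hN, hcompl⟩ := (Cfsg.Agent.S2970.result x hx' hiso).2 hx1 hcyc
  have hNcore : N ≤ Cfsg.pPrimeCore p G := by
    apply le_sSup
    refine ⟨hN, ?_⟩
    rw [← hcompl.index_eq_card]
    exact ((Nat.Prime.coprime_iff_not_dvd Fact.out).2 P.not_dvd_index).symm
  have hdec : ∀ g : G, ∃ n ∈ N, ∃ y ∈ (P : Subgroup G), g = n * y := by
    intro g
    have : g ∈ N ⊔ (P : Subgroup G) := by rw [hcompl.sup_eq_top]; trivial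
    obtain ⟨n, hn, y, hy, rfl⟩ := Subgroup.mem_sup_of_normal_left.1 this
    exact ⟨n, hn, y, hy, rfl⟩
  have hPcomm : ∀ a ∈ (P : Subgroup G), ∀ b ∈ (P : Subgroup G), a * b = b * a := by
    intro a ha b hb
    have hcm : IsMulCommutative ↥(P : Subgroup G) := (hcyc P).isMulCommutative
    have := mul_comm' (⟨a, ha⟩ : ↥(P : Subgroup G)) ⟨b, hb⟩
    exact congrArg Subtype.val this
  intro g
  apply hNcore
  obtain ⟨n₁, hn₁, y₁, hy₁, rfl⟩ := hdec g
  obtain ⟨n₂, hn₂, y₂, hy₂, hxe⟩ := hdec x
  rw [← QuotientGroup.eq_one_iff, hxe]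
  have e1 : (QuotientGroup.mk n₁ : G ⧸ N) = 1 := (QuotientGroup.eq_one_iff _).2 hn₁
  have e2 : (QuotientGroup.mk n₂ : G ⧸ N) = 1 := (QuotientGroup.eq_one_iff _).2 hn₂
  have e3 : (QuotientGroup.mk y₁ : G ⧸ N) * QuotientGroup.mk y₂ = QuotientGroup.mk y₂ * QuotientGroup.mk y₁ := by
    rw [← QuotientGroup.mk_mul, ← QuotientGroup.mk_mul, hPcomm y₁ hy₁ y₂ hy₂]
  simp only [QuotientGroup.mk_mul, QuotientGroup.mk_inv, e1, e2, one_mul, inv_one]
  rw [e3]; group

end Cfsg.Agent.S2971
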