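import Cfsg.Statements.S1410
import Cfsg.Agent.Lib.Helper68.BG10C
import Cfsg.Agent.S1403
import Cfsg.Agent.S1405
import Cfsg.Agent.S1407
import Cfsg.Agent.S1444

set_option autoImplicit false
open Cfsg

namespace Cfsg.Agent.S1410

/-- Let G be a minimal simple group of odd order. Then for every prime p and every proper subgroup H of G, H = O_{p',p,p'}(H). -/
theorem result {G : Type*} [Group G] [Finite G] (hG : Cfsg.IsMinSimpleOddOrder G) (p : ℕ) [Fact p.Prime] (H : Subgroup G) (hH : H ≠ ⊤) :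
    Cfsg.PLengthLE p 1 H := by
  exact Cfsg.Agent.Lib.Helper68.S1410_of hG
    (fun K hK hK2 hK3 => Cfsg.Agent.S1403.result hG K hK hK2 hK3)
    (fun M hM => (Cfsg.Agent.S1405.result hG M hM).1)
    (fun M hM hMα q _ hqM hq P => by
      obtain ⟨x, h1, h2, h3, -⟩ := Cfsg.Agent.S1407.result hG M hM hMα q hqM hq P
      exact ⟨x, h1, h2, h3⟩)
    (fun M _ hodd H R R₀ _ hHall hR hR₀ hR₀p hZ q _ =>
      Cfsg.Agent.S1444.result hodd H R R₀ hHall hR hR₀ hR₀p hZ q) p H hH

end Cfsg.Agent.S1410
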