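import Cfsg.Statements.S0033
import Cfsg.Agent.Lib.Helper1.TFpf3
import Cfsg.Agent.S0659

set_option autoImplicit false
open Cfsg

namespace Cfsg.Agent.S0033

open Lib.Helper1

/-- Thompson's Theorem on fixed-point-free automorphisms: a finite group with an automorphism of prime order fixing only the identity is nilpotent. -/
theorem result {G : Type*} [Group G] [Finite G] (φ : G ≃* G)
    (hφ : MonoidHom.FixedPointFree (φ : G →* G)) (p : ℕ) (hp : p.Prime) (hord : orderOf φ = p) :
    Group.IsNilpotent G := by
  apply thompson_fpf (fun X _ _ q _ hq P h => Cfsg.Agent.S0659.result hq P h) hp (φ : G →* G) hφ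
  have h1 : φ ^ p = 1 := hord ▸ pow_orderOf_eq_one φ
  have h2 : ∀ (n : ℕ) (x : G), (φ : G →* G)^[n] x = (φ ^ n) x := by
    intro n
    induction n with
    | zero => intro x; rfl
    | succ n ih =>
      intro x
      rw [Function.iterate_succ_apply', ih, pow_succ']
      rfl
  funext x
  rw [h2, h1]
  rfl

end Cfsg.Agent.S0033
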