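import Cfsg.Statements.S1477
import Cfsg.Agent.Lib.Helper31.CN

set_option autoImplicit false
open Cfsg

namespace Cfsg.Agent.S1477

open Cfsg.Agent.Lib.Helper31

theorem exists_second_prime {n q : ℕ} (hn0 : n ≠ 0) (hn1 : n ≠ 1) (_hq : q.Prime)
    (h : ¬ ∃ r : ℕ, r.Prime ∧ q ≠ r ∧ r ∣ n) : ∃ k : ℕ, 0 < k ∧ n = q ^ k := by
  push Not at h
  have h1 := Nat.eq_prime_pow_of_unique_prime_dvd (p := q) hn0
    (fun {d} hd hdn => by
      by_contra hne
      exact h d hd (fun h' => hne h'.symm) hdn)
  refine ⟨_, ?_, h1⟩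
  rcases Nat.eq_zero_or_pos n.primeFactorsList.length with h0 | h0
  · rw [h0, pow_zero] at h1
    exact absurd h1 hn1
  · exact h0

/-- Let G be a finite group in which every non-identity element has nilpotent centralizer, and H a nilpotent subgroup not properly contained in any nilpotent subgroup. Then the order of H is coprime to its index; if the order of H is not a prime power then H ∩ gHg⁻¹ = 1 whenever gHg⁻¹ ≠ H; and if H ∩ gHg⁻¹ = 1 whenever gHg⁻¹ ≠ H, then C_G(x) ≤ H for every non-identity x ∈ H. -/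
theorem result {G : Type*} [Group G] [Finite G] (hCN : Cfsg.IsCNGroup G) (H : Subgroup G) (hH : Group.IsNilpotent H)
    (hmax : ∀ L : Subgroup G, Group.IsNilpotent L → H ≤ L → L = H) :
    (Nat.card H).Coprime H.index ∧
      (¬ IsPrimePow (Nat.card H) → Nat.card H ≠ 1 → ∀ g : G, H.map (MulAut.conj g).toMonoidHom ≠ H → H ⊓ H.map (MulAut.conj g).toMonoidHom = ⊥) ∧
      ((∀ g : G, H.map (MulAut.conj g).toMonoidHom ≠ H → H ⊓ H.map (MulAut.conj g).toMonoidHom = ⊥) → ∀ x ∈ H, x ≠ 1 → Subgroup.centralizer ({x} : Set G) ≤ H) := by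
  have hn0 : Nat.card H ≠ 0 := Nat.card_pos.ne'
  have hcop : (Nat.card H).Coprime H.index := by
    by_contra h
    obtain ⟨q, hq, hq1, hq2⟩ := Nat.Prime.not_coprime_iff_dvd.mp h
    have := Fact.mk hq
    obtain ⟨Q, hQH, _, _⟩ := exists_sylow_le hCN H hH hmax q hq1
    exact Q.not_dvd_index (hq2.trans (Subgroup.index_dvd_of_le hQH))
  refine ⟨hcop, ?_, ?_⟩
  · intro hpp hn1 g hg
    by_contra hne
    obtain ⟨x, hx, hx1⟩ : ∃ x ∈ H ⊓ H.map (MulAut.conj g).toMonoidHom, x ≠ 1 := by
      by_contra hcon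
      push Not at hcon
      exact hne ((Subgroup.eq_bot_iff_forall _).mpr hcon)
    have hq : (Nat.card H).minFac.Prime := Nat.minFac_prime hn1
    have := Fact.mk hq
    have h2 : ∃ r : ℕ, r.Prime ∧ (Nat.card H).minFac ≠ r ∧ r ∣ Nat.card H := by
      by_contra hcon
      obtain ⟨k, hk, hnk⟩ := exists_second_prime hn0 hn1 hq hcon
      exact hpp ⟨_, k, hq.prime, hk, hnk.symm⟩
    obtain ⟨r, hr, hqr, hrn⟩ := h2
    have := Fact.mk hr
    have star : ∀ x ∈ H, x ≠ 1 → Subgroup.centralizer ({x} : Set G) ≤ H := fun x hx hx1 =>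
      centralizer_le_of_two_primes hCN H hH hmax _ r hqr (Nat.minFac_dvd _) hrn hx hx1
    have star' : ∀ x ∈ H.map (MulAut.conj g).toMonoidHom, x ≠ 1 →
        Subgroup.centralizer ({x} : Set G) ≤ H.map (MulAut.conj g).toMonoidHom := by
      intro x hx hx1 c hc
      obtain ⟨y, hy, rfl⟩ := Subgroup.mem_map.mp hx
      have hy1 : y ≠ 1 := by
        rintro rfl
        exact hx1 (map_one _)
      have hc' : c * (g * y * g⁻¹) = g * y * g⁻¹ * c := Subgroup.mem_centralizer_singleton_iff.mp hc
      have h3 : g⁻¹ * c * g ∈ H := by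
        apply star y hy hy1
        rw [Subgroup.mem_centralizer_singleton_iff]
        calc g⁻¹ * c * g * y = g⁻¹ * (c * (g * y * g⁻¹)) * g := by group
          _ = g⁻¹ * (g * y * g⁻¹ * c) * g := by rw [hc']
          _ = y * (g⁻¹ * c * g) := by group
      refine Subgroup.mem_map.mpr ⟨_, h3, ?_⟩
      change g * (g⁻¹ * c * g) * g⁻¹ = c
      group
    obtain ⟨z, hzH, hz1, _, hzc⟩ := exists_central_prime_elt H hH r hrn
    have hz2 : z ∈ H.map (MulAut.conj g).toMonoidHom :=
      star' x hx.2 hx1 (Subgroup.mem_centralizer_singleton_iff.mpr (hzc x hx.1).symm)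
    have hle : H ≤ H.map (MulAut.conj g).toMonoidHom := fun h hh =>
      star' z hz2 hz1 (Subgroup.mem_centralizer_singleton_iff.mpr (hzc h hh))
    have hnil : Group.IsNilpotent (H.map (MulAut.conj g).toMonoidHom) :=
      Group.nilpotent_of_mulEquiv (H.equivMapOfInjective _ (MulAut.conj g).injective)
    exact hg (hmax _ hnil hle)
  · intro hTI x hx hx1
    have hn1 : Nat.card H ≠ 1 := by
      intro h
      have := (Subgroup.card_eq_one.mp h)
      rw [this, Subgroup.mem_bot] at hx
      exact hx1 hx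
    have hq : (Nat.card H).minFac.Prime := Nat.minFac_prime hn1
    have := Fact.mk hq
    by_cases h2 : ∃ r : ℕ, r.Prime ∧ (Nat.card H).minFac ≠ r ∧ r ∣ Nat.card H
    · obtain ⟨r, hr, hqr, hrn⟩ := h2
      have := Fact.mk hr
      exact centralizer_le_of_two_primes hCN H hH hmax _ r hqr (Nat.minFac_dvd _) hrn hx hx1
    · obtain ⟨k, hk, hnk⟩ := exists_second_prime hn0 hn1 hq h2
      set q := (Nat.card H).minFac with hqdef
      have hHq : IsPGroup q H := IsPGroup.of_card hnk
      have hqi : ¬ q ∣ H.index := by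
        intro hdvd
        have := Nat.dvd_gcd (Nat.minFac_dvd (Nat.card H)) hdvd
        rw [Nat.Coprime.gcd_eq_one hcop] at this
        exact hq.one_lt.ne' (Nat.dvd_one.mp this)
      intro c hc
      obtain ⟨a, ha, b, hb, hab, ⟨j, hj⟩, hbq⟩ := exists_prime_decomp q c (isOfFinOrder_of_finite c)
      have hz : Subgroup.zpowers c ≤ Subgroup.centralizer ({x} : Set G) := by
        rw [Subgroup.zpowers_le]; exact hc
      have ha' := (Subgroup.mem_centralizer_singleton_iff.mp (hz ha))
      have hb' := (Subgroup.mem_centralizer_singleton_iff.mp (hz hb))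
      rw [hab]
      refine H.mul_mem ?_ (mem_of_coprime hCN H hH hmax hx hx1 hb' q (Nat.minFac_dvd _) hbq)
      have hmap : H.map (MulAut.conj a).toMonoidHom = H := by
        by_contra hne
        have h3 := hTI a hne
        have h4 : x ∈ H ⊓ H.map (MulAut.conj a).toMonoidHom := by
          refine ⟨hx, Subgroup.mem_map.mpr ⟨x, hx, ?_⟩⟩
          change a * x * a⁻¹ = x
          rw [ha']; group
        rw [h3, Subgroup.mem_bot] at h4
        exact hx1 h4
      have hnorm : a ∈ Subgroup.normalizer (H : Set G) :=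
        Subgroup.mem_normalizer_iff_map_conj_eq.mpr hmap
      have haq : IsPGroup q (Subgroup.zpowers a) := by
        apply IsPGroup.of_card (n := j)
        rw [Nat.card_zpowers, hj]
      have h5 := haq.inf_normalizer_sylow (hHq.toSylow hqi)
      have h6 : a ∈ Subgroup.zpowers a ⊓ (hHq.toSylow hqi : Subgroup G) := by
        rw [← h5]
        exact ⟨Subgroup.mem_zpowers a, hnorm⟩
      exact h6.2

end Cfsg.Agent.S1477
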