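import Cfsg.Statements.S1483
import Cfsg.Agent.Lib.Helper31.CN

set_option autoImplicit false
open Cfsg

namespace Cfsg.Agent.S1483

open Cfsg.Agent.Lib.Helper31

theorem conj_or_coprime {G : Type*} [Group G] [Finite G] (hCN : Cfsg.IsCNGroup G)
    (H₁ H₂ : Subgroup G)
    (h₁ : Group.IsNilpotent ↥H₁ ∧ ∀ L : Subgroup G, Group.IsNilpotent L → H₁ ≤ L → L = H₁)
    (h₂ : Group.IsNilpotent ↥H₂ ∧ ∀ L : Subgroup G, Group.IsNilpotent L → H₂ ≤ L → L = H₂) :
    (∃ g : G, H₂ = H₁.map (MulAut.conj g).toMonoidHom) ∨ (Nat.card H₁).Coprime (Nat.card H₂) := by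
  by_cases hcop : (Nat.card H₁).Coprime (Nat.card H₂)
  · exact Or.inr hcop
  left
  obtain ⟨q, hq, hq1, hq2⟩ := Nat.Prime.not_coprime_iff_dvd.mp hcop
  have := Fact.mk hq
  obtain ⟨Q₁, _, hQ₁, key₁⟩ := exists_sylow_le hCN H₁ h₁.1 h₁.2 q hq1
  obtain ⟨Q₂, _, _, key₂⟩ := exists_sylow_le hCN H₂ h₂.1 h₂.2 q hq2
  obtain ⟨g, hg⟩ := MulAction.exists_smul_eq G Q₁ Q₂
  have hmem : ∀ u : G, u ∈ (Q₂ : Subgroup G) ↔ g⁻¹ * u * g ∈ (Q₁ : Subgroup G) := by
    intro u
    rw [← hg, Sylow.smul_def, Sylow.pointwise_smul_def, Subgroup.mem_pointwise_smul_iff_inv_smul_mem]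
    simp [MulAut.smul_def]
  have : Nontrivial (Q₁ : Subgroup G) := (Subgroup.nontrivial_iff_ne_bot _).mpr hQ₁
  have hcen := Q₁.isPGroup'.center_nontrivial
  obtain ⟨w, hw⟩ := exists_ne (1 : Subgroup.center (Q₁ : Subgroup G))
  set w' : G := ((w : (Q₁ : Subgroup G)) : G) with hw'
  have hw1 : w' ≠ 1 := by
    intro h
    apply hw
    apply Subtype.ext
    apply Subtype.ext
    exact h
  have hwQ : w' ∈ (Q₁ : Subgroup G) := (w : (Q₁ : Subgroup G)).2
  have hwc : ∀ u ∈ (Q₁ : Subgroup G), u * w' = w' * u := by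
    intro u hu
    exact congrArg Subtype.val (Subgroup.mem_center_iff.mp w.2 ⟨u, hu⟩)
  have e₁ := key₁ w' hwQ hw1 hwc
  have e₂ := key₂ (g * w' * g⁻¹) ((hmem _).mpr (by
      have : g⁻¹ * (g * w' * g⁻¹) * g = w' := by group
      rw [this]; exact hwQ))
    (by
      intro h
      apply hw1
      have : w' = g⁻¹ * (g * w' * g⁻¹) * g := by group
      rw [this, h]; group)
    (by
      intro u hu
      have h3 := hwc _ ((hmem u).mp hu)
      calc u * (g * w' * g⁻¹) = g * (g⁻¹ * u * g * w') * g⁻¹ := by group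
        _ = g * (w' * (g⁻¹ * u * g)) * g⁻¹ := by rw [h3]
        _ = g * w' * g⁻¹ * u := by group)
  refine ⟨g, ?_⟩
  rw [← e₁, ← e₂]
  ext y
  rw [Subgroup.mem_centralizer_singleton_iff, Subgroup.mem_map]
  constructor
  · intro hy
    refine ⟨g⁻¹ * y * g, ?_, ?_⟩
    · rw [Subgroup.mem_centralizer_singleton_iff]
      calc g⁻¹ * y * g * w' = g⁻¹ * (y * (g * w' * g⁻¹)) * g := by group
        _ = g⁻¹ * (g * w' * g⁻¹ * y) * g := by rw [hy]
        _ = w' * (g⁻¹ * y * g) := by group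
    · change g * (g⁻¹ * y * g) * g⁻¹ = y
      group
  · rintro ⟨c, hc, rfl⟩
    rw [Subgroup.mem_centralizer_singleton_iff] at hc
    change g * c * g⁻¹ * (g * w' * g⁻¹) = g * w' * g⁻¹ * (g * c * g⁻¹)
    calc g * c * g⁻¹ * (g * w' * g⁻¹) = g * (c * w') * g⁻¹ := by group
      _ = g * (w' * c) * g⁻¹ := by rw [hc]
      _ = g * w' * g⁻¹ * (g * c * g⁻¹) := by group

theorem prime_dvd_card_of_mem {G : Type*} [Group G] [Finite G] {p : ℕ} (hp : p.Prime) {x : G}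
    (hx1 : x ≠ 1) (hx : IsPGroup p (Subgroup.zpowers x)) {H : Subgroup G} (hxH : x ∈ H) :
    p ∣ Nat.card H := by
  have := Fact.mk hp
  obtain ⟨k, hk⟩ := orderOf_of_mem_pgroup hx (Subgroup.mem_zpowers x)
  have hk0 : k ≠ 0 := by
    rintro rfl
    rw [pow_zero, orderOf_eq_one_iff] at hk
    exact hx1 hk
  have h1 : orderOf x ∣ Nat.card H := by
    have := orderOf_dvd_natCard (⟨x, hxH⟩ : H)
    rwa [Subgroup.orderOf_mk] at this
  exact (dvd_pow_self p hk0).trans (hk ▸ h1)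

/-- Let G be a minimal simple group of odd order in which every non-identity element has nilpotent centralizer. Then any two nilpotent subgroups each contained in no larger nilpotent subgroup are either conjugate or of coprime orders; and for primes p, q, r: if some elements x, y ≠ 1 of p-power and q-power order commute, and some elements y', z ≠ 1 of q-power and r-power order commute, then some elements of p-power and r-power order, both ≠ 1, commute. -/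
theorem result {G : Type*} [Group G] [Finite G] (hG : Cfsg.IsMinSimpleOddOrder G) (hCN : Cfsg.IsCNGroup G) :
    (∀ H₁ H₂ : Subgroup G, (Group.IsNilpotent ↥H₁ ∧ ∀ L : Subgroup G, Group.IsNilpotent L → H₁ ≤ L → L = H₁) → (Group.IsNilpotent ↥H₂ ∧ ∀ L : Subgroup G, Group.IsNilpotent L → H₂ ≤ L → L = H₂) → (∃ g : G, H₂ = H₁.map (MulAut.conj g).toMonoidHom) ∨ (Nat.card H₁).Coprime (Nat.card H₂)) ∧
      ∀ (p q r : ℕ), p.Prime → q.Prime → r.Prime → ∀ (x y y' z : G), x ≠ 1 → y ≠ 1 → y' ≠ 1 → z ≠ 1 →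
        IsPGroup p (Subgroup.zpowers x) → IsPGroup q (Subgroup.zpowers y) → IsPGroup q (Subgroup.zpowers y') → IsPGroup r (Subgroup.zpowers z) →
        x * y = y * x → y' * z = z * y' →
        ∃ x' z' : G, x' ≠ 1 ∧ z' ≠ 1 ∧ IsPGroup p (Subgroup.zpowers x') ∧ IsPGroup r (Subgroup.zpowers z') ∧ x' * z' = z' * x' := by
  refine ⟨fun H₁ H₂ h₁ h₂ => conj_or_coprime hCN H₁ H₂ h₁ h₂, ?_⟩
  intro p q r hp hq hr x y y' z hx1 hy1 hy'1 hz1 hx hy hy' hz hxy hyz
  by_cases hpr : p = r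
  · subst hpr
    exact ⟨x, x, hx1, hx1, hx, hx, rfl⟩
  obtain ⟨H₁, hK₁, hn₁, hm₁⟩ := exists_max_nilpotent _ (hCN x hx1)
  obtain ⟨H₂, hK₂, hn₂, hm₂⟩ := exists_max_nilpotent _ (hCN z hz1)
  have hxH : x ∈ H₁ := hK₁ (Subgroup.mem_centralizer_singleton_iff.mpr rfl)
  have hyH : y ∈ H₁ := hK₁ (Subgroup.mem_centralizer_singleton_iff.mpr hxy.symm)
  have hzH : z ∈ H₂ := hK₂ (Subgroup.mem_centralizer_singleton_iff.mpr rfl)
  have hy'H : y' ∈ H₂ := hK₂ (Subgroup.mem_centralizer_singleton_iff.mpr hyz)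
  have hp1 : p ∣ Nat.card H₁ := prime_dvd_card_of_mem hp hx1 hx hxH
  have hq1 : q ∣ Nat.card H₁ := prime_dvd_card_of_mem hq hy1 hy hyH
  have hq2 : q ∣ Nat.card H₂ := prime_dvd_card_of_mem hq hy'1 hy' hy'H
  have hr2 : r ∣ Nat.card H₂ := prime_dvd_card_of_mem hr hz1 hz hzH
  have hr1 : r ∣ Nat.card H₁ := by
    rcases conj_or_coprime hCN H₁ H₂ ⟨hn₁, hm₁⟩ ⟨hn₂, hm₂⟩ with ⟨g, hg⟩ | hcop
    · have : Nat.card H₂ = Nat.card H₁ := by
        rw [hg]
        exact (Nat.card_congr (H₁.equivMapOfInjective _ (MulAut.conj g).injective).toEquiv).symm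
      rwa [this] at hr2
    · exact absurd (Nat.dvd_gcd hq1 hq2) (by rw [Nat.Coprime.gcd_eq_one hcop]; exact hq.one_lt.ne' ∘ Nat.dvd_one.mp)
  have := Fact.mk hp
  have := Fact.mk hr
  obtain ⟨x', hx'⟩ := exists_prime_orderOf_dvd_card' (G := H₁) p hp1
  obtain ⟨z', hz'⟩ := exists_prime_orderOf_dvd_card' (G := H₁) r hr1
  rw [← Subgroup.orderOf_coe] at hx' hz'
  refine ⟨x', z', ?_, ?_, ?_, ?_, ?_⟩
  · intro h
    rw [h, orderOf_one] at hx'
    exact hp.one_lt.ne hx'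
  · intro h
    rw [h, orderOf_one] at hz'
    exact hr.one_lt.ne hz'
  · apply IsPGroup.of_card (n := 1)
    rw [Nat.card_zpowers, hx', pow_one]
  · apply IsPGroup.of_card (n := 1)
    rw [Nat.card_zpowers, hz', pow_one]
  · exact commute_of_mem_nilpotent H₁ hn₁ x'.2 z'.2
      (by rw [hx', hz']; exact (Nat.coprime_primes hp hr).mpr hpr)

end Cfsg.Agent.S1483
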