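import Cfsg.Statements.S1416
import Cfsg.Agent.Lib.Helper14.BG12C
import Cfsg.Agent.Lib.Helper39.BG11Final
import Cfsg.Agent.Lib.Helper31.BG11_4b
import Cfsg.Agent.Lib.Helper98.BG124P1
import Cfsg.Agent.Lib.Helper62.BG124P2
import Cfsg.Agent.Lib.Helper41.BG124P3
import Cfsg.Agent.Lib.Helper98.BG124P4
import Cfsg.Agent.Lib.Helper98.BG124P5
import Cfsg.Agent.Lib.Helper41.BG124P6
import Cfsg.Agent.Lib.Helper74.BG124P7

set_option autoImplicit false
open Cfsg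

namespace Cfsg.Agent.S1416

/-- Let G be a minimal simple group of odd order, M a maximal subgroup, p a prime and A ≤ M elementary abelian of order p ^ 2. Then C_G(A) ≤ M. If moreover for every subgroup A₀ of A of order p, M is not the unique maximal subgroup containing N_G(A₀), then p ∈ σ(M), M_α = 1 and M_σ is nilpotent. -/
theorem result {G : Type*} [Group G] [Finite G] (hG : Cfsg.IsMinSimpleOddOrder G)
    (M : Subgroup G) (hM : IsCoatom M) (p : ℕ) [Fact p.Prime] (A : Subgroup G) (hA : (A ≤ M ∧ Cfsg.IsElementaryAbelian p A ∧ Nat.card A = p ^ 2)) :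
    Subgroup.centralizer (A : Set G) ≤ M ∧
      ((∀ A₀ : Subgroup G, A₀ ≤ A → Nat.card A₀ = p →
          ¬ (Subgroup.normalizer (A₀ : Set G) ≤ M ∧ ∀ L : Subgroup G, IsCoatom L → Subgroup.normalizer (A₀ : Set G) ≤ L → L = M)) →
        p ∈ Cfsg.sigma M ∧ Cfsg.alphaCore M = ⊥ ∧ Group.IsNilpotent (Cfsg.sigmaCore M)) := by
  have h11 : Cfsg.Agent.Lib.Helper39.BG11.T11 G :=
    Cfsg.Agent.Lib.Helper39B.t11_of_4b hG
      (fun _ _ _ _ _ h h1 hne hom _ hP hAP =>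
        Cfsg.Agent.Lib.Helper31.le_centralizer_of_sylow hG h h1 hne hom hP hAP)
  exact Cfsg.Agent.Lib.Helper14.BG12.S1416_of hG (Cfsg.Agent.Lib.Helper14.BG12.exc11_of hG h11)
    (fun hM _ _ hp _ hAM hA hA2 => Cfsg.Agent.Lib.Helper98.BG124.P1 hG hM hp hAM hA hA2)
    (fun hA hA2 hAK hK h => Cfsg.Agent.Lib.Helper62.BG124.P2 hA hA2 hAK hK h)
    (fun hM hα => Cfsg.Agent.Lib.Helper41.BG124.P3 hG hM hα)
    (fun hM hnil hσ _ _ hr _ hAM hA hA2 hc =>
      Cfsg.Agent.Lib.Helper98.BG124.P4 hG hM hnil hσ hr hAM hA hA2 hc)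
    (fun hM hnil _ _ hp hr _ hAM hA hA2 hn =>
      Cfsg.Agent.Lib.Helper98.BG124.P5 hG hM hnil hp hr hAM hA hA2 hn)
    (fun hM hH _ hqM hqH => Cfsg.Agent.Lib.Helper41.BG124.P6 hG hM hH hqM hqH)
    (fun hH _ _ hR hA hcop => Cfsg.Agent.Lib.Helper74.BG124.P7 hG hH hR hA hcop)
    M hM p A hA

end Cfsg.Agent.S1416
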