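import Cfsg.Statements.S1418
-- import your own Cfsg.Agent.* helpers here
import Cfsg.Agent.S1416
import Cfsg.Agent.S1417
import Cfsg.Agent.Lib.Helper14.Sup
import Cfsg.Agent.Lib.Helper2.BG10A

set_option autoImplicit false
open Cfsg

namespace Cfsg.Agent.S1418

/-- Let G be a minimal simple group of odd order, M a maximal subgroup, E a complement to M_σ in M, p ∈ τ₂(M), and A ≤ E elementary abelian of order p ^ 2. Then A is normal in E and contains every subgroup of E of order p; C_G(A) ≤ M ∩ N_G(A) = E and N_G(A) is not contained in M; and for every subgroup X ≤ A of order p centralizing a non-identity element of M_σ, C_G(X) ≤ M and M is the unique maximal subgroup containing C_G(X). -/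
theorem result {G : Type*} [Group G] [Finite G] (hG : Cfsg.IsMinSimpleOddOrder G)
    (M : Subgroup G) (hM : IsCoatom M) (E : Subgroup G) (hE : Cfsg.IsComplIn E (Cfsg.sigmaCore M) M) (p : ℕ) [Fact p.Prime] (hp : p ∈ Cfsg.tau2 M) (A : Subgroup G) (hA : (A ≤ E ∧ Cfsg.IsElementaryAbelian p A ∧ Nat.card A = p ^ 2)) :
    (E ≤ Subgroup.normalizer (A : Set G) ∧ ∀ X : Subgroup G, X ≤ E → Nat.card X = p → X ≤ A) ∧
      (Subgroup.centralizer (A : Set G) ≤ M ⊓ Subgroup.normalizer (A : Set G) ∧ M ⊓ Subgroup.normalizer (A : Set G) = E ∧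
        ¬ Subgroup.normalizer (A : Set G) ≤ M) ∧
      ∀ X : Subgroup G, X ≤ A → Nat.card X = p → Cfsg.sigmaCore M ⊓ Subgroup.centralizer (X : Set G) ≠ ⊥ → (Subgroup.centralizer (X : Set G) ≤ M ∧ ∀ L : Subgroup G, IsCoatom L → Subgroup.centralizer (X : Set G) ≤ L → L = M) := by
  classical
  have hpp : p.Prime := Fact.out
  obtain ⟨hEM, hSM, hES, hfac⟩ := hE
  obtain ⟨hAE, hAea, hAcard⟩ := hA
  have hAM : A ≤ M := hAE.trans hEM
  have h16 := (Cfsg.Agent.S1416.result hG M hM p A ⟨hAM, hAea, hAcard⟩).1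
  obtain ⟨-, hb, hc, hd, he, -⟩ := Cfsg.Agent.S1417.result hG M hM p hp A ⟨hAM, hAea, hAcard⟩
  set Ms := Cfsg.sigmaCore M with hMs
  -- M normalizes M_σ
  have hMsN : M ≤ Subgroup.normalizer (Ms : Set G) := by
    intro m hm
    rw [Subgroup.mem_normalizer_iff]
    have hn : (Cfsg.piCore (Cfsg.sigma M) M).Normal := inferInstance
    have key : ∀ m ∈ M, ∀ x ∈ Ms, m * x * m⁻¹ ∈ Ms := by
      rintro m hm _ ⟨x, hx, rfl⟩
      exact ⟨⟨m, hm⟩ * x * ⟨m, hm⟩⁻¹, hn.conj_mem x hx _, rfl⟩
    intro x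
    constructor
    · exact key m hm x
    · intro h
      have := key m⁻¹ (M.inv_mem hm) _ h
      simpa [mul_assoc] using this
  have hAN : A ≤ Subgroup.normalizer (Ms : Set G) := hAM.trans hMsN
  -- Dedekind
  have hded : ∀ x, x ∈ Ms ⊔ A → x ∈ E → x ∈ A := by
    intro x hx hxE
    obtain ⟨s, hs, a, ha, rfl⟩ := (Cfsg.Agent.Lib.Helper14.mem_sup_of_le_normalizer hAN).mp hx
    have hsE : s ∈ E := by
      have := E.mul_mem hxE (E.inv_mem (hAE ha))
      simpa [mul_assoc] using this
    have : s ∈ E ⊓ Ms := Subgroup.mem_inf.mpr ⟨hsE, hs⟩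
    rw [hES, Subgroup.mem_bot] at this
    rw [this, one_mul]; exact ha
  have hconj : ∀ e ∈ E, ∀ a ∈ A, e * a * e⁻¹ ∈ A := by
    intro e he' a ha
    apply hded
    · exact (Subgroup.mem_normalizer_iff.mp (hc (hEM he')) a).mp (Subgroup.mem_sup_right ha)
    · exact E.mul_mem (E.mul_mem he' (hAE ha)) (E.inv_mem he')
  have hEN : E ≤ Subgroup.normalizer (A : Set G) := by
    intro e he'
    rw [Subgroup.mem_normalizer_iff]
    intro a
    constructor
    · exact hconj e he' a
    · intro h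
      have := hconj e⁻¹ (E.inv_mem he') _ h
      simpa [mul_assoc] using this
  -- a Sylow p-subgroup of M containing a given p-subgroup of M
  have hsyl : ∀ X : Subgroup G, X ≤ M → IsPGroup p X → ∃ P : Sylow p M, X ≤ (P : Subgroup M).map M.subtype := by
    intro X hXM hX
    have hX' : IsPGroup p (X.subgroupOf M) :=
      hX.comap_of_injective M.subtype M.subtype_injective
    obtain ⟨P, hP⟩ := hX'.exists_le_sylow
    refine ⟨P, ?_⟩
    intro x hx
    exact ⟨⟨x, hXM hx⟩, hP (Subgroup.mem_subgroupOf.mpr hx), rfl⟩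
  have hAp : IsPGroup p A := Cfsg.Agent.Lib.Helper2.ea_isPGroup hAea
  refine ⟨⟨hEN, ?_⟩, ⟨?_, ?_, ?_⟩, ?_⟩
  · -- subgroups of order p of E lie in A
    intro X hXE hXcard
    have hXp : IsPGroup p X := IsPGroup.of_card (n := 1) (by rw [hXcard, pow_one])
    have hXN : X ≤ Subgroup.normalizer (A : Set G) := hXE.trans hEN
    have hAXp : IsPGroup p (A ⊔ X : Subgroup G) := by
      rw [sup_comm]
      exact IsPGroup.to_sup_of_normal_right' hXp hAp hXN
    obtain ⟨P, hP⟩ := hsyl (A ⊔ X) (sup_le hAM (hXE.trans hEM)) hAXp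
    have h1 := ((hb P).2 (le_sup_left.trans hP)).1
    intro x hx
    apply (h1 x (hP (Subgroup.mem_sup_right hx))).mp
    have := pow_card_eq_one' (G := X) (x := ⟨x, hx⟩)
    rw [hXcard] at this
    exact congrArg Subtype.val this
  · intro x hx
    refine Subgroup.mem_inf.mpr ⟨h16 hx, ?_⟩
    exact Subgroup.centralizer_le_normalizer _ hx
  · apply le_antisymm
    · intro m hm
      obtain ⟨hmM, hmN⟩ := Subgroup.mem_inf.mp hm
      obtain ⟨e, he', s, hs, rfl⟩ := hfac m hmM
      have hsN : s ∈ Subgroup.normalizer (A : Set G) := by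
        have := Subgroup.mul_mem _ (Subgroup.inv_mem _ (hEN he')) hmN
        simpa [← mul_assoc] using this
      have hsC : s ∈ Subgroup.centralizer (A : Set G) := by
        rw [Subgroup.mem_centralizer_iff]
        intro a ha
        have h1 : s * a * s⁻¹ * a⁻¹ ∈ A :=
          A.mul_mem ((Subgroup.mem_normalizer_iff.mp hsN a).mp ha) (A.inv_mem ha)
        have h2 : s * a * s⁻¹ * a⁻¹ ∈ Ms := by
          have := (Subgroup.mem_normalizer_iff.mp (hAN ha) s⁻¹).mp (Ms.inv_mem hs)
          have h3 := Ms.mul_mem hs this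
          simpa [mul_assoc] using h3
        have h3 : s * a * s⁻¹ * a⁻¹ ∈ E ⊓ Ms := Subgroup.mem_inf.mpr ⟨hAE h1, h2⟩
        rw [hES, Subgroup.mem_bot] at h3
        have h4 : s * a = a * s := by
          have := congrArg (fun t => t * a * s) h3
          simpa [mul_assoc] using this
        exact h4.symm
      have : s ∈ Ms ⊓ Subgroup.centralizer (A : Set G) := Subgroup.mem_inf.mpr ⟨hs, hsC⟩
      rw [hd, Subgroup.mem_bot] at this
      rw [this, mul_one]; exact he'
    · exact le_inf hEM hEN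
  · obtain ⟨P, hP⟩ := hsyl A hAM hAp
    obtain ⟨h1, h2⟩ := (hb P).2 hP
    intro hN
    apply h2
    refine le_trans ?_ hN
    intro g hg
    rw [Subgroup.mem_normalizer_iff] at hg ⊢
    have key : ∀ g : G, (∀ h, h ∈ (P : Subgroup M).map M.subtype ↔ g * h * g⁻¹ ∈ (P : Subgroup M).map M.subtype) →
        ∀ a ∈ A, g * a * g⁻¹ ∈ A := by
      intro g hg a ha
      apply (h1 _ ((hg a).mp (hP ha))).mp
      rw [conj_pow, (h1 a (hP ha)).mpr ha, mul_one, mul_inv_cancel]
    intro a
    constructor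
    · exact key g hg a
    · intro h
      have hg' : ∀ h, h ∈ (P : Subgroup M).map M.subtype ↔ g⁻¹ * h * g⁻¹⁻¹ ∈ (P : Subgroup M).map M.subtype := by
        intro h
        rw [hg (g⁻¹ * h * g⁻¹⁻¹)]
        simp [mul_assoc]
      have := key g⁻¹ hg' _ h
      simpa [mul_assoc] using this
  · intro X hXA hXcard hne
    have hXne : X ≠ ⊥ := by
      rintro rfl
      rw [Subgroup.card_bot] at hXcard
      exact hpp.one_lt.ne hXcard
    have huniq : ∀ L : Subgroup G, IsCoatom L → Subgroup.centralizer (X : Set G) ≤ L → L = M := by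
      intro L hL hXL
      by_contra hLM
      have hAL : A ≤ L := (Cfsg.Agent.Lib.Helper2.ea_le_centralizer hAea hXA).trans hXL
      have := he L hL hLM hAL
      apply hne
      rw [eq_bot_iff, ← this]
      exact inf_le_inf_left _ hXL
    obtain ⟨L, hL, hXL⟩ := Cfsg.Agent.Lib.Helper2.exists_coatom_ge
      (Cfsg.Agent.Lib.Helper2.centralizer_ne_top' hG hXne)
    have := huniq L hL hXL
    exact ⟨this ▸ hXL, huniq⟩

end Cfsg.Agent.S1418
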