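import Cfsg.Statements.S1515
-- import your own Cfsg.Agent.* helpers here
import Cfsg.Agent.Lib.Helper32.ConjFun

set_option autoImplicit false
open Cfsg

namespace Cfsg.Agent.S1515

open Cfsg.Agent.Lib.Helper32 Cfsg.Agent.Lib.Helper20


/-- Let (S, τ, R) be a coherence system from L to G, χ ∈ S, and ψ an integer combination of S with ⟨χ, ψ⟩ = ⟨conj χ, ψ⟩ = 0. Let τ₁ be a linear isometry on the integer combinations of χ − ψ and χ − conj χ, with virtual-character values, agreeing with τ on integer multiples of χ − conj χ. Then the sum over α ∈ R χ of the squared absolute values of ⟨τ₁(χ − ψ), α⟩ is at least ⟨χ, χ⟩; and if ⟨τ₁(χ − ψ), τ₁(χ − ψ)⟩ minus that sum is at least ⟨ψ, ψ⟩, then the sum equals ⟨χ, χ⟩ and every ⟨τ₁(χ − ψ), α⟩ with α ∈ R χ is 0 or 1. -/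
theorem result {L : Type*} [Group L] [Fintype L] {G : Type*} [Group G] [Fintype G] (S : Set (L → ℂ)) (τ : (L → ℂ) → (G → ℂ)) (R : (L → ℂ) → Finset (G → ℂ)) (hS : Cfsg.IsCoherenceSystem S τ R) (χ : L → ℂ) (hχ : χ ∈ S) (ψ : L → ℂ) (hψ : ψ ∈ Cfsg.zspan S) (h1 : Cfsg.classInner χ ψ = 0) (h2 : Cfsg.classInner (Cfsg.conjFun χ) ψ = 0) (τ₁ : (L → ℂ) → (G → ℂ)) (hτ₁ : Cfsg.IsLinearIsometryOn (Cfsg.zspan {χ - ψ, χ - Cfsg.conjFun χ}) τ₁) (hagree : ∀ n : ℤ, τ₁ (n • (χ - Cfsg.conjFun χ)) = τ (n • (χ - Cfsg.conjFun χ))) : (Cfsg.classInner χ χ).re ≤ ∑ α ∈ R χ, ‖Cfsg.classInner (τ₁ (χ - ψ)) α‖ ^ 2 ∧ ((Cfsg.classInner ψ ψ).re ≤ (Cfsg.classInner (τ₁ (χ - ψ)) (τ₁ (χ - ψ))).re - ∑ α ∈ R χ, ‖Cfsg.classInner (τ₁ (χ - ψ)) α‖ ^ 2 → (∑ α ∈ R χ, ‖Cfsg.classInner (τ₁ (χ - ψ)) α‖ ^ 2 = (Cfsg.classInner χ χ).re ∧ ∀ α ∈ R χ, Cfsg.classInner (τ₁ (χ - ψ)) α = 0 ∨ Cfsg.classInner (τ₁ (χ - ψ)) α = 1)) := by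
  classical
  set X := τ₁ (χ - ψ) with hX
  have m1 : χ - ψ ∈ Cfsg.zspan {χ - ψ, χ - Cfsg.conjFun χ} := zspan_of_mem (by simp)
  have m2 : χ - Cfsg.conjFun χ ∈ Cfsg.zspan {χ - ψ, χ - Cfsg.conjFun χ} := zspan_of_mem (by simp)
  have hXg : Cfsg.IsGeneralizedCharacter G X := hτ₁.2.2.2 _ m1
  have hcoef : ∀ α ∈ R χ, ∃ n : ℤ, Cfsg.classInner X α = n :=
    fun α hα => genChar_inner_int hXg (hS.virtual χ hχ α hα)
  choose! a ha using hcoef
  obtain ⟨N, hN⟩ := isCharacter_classInner_nat' (hS.isCharacter χ hχ) (hS.isCharacter χ hχ)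
  have hψχ : Cfsg.classInner ψ χ = 0 := classInner_eq_zero_symm h1
  have hψχ' : Cfsg.classInner ψ (Cfsg.conjFun χ) = 0 := classInner_eq_zero_symm h2
  have hχχ' : Cfsg.classInner χ (Cfsg.conjFun χ) = 0 :=
    hS.orthogonal χ hχ _ (hS.conj_mem χ hχ) (hS.conj_ne χ hχ).symm
  have hsum : ∑ α ∈ R χ, a α = N := by
    have e1 : Cfsg.classInner X (τ (χ - Cfsg.conjFun χ)) = N := by
      have := hagree 1
      rw [one_smul] at this
      rw [← this, hX, hτ₁.2.2.1 _ m1 _ m2, classInner_sub_left, classInner_sub_right,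
        classInner_sub_right, hN, hχχ', hψχ, hψχ']
      simp
    rw [hS.sum_eq χ hχ, classInner_sum_right] at e1
    have e2 : ∑ α ∈ R χ, Cfsg.classInner X α = ∑ α ∈ R χ, (a α : ℂ) :=
      Finset.sum_congr rfl ha
    rw [e2] at e1
    exact_mod_cast e1
  have hsq : ∑ α ∈ R χ, ‖Cfsg.classInner X α‖ ^ 2 = ((∑ α ∈ R χ, a α ^ 2 : ℤ) : ℝ) := by
    push_cast
    apply Finset.sum_congr rfl
    intro α hα
    rw [ha α hα, Complex.norm_intCast, sq_abs]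
  have hterm : ∀ α ∈ R χ, 0 ≤ a α ^ 2 - a α := by
    intro α _
    have : 0 ≤ a α * (a α - 1) := by
      rcases le_or_gt (a α) 0 with h | h
      · exact mul_nonneg_of_nonpos_of_nonpos h (by omega)
      · exact mul_nonneg h.le (by omega)
    nlinarith
  have hdiff : 0 ≤ ∑ α ∈ R χ, (a α ^ 2 - a α) := Finset.sum_nonneg hterm
  rw [Finset.sum_sub_distrib, hsum] at hdiff
  have hNre : (Cfsg.classInner χ χ).re = (N : ℝ) := by rw [hN]; simp
  refine ⟨?_, ?_⟩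
  · rw [hsq, hNre]
    have : (N : ℤ) ≤ ∑ α ∈ R χ, a α ^ 2 := by omega
    exact_mod_cast this
  · intro hle
    have hXX : Cfsg.classInner X X = N + Cfsg.classInner ψ ψ := by
      rw [hX, hτ₁.2.2.1 _ m1 _ m1, classInner_sub_left, classInner_sub_right,
        classInner_sub_right, hN, h1, hψχ]
      ring
    rw [hXX, hsq] at hle
    simp only [Complex.add_re, Complex.natCast_re] at hle
    have hle' : ((∑ α ∈ R χ, a α ^ 2 : ℤ) : ℝ) ≤ (N : ℝ) := by linarith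
    have hle'' : ∑ α ∈ R χ, a α ^ 2 ≤ (N : ℤ) := by exact_mod_cast hle'
    have heq : ∑ α ∈ R χ, a α ^ 2 = (N : ℤ) := by omega
    refine ⟨?_, ?_⟩
    · rw [hsq, hNre, heq]; simp
    · intro α hα
      have hz : ∑ α ∈ R χ, (a α ^ 2 - a α) = 0 := by
        rw [Finset.sum_sub_distrib, hsum, heq, sub_self]
      have := (Finset.sum_eq_zero_iff_of_nonneg hterm).1 hz α hα
      have h3 : a α * (a α - 1) = 0 := by nlinarith
      rw [ha α hα]
      rcases mul_eq_zero.1 h3 with h | h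
      · left; rw [h]; simp
      · right
        have : a α = 1 := by omega
        rw [this]; simp

end Cfsg.Agent.S1515
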