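import Cfsg.Statements.S1516
-- import your own Cfsg.Agent.* helpers here
import Cfsg.Agent.Lib.Helper32.CohSys
import Cfsg.Agent.S1515

set_option autoImplicit false
open Cfsg

namespace Cfsg.Agent.S1516

open Cfsg.Agent.Lib.Helper32 Cfsg.Agent.Lib.Helper20

section

variable {L : Type*} [Group L] [Fintype L] {G : Type*} [Group G] [Fintype G]

theorem inner_proj_left_eq_zero {ι : Type*} {s : Finset ι} {e : ι → G → ℂ} {v w : G → ℂ}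
    (h : ∀ i ∈ s, Cfsg.classInner (e i) w = 0) : Cfsg.classInner (proj s e v) w = 0 := by
  rw [inner_proj_left]
  exact Finset.sum_eq_zero (fun i hi => by rw [h i hi, mul_zero])

theorem sum_mul_conj_eq {ι : Type*} (s : Finset ι) (z : ι → ℂ) :
    ∑ i ∈ s, z i * (starRingEnd ℂ) (z i) = ((∑ i ∈ s, ‖z i‖ ^ 2 : ℝ) : ℂ) := by
  push_cast
  apply Finset.sum_congr rfl
  intro i _
  rw [Complex.mul_conj, Complex.normSq_eq_norm_sq]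
  push_cast; rfl

theorem eq_zero_of_re {f : G → ℂ} (h : (Cfsg.classInner f f).re = 0) : f = 0 := by
  apply classInner_self_eq_zero
  apply Complex.ext
  · rw [h]; rfl
  · rw [classInner_self_im]; rfl

variable {S : Set (L → ℂ)} {τ : (L → ℂ) → (G → ℂ)} {R : (L → ℂ) → Finset (G → ℂ)}

/-- a coherent extension maps `ξ` into the span of `R ξ` -/
theorem step1 (hS : Cfsg.IsCoherenceSystem S τ R) (S₁ : Set (L → ℂ)) (hS₁ : S₁ ⊆ S)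
    (hS₁c : ∀ φ ∈ S₁, Cfsg.conjFun φ ∈ S₁) (τ₁ : (L → ℂ) → (G → ℂ))
    (hτ₁ : Cfsg.IsLinearIsometryOn (Cfsg.zspan S₁) τ₁)
    (hag : ∀ α ∈ Cfsg.zspanOn S₁ {1}ᶜ, τ₁ α = τ α) {ξ : L → ℂ} (hξ : ξ ∈ S₁) :
    τ₁ ξ = proj (R ξ) (fun α => α) (τ₁ ξ) := by
  have hξS := hS₁ hξ
  have mξ : ξ ∈ Submodule.span ℤ S₁ := Submodule.subset_span hξ
  have mξ' : Cfsg.conjFun ξ ∈ Submodule.span ℤ S₁ := Submodule.subset_span (hS₁c ξ hξ)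
  have sub1 : Cfsg.zspan {ξ - 0, ξ - Cfsg.conjFun ξ} ⊆ Cfsg.zspan S₁ := by
    have : Submodule.span ℤ {ξ - 0, ξ - Cfsg.conjFun ξ} ≤ Submodule.span ℤ S₁ := by
      rw [Submodule.span_le]
      rintro x (rfl | rfl)
      · rw [sub_zero]; exact mξ
      · exact Submodule.sub_mem _ mξ mξ'
    exact this
  have hagree : ∀ k : ℤ, τ₁ (k • (ξ - Cfsg.conjFun ξ)) = τ (k • (ξ - Cfsg.conjFun ξ)) := by
    intro k
    apply hag
    rw [mem_zspanOn_one]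
    refine ⟨Submodule.smul_mem _ _ (Submodule.sub_mem _ mξ mξ'), ?_⟩
    simp only [Pi.smul_apply, Pi.sub_apply, cs_conj_one hS hξS, sub_self, smul_zero]
  have b1 := (Cfsg.Agent.S1515.result S τ R hS ξ hξS 0 (Submodule.zero_mem _)
    (classInner_zero_right _) (classInner_zero_right _) τ₁ (iso_mono hτ₁ sub1) hagree).1
  rw [sub_zero] at b1
  have hpy := (cs_orthoN hS hξS).pythagoras (τ₁ ξ)
  rw [sum_mul_conj_eq, hτ₁.2.2.1 ξ mξ ξ mξ] at hpy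
  have hre := congrArg Complex.re hpy
  simp only [Complex.add_re, Complex.ofReal_re] at hre
  have hres := classInner_self_re_nonneg (τ₁ ξ - proj (R ξ) (fun α => α) (τ₁ ξ))
  have e3 : (Cfsg.classInner (τ₁ ξ - proj (R ξ) (fun α => α) (τ₁ ξ))
      (τ₁ ξ - proj (R ξ) (fun α => α) (τ₁ ξ))).re = 0 := by linarith
  exact sub_eq_zero.1 (eq_zero_of_re e3)

theorem arith (dψ dχ b : ℤ) (D : ℝ) (hdψ : 0 < dψ) (hdχ : 0 < dχ)
    (hD : 2 * (dχ : ℝ) * dψ < D) (h : (b : ℝ) ^ 2 * D - 2 * b * dψ * dχ ≤ 0) : b = 0 := by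
  by_contra hb
  have hbb : 0 ≤ b ^ 2 - b := by
    have : 0 ≤ b * (b - 1) := by
      rcases le_or_gt b 0 with h | h
      · exact mul_nonneg_of_nonpos_of_nonpos h (by omega)
      · exact mul_nonneg h.le (by omega)
    nlinarith
  have hbb' : (0 : ℝ) ≤ (b : ℝ) ^ 2 - b := by exact_mod_cast hbb
  have hb2 : (0 : ℝ) < (b : ℝ) ^ 2 := by
    have : (b : ℝ) ≠ 0 := by exact_mod_cast hb
    positivity
  have hprod : (0 : ℝ) < (dψ : ℝ) * dχ := by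
    have h1 : (0 : ℝ) < dψ := by exact_mod_cast hdψ
    have h2 : (0 : ℝ) < dχ := by exact_mod_cast hdχ
    positivity
  have e : (b : ℝ) ^ 2 * D - 2 * b * dψ * dχ =
      (b : ℝ) ^ 2 * (D - 2 * dχ * dψ) + 2 * ((dψ : ℝ) * dχ) * ((b : ℝ) ^ 2 - b) := by ring
  have h1 : 0 < (b : ℝ) ^ 2 * (D - 2 * dχ * dψ) := mul_pos hb2 (by linarith)
  have h2 : 0 ≤ 2 * ((dψ : ℝ) * dχ) * ((b : ℝ) ^ 2 - b) := mul_nonneg (by positivity) hbb'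
  linarith

end


/-- Let (S, τ, R) be a coherence system from L to G with degrees φ 1 = d φ and squared norms ⟨φ, φ⟩ = n φ for φ ∈ S. Let S₁ ⊆ S be a finite subset closed under complex conjugation such that (S₁, L minus 1, τ) is coherent, let χ ∈ S with χ ∉ S₁ and conj χ ∉ S₁, and let χ₁ ∈ S₁ with d χ₁ dividing d χ and 2 d χ d χ₁ < Σ_{φ ∈ S₁} (d φ)² / n φ. Then S₁ together with χ and conj χ is coherent. -/
theorem result {L : Type*} [Group L] [Fintype L] {G : Type*} [Group G] [Fintype G] (S : Set (L → ℂ)) (τ : (L → ℂ) → (G → ℂ)) (R : (L → ℂ) → Finset (G → ℂ)) (hS : Cfsg.IsCoherenceSystem S τ R) (d n : (L → ℂ) → ℕ) (hd : ∀ φ ∈ S, φ 1 = (d φ : ℂ)) (hn : ∀ φ ∈ S, Cfsg.classInner φ φ = (n φ : ℂ)) (S₁ : Finset (L → ℂ)) (hS₁ : ↑S₁ ⊆ S) (hS₁c : ∀ φ ∈ S₁, Cfsg.conjFun φ ∈ S₁) (hcoh : Cfsg.IsCoherent (↑S₁ : Set (L → ℂ)) {1}ᶜ τ) (χ : L → ℂ)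 (hχ : χ ∈ S) (hχ₁ : χ ∉ S₁) (hχ₂ : Cfsg.conjFun χ ∉ S₁) (χ₁ : L → ℂ) (hχ₁S : χ₁ ∈ S₁) (hdvd : d χ₁ ∣ d χ) (hineq : (2 * d χ * d χ₁ : ℝ) < ∑ φ ∈ S₁, ((d φ : ℝ) ^ 2 / (n φ : ℝ))) : Cfsg.IsCoherent (↑S₁ ∪ {χ, Cfsg.conjFun χ} : Set (L → ℂ)) {1}ᶜ τ := by
  classical
  obtain ⟨⟨α₀, hα₀, hα₀ne⟩, τ₁, hτ₁, hag⟩ := hcoh
  obtain ⟨m, hm⟩ := hdvd
  have hτ := cs_iso hS
  have hχ' : Cfsg.conjFun χ ∈ S := hS.conj_mem χ hχ
  have hχ₁SS : χ₁ ∈ S := hS₁ hχ₁S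
  let dz : (L → ℂ) → ℤ := fun ξ => (d ξ : ℤ)
  let nz : (L → ℂ) → ℤ := fun ξ => (n ξ : ℤ)
  have hdz : ∀ ξ ∈ S, ξ 1 = dz ξ := fun ξ hξ => by rw [hd ξ hξ]; simp [dz]
  have hnz : ∀ ξ ∈ S, Cfsg.classInner ξ ξ = nz ξ := fun ξ hξ => by rw [hn ξ hξ]; simp [nz]
  have hdpos : ∀ ξ ∈ S, 0 < dz ξ := by
    intro ξ hξ
    obtain ⟨k, hk, hk'⟩ := cs_deg hS hξ
    have : (dz ξ : ℂ) = (k : ℂ) := by rw [← hdz ξ hξ, hk']
    have h2 : dz ξ = (k : ℤ) := by exact_mod_cast this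
    rw [h2]; exact_mod_cast hk
  have hnpos : ∀ ξ ∈ S, 0 < nz ξ := by
    intro ξ hξ
    obtain ⟨k, hk, hk'⟩ := cs_norm hS hξ
    have : (nz ξ : ℂ) = (k : ℂ) := by rw [← hnz ξ hξ, hk']
    have h2 : nz ξ = (k : ℤ) := by exact_mod_cast this
    rw [h2]; exact_mod_cast hk
  have hmz : dz χ = dz χ₁ * m := by simp only [dz]; exact_mod_cast hm
  have hτ₁' : Cfsg.IsLinearIsometryOn ((Submodule.span ℤ (↑S₁ : Set (L → ℂ)) :
      Submodule ℤ (L → ℂ)) : Set (L → ℂ)) τ₁ := hτ₁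
  have mS : ∀ ξ ∈ S₁, ξ ∈ Submodule.span ℤ (↑S₁ : Set (L → ℂ)) :=
    fun ξ h => Submodule.subset_span h
  have mSS : ∀ ξ ∈ S, ξ ∈ Submodule.span ℤ S := fun ξ h => Submodule.subset_span h
  have hne1 : ∀ ξ ∈ S₁, ξ ≠ χ := fun ξ hξ h => hχ₁ (h ▸ hξ)
  have hne2 : ∀ ξ ∈ S₁, ξ ≠ Cfsg.conjFun χ := fun ξ hξ h => hχ₂ (h ▸ hξ)
  have oχξ : ∀ ξ ∈ S₁, Cfsg.classInner χ ξ = 0 :=
    fun ξ hξ => hS.orthogonal χ hχ ξ (hS₁ hξ) (hne1 ξ hξ).symm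
  have oξχ : ∀ ξ ∈ S₁, Cfsg.classInner ξ χ = 0 :=
    fun ξ hξ => hS.orthogonal ξ (hS₁ hξ) χ hχ (hne1 ξ hξ)
  have oχ'ξ : ∀ ξ ∈ S₁, Cfsg.classInner (Cfsg.conjFun χ) ξ = 0 :=
    fun ξ hξ => hS.orthogonal _ hχ' ξ (hS₁ hξ) (hne2 ξ hξ).symm
  have oξχ' : ∀ ξ ∈ S₁, Cfsg.classInner ξ (Cfsg.conjFun χ) = 0 :=
    fun ξ hξ => hS.orthogonal ξ (hS₁ hξ) _ hχ' (hne2 ξ hξ)
  -- step (i)
  have hspan : ∀ ξ ∈ S₁, τ₁ ξ = proj (R ξ) (fun α => α) (τ₁ ξ) := fun ξ hξ =>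
    step1 hS (↑S₁) hS₁ hS₁c τ₁ hτ₁ hag hξ
  have hτ₁R : ∀ ξ ∈ S₁, ∀ β ∈ R χ, Cfsg.classInner (τ₁ ξ) β = 0 := by
    intro ξ hξ β hβ
    rw [hspan ξ hξ]
    exact inner_proj_left_eq_zero
      (fun α hα => cs_R_orth hS hχ (hS₁ hξ) (hne1 ξ hξ) (hne2 ξ hξ) hα hβ)
  have hRτ₁ : ∀ ξ ∈ S₁, ∀ β ∈ R χ, Cfsg.classInner β (τ₁ ξ) = 0 :=
    fun ξ hξ β hβ => classInner_eq_zero_symm (hτ₁R ξ hξ β hβ)
  -- step (ii)
  set β₀ : L → ℂ := χ - (m : ℤ) • χ₁ with hβ₀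
  have mβ₀ : β₀ ∈ zspanOnSub S {1}ᶜ := by
    refine mem_zspanOn_one.2 ⟨Submodule.sub_mem _ (mSS χ hχ)
      (Submodule.smul_mem _ _ (mSS χ₁ hχ₁SS)), ?_⟩
    simp only [hβ₀, Pi.sub_apply, Pi.smul_apply, hdz χ hχ, hdz χ₁ hχ₁SS, hmz]
    simp only [zsmul_eq_mul]
    push_cast; ring
  set B := τ β₀ with hB
  have hBg : Cfsg.IsGeneralizedCharacter G B := iso_genChar hτ mβ₀
  have hBB : Cfsg.classInner B B = ((nz χ + (m : ℤ) ^ 2 * nz χ₁ : ℤ) : ℂ) := by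
    rw [hB, iso_inner hτ mβ₀ mβ₀, hβ₀]
    simp only [classInner_sub_left, classInner_sub_right, classInner_zsmul_left,
      classInner_zsmul_right, hnz χ hχ, hnz χ₁ hχ₁SS, oχξ χ₁ hχ₁S, oξχ χ₁ hχ₁S]
    push_cast; ring
  set X := proj (R χ) (fun α => α) B with hX
  set B' := B - X with hB'
  set sX : ℝ := ∑ α ∈ R χ, ‖Cfsg.classInner B α‖ ^ 2 with hsX
  have sub1 : Cfsg.zspan {χ - (m : ℤ) • χ₁, χ - Cfsg.conjFun χ} ⊆ Cfsg.zspanOn S {1}ᶜ := by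
    have : Submodule.span ℤ {χ - (m : ℤ) • χ₁, χ - Cfsg.conjFun χ} ≤ zspanOnSub S {1}ᶜ := by
      rw [Submodule.span_le]
      rintro x (rfl | rfl)
      · exact mβ₀
      · exact cs_sub_conj_mem hS hχ
    exact this
  have hsXge : (nz χ : ℝ) ≤ sX := by
    have b1 := (Cfsg.Agent.S1515.result S τ R hS χ hχ ((m : ℤ) • χ₁)
      (Submodule.smul_mem _ _ (mSS χ₁ hχ₁SS))
      (by rw [classInner_zsmul_right, oχξ χ₁ hχ₁S, mul_zero])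
      (by rw [classInner_zsmul_right, oχ'ξ χ₁ hχ₁S, mul_zero]) τ
      (iso_mono hS.isometry sub1) (fun _ => rfl)).1
    rw [hnz χ hχ, Complex.intCast_re] at b1
    exact b1
  have hpy1 := (cs_orthoN hS hχ).pythagoras B
  rw [sum_mul_conj_eq, hBB, ← hX, ← hB', ← hsX] at hpy1
  have hOW : OrthoW S₁ τ₁ (fun ξ => (nz ξ : ℂ)) := by
    refine ⟨fun ξ hξ => ⟨?_, ?_⟩, fun ξ hξ φ hφ hne => ?_⟩
    · rw [iso_inner hτ₁' (mS ξ hξ) (mS ξ hξ), hnz ξ (hS₁ hξ)]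
    · show (nz ξ : ℂ) ≠ 0
      exact_mod_cast (hnpos ξ (hS₁ hξ)).ne'
    · rw [iso_inner hτ₁' (mS ξ hξ) (mS φ hφ), hS.orthogonal ξ (hS₁ hξ) φ (hS₁ hφ) hne]
  have hcoef : ∀ ξ ∈ S₁, ∃ k : ℤ, Cfsg.classInner B (τ₁ ξ) = k :=
    fun ξ hξ => genChar_inner_int hBg (iso_genChar hτ₁' (mS ξ hξ))
  choose! a ha using hcoef
  have hXτ₁ : ∀ ξ ∈ S₁, Cfsg.classInner X (τ₁ ξ) = 0 := fun ξ hξ =>
    inner_proj_left_eq_zero (fun β hβ => hRτ₁ ξ hξ β hβ)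
  have ha' : ∀ ξ ∈ S₁, Cfsg.classInner B' (τ₁ ξ) = a ξ := by
    intro ξ hξ
    rw [hB', classInner_sub_left, ha ξ hξ, hXτ₁ ξ hξ, sub_zero]
  set Δ := B' - projW S₁ τ₁ (fun ξ => (nz ξ : ℂ)) B' with hΔ
  have hpy2 := hOW.pythagoras B'
  rw [← hΔ] at hpy2
  have hsum2 : ∑ ξ ∈ S₁, Cfsg.classInner B' (τ₁ ξ) *
      (starRingEnd ℂ) (Cfsg.classInner B' (τ₁ ξ) / (nz ξ : ℂ)) =
      ((∑ ξ ∈ S₁, (a ξ : ℝ) ^ 2 / (nz ξ : ℝ) : ℝ) : ℂ) := by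
    push_cast
    apply Finset.sum_congr rfl
    intro ξ hξ
    rw [ha' ξ hξ, map_div₀, map_intCast, map_intCast]
    ring
  rw [hsum2] at hpy2
  set δ : ℝ := (Cfsg.classInner Δ Δ).re with hδ
  have hδ0 : 0 ≤ δ := classInner_self_re_nonneg Δ
  have hreal : (nz χ : ℝ) + (m : ℝ) ^ 2 * nz χ₁ =
      sX + (∑ ξ ∈ S₁, (a ξ : ℝ) ^ 2 / (nz ξ : ℝ)) + δ := by
    rw [hpy2] at hpy1
    have := congrArg Complex.re hpy1
    simp only [Complex.add_re, Complex.ofReal_re, Complex.intCast_re] at this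
    push_cast at this
    linarith
  set b : ℤ := a χ₁ + m * nz χ₁ with hb
  let c : (L → ℂ) → ℤ := fun ξ => if ξ = χ₁ then dz χ * nz χ₁ else 0
  have K : ∀ ξ ∈ S₁, dz χ₁ * a ξ = dz ξ * b - c ξ := by
    intro ξ hξ
    by_cases hξψ : ξ = χ₁
    · subst hξψ
      simp only [c, if_true, hb, hmz]; ring
    · simp only [c, if_neg hξψ, sub_zero]
      have g1 : dz χ₁ • ξ - dz ξ • χ₁ ∈ Cfsg.zspanOn (↑S₁ : Set (L → ℂ)) {1}ᶜ :=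
        gen_mem_zspanOn dz (fun ξ h => hdz ξ (hS₁ h)) hξ hχ₁S
      have e1 : Cfsg.classInner B (τ₁ (dz χ₁ • ξ - dz ξ • χ₁)) = ((m * dz ξ * nz χ₁ : ℤ) : ℂ) := by
        rw [hag _ g1, hB, iso_inner hτ mβ₀ (zspanOn_mono hS₁ _ g1), hβ₀]
        simp only [classInner_sub_left, classInner_sub_right, classInner_zsmul_left,
          classInner_zsmul_right, hnz χ₁ hχ₁SS, oχξ χ₁ hχ₁S, oχξ ξ hξ,
          hS.orthogonal χ₁ hχ₁SS ξ (hS₁ hξ) (Ne.symm hξψ)]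
        push_cast; ring
      rw [iso_map_sub hτ₁' (Submodule.smul_mem _ _ (mS _ hξ)) (Submodule.smul_mem _ _ (mS _ hχ₁S)),
        iso_map_zsmul hτ₁' (mS _ hξ), iso_map_zsmul hτ₁' (mS _ hχ₁S), classInner_sub_right,
        classInner_zsmul_right, classInner_zsmul_right, ha ξ hξ, ha χ₁ hχ₁S] at e1
      have e2 : dz χ₁ * a ξ - dz ξ * a χ₁ = m * dz ξ * nz χ₁ := by exact_mod_cast e1
      rw [hb]; linarith
  set D : ℝ := ∑ φ ∈ S₁, ((d φ : ℝ) ^ 2 / (n φ : ℝ)) with hD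
  have hnne : ∀ ξ ∈ S₁, (nz ξ : ℝ) ≠ 0 := fun ξ hξ => by exact_mod_cast (hnpos ξ (hS₁ hξ)).ne'
  have hsq : (dz χ₁ : ℝ) ^ 2 * ∑ ξ ∈ S₁, (a ξ : ℝ) ^ 2 / (nz ξ : ℝ) =
      (b : ℝ) ^ 2 * D - 2 * b * dz χ₁ * dz χ + (dz χ : ℝ) ^ 2 * nz χ₁ := by
    rw [Finset.mul_sum]
    have t1 : ∀ ξ ∈ S₁, (dz χ₁ : ℝ) ^ 2 * ((a ξ : ℝ) ^ 2 / (nz ξ : ℝ)) =
        (b : ℝ) ^ 2 * ((d ξ : ℝ) ^ 2 / (n ξ : ℝ)) -
          (if ξ = χ₁ then 2 * (b : ℝ) * dz χ₁ * dz χ - (dz χ : ℝ) ^ 2 * nz χ₁ else 0) := by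
      intro ξ hξ
      have hK : (dz χ₁ : ℝ) * a ξ = dz ξ * b - c ξ := by exact_mod_cast K ξ hξ
      have e0 : (dz χ₁ : ℝ) ^ 2 * ((a ξ : ℝ) ^ 2 / (nz ξ : ℝ)) =
          ((dz χ₁ : ℝ) * a ξ) ^ 2 / (nz ξ : ℝ) := by ring
      rw [e0, hK]
      have hdn : (d ξ : ℝ) = dz ξ := by simp [dz]
      have hnn : (n ξ : ℝ) = nz ξ := by simp [nz]
      rw [hdn, hnn]
      have hne := hnne ξ hξ
      by_cases hξψ : ξ = χ₁
      · subst hξψ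
        simp only [c, if_true]
        push_cast
        field_simp
        ring
      · simp only [c, if_neg hξψ]
        push_cast
        ring
    rw [Finset.sum_congr rfl t1, Finset.sum_sub_distrib, ← Finset.mul_sum,
      Finset.sum_ite_eq' S₁ χ₁, if_pos hχ₁S, ← hD]
    ring
  have hmain : (dz χ₁ : ℝ) ^ 2 * nz χ = (dz χ₁ : ℝ) ^ 2 * sX +
      ((b : ℝ) ^ 2 * D - 2 * b * dz χ₁ * dz χ) + (dz χ₁ : ℝ) ^ 2 * δ := by
    have h1 : (dz χ₁ : ℝ) ^ 2 * ((nz χ : ℝ) + (m : ℝ) ^ 2 * nz χ₁) = (dz χ₁ : ℝ) ^ 2 *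
        (sX + (∑ ξ ∈ S₁, (a ξ : ℝ) ^ 2 / (nz ξ : ℝ)) + δ) := by rw [hreal]
    have h2 : (dz χ : ℝ) = dz χ₁ * m := by exact_mod_cast hmz
    rw [mul_add, mul_add, mul_add, hsq, h2] at h1
    rw [h2]
    linarith
  have hd1pos : (0 : ℝ) < (dz χ₁ : ℝ) ^ 2 := by
    have : (0 : ℝ) < dz χ₁ := by exact_mod_cast hdpos χ₁ hχ₁SS
    positivity
  have hb0 : b = 0 := by
    apply arith (dz χ₁) (dz χ) b D (hdpos χ₁ hχ₁SS) (hdpos χ hχ)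
    · have : (2 * (d χ : ℝ) * d χ₁ : ℝ) < D := hineq
      simpa [dz] using this
    · have h1 : (dz χ₁ : ℝ) ^ 2 * nz χ ≤ (dz χ₁ : ℝ) ^ 2 * sX :=
        mul_le_mul_of_nonneg_left hsXge hd1pos.le
      have h2 : 0 ≤ (dz χ₁ : ℝ) ^ 2 * δ := mul_nonneg hd1pos.le hδ0
      linarith
  have hfin : sX = nz χ ∧ δ = 0 := by
    rw [hb0] at hmain
    have h1 : (dz χ₁ : ℝ) ^ 2 * ((sX - nz χ) + δ) = 0 := by
      push_cast at hmain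
      linarith
    have h2 : (sX - nz χ) + δ = 0 := by
      rcases mul_eq_zero.1 h1 with h | h
      · exact absurd h hd1pos.ne'
      · exact h
    constructor <;> linarith
  have hΔ0 : Δ = 0 := eq_zero_of_re hfin.2
  have haξ : ∀ ξ ∈ S₁, ξ ≠ χ₁ → a ξ = 0 := by
    intro ξ hξ hne
    have := K ξ hξ
    simp only [c, if_neg hne, hb0, mul_zero, sub_zero] at this
    rcases mul_eq_zero.1 this with h | h
    · exact absurd h (hdpos χ₁ hχ₁SS).ne'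
    · exact h
  have haψ : a χ₁ = -(m * nz χ₁) := by omega
  have hprojW : projW S₁ τ₁ (fun ξ => (nz ξ : ℂ)) B' = -((m : ℤ) • τ₁ χ₁) := by
    unfold projW
    rw [Finset.sum_eq_single χ₁]
    · rw [ha' χ₁ hχ₁S, haψ]
      have hne : (nz χ₁ : ℂ) ≠ 0 := by exact_mod_cast (hnpos χ₁ hχ₁SS).ne'
      have : (((-(m * nz χ₁) : ℤ)) : ℂ) / (nz χ₁ : ℂ) = ((-(m : ℤ) : ℤ) : ℂ) := by
        push_cast
        field_simp
      rw [this, Int.cast_smul_eq_zsmul, neg_smul]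
    · intro ξ hξ hne
      rw [ha' ξ hξ, haξ ξ hξ hne]; simp
    · intro h; exact absurd hχ₁S h
  have hBX : B = X - (m : ℤ) • τ₁ χ₁ := by
    have h1 : B' = -((m : ℤ) • τ₁ χ₁) := by
      rw [← hprojW]; exact sub_eq_zero.1 hΔ0
    have h2 : B = X + B' := by rw [hB']; abel
    rw [h2, h1]; abel
  -- step (iii)
  set Z := τ (χ - Cfsg.conjFun χ) with hZ
  have hXg : Cfsg.IsGeneralizedCharacter G X :=
    genChar_proj hBg (fun α hα => hS.virtual χ hχ α hα)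
  have hZg : Cfsg.IsGeneralizedCharacter G Z := iso_genChar hτ (cs_sub_conj_mem hS hχ)
  have hXX : Cfsg.classInner X X = nz χ := by
    rw [hX, (cs_orthoN hS hχ).inner_proj_proj, sum_mul_conj_eq, ← hsX, hfin.1]
    simp
  have hXZ : Cfsg.classInner X Z = nz χ := by
    rw [hZ, cs_inner_sum hS hχ]
    have e2 : ∑ α ∈ R χ, Cfsg.classInner X α = ∑ α ∈ R χ, Cfsg.classInner B α :=
      Finset.sum_congr rfl (fun α hα => (cs_orthoN hS hχ).inner_proj_mem B hα)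
    rw [e2, ← cs_inner_sum hS hχ, hB, iso_inner hτ mβ₀ (cs_sub_conj_mem hS hχ), hβ₀]
    simp only [classInner_sub_left, classInner_sub_right, classInner_zsmul_left, hnz χ hχ,
      cs_inner_conj hS hχ, oξχ χ₁ hχ₁S, oξχ' χ₁ hχ₁S]
    ring
  have hZX : Cfsg.classInner Z X = nz χ := by
    rw [← classInner_conj_symm, hXZ]; simp
  have hZZ : Cfsg.classInner Z Z = 2 * nz χ := by
    rw [hZ, iso_inner hτ (cs_sub_conj_mem hS hχ) (cs_sub_conj_mem hS hχ), classInner_sub_left,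
      classInner_sub_right, classInner_sub_right, cs_norm_conj hS hχ, cs_inner_conj hS hχ,
      cs_inner_conj' hS hχ, hnz χ hχ]
    ring
  have hZτ₁ : ∀ ξ ∈ S₁, Cfsg.classInner Z (τ₁ ξ) = 0 := by
    intro ξ hξ
    rw [hZ, hS.sum_eq χ hχ, classInner_sum_left]
    exact Finset.sum_eq_zero (fun β hβ => hRτ₁ ξ hξ β hβ)
  set T : Finset (L → ℂ) := insert χ (insert (Cfsg.conjFun χ) S₁) with hT
  have hTS : (↑T : Set (L → ℂ)) = ↑S₁ ∪ {χ, Cfsg.conjFun χ} := by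
    ext x
    simp only [hT, Finset.coe_insert, Set.mem_insert_iff, Finset.mem_coe, Set.mem_union,
      Set.mem_singleton_iff]
    tauto
  have hTsub : (↑T : Set (L → ℂ)) ⊆ S := by
    intro x hx
    rcases Finset.mem_insert.1 hx with rfl | hx
    · exact hχ
    rcases Finset.mem_insert.1 hx with rfl | hx
    · exact hχ'
    · exact hS₁ hx
  have hcne : Cfsg.conjFun χ ≠ χ := hS.conj_ne χ hχ
  let f : (L → ℂ) → (G → ℂ) := fun ξ =>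
    if ξ = χ then X else if ξ = Cfsg.conjFun χ then X - Z else τ₁ ξ
  have hfχ : f χ = X := if_pos rfl
  have hfχ' : f (Cfsg.conjFun χ) = X - Z := by
    show (if Cfsg.conjFun χ = χ then X else
      if Cfsg.conjFun χ = Cfsg.conjFun χ then X - Z else τ₁ (Cfsg.conjFun χ)) = X - Z
    rw [if_neg hcne, if_pos rfl]
  have hfS : ∀ ξ ∈ S₁, f ξ = τ₁ ξ := fun ξ hξ => by
    show (if ξ = χ then X else if ξ = Cfsg.conjFun χ then X - Z else τ₁ ξ) = τ₁ ξ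
    rw [if_neg (hne1 ξ hξ), if_neg (hne2 ξ hξ)]
  have hOT : OrthoSet (↑T : Set (L → ℂ)) :=
    ⟨fun ξ hξ φ hφ h => hS.orthogonal ξ (hTsub hξ) φ (hTsub hφ) h,
      fun ξ hξ => (cs_orthoSet hS).2 ξ (hTsub hξ)⟩
  have hf : ∀ ξ ∈ T, ∀ φ ∈ T, Cfsg.classInner (f ξ) (f φ) = Cfsg.classInner ξ φ := by
    intro ξ hξ φ hφ
    have cξ : ξ = χ ∨ ξ = Cfsg.conjFun χ ∨ ξ ∈ S₁ := by
      simpa [hT] using hξ
    have cφ : φ = χ ∨ φ = Cfsg.conjFun χ ∨ φ ∈ S₁ := by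
      simpa [hT] using hφ
    clear hξ hφ
    rcases cξ with h1 | h1 | h1 <;> rcases cφ with h2 | h2 | h2
    · rw [h1, h2, hfχ, hXX, hnz _ hχ]
    · rw [h1, h2, hfχ, hfχ', classInner_sub_right, hXX, hXZ, cs_inner_conj hS hχ, sub_self]
    · rw [h1, hfχ, hfS _ h2, hXτ₁ _ h2, oχξ _ h2]
    · rw [h1, h2, hfχ, hfχ', classInner_sub_left, hXX, hZX, cs_inner_conj' hS hχ, sub_self]
    · rw [h1, h2, hfχ', classInner_sub_left, classInner_sub_right, classInner_sub_right, hXX, hXZ,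
        hZX, hZZ, cs_norm_conj hS hχ, hnz _ hχ]
      ring
    · rw [h1, hfχ', hfS _ h2, classInner_sub_left, hXτ₁ _ h2, hZτ₁ _ h2, oχ'ξ _ h2, sub_self]
    · rw [h2, hfχ, hfS _ h1, classInner_eq_zero_symm (hXτ₁ _ h1), oξχ _ h1]
    · rw [h2, hfχ', hfS _ h1, classInner_sub_right, classInner_eq_zero_symm (hXτ₁ _ h1),
        classInner_eq_zero_symm (hZτ₁ _ h1), oξχ' _ h1, sub_self]
    · rw [hfS _ h1, hfS _ h2, iso_inner hτ₁' (mS _ h1) (mS _ h2)]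
  have hg : ∀ ξ ∈ T, Cfsg.IsGeneralizedCharacter G (f ξ) := by
    intro ξ hξ
    rcases Finset.mem_insert.1 hξ with rfl | hξ
    · rw [hfχ]; exact hXg
    rcases Finset.mem_insert.1 hξ with rfl | hξ
    · rw [hfχ']; exact genChar_sub hXg hZg
    · rw [hfS _ hξ]; exact iso_genChar hτ₁' (mS _ hξ)
  have hiso := extIso_isometry hOT f hf hg
  have hext : ∀ ξ ∈ T, ∀ φ ∈ T, ∀ k l : ℤ,
      extIso T f (k • ξ - l • φ) = k • f ξ - l • f φ := by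
    intro ξ hξ φ hφ k l
    rw [sub_eq_add_neg, ← neg_smul, extIso_add, extIso_zsmul, extIso_zsmul,
      extIso_mem hOT f hξ, extIso_mem hOT f hφ, neg_smul, ← sub_eq_add_neg]
  have hχ₁T : χ₁ ∈ T := Finset.mem_insert_of_mem (Finset.mem_insert_of_mem hχ₁S)
  have hS₁T : (↑S₁ : Set (L → ℂ)) ⊆ ↑T := by
    intro x hx
    exact Finset.mem_insert_of_mem (Finset.mem_insert_of_mem hx)
  rw [← hTS]
  refine ⟨⟨α₀, zspanOn_mono hS₁T _ hα₀, hα₀ne⟩, extIso T f, hiso, ?_⟩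
  apply agree_of_generators hTsub hS.isometry hiso dz (fun ξ hξ => hdz ξ (hTsub hξ)) hχ₁T
    (hdpos χ₁ hχ₁SS).ne'
  intro ξ hξ
  rw [hext ξ hξ χ₁ hχ₁T, hfS _ hχ₁S]
  have e1 : dz χ₁ • χ - dz χ • χ₁ = dz χ₁ • β₀ := by
    rw [hβ₀, hmz]; module
  rcases Finset.mem_insert.1 hξ with rfl | hξ
  · rw [hfχ, e1, iso_map_zsmul hτ mβ₀, ← hB, hBX, hmz]
    module
  rcases Finset.mem_insert.1 hξ with rfl | hξ
  · have hdd : dz (Cfsg.conjFun χ) = dz χ := by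
      have : (dz (Cfsg.conjFun χ) : ℂ) = dz χ := by
        rw [← hdz _ hχ', ← hdz _ hχ, cs_conj_one hS hχ]
      exact_mod_cast this
    have e2 : dz χ₁ • Cfsg.conjFun χ - dz χ • χ₁ =
        dz χ₁ • β₀ - dz χ₁ • (χ - Cfsg.conjFun χ) := by
      rw [hβ₀, hmz]; module
    rw [hfχ', hdd, e2, iso_map_sub hτ (Submodule.smul_mem _ _ mβ₀)
      (Submodule.smul_mem _ _ (cs_sub_conj_mem hS hχ)), iso_map_zsmul hτ mβ₀,
      iso_map_zsmul hτ (cs_sub_conj_mem hS hχ), ← hB, ← hZ, hBX, hmz]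
    module
  · rw [hfS _ hξ]
    have g1 : dz χ₁ • ξ - dz ξ • χ₁ ∈ Cfsg.zspanOn (↑S₁ : Set (L → ℂ)) {1}ᶜ :=
      gen_mem_zspanOn dz (fun ξ h => hdz ξ (hS₁ h)) hξ hχ₁S
    rw [← hag _ g1, iso_map_sub hτ₁' (Submodule.smul_mem _ _ (mS _ hξ))
      (Submodule.smul_mem _ _ (mS _ hχ₁S)), iso_map_zsmul hτ₁' (mS _ hξ),
      iso_map_zsmul hτ₁' (mS _ hχ₁S)]

end Cfsg.Agent.S1516
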