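import Cfsg.Statements.S1517
-- import your own Cfsg.Agent.* helpers here
import Cfsg.Agent.Lib.Helper32.CohSys
import Cfsg.Agent.S1515

set_option autoImplicit false
open Cfsg

namespace Cfsg.Agent.S1517

open Cfsg.Agent.Lib.Helper32 Cfsg.Agent.Lib.Helper20

section

variable {L : Type*} [Group L] [Fintype L] {G : Type*} [Group G] [Fintype G]

theorem inner_proj_left_eq_zero {ι : Type*} {s : Finset ι} {e : ι → G → ℂ} {v w : G → ℂ}
    (h : ∀ i ∈ s, Cfsg.classInner (e i) w = 0) : Cfsg.classInner (proj s e v) w = 0 := by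
  rw [inner_proj_left]
  exact Finset.sum_eq_zero (fun i hi => by rw [h i hi, mul_zero])

theorem inner_proj_right_eq_zero {ι : Type*} {s : Finset ι} {e : ι → G → ℂ} {v w : G → ℂ}
    (h : ∀ i ∈ s, Cfsg.classInner v (e i) = 0) : Cfsg.classInner v (proj s e w) = 0 := by
  rw [inner_proj_right]
  exact Finset.sum_eq_zero (fun i hi => by rw [h i hi, mul_zero])

theorem sum_mul_conj_eq {ι : Type*} (s : Finset ι) (z : ι → ℂ) :
    ∑ i ∈ s, z i * (starRingEnd ℂ) (z i) = ((∑ i ∈ s, ‖z i‖ ^ 2 : ℝ) : ℂ) := by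
  push_cast
  apply Finset.sum_congr rfl
  intro i _
  rw [Complex.mul_conj, Complex.normSq_eq_norm_sq]
  push_cast; rfl

variable {S : Set (L → ℂ)} {τ : (L → ℂ) → (G → ℂ)} {R : (L → ℂ) → Finset (G → ℂ)}

theorem lemmaA (hS : Cfsg.IsCoherenceSystem S τ R) {χ φ : L → ℂ} (hχ : χ ∈ S) (hφ : φ ∈ S)
    (hd : χ 1 = φ 1) (h1 : φ ≠ χ) (h2 : φ ≠ Cfsg.conjFun χ) :
    ∑ α ∈ R χ, ‖Cfsg.classInner (τ (χ - φ)) α‖ ^ 2 = (Cfsg.classInner χ χ).re ∧
    ∑ α ∈ R φ, ‖Cfsg.classInner (τ (χ - φ)) α‖ ^ 2 = (Cfsg.classInner φ φ).re ∧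
    τ (χ - φ) = proj (R χ) (fun α => α) (τ (χ - φ)) + proj (R φ) (fun α => α) (τ (χ - φ)) := by
  classical
  have hτ := cs_iso hS
  have mχ : χ ∈ Submodule.span ℤ S := Submodule.subset_span hχ
  have mφ : φ ∈ Submodule.span ℤ S := Submodule.subset_span hφ
  have m1 : χ - φ ∈ zspanOnSub S {1}ᶜ :=
    mem_zspanOn_one.2 ⟨Submodule.sub_mem _ mχ mφ, by rw [Pi.sub_apply, hd, sub_self]⟩
  have m2 : φ - χ ∈ zspanOnSub S {1}ᶜ :=
    mem_zspanOn_one.2 ⟨Submodule.sub_mem _ mφ mχ, by rw [Pi.sub_apply, hd, sub_self]⟩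
  have h2' : χ ≠ Cfsg.conjFun φ := by
    intro h; apply h2; rw [h, conjFun_conjFun]
  have oχφ : Cfsg.classInner χ φ = 0 := hS.orthogonal χ hχ φ hφ h1.symm
  have oφχ : Cfsg.classInner φ χ = 0 := hS.orthogonal φ hφ χ hχ h1
  have oχ'φ : Cfsg.classInner (Cfsg.conjFun χ) φ = 0 :=
    hS.orthogonal _ (hS.conj_mem χ hχ) φ hφ h2.symm
  have oφ'χ : Cfsg.classInner (Cfsg.conjFun φ) χ = 0 :=
    hS.orthogonal _ (hS.conj_mem φ hφ) χ hχ h2'.symm
  set v := τ (χ - φ) with hv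
  have hneg : τ (φ - χ) = -v := by
    rw [hv, ← iso_map_neg hτ m1, neg_sub]
  have sub1 : Cfsg.zspan {χ - φ, χ - Cfsg.conjFun χ} ⊆ Cfsg.zspanOn S {1}ᶜ := by
    have : Submodule.span ℤ {χ - φ, χ - Cfsg.conjFun χ} ≤ zspanOnSub S {1}ᶜ := by
      rw [Submodule.span_le]
      rintro x (rfl | rfl)
      · exact m1
      · exact cs_sub_conj_mem hS hχ
    exact this
  have sub2 : Cfsg.zspan {φ - χ, φ - Cfsg.conjFun φ} ⊆ Cfsg.zspanOn S {1}ᶜ := by
    have : Submodule.span ℤ {φ - χ, φ - Cfsg.conjFun φ} ≤ zspanOnSub S {1}ᶜ := by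
      rw [Submodule.span_le]
      rintro x (rfl | rfl)
      · exact m2
      · exact cs_sub_conj_mem hS hφ
    exact this
  have b1 := (Cfsg.Agent.S1515.result S τ R hS χ hχ φ mφ oχφ oχ'φ τ
    (iso_mono hS.isometry sub1) (fun _ => rfl)).1
  have b2 := (Cfsg.Agent.S1515.result S τ R hS φ hφ χ mχ oφχ oφ'χ τ
    (iso_mono hS.isometry sub2) (fun _ => rfl)).1
  rw [hneg] at b2
  simp only [classInner_neg_left, norm_neg] at b2
  rw [← hv] at b1
  have hdisj : Disjoint (R χ) (R φ) := by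
    rw [Finset.disjoint_left]
    intro α hα hα'
    have e1 := cs_R_orth hS hχ hφ h1 h2 hα' hα
    rw [((cs_orthoN hS hχ) α hα α hα).1 rfl] at e1
    exact one_ne_zero e1
  have hON : OrthoN (R χ ∪ R φ) (fun α : G → ℂ => α) := by
    intro α hα β hβ
    rcases Finset.mem_union.1 hα with a1 | a1 <;> rcases Finset.mem_union.1 hβ with a2 | a2
    · exact cs_orthoN hS hχ α a1 β a2
    · refine ⟨?_, fun _ => classInner_eq_zero_symm (cs_R_orth hS hχ hφ h1 h2 a2 a1)⟩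
      rintro rfl
      exact absurd a2 (Finset.disjoint_left.1 hdisj a1)
    · refine ⟨?_, fun _ => cs_R_orth hS hχ hφ h1 h2 a1 a2⟩
      rintro rfl
      exact absurd a1 (Finset.disjoint_left.1 hdisj a2)
    · exact cs_orthoN hS hφ α a1 β a2
  have hpy := hON.pythagoras v
  rw [sum_mul_conj_eq, Finset.sum_union hdisj] at hpy
  have hvv : Cfsg.classInner v v = Cfsg.classInner χ χ + Cfsg.classInner φ φ := by
    rw [hv, iso_inner hτ m1 m1, classInner_sub_left, classInner_sub_right, classInner_sub_right,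
      oχφ, oφχ]
    ring
  rw [hvv] at hpy
  have hre := congrArg Complex.re hpy
  simp only [Complex.add_re, Complex.ofReal_re] at hre
  have hres := classInner_self_re_nonneg (v - proj (R χ ∪ R φ) (fun α => α) v)
  have e1 : ∑ α ∈ R χ, ‖Cfsg.classInner v α‖ ^ 2 = (Cfsg.classInner χ χ).re := by linarith
  have e2 : ∑ α ∈ R φ, ‖Cfsg.classInner v α‖ ^ 2 = (Cfsg.classInner φ φ).re := by linarith
  have e3 : (Cfsg.classInner (v - proj (R χ ∪ R φ) (fun α => α) v)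
      (v - proj (R χ ∪ R φ) (fun α => α) v)).re = 0 := by linarith
  have e4 : v - proj (R χ ∪ R φ) (fun α => α) v = 0 := by
    apply classInner_self_eq_zero
    apply Complex.ext
    · rw [e3]; rfl
    · rw [classInner_self_im]; rfl
  refine ⟨e1, e2, ?_⟩
  have e5 : proj (R χ ∪ R φ) (fun α => α) v =
      proj (R χ) (fun α => α) v + proj (R φ) (fun α => α) v := by
    unfold proj
    rw [Finset.sum_union hdisj]
  rw [← e5]
  exact sub_eq_zero.1 e4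

theorem final (hS : Cfsg.IsCoherenceSystem S τ R) (hdeg : ∀ φ ∈ S, ∀ ψ ∈ S, φ 1 = ψ 1)
    {χ : L → ℂ} (hχ : χ ∈ S) (X : G → ℂ) (P1 : Cfsg.IsGeneralizedCharacter G X)
    (P2 : Cfsg.classInner X X = Cfsg.classInner χ χ)
    (P3 : ∀ φ ∈ S, Cfsg.classInner X (τ (χ - φ)) = Cfsg.classInner χ χ - Cfsg.classInner χ φ) :
    Cfsg.IsCoherent S {1}ᶜ τ := by
  classical
  have hτ := cs_iso hS
  have hO := cs_orthoSet hS
  have hfin := hO.finite
  set T := hfin.toFinset with hTdef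
  have hT : (T : Set (L → ℂ)) = S := hfin.coe_toFinset
  have hmemT : ∀ ξ, ξ ∈ T ↔ ξ ∈ S := fun ξ => hfin.mem_toFinset
  have hOT : OrthoSet (T : Set (L → ℂ)) := hT.symm ▸ hO
  have msub : ∀ ξ ∈ S, ∀ φ ∈ S, ξ - φ ∈ zspanOnSub S {1}ᶜ := fun ξ hξ φ hφ =>
    mem_zspanOn_one.2 ⟨Submodule.sub_mem _ (Submodule.subset_span hξ) (Submodule.subset_span hφ),
      by rw [Pi.sub_apply, hdeg ξ hξ φ hφ, sub_self]⟩
  let f : (L → ℂ) → (G → ℂ) := fun ξ => X - τ (χ - ξ)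
  have hf : ∀ ξ ∈ T, ∀ φ ∈ T, Cfsg.classInner (f ξ) (f φ) = Cfsg.classInner ξ φ := by
    intro ξ hξ φ hφ
    have hξ' := (hmemT ξ).1 hξ
    have hφ' := (hmemT φ).1 hφ
    have e1 : Cfsg.classInner (τ (χ - ξ)) X = Cfsg.classInner χ χ - Cfsg.classInner ξ χ := by
      rw [← classInner_conj_symm, P3 ξ hξ', map_sub, classInner_conj_symm, classInner_conj_symm]
    simp only [f]
    rw [classInner_sub_left, classInner_sub_right, classInner_sub_right, P2, P3 φ hφ', e1,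
      iso_inner hτ (msub χ hχ ξ hξ') (msub χ hχ φ hφ'), classInner_sub_left,
      classInner_sub_right, classInner_sub_right]
    ring
  have hg : ∀ ξ ∈ T, Cfsg.IsGeneralizedCharacter G (f ξ) := fun ξ hξ =>
    genChar_sub P1 (iso_genChar hτ (msub χ hχ ξ ((hmemT ξ).1 hξ)))
  have hiso := extIso_isometry hOT f hf hg
  rw [hT] at hiso
  have hext : ∀ ξ ∈ S, ∀ φ ∈ S, ∀ k l : ℤ,
      extIso T f (k • ξ - l • φ) = k • f ξ - l • f φ := by
    intro ξ hξ φ hφ k l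
    rw [sub_eq_add_neg, ← neg_smul, extIso_add, extIso_zsmul, extIso_zsmul,
      extIso_mem hOT f ((hmemT ξ).2 hξ), extIso_mem hOT f ((hmemT φ).2 hφ), neg_smul,
      ← sub_eq_add_neg]
  obtain ⟨d, hd⟩ := cs_exists_deg hS
  refine ⟨⟨χ - Cfsg.conjFun χ, cs_sub_conj_mem hS hχ, ?_⟩, extIso T f, hiso, ?_⟩
  · intro h
    exact hS.conj_ne χ hχ (sub_eq_zero.1 h).symm
  · apply agree_of_generators (le_refl _) hS.isometry hiso d (fun ξ hξ => (hd ξ hξ).1) hχ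
      (hd χ hχ).2.ne'
    intro ξ hξ
    have hdd : d ξ = d χ := by
      have : (d ξ : ℂ) = d χ := by rw [← (hd ξ hξ).1, ← (hd χ hχ).1, hdeg ξ hξ χ hχ]
      exact_mod_cast this
    rw [hext ξ hξ χ hχ, hdd]
    simp only [f]
    have e1 : d χ • ξ - d χ • χ = d χ • (-(χ - ξ)) := by module
    rw [e1, iso_map_zsmul hτ (Submodule.neg_mem _ (msub χ hχ ξ hξ)),
      iso_map_neg hτ (msub χ hχ ξ hξ), sub_self, iso_map_zero hτ]
    module

theorem inner_sum_sum_of_subset {E F : Finset (G → ℂ)} (hEF : E ⊆ F)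
    (hF : OrthoN F (fun α : G → ℂ => α)) :
    Cfsg.classInner (∑ α ∈ E, α) (∑ β ∈ F, β) = (E.card : ℂ) := by
  rw [classInner_sum_left]
  have : ∀ α ∈ E, Cfsg.classInner α (∑ β ∈ F, β) = 1 := by
    intro α hα
    rw [classInner_sum_right, Finset.sum_eq_single α]
    · exact (hF α (hEF hα) α (hEF hα)).1 rfl
    · intro β hβ hne
      exact (hF α (hEF hα) β hβ).2 hne.symm
    · intro h; exact absurd (hEF hα) h
  rw [Finset.sum_congr rfl this]
  simp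

theorem caseA (hS : Cfsg.IsCoherenceSystem S τ R) (hdeg : ∀ φ ∈ S, ∀ ψ ∈ S, φ 1 = ψ 1)
    {χ : L → ℂ} (hχ : χ ∈ S) (hall : ∀ ξ ∈ S, ξ = χ ∨ ξ = Cfsg.conjFun χ) :
    Cfsg.IsCoherent S {1}ᶜ τ := by
  classical
  have hτ := cs_iso hS
  obtain ⟨N, hNpos, hN⟩ := cs_norm hS hχ
  have hON := cs_orthoN hS hχ
  have hcard : (R χ).card = 2 * N := by
    have e1 := iso_inner hτ (cs_sub_conj_mem hS hχ) (cs_sub_conj_mem hS hχ)
    rw [hS.sum_eq χ hχ, inner_sum_sum_of_subset (Finset.Subset.refl _) hON, classInner_sub_left,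
      classInner_sub_right, classInner_sub_right, cs_norm_conj hS hχ, cs_inner_conj hS hχ,
      cs_inner_conj' hS hχ, hN] at e1
    have : ((R χ).card : ℂ) = ((2 * N : ℕ) : ℂ) := by rw [e1]; push_cast; ring
    exact_mod_cast this
  obtain ⟨E, hE, hEc⟩ := Finset.exists_subset_card_eq (s := R χ) (n := N) (by omega)
  have hONE : OrthoN E (fun α : G → ℂ => α) := fun α hα β hβ => hON α (hE hα) β (hE hβ)
  apply final hS hdeg hχ (∑ α ∈ E, α)
  · exact genChar_sum _ _ (fun α hα => hS.virtual χ hχ α (hE hα))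
  · rw [inner_sum_sum_of_subset (Finset.Subset.refl _) hONE, hEc, hN]
  · intro φ hφ
    rcases hall φ hφ with rfl | rfl
    · rw [sub_self, iso_map_zero hτ, classInner_zero_right, sub_self]
    · rw [hS.sum_eq χ hχ, inner_sum_sum_of_subset hE hON, hEc, hN, cs_inner_conj hS hχ, sub_zero]

theorem caseB (hS : Cfsg.IsCoherenceSystem S τ R) (hdeg : ∀ φ ∈ S, ∀ ψ ∈ S, φ 1 = ψ 1)
    {χ ξ₀ : L → ℂ} (hχ : χ ∈ S) (hξ₀ : ξ₀ ∈ S) (hne1 : ξ₀ ≠ χ) (hne2 : ξ₀ ≠ Cfsg.conjFun χ) :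
    Cfsg.IsCoherent S {1}ᶜ τ := by
  classical
  have hτ := cs_iso hS
  obtain ⟨N, hNpos, hN⟩ := cs_norm hS hχ
  obtain ⟨N₀, hN₀pos, hN₀⟩ := cs_norm hS hξ₀
  have msub : ∀ ξ ∈ S, ∀ φ ∈ S, ξ - φ ∈ zspanOnSub S {1}ᶜ := fun ξ hξ φ hφ =>
    mem_zspanOn_one.2 ⟨Submodule.sub_mem _ (Submodule.subset_span hξ) (Submodule.subset_span hφ),
      by rw [Pi.sub_apply, hdeg ξ hξ φ hφ, sub_self]⟩
  obtain ⟨A1, A2, A3⟩ := lemmaA hS hχ hξ₀ (hdeg χ hχ ξ₀ hξ₀) hne1 hne2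
  set v₀ := τ (χ - ξ₀) with hv₀
  set X := proj (R χ) (fun α => α) v₀ with hX
  set Y₀ := proj (R ξ₀) (fun α => α) v₀ with hY₀
  have hv₀g : Cfsg.IsGeneralizedCharacter G v₀ := iso_genChar hτ (msub χ hχ ξ₀ hξ₀)
  have oξ₀χ : Cfsg.classInner ξ₀ χ = 0 := hS.orthogonal ξ₀ hξ₀ χ hχ hne1
  have oχξ₀ : Cfsg.classInner χ ξ₀ = 0 := hS.orthogonal χ hχ ξ₀ hξ₀ hne1.symm
  have hne2' : χ ≠ Cfsg.conjFun ξ₀ := by
    intro h; apply hne2; rw [h, conjFun_conjFun]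
  have hYχ : ∀ β ∈ R χ, Cfsg.classInner Y₀ β = 0 := fun β hβ =>
    inner_proj_left_eq_zero (fun α hα => cs_R_orth hS hχ hξ₀ hne1 hne2 hα hβ)
  have hYv : Cfsg.classInner Y₀ v₀ = N₀ := by
    rw [hY₀, inner_proj_left]
    have : ∀ α ∈ R ξ₀, Cfsg.classInner v₀ α * Cfsg.classInner α v₀ =
        Cfsg.classInner v₀ α * (starRingEnd ℂ) (Cfsg.classInner v₀ α) := by
      intro α _
      rw [classInner_conj_symm]
    rw [Finset.sum_congr rfl this, sum_mul_conj_eq, A2, hN₀]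
    simp
  have Q : ∀ φ ∈ S, Cfsg.classInner Y₀ (τ (χ - φ)) = Cfsg.classInner ξ₀ φ := by
    intro φ hφ
    by_cases c1 : φ = χ
    · subst c1
      rw [sub_self, iso_map_zero hτ, classInner_zero_right, oξ₀χ]
    by_cases c2 : φ = Cfsg.conjFun χ
    · subst c2
      rw [cs_inner_sum hS hχ, Finset.sum_eq_zero hYχ,
        hS.orthogonal ξ₀ hξ₀ _ (hS.conj_mem χ hχ) hne2]
    by_cases c3 : φ = ξ₀
    · subst c3
      rw [hYv, hN₀]
    by_cases c4 : φ = Cfsg.conjFun ξ₀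
    · subst c4
      have e1 : χ - Cfsg.conjFun ξ₀ = (χ - ξ₀) + (ξ₀ - Cfsg.conjFun ξ₀) := by abel
      rw [e1, iso_map_add hτ (msub χ hχ ξ₀ hξ₀) (cs_sub_conj_mem hS hξ₀), classInner_add_right,
        ← hv₀, hYv, cs_inner_sum hS hξ₀]
      have e2 : ∑ α ∈ R ξ₀, Cfsg.classInner Y₀ α = ∑ α ∈ R ξ₀, Cfsg.classInner v₀ α :=
        Finset.sum_congr rfl (fun α hα => (cs_orthoN hS hξ₀).inner_proj_mem v₀ hα)
      rw [e2, ← cs_inner_sum hS hξ₀, hv₀, iso_inner hτ (msub χ hχ ξ₀ hξ₀) (cs_sub_conj_mem hS hξ₀),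
        classInner_sub_left, classInner_sub_right, classInner_sub_right, oχξ₀,
        hS.orthogonal χ hχ _ (hS.conj_mem ξ₀ hξ₀) hne2', hN₀, cs_inner_conj hS hξ₀]
      ring
    · obtain ⟨-, -, B3⟩ := lemmaA hS hχ hφ (hdeg χ hχ φ hφ) c1 c2
      have c4' : ξ₀ ≠ Cfsg.conjFun φ := by
        intro h; apply c4; rw [h, conjFun_conjFun]
      have hYφ : ∀ β ∈ R φ, Cfsg.classInner Y₀ β = 0 := fun β hβ =>
        inner_proj_left_eq_zero (fun α hα => cs_R_orth hS hφ hξ₀ (Ne.symm c3) c4' hα hβ)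
      rw [B3, classInner_add_right, inner_proj_right_eq_zero hYχ, inner_proj_right_eq_zero hYφ,
        hS.orthogonal ξ₀ hξ₀ φ hφ (Ne.symm c3)]
      ring
  apply final hS hdeg hχ X
  · exact genChar_proj hv₀g (fun α hα => hS.virtual χ hχ α hα)
  · rw [hX, (cs_orthoN hS hχ).inner_proj_proj, sum_mul_conj_eq, A1, hN]
    simp
  · intro φ hφ
    have e1 : X = v₀ - Y₀ := by rw [A3]; abel
    rw [e1, classInner_sub_left, Q φ hφ, hv₀, iso_inner hτ (msub χ hχ ξ₀ hξ₀) (msub χ hχ φ hφ),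
      classInner_sub_left, classInner_sub_right, classInner_sub_right, oξ₀χ]
    ring

end


/-- Let (S, τ, R) be a coherence system from L to G such that φ 1 = ψ 1 for all φ, ψ ∈ S. Then (S, L minus 1, τ) is coherent. -/
theorem result {L : Type*} [Group L] [Fintype L] {G : Type*} [Group G] [Fintype G] (S : Set (L → ℂ)) (τ : (L → ℂ) → (G → ℂ)) (R : (L → ℂ) → Finset (G → ℂ)) (hS : Cfsg.IsCoherenceSystem S τ R) (hdeg : ∀ φ ∈ S, ∀ ψ ∈ S, φ 1 = ψ 1) : Cfsg.IsCoherent S {1}ᶜ τ := by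
  obtain ⟨χ, hχ⟩ := hS.nonempty
  by_cases hall : ∀ ξ ∈ S, ξ = χ ∨ ξ = Cfsg.conjFun χ
  · exact caseA hS hdeg hχ hall
  · push Not at hall
    obtain ⟨ξ₀, hξ₀, h1, h2⟩ := hall
    exact caseB hS hdeg hχ hξ₀ h1 h2

end Cfsg.Agent.S1517
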