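import Cfsg.Statements.S1531
-- import your own Cfsg.Agent.* helpers here
import Cfsg.Agent.Lib.Helper32.ConjFun

set_option autoImplicit false
open Cfsg

namespace Cfsg.Agent.S1531

open Cfsg.Agent.Lib.Helper32 Cfsg.Agent.Lib.Helper20

theorem exists_deg {L : Type*} [Group L] (S : Set (L → ℂ)) (hirr : ∀ ξ ∈ S, Cfsg.IsIrrCharacter L ξ) :
    ∃ d : (L → ℂ) → ℤ, ∀ ξ ∈ S, ξ 1 = d ξ ∧ 0 < d ξ := by
  have : ∀ ξ ∈ S, ∃ n : ℤ, ξ 1 = n ∧ 0 < n := by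
    intro ξ hξ
    obtain ⟨n, hn, h⟩ := irr_apply_one (hirr ξ hξ)
    exact ⟨n, by simpa using h, by exact_mod_cast hn⟩
  choose! d hd using this
  exact ⟨d, hd⟩

theorem zsmul_cancel {X : Type*} {n : ℤ} (hn : n ≠ 0) {f g : X → ℂ} (h : n • f = n • g) :
    f = g := by
  ext x
  have h1 := congrFun h x
  simp only [Pi.smul_apply] at h1
  simp only [zsmul_eq_mul] at h1
  exact mul_left_cancel₀ (by exact_mod_cast hn) h1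

theorem part1 {L : Type*} [Group L] [Fintype L] {G : Type*} [Group G] [Fintype G]
    (S X Y : Set (L → ℂ)) (hirr : ∀ ξ ∈ S, Cfsg.IsIrrCharacter L ξ) (hXS : X ⊆ S) (hYS : Y ⊆ S)
    (hXY : Disjoint X Y) (hX2 : ∃ a ∈ X, ∃ b ∈ X, a ≠ b) (hY2 : ∃ a ∈ Y, ∃ b ∈ Y, a ≠ b)
    (α : (L → ℂ) → (G → ℂ)) (hα : Cfsg.IsLinearIsometryOn (Cfsg.zspanOn S {1}ᶜ) α)
    (hα1 : ∀ θ ∈ Cfsg.zspanOn S {1}ᶜ, α θ 1 = 0) (σ τ : (L → ℂ) → (G → ℂ))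
    (hσ : Cfsg.IsLinearIsometryOn (Cfsg.zspan X) σ) (hσα : ∀ θ ∈ Cfsg.zspanOn X {1}ᶜ, σ θ = α θ)
    (hτ : Cfsg.IsLinearIsometryOn (Cfsg.zspan Y) τ) (hτα : ∀ θ ∈ Cfsg.zspanOn Y {1}ᶜ, τ θ = α θ) :
    ∀ χ ∈ X, ∀ η ∈ Y, Cfsg.classInner (σ χ) (τ η) = 0 := by
  intro χ hχ η hη
  have hirrX : ∀ ξ ∈ X, Cfsg.IsIrrCharacter L ξ := fun ξ h => hirr ξ (hXS h)
  have hirrY : ∀ ξ ∈ Y, Cfsg.IsIrrCharacter L ξ := fun ξ h => hirr ξ (hYS h)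
  obtain ⟨χ', hχ', hne⟩ : ∃ χ' ∈ X, χ ≠ χ' := by
    obtain ⟨a, ha, b, hb, hab⟩ := hX2
    by_cases h : χ = a
    · exact ⟨b, hb, h ▸ hab⟩
    · exact ⟨a, ha, h⟩
  obtain ⟨η', hη', hne'⟩ : ∃ η' ∈ Y, η ≠ η' := by
    obtain ⟨a, ha, b, hb, hab⟩ := hY2
    by_cases h : η = a
    · exact ⟨b, hb, h ▸ hab⟩
    · exact ⟨a, ha, h⟩
  obtain ⟨d, hd⟩ := exists_deg S hirr
  have hdX : ∀ ξ ∈ X, ξ 1 = d ξ := fun ξ h => (hd ξ (hXS h)).1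
  have hdY : ∀ ξ ∈ Y, ξ 1 = d ξ := fun ξ h => (hd ξ (hYS h)).1
  have hσ' : Cfsg.IsLinearIsometryOn ((Submodule.span ℤ X : Submodule ℤ (L → ℂ)) : Set (L → ℂ)) σ :=
    hσ
  have hτ' : Cfsg.IsLinearIsometryOn ((Submodule.span ℤ Y : Submodule ℤ (L → ℂ)) : Set (L → ℂ)) τ :=
    hτ
  have g1 := gen_mem_zspanOn d hdX hχ hχ'
  have g2 := gen_mem_zspanOn d hdY hη hη'
  have mX : ∀ ξ ∈ X, ξ ∈ Submodule.span ℤ X := fun ξ h => Submodule.subset_span h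
  have mY : ∀ ξ ∈ Y, ξ ∈ Submodule.span ℤ Y := fun ξ h => Submodule.subset_span h
  have s1 : σ (d χ' • χ - d χ • χ') = d χ' • σ χ - d χ • σ χ' := by
    rw [iso_map_sub hσ' (Submodule.smul_mem _ _ (mX _ hχ)) (Submodule.smul_mem _ _ (mX _ hχ')),
      iso_map_zsmul hσ' (mX _ hχ), iso_map_zsmul hσ' (mX _ hχ')]
  have s2 : τ (d η' • η - d η • η') = d η' • τ η - d η • τ η' := by
    rw [iso_map_sub hτ' (Submodule.smul_mem _ _ (mY _ hη)) (Submodule.smul_mem _ _ (mY _ hη')),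
      iso_map_zsmul hτ' (mY _ hη), iso_map_zsmul hτ' (mY _ hη')]
  have hdis : ∀ a ∈ X, ∀ b ∈ Y, Cfsg.classInner a b = 0 := by
    intro a ha b hb
    apply classInner_irr_ne (hirrX a ha) (hirrY b hb)
    rintro rfl
    exact Set.disjoint_left.1 hXY ha hb
  have hmix : Cfsg.classInner (d χ' • σ χ - d χ • σ χ') (d η' • τ η - d η • τ η') = 0 := by
    rw [← s1, ← s2, hσα _ g1, hτα _ g2,
      hα.2.2.1 _ (zspanOn_mono hXS _ g1) _ (zspanOn_mono hYS _ g2)]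
    simp only [classInner_sub_left, classInner_sub_right, classInner_zsmul_left,
      classInner_zsmul_right, hdis _ hχ _ hη, hdis _ hχ _ hη', hdis _ hχ' _ hη, hdis _ hχ' _ hη']
    simp
  have c1 : ∀ (n : ℤ) (f : G → ℂ), (((n : ℝ) : ℂ)) • f = n • f := by
    intro n f
    rw [← Int.cast_smul_eq_zsmul ℂ n f]; simp
  have z1 : (d χ' • σ χ - d χ • σ χ') 1 = 0 := by
    rw [← s1, hσα _ g1]; exact hα1 _ (zspanOn_mono hXS _ g1)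
  have z2 : (d η' • τ η - d η • τ η') 1 = 0 := by
    rw [← s2, hτα _ g2]; exact hα1 _ (zspanOn_mono hYS _ g2)
  simp only [Pi.sub_apply, Pi.smul_apply] at z1 z2
  simp only [zsmul_eq_mul] at z1 z2
  exact (four_signed (iso_signedIrr hirrX hσ hχ) (iso_signedIrr hirrX hσ hχ')
    (iso_signedIrr hirrY hτ hη) (iso_signedIrr hirrY hτ hη') (d χ') (d χ) (d η') (d η)
    (by exact_mod_cast (hd _ (hXS hχ')).2.ne') (by exact_mod_cast (hd _ (hXS hχ)).2.ne')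
    (by exact_mod_cast (hd _ (hYS hη')).2.ne') (by exact_mod_cast (hd _ (hYS hη)).2.ne')
    (iso_inner_irr hirrX hσ hχ hχ' hne) (iso_inner_irr hirrY hτ hη hη' hne')
    (by simp only [c1]; exact hmix)
    (by push_cast; linear_combination z1) (by push_cast; linear_combination z2)).1

theorem part2 {L : Type*} [Group L] [Fintype L] {G : Type*} [Group G] [Fintype G]
    (S X Y : Set (L → ℂ)) (hirr : ∀ ξ ∈ S, Cfsg.IsIrrCharacter L ξ) (hXS : X ⊆ S) (hYS : Y ⊆ S)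
    (hXY : Disjoint X Y) (hX2 : ∃ a ∈ X, ∃ b ∈ X, a ≠ b)
    (α : (L → ℂ) → (G → ℂ)) (hα : Cfsg.IsLinearIsometryOn (Cfsg.zspanOn S {1}ᶜ) α)
    (σ τ : (L → ℂ) → (G → ℂ))
    (hσ : Cfsg.IsLinearIsometryOn (Cfsg.zspan X) σ) (hσα : ∀ θ ∈ Cfsg.zspanOn X {1}ᶜ, σ θ = α θ)
    (hτ : Cfsg.IsLinearIsometryOn (Cfsg.zspan Y) τ) (hτα : ∀ θ ∈ Cfsg.zspanOn Y {1}ᶜ, τ θ = α θ)
    (P1 : ∀ χ ∈ X, ∀ η ∈ Y, Cfsg.classInner (σ χ) (τ η) = 0)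
    (χ₀ η₀ : L → ℂ) (hχ₀ : χ₀ ∈ X) (hη₀ : η₀ ∈ Y)
    (hrel : α (χ₀ 1 • η₀ - η₀ 1 • χ₀) = χ₀ 1 • τ η₀ - η₀ 1 • σ χ₀) :
    Cfsg.IsCoherent (X ∪ Y) {1}ᶜ α := by
  classical
  obtain ⟨d, hd⟩ := exists_deg S hirr
  have hUS : X ∪ Y ⊆ S := Set.union_subset hXS hYS
  have hirrU : ∀ ξ ∈ X ∪ Y, Cfsg.IsIrrCharacter L ξ := fun ξ h => hirr ξ (hUS h)
  have hirrX : ∀ ξ ∈ X, Cfsg.IsIrrCharacter L ξ := fun ξ h => hirr ξ (hXS h)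
  have hirrY : ∀ ξ ∈ Y, Cfsg.IsIrrCharacter L ξ := fun ξ h => hirr ξ (hYS h)
  have hdU : ∀ ξ ∈ X ∪ Y, ξ 1 = d ξ := fun ξ h => (hd ξ (hUS h)).1
  have hdX : ∀ ξ ∈ X, ξ 1 = d ξ := fun ξ h => (hd ξ (hXS h)).1
  have hdY : ∀ ξ ∈ Y, ξ 1 = d ξ := fun ξ h => (hd ξ (hYS h)).1
  have hdS : ∀ ξ ∈ S, ξ 1 = d ξ := fun ξ h => (hd ξ h).1
  have hO : OrthoSet (X ∪ Y) := orthoSet_of_irr hirrU
  have hfin := hO.finite
  set T := hfin.toFinset with hTdef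
  have hT : (T : Set (L → ℂ)) = X ∪ Y := hfin.coe_toFinset
  have hmemT : ∀ ξ, ξ ∈ T ↔ ξ ∈ X ∪ Y := fun ξ => hfin.mem_toFinset
  let f : (L → ℂ) → (G → ℂ) := fun ξ => if ξ ∈ X then σ ξ else τ ξ
  have hfX : ∀ ξ ∈ X, f ξ = σ ξ := fun ξ h => if_pos h
  have hfY : ∀ ξ ∈ Y, f ξ = τ ξ := fun ξ h => if_neg (fun h' => Set.disjoint_left.1 hXY h' h)
  have hOT : OrthoSet (T : Set (L → ℂ)) := hT.symm ▸ hO
  have hdis : ∀ a ∈ X, ∀ b ∈ Y, Cfsg.classInner a b = 0 := by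
    intro a ha b hb
    apply classInner_irr_ne (hirrX a ha) (hirrY b hb)
    rintro rfl
    exact Set.disjoint_left.1 hXY ha hb
  have hf : ∀ ξ ∈ T, ∀ φ ∈ T, Cfsg.classInner (f ξ) (f φ) = Cfsg.classInner ξ φ := by
    intro ξ hξ φ hφ
    rcases (hmemT ξ).1 hξ with h1 | h1 <;> rcases (hmemT φ).1 hφ with h2 | h2
    · rw [hfX _ h1, hfX _ h2, hσ.2.2.1 _ (zspan_of_mem h1) _ (zspan_of_mem h2)]
    · rw [hfX _ h1, hfY _ h2, P1 _ h1 _ h2, hdis _ h1 _ h2]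
    · rw [hfY _ h1, hfX _ h2, classInner_eq_zero_symm (P1 _ h2 _ h1),
        classInner_eq_zero_symm (hdis _ h2 _ h1)]
    · rw [hfY _ h1, hfY _ h2, hτ.2.2.1 _ (zspan_of_mem h1) _ (zspan_of_mem h2)]
  have hg : ∀ ξ ∈ T, Cfsg.IsGeneralizedCharacter G (f ξ) := by
    intro ξ hξ
    rcases (hmemT ξ).1 hξ with h1 | h1
    · rw [hfX _ h1]; exact hσ.2.2.2 _ (zspan_of_mem h1)
    · rw [hfY _ h1]; exact hτ.2.2.2 _ (zspan_of_mem h1)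
  have hiso := extIso_isometry hOT f hf hg
  rw [hT] at hiso
  have hσ' : Cfsg.IsLinearIsometryOn ((Submodule.span ℤ X : Submodule ℤ (L → ℂ)) : Set (L → ℂ)) σ :=
    hσ
  have hτ' : Cfsg.IsLinearIsometryOn ((Submodule.span ℤ Y : Submodule ℤ (L → ℂ)) : Set (L → ℂ)) τ :=
    hτ
  have hα' : Cfsg.IsLinearIsometryOn ((zspanOnSub S {1}ᶜ : Submodule ℤ (L → ℂ)) : Set (L → ℂ)) α :=
    hα
  have mX : ∀ ξ ∈ X, ξ ∈ Submodule.span ℤ X := fun ξ h => Submodule.subset_span h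
  have mY : ∀ ξ ∈ Y, ξ ∈ Submodule.span ℤ Y := fun ξ h => Submodule.subset_span h
  have hext : ∀ ξ ∈ X ∪ Y, ∀ φ ∈ X ∪ Y, ∀ m n : ℤ,
      extIso T f (m • ξ - n • φ) = m • f ξ - n • f φ := by
    intro ξ hξ φ hφ m n
    rw [sub_eq_add_neg, ← neg_smul, extIso_add, extIso_zsmul, extIso_zsmul,
      extIso_mem hOT f ((hmemT ξ).2 hξ), extIso_mem hOT f ((hmemT φ).2 hφ), neg_smul,
      ← sub_eq_add_neg]
  refine ⟨?_, extIso T f, hiso, ?_⟩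
  · obtain ⟨a, ha, b, hb, hab⟩ := hX2
    refine ⟨d b • a - d a • b, gen_mem_zspanOn d hdU (Or.inl ha) (Or.inl hb), ?_⟩
    intro h0
    have h1 := congrArg (fun θ => Cfsg.classInner θ a) h0
    simp only [classInner_sub_left, classInner_zsmul_left, classInner_irr_self (hirrX a ha),
      classInner_irr_ne (hirrX b hb) (hirrX a ha) hab.symm, classInner_zero_left] at h1
    have h2 : (d b : ℂ) = 0 := by simpa using h1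
    exact (hd b (hXS hb)).2.ne' (by exact_mod_cast h2)
  · apply agree_of_generators hUS hα hiso d hdU (Or.inl hχ₀) (hd χ₀ (hXS hχ₀)).2.ne'
    intro ξ hξ
    rw [hext ξ hξ χ₀ (Or.inl hχ₀), hfX _ hχ₀]
    rcases hξ with h1 | h1
    · rw [hfX _ h1, ← hσα _ (gen_mem_zspanOn d hdX h1 hχ₀),
        iso_map_sub hσ' (Submodule.smul_mem _ _ (mX _ h1)) (Submodule.smul_mem _ _ (mX _ hχ₀)),
        iso_map_zsmul hσ' (mX _ h1), iso_map_zsmul hσ' (mX _ hχ₀)]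
    · rw [hfY _ h1]
      have hrel' : α (d χ₀ • η₀ - d η₀ • χ₀) = d χ₀ • τ η₀ - d η₀ • σ χ₀ := by
        rw [hdX _ hχ₀, hdY _ hη₀] at hrel
        simpa only [Int.cast_smul_eq_zsmul] using hrel
      have k1 : d η₀ • (d χ₀ • ξ - d ξ • χ₀) =
          d χ₀ • (d η₀ • ξ - d ξ • η₀) + d ξ • (d χ₀ • η₀ - d η₀ • χ₀) := by module
      have g1 : d χ₀ • ξ - d ξ • χ₀ ∈ zspanOnSub S {1}ᶜ :=
        gen_mem_zspanOn d hdS (hYS h1) (hXS hχ₀)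
      have g2 : d η₀ • ξ - d ξ • η₀ ∈ zspanOnSub S {1}ᶜ :=
        gen_mem_zspanOn d hdS (hYS h1) (hYS hη₀)
      have g3 : d χ₀ • η₀ - d η₀ • χ₀ ∈ zspanOnSub S {1}ᶜ :=
        gen_mem_zspanOn d hdS (hYS hη₀) (hXS hχ₀)
      have k2 : d η₀ • α (d χ₀ • ξ - d ξ • χ₀) = d η₀ • (d χ₀ • τ ξ - d ξ • σ χ₀) := by
        rw [← iso_map_zsmul hα' g1, k1, iso_map_add hα' (Submodule.smul_mem _ _ g2)
          (Submodule.smul_mem _ _ g3), iso_map_zsmul hα' g2, iso_map_zsmul hα' g3, hrel',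
          ← hτα _ (gen_mem_zspanOn d hdY h1 hη₀),
          iso_map_sub hτ' (Submodule.smul_mem _ _ (mY _ h1)) (Submodule.smul_mem _ _ (mY _ hη₀)),
          iso_map_zsmul hτ' (mY _ h1), iso_map_zsmul hτ' (mY _ hη₀)]
        module
      exact (zsmul_cancel (hd η₀ (hYS hη₀)).2.ne' k2).symm


/-- Let N be a subgroup of the finite group G, S a set of irreducible characters of N, and α a linear isometry on the integer combinations of S vanishing at 1 with values virtual characters of G vanishing at 1. Let X, Y ⊆ S be disjoint, each with at least two members, and σ, τ linear isometries on ℤ[X], ℤ[Y] into virtual characters agreeing with α on the members vanishing at 1. Then ⟨σ χ, τ η⟩ = 0 for χ ∈ X, η ∈ Y; and if for some χ₀ ∈ X, η₀ ∈ Y with degrees c = χ₀ 1, e = η₀ 1 one has α (c • η₀ − e • χ₀) = c • τ η₀ − e • σ χ₀, then (X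 ∪ Y, N minus 1, α) is coherent. -/
theorem result {G : Type*} [Group G] [Fintype G] (N : Subgroup G) [Fintype N] (S X Y : Set (N → ℂ)) (hirr : ∀ ξ ∈ S, Cfsg.IsIrrCharacter N ξ) (hXS : X ⊆ S) (hYS : Y ⊆ S) (hXY : Disjoint X Y) (hX2 : ∃ a ∈ X, ∃ b ∈ X, a ≠ b) (hY2 : ∃ a ∈ Y, ∃ b ∈ Y, a ≠ b) (α : (N → ℂ) → (G → ℂ)) (hα : Cfsg.IsLinearIsometryOn (Cfsg.zspanOn S {1}ᶜ) α) (hα1 : ∀ θ ∈ Cfsg.zspanOn S {1}ᶜ, α θ 1 = 0) (σ τ : (N → ℂ) → (G → ℂ)) (hσ : Cfsg.IsLinearIsometryOn (Cfsg.zspan X) σ) (hσα : ∀ θ ∈ Cfsg.zspanOn X {1}ᶜ, σ θ = α θ) (hτ : Cfsg.IsLinearIsometryOn (Cfsg.zspan Y) τ) (hτα : ∀ θ ∈ Cfsg.zspanOn Y {1}ᶜ, τ θ = α θ) : (∀ χ ∈ X, ∀ η ∈ Y, Cfsg.classInner (σ χ) (τ η) = 0) ∧ ((∃ χ₀ ∈ X, ∃ η₀ ∈ Y, α (χ₀ 1 • η₀ - η₀ 1 • χ₀) = χ₀ 1 • τ η₀ - η₀ 1 • σ χ₀) → Cfsg.IsCoherent (X ∪ Y) {1}ᶜ α) := by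
  have P1 := part1 S X Y hirr hXS hYS hXY hX2 hY2 α hα hα1 σ τ hσ hσα hτ hτα
  refine ⟨P1, ?_⟩
  rintro ⟨χ₀, hχ₀, η₀, hη₀, hrel⟩
  exact part2 S X Y hirr hXS hYS hXY hX2 α hα σ τ hσ hσα hτ hτα P1 χ₀ η₀ hχ₀ hη₀ hrel

end Cfsg.Agent.S1531
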