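import Cfsg.Statements.S1519
-- import your own Cfsg.Agent.* helpers here
import Cfsg.Agent.Lib.Helper32.IndAbove
import Cfsg.Agent.Lib.Helper32.CohExt

set_option autoImplicit false
open Cfsg

namespace Cfsg.Agent.S1519

open Cfsg.Agent.Lib.Helper32


/-- Let K be a solvable normal subgroup of the finite group L and (S, τ, R) a coherence system from L to G where S is the set of functions induced from non-principal irreducible characters of K; write S(A) for those induced from characters whose kernel contains A. Let A, B, C, D be normal subgroups of L with A < K, B < K, B ≤ D ≤ C ≤ K and every commutator of D with C in B. If S(A) is coherent and 4 * [L:C]^2 * [C:D] < ([K:A] − 1)^2, then S(B) is coherent. -/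
theorem result {L : Type*} [Group L] [Fintype L] {G : Type*} [Group G] [Fintype G] (K : Subgroup L) [hK : K.Normal] (hsolv : Group.IsSolvable K) (τ : (L → ℂ) → (G → ℂ)) (R : (L → ℂ) → Finset (G → ℂ)) (hS : Cfsg.IsCoherenceSystem (Cfsg.inducedIrrAbove K ⊥) τ R) (A B C D : Subgroup L) [A.Normal] [B.Normal] [C.Normal] [D.Normal] (hAK : A < K) (hBK : B < K) (hBD : B ≤ D) (hDC : D ≤ C) (hCK : C ≤ K) (hcent : ∀ x ∈ D, ∀ y ∈ C, x * y * x⁻¹ * y⁻¹ ∈ B) (hA : Cfsg.IsCoherent (Cfsg.inducedIrrAbove K A) {1}ᶜ τ) (hlt : 4 * C.index ^ 2 * D.relIndex C < (A.relIndex K - 1) ^ 2) : Cfsg.IsCoherent (Cfsg.inducedIrrAbove K B) {1}ᶜ τ := by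
  classical
  obtain ⟨d, n, hd, hn, hd0, hn0⟩ := cs_exists_dn hS
  have hsubA : inducedIrrAbove K A ⊆ inducedIrrAbove K ⊥ := inducedIrrAbove_mono K bot_le
  have hsubB : inducedIrrAbove K B ⊆ inducedIrrAbove K ⊥ := inducedIrrAbove_mono K bot_le
  obtain ⟨χ₁, hχ₁, hχ₁d⟩ := exists_linear_above K hsolv A hAK
  obtain ⟨χ₂, hχ₂, _⟩ := exists_linear_above K hsolv B hBK
  have hsum := sum_indAbove_sq_div K A
    (fun χ hχ φ hφ h => hS.orthogonal χ (hsubA hχ) φ (hsubA hφ) h) d n
    (fun φ hφ => hd φ (hsubA hφ)) (fun φ hφ => hn φ (hsubA hφ))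
  have hcohU : IsCoherent (↑(indAbove K A ∪ indAbove K B) : Set (L → ℂ)) {1}ᶜ τ := by
    apply coherent_extend_gen hS d n hd hn (indAbove K A) (indAbove K A ∪ indAbove K B)
      Finset.subset_union_left
    · intro φ hφ
      rw [Finset.mem_coe, Finset.mem_union, mem_indAbove, mem_indAbove] at hφ
      exact hφ.elim (fun h => hsubA h) (fun h => hsubB h)
    · intro φ hφ
      rw [mem_indAbove] at hφ ⊢
      exact inducedIrrAbove_conj K hφ
    · intro φ hφ
      rw [Finset.mem_union, mem_indAbove, mem_indAbove] at hφ ⊢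
      exact hφ.imp (inducedIrrAbove_conj K) (inducedIrrAbove_conj K)
    · rw [coe_indAbove]; exact hA
    · intro S₁ hT hV hc
      obtain ⟨χ, hχV, hχ⟩ := Finset.exists_of_ssubset hV
      have hχB : χ ∈ inducedIrrAbove K B := by
        rw [Finset.mem_union] at hχV
        rcases hχV with h | h
        · exact absurd (hT h) hχ
        · exact (mem_indAbove K).1 h
      refine ⟨χ, hχV, hχ, χ₁, hT ((mem_indAbove K).2 hχ₁), ?_, ?_⟩
      all_goals
        obtain ⟨m, hm1, hm2⟩ := inducedIrrAbove_degree_bound K B C D hDC hCK hcent hχB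
        have e1 : d χ = K.index * m := by
          have := hd χ (hsubB hχB)
          rw [hm1] at this
          exact_mod_cast this.symm
        have e2 : d χ₁ = K.index := by
          have := hd χ₁ (hsubA hχ₁)
          rw [hχ₁d] at this
          exact_mod_cast this.symm
      · rw [e1, e2]; exact Dvd.intro _ rfl
      · have h1 : (2 * (K.index * m)) ^ 2 < (A.relIndex K - 1) ^ 2 := by
          calc (2 * (K.index * m)) ^ 2 = 4 * (K.index * m) ^ 2 := by ring
            _ ≤ 4 * (C.index ^ 2 * D.relIndex C) := Nat.mul_le_mul_left _ hm2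
            _ = 4 * C.index ^ 2 * D.relIndex C := by ring
            _ < _ := hlt
        have h2 : 2 * (K.index * m) < A.relIndex K - 1 := lt_of_pow_lt_pow_left₀ 2 (Nat.zero_le _) h1
        have hKpos : 0 < K.index := Nat.pos_of_ne_zero Subgroup.index_ne_zero_of_finite
        have h3 : (2 * (K.index * m) : ℝ) < (A.relIndex K : ℝ) - 1 := by
          have h4 : 2 * (K.index * m) + 1 < A.relIndex K := by omega
          have h5 : ((2 * (K.index * m) + 1 : ℕ) : ℝ) < (A.relIndex K : ℝ) := by exact_mod_cast h4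
          push_cast at h5
          linarith
        have h6 : ∑ φ ∈ indAbove K A, ((d φ : ℝ) ^ 2 / (n φ : ℝ))
            ≤ ∑ φ ∈ S₁, ((d φ : ℝ) ^ 2 / (n φ : ℝ)) := by
          apply Finset.sum_le_sum_of_subset_of_nonneg hT
          intro i _ _
          positivity
        refine lt_of_lt_of_le ?_ h6
        rw [hsum, e1, e2]
        have hKpos' : (0 : ℝ) < (K.index : ℝ) := by exact_mod_cast hKpos
        push_cast
        nlinarith
  refine coherent_mono ?_ hcohU (cs_exists_ne_zero hS hsubB
    (fun φ hφ => inducedIrrAbove_conj K hφ) ⟨χ₂, hχ₂⟩)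
  rw [Finset.coe_union, coe_indAbove, coe_indAbove]
  exact Set.subset_union_right

end Cfsg.Agent.S1519
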