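import Cfsg.Statements.S1520
-- import your own Cfsg.Agent.* helpers here
import Cfsg.Agent.Lib.Helper32.NilStep
import Cfsg.Agent.S1519

set_option autoImplicit false
open Cfsg

namespace Cfsg.Agent.S1520

open Cfsg.Agent.Lib.Helper32


/-- Let K be a solvable normal subgroup of the finite group L and (S, τ, R) a coherence system from L to G with S the functions induced from non-principal irreducible characters of K; S(A) the members of S induced from characters whose kernel contains A. Let M ≤ H₁ ≤ H ≤ K be normal subgroups of L such that every term of the lower central series of H eventually lies in M (H/M nilpotent), S(H₁) is coherent and [H:H₁] > 4 * [L:K]^2 + 1. Then S(M) is coherent. -/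
theorem result {L : Type*} [Group L] [Fintype L] {G : Type*} [Group G] [Fintype G] (K : Subgroup L) [hK : K.Normal] (hsolv : Group.IsSolvable K) (τ : (L → ℂ) → (G → ℂ)) (R : (L → ℂ) → Finset (G → ℂ)) (hS : Cfsg.IsCoherenceSystem (Cfsg.inducedIrrAbove K ⊥) τ R) (M H₁ H : Subgroup L) [M.Normal] [H₁.Normal] [H.Normal] (hMH₁ : M ≤ H₁) (hH₁H : H₁ ≤ H) (hHK : H ≤ K) [(M.subgroupOf H).Normal] (hnil : Group.IsNilpotent (↥H ⧸ M.subgroupOf H)) (hcoh : Cfsg.IsCoherent (Cfsg.inducedIrrAbove K H₁) {1}ᶜ τ) (hbig : 4 * K.index ^ 2 + 1 < H₁.relIndex H) : Cfsg.IsCoherent (Cfsg.inducedIrrAbove K M) {1}ᶜ τ := by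
  have main : ∀ c : ℕ, ∀ N : Subgroup L, N.Normal → M ≤ N → N ≤ H₁ → Nat.card N = c →
      Cfsg.IsCoherent (Cfsg.inducedIrrAbove K N) {1}ᶜ τ →
      Cfsg.IsCoherent (Cfsg.inducedIrrAbove K M) {1}ᶜ τ := by
    intro c
    induction c using Nat.strong_induction_on with
    | _ c ih =>
      intro N hN hMN hNH₁ hc hcohN
      by_cases hNM : N = M
      · rw [← hNM]; exact hcohN
      · have hle : ⁅N, H⁆ ⊔ M ≤ N := sup_le (Subgroup.commutator_le_left N H) hMN
        have hne : ⁅N, H⁆ ⊔ M ≠ N := fun h =>
          hNM (eq_of_commutator_sup_eq M N H hMN (hNH₁.trans hH₁H) hnil h)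
        have hlt : ⁅N, H⁆ ⊔ M < N := lt_of_le_of_ne hle hne
        have hcard : Nat.card (⁅N, H⁆ ⊔ M : Subgroup L) < c := by
          rw [← hc]
          have := Set.ncard_lt_ncard (s := ((⁅N, H⁆ ⊔ M : Subgroup L) : Set L)) (t := (N : Set L))
            (SetLike.coe_ssubset_coe.2 hlt) (Set.toFinite _)
          exact this
        have hH₁ltH : H₁ < H := by
          apply lt_of_le_of_ne hH₁H
          rintro rfl
          rw [Subgroup.relIndex_self] at hbig
          omega
        have hNK : N < K := lt_of_le_of_lt hNH₁ (lt_of_lt_of_le hH₁ltH hHK)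
        apply ih _ hcard (⁅N, H⁆ ⊔ M) inferInstance le_sup_right (hle.trans hNH₁) rfl
        apply Cfsg.Agent.S1519.result K hsolv τ R hS N (⁅N, H⁆ ⊔ M) H N hNK
          (lt_of_le_of_lt hle hNK) hle (hNH₁.trans hH₁H) hHK ?_ hcohN ?_
        · intro x hx y hy
          exact Subgroup.mem_sup_left (Subgroup.commutator_mem_commutator hx hy)
        · have e1 : H.index = H.relIndex K * K.index := (Subgroup.relIndex_mul_index hHK).symm
          have e2 : N.relIndex K = N.relIndex H * H.relIndex K :=
            (Subgroup.relIndex_mul_relIndex N H K (hNH₁.trans hH₁H) hHK).symm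
          have e3 : N.relIndex H = N.relIndex H₁ * H₁.relIndex H :=
            (Subgroup.relIndex_mul_relIndex N H₁ H hNH₁ hH₁H).symm
          have p1 : 0 < N.relIndex H₁ := Nat.pos_of_ne_zero Subgroup.index_ne_zero_of_finite
          have p2 : 0 < H.relIndex K := Nat.pos_of_ne_zero Subgroup.index_ne_zero_of_finite
          have hh : 4 * K.index ^ 2 + 2 ≤ N.relIndex H := by
            rw [e3]
            nlinarith
          rw [e1, e2]
          generalize N.relIndex H = h at hh
          generalize H.relIndex K = k at p2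
          generalize K.index = e at hh
          have hk1 : 1 ≤ h * k := by nlinarith
          zify [hk1]
          zify at hh p2
          nlinarith [mul_nonneg (mul_nonneg (mul_nonneg p2.le p2.le) (by linarith : (0:ℤ) ≤ h))
            (by linarith : (0:ℤ) ≤ (h:ℤ) - 2 - 4 * e ^ 2),
            mul_nonneg (mul_nonneg (by linarith : (0:ℤ) ≤ h) p2.le) (by linarith : (0:ℤ) ≤ (k:ℤ) - 1)]
  exact main _ H₁ inferInstance hMH₁ le_rfl rfl hcoh

end Cfsg.Agent.S1520
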