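import Cfsg.Statements.S1521
-- import your own Cfsg.Agent.* helpers here
import Cfsg.Agent.Lib.Helper32.CohExt2
import Cfsg.Agent.Lib.Helper32.FrobQuot
import Cfsg.Agent.S1520

set_option autoImplicit false
open Cfsg

namespace Cfsg.Agent.S1521

open Cfsg.Agent.Lib.Helper32


/-- Let K be a solvable normal subgroup of the finite group L of odd order and (S, τ, R) a coherence system from L to G with S the functions induced from non-principal irreducible characters of K; S(A) as before. Let M ≤ K be normal in L with K/M nilpotent, H₁ = [K, K] ⊔ M, H₁ < K < L, and suppose every element of K outside H₁ is centralised modulo H₁ only from inside K (L/H₁ is a Frobenius group with kernel K/H₁). Suppose one of the following: some normal subgroup of L lies strictly between H₁ and K; or [K:H₁] > 4[L:K]^2 + 1; or [K:M] is not a prime power; or [K,K] ≤ M; or [K:M] is a power of a prime p with [L:K] dividing p − 1. Then S(M) is coherent.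 -/
theorem result {L : Type*} [Group L] [Fintype L] {G : Type*} [Group G] [Fintype G] (K : Subgroup L) [hK : K.Normal] (hsolv : Group.IsSolvable K) (τ : (L → ℂ) → (G → ℂ)) (R : (L → ℂ) → Finset (G → ℂ)) (hS : Cfsg.IsCoherenceSystem (Cfsg.inducedIrrAbove K ⊥) τ R) (hodd : Odd (Nat.card L)) (M : Subgroup L) [M.Normal] (hMK : M ≤ K) [(M.subgroupOf K).Normal] (hnil : Group.IsNilpotent (↥K ⧸ M.subgroupOf K)) (H₁ : Subgroup L) (hH₁ : H₁ = ⁅K, K⁆ ⊔ M) (hH₁K : H₁ < K) (hKL : K < ⊤) (hfrob : ∀ k ∈ K, k ∉ H₁ → ∀ x : L, x * k * x⁻¹ * k⁻¹ ∈ H₁ → x ∈ K) (hgood : (∃ N : Subgroup L, N.Normal ∧ H₁ < N ∧ N < K) ∨ 4 * K.index ^ 2 + 1 < H₁.relIndex K ∨ (¬ ∃ p m : ℕ, p.Prime ∧ M.relIndex K = p ^ m) ∨ ⁅K, K⁆ ≤ M ∨ (∃ p m : ℕ, p.Prime ∧ M.relIndex K = p ^ m ∧ K.index ∣ p - 1)) : Cfsg.IsCoherent (Cfsg.inducedIrrAbove K M) {1}ᶜ τ := by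
  subst hH₁
  have hc : ⁅K, K⁆ ≤ ⁅K, K⁆ ⊔ M := le_sup_left
  have hcoh1 := coherent_above_derived K hsolv hS (⁅K, K⁆ ⊔ M) hc hH₁K
  have hoddDvd : ∀ a : ℕ, a ∣ Nat.card L → Odd a := fun a ha => Odd.of_dvd_nat hodd ha
  have he : Odd K.index := hoddDvd _ (Subgroup.index_dvd_card K)
  have hKpos : 0 < K.index := he.pos
  have hrel : ∀ A B : Subgroup L, Odd (A.relIndex B) := fun A B =>
    hoddDvd _ ((Subgroup.relIndex_dvd_card A B).trans (Subgroup.card_subgroup_dvd_card B))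
  have caseB : 4 * K.index ^ 2 + 1 < (⁅K, K⁆ ⊔ M).relIndex K →
      Cfsg.IsCoherent (Cfsg.inducedIrrAbove K M) {1}ᶜ τ := fun hbig =>
    Cfsg.Agent.S1520.result K hsolv τ R hS M (⁅K, K⁆ ⊔ M) K le_sup_right hH₁K.le le_rfl hnil
      hcoh1 hbig
  have caseD : ⁅K, K⁆ ≤ M → Cfsg.IsCoherent (Cfsg.inducedIrrAbove K M) {1}ᶜ τ := by
    intro h
    have : ⁅K, K⁆ ⊔ M = M := sup_eq_right.2 h
    rw [← this]
    exact hcoh1
  have caseA : (∃ N : Subgroup L, N.Normal ∧ ⁅K, K⁆ ⊔ M < N ∧ N < K) →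
      Cfsg.IsCoherent (Cfsg.inducedIrrAbove K M) {1}ᶜ τ := by
    rintro ⟨N, hN, h1, h2⟩
    apply caseB
    have d1 := frob_dvd_relIndex_sub_one K (⁅K, K⁆ ⊔ M) N hH₁K.le h2.le hfrob
    have d2 := frob_dvd_relIndex_sub_one K (⁅K, K⁆ ⊔ M) K hH₁K.le le_rfl hfrob
    have hab := Subgroup.relIndex_mul_relIndex (⁅K, K⁆ ⊔ M) N K h1.le h2.le
    have ha1 : (⁅K, K⁆ ⊔ M).relIndex N ≠ 1 := fun h =>
      absurd (Subgroup.relIndex_eq_one.1 h) (not_le_of_gt h1)
    have hb1 : N.relIndex K ≠ 1 := fun h =>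
      absurd (Subgroup.relIndex_eq_one.1 h) (not_le_of_gt h2)
    have ha0 : (⁅K, K⁆ ⊔ M).relIndex N ≠ 0 := Subgroup.index_ne_zero_of_finite
    have hb0 : N.relIndex K ≠ 0 := Subgroup.index_ne_zero_of_finite
    have hao := hrel (⁅K, K⁆ ⊔ M) N
    have hbo := hrel N K
    rw [← hab] at d2 ⊢
    generalize (⁅K, K⁆ ⊔ M).relIndex N = a at *
    generalize N.relIndex K = b at *
    have d3 : K.index ∣ b - 1 := by
      have e1 : a * b - 1 = (a - 1) * b + (b - 1) := by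
        obtain ⟨a', rfl⟩ : ∃ a', a = a' + 1 := ⟨a - 1, by omega⟩
        obtain ⟨b', rfl⟩ : ∃ b', b = b' + 1 := ⟨b - 1, by omega⟩
        simp only [Nat.add_sub_cancel]
        have : (a' + 1) * (b' + 1) = a' * (b' + 1) + b' + 1 := by ring
        omega
      rw [e1] at d2
      exact (Nat.dvd_add_right (Dvd.dvd.mul_right d1 b)).1 d2
    have ha2 := two_mul_add_one_le he hao (by omega) d1
    have hb2 := two_mul_add_one_le he hbo (by omega) d3
    have := Nat.mul_le_mul ha2 hb2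
    nlinarith
  haveI hn1 : ((⁅K, K⁆ ⊔ M).subgroupOf K).Normal := Subgroup.Normal.subgroupOf inferInstance K
  rcases hgood with h | h | h | h | h
  · exact caseA h
  · exact caseB h
  · apply caseA
    apply exists_normal_between K (⁅K, K⁆ ⊔ M) hc hH₁K.le
    rintro ⟨p, a, hp, hpa⟩
    obtain ⟨m, hm⟩ := relIndex_prime_pow_of_nilpotent K M hMK hnil hp hpa
    exact h ⟨p, m, hp, hm⟩
  · exact caseD h
  · obtain ⟨p, m, hp, hpm, hdvd⟩ := h
    have h1 : (⁅K, K⁆ ⊔ M).relIndex K ∣ p ^ m := by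
      rw [← hpm]
      exact Subgroup.relIndex_dvd_of_le_left K le_sup_right
    obtain ⟨j, _, hj⟩ := (Nat.dvd_prime_pow hp).1 h1
    have hj0 : j ≠ 0 := by
      rintro rfl
      rw [pow_zero] at hj
      exact absurd (Subgroup.relIndex_eq_one.1 hj) (not_le_of_gt hH₁K)
    by_cases hj1 : j = 1
    · apply caseD
      rw [hj1, pow_one] at hj
      exact commutator_le_of_relIndex_prime K M hMK hnil hp hj
    · apply caseB
      have hpo : Odd p := by
        have := hrel (⁅K, K⁆ ⊔ M) K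
        rw [hj] at this
        exact Odd.of_dvd_nat this (dvd_pow_self p hj0)
      have hp2 := two_mul_add_one_le he hpo hp.one_lt hdvd
      rw [hj]
      have h2 : p ^ 2 ≤ p ^ j := Nat.pow_le_pow_right hp.pos (by omega)
      nlinarith

end Cfsg.Agent.S1521
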