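import Cfsg.Statements.S1522
-- import your own Cfsg.Agent.* helpers here
import Cfsg.Agent.Lib.Helper32.Coh66
import Cfsg.Agent.Lib.Helper32.CohExt2
import Cfsg.Agent.Lib.Helper32.FrobQuot
import Cfsg.Agent.S1521

set_option autoImplicit false
open Cfsg

namespace Cfsg.Agent.S1522

open Cfsg.Agent.Lib.Helper32 Cfsg.Agent.Lib

theorem set_eq {L : Type*} [Group L] [Fintype L] (K : Subgroup L) [hK : K.Normal]
    (Z : Subgroup L) [Z.Normal] (hZK : Z ≤ K)
    (hirr : ∀ χ ∈ Cfsg.inducedIrrAbove K ⊥ \ Cfsg.inducedIrrAbove K Z, Cfsg.IsIrrCharacter L χ) :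
    Cfsg.inducedIrrAbove K ⊥ \ Cfsg.inducedIrrAbove K Z
      = {χ | Cfsg.IsIrrCharacter L χ ∧ ∃ z ∈ Z, χ z ≠ χ 1} := by
  classical
  haveI := Fintype.ofFinite K
  haveI := Helper20.finite_irrCharacter (G := K)
  haveI := Fintype.ofFinite (IrrCharacter K)
  ext χ
  constructor
  · intro hχ
    refine ⟨hirr χ hχ, ?_⟩
    by_contra hcon
    push Not at hcon
    obtain ⟨θ, h0, h1, h2, rfl⟩ := id hχ.1
    apply hχ.2
    refine ⟨θ, h0, h1, ?_, rfl⟩
    intro a ha
    have hφc : IsCharacter L (indFun K θ) :=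
      Helper19.isCharacter_indFun K θ (Helper83.IsIrr.isChar h0)
    have hres : IsCharacter K (fun k : K => indFun K θ k) := Helper20.isCharacter_restrict hφc K
    exact ker_of_constituent hres h0 (indFun_res_inner_ne_zero K h0) (hcon a ha)
  · rintro ⟨hχ, z, hz, hne⟩
    have hχc := Helper83.IsIrr.isChar hχ
    have hres : IsCharacter K (fun k : K => χ k) := Helper20.isCharacter_restrict hχc K
    have hexp := Helper20.eq_sum_classInner_smul (Helper20.isClassFunction_of_isCharacter hres)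
    obtain ⟨θ, hθ1, hθ2⟩ : ∃ θ : IrrCharacter K, classInner (fun k : K => χ k) (θ : K → ℂ) ≠ 0 ∧
        (θ : K → ℂ) ⟨z, hZK hz⟩ ≠ (θ : K → ℂ) 1 := by
      by_contra hcon
      push Not at hcon
      apply hne
      have e1 := congrFun hexp ⟨z, hZK hz⟩
      have e2 := congrFun hexp 1
      simp only [Finset.sum_apply, Pi.smul_apply, smul_eq_mul, OneMemClass.coe_one] at e1 e2
      rw [e1, e2]
      apply Finset.sum_congr rfl
      intro θ _
      by_cases h : classInner (fun k : K => χ k) (θ : K → ℂ) = 0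
      · rw [h, zero_mul, zero_mul]
      · rw [hcon θ h]
    have hθne : (θ : K → ℂ) ≠ fun _ => 1 := by
      intro h
      apply hθ2
      rw [h]
    have hmem : indFun K (θ : K → ℂ) ∈ Cfsg.inducedIrrAbove K ⊥ \ Cfsg.inducedIrrAbove K Z := by
      refine ⟨⟨θ, θ.2, hθne, ?_, rfl⟩, ?_⟩
      · intro a ha
        rw [Subgroup.mem_bot] at ha
        have : a = 1 := Subtype.ext ha
        rw [this]
      · intro h
        exact hθ2 (ker_of_indFun_mem K θ.2 h ⟨z, hZK hz⟩ hz)
    have hirrθ := hirr _ hmem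
    have heq : indFun K (θ : K → ℂ) = χ := by
      by_contra hne'
      have h1 := Helper20.classInner_irr_ne hirrθ hχ hne'
      rw [Helper19.frobenius_reciprocity K (θ : K → ℂ) χ
        (Helper20.isClassFunction_of_isCharacter hχc),
        genChar_inner_comm (genChar_of_irr θ.2) (genChar_of_char hres)] at h1
      exact hθ1 h1
    rw [← heq]
    exact hmem

theorem exists_not_above {L : Type*} [Group L] [Fintype L] (K : Subgroup L) [hK : K.Normal]
    (Z : Subgroup L) [Z.Normal] (hZK : Z ≤ K) (hZ1 : Z ≠ ⊥) :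
    (Cfsg.inducedIrrAbove K ⊥ \ Cfsg.inducedIrrAbove K Z).Nonempty := by
  classical
  by_contra hcon
  rw [Set.not_nonempty_iff_eq_empty, Set.sdiff_eq_empty] at hcon
  have h1 : irrAbove K ⊥ = irrAbove K Z := by
    apply Finset.Subset.antisymm _ (irrAbove_mono K bot_le)
    intro θ hθ
    rw [← indFun_mem_indAbove_iff K hθ, mem_indAbove]
    apply hcon
    rw [← mem_indAbove, indFun_mem_indAbove_iff K hθ]
    exact hθ
  have s1 := sum_irrAbove_charDegree K ⊥
  have s2 := sum_irrAbove_charDegree K Z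
  rw [Subgroup.relIndex_bot_left, h1, s2] at s1
  have s3 := (Z.subgroupOf K).card_mul_index
  rw [Nat.card_congr (Subgroup.subgroupOfEquivOfLe hZK).toEquiv] at s3
  have s4 : (Z.subgroupOf K).index = Nat.card K := s1
  rw [s4] at s3
  have hKpos : 0 < Nat.card K := Nat.card_pos
  have s5 : Nat.card Z = 1 := by nlinarith
  exact hZ1 (Subgroup.card_eq_one.1 s5)


/-- Let K be a nilpotent normal subgroup of the finite group L of odd order with [K,K] < K < L and L/[K,K] a Frobenius group with kernel K/[K,K] (elements of K outside [K,K] are centralised modulo [K,K] only from inside K); let (S, τ, R) be a coherence system from L to G with S the functions induced from non-principal irreducible characters of K. Let Z be a nontrivial normal subgroup of L contained in the centre of K, and suppose every member of S outside S(Z) is an irreducible character of L. Then S minus S(Z) is the set of irreducible characters χ of L with χ z ≠ χ 1 for some z ∈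 Z, and it is coherent. -/
theorem result {L : Type*} [Group L] [Fintype L] {G : Type*} [Group G] [Fintype G] (K : Subgroup L) [hK : K.Normal] (hsolv : Group.IsSolvable K) (τ : (L → ℂ) → (G → ℂ)) (R : (L → ℂ) → Finset (G → ℂ)) (hS : Cfsg.IsCoherenceSystem (Cfsg.inducedIrrAbove K ⊥) τ R) (hodd : Odd (Nat.card L)) (hnil : Group.IsNilpotent K) (hH₁K : ⁅K, K⁆ < K) (hKL : K < ⊤) (hfrob : ∀ k ∈ K, k ∉ ⁅K, K⁆ → ∀ x : L, x * k * x⁻¹ * k⁻¹ ∈ ⁅K, K⁆ → x ∈ K) (Z : Subgroup L) [Z.Normal] (hZ1 : Z ≠ ⊥) (hZK : Z ≤ K) (hZc : ∀ z ∈ Z, ∀ k ∈ K, z * k = k * z) (hirr : ∀ χ ∈ Cfsg.inducedIrrAbove K ⊥ \ Cfsg.inducedIrrAbove K Z, Cfsg.IsIrrCharacter L χ) : Cfsg.inducedIrrAbove K ⊥ \ Cfsg.inducedIrrAbove K Z = {χ | Cfsg.IsIrrCharacter L χ ∧ ∃ z ∈ Z, χ z ≠ χ 1} ∧ Cfsg.IsCoherent (Cfsg.inducedIrrAbove K ⊥ \ Cfsg.inducedIrrAbove K Z) {1}ᶜ τ := by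
  classical
  refine ⟨set_eq K Z hZK hirr, ?_⟩
  have hXsub : Cfsg.inducedIrrAbove K ⊥ \ Cfsg.inducedIrrAbove K Z ⊆ Cfsg.inducedIrrAbove K ⊥ :=
    Set.sdiff_subset
  have hXc : ∀ φ ∈ Cfsg.inducedIrrAbove K ⊥ \ Cfsg.inducedIrrAbove K Z,
      Cfsg.conjFun φ ∈ Cfsg.inducedIrrAbove K ⊥ \ Cfsg.inducedIrrAbove K Z := by
    intro φ hφ
    refine ⟨inducedIrrAbove_conj K hφ.1, fun h => hφ.2 ?_⟩
    have := inducedIrrAbove_conj K h
    rwa [conjFun_conjFun] at this
  have hXne := exists_not_above K Z hZK hZ1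
  by_cases hpp : ∃ p n : ℕ, p.Prime ∧ Nat.card K = p ^ n
  swap
  · have hall : Cfsg.IsCoherent (Cfsg.inducedIrrAbove K ⊥) {1}ᶜ τ := by
      haveI : ((⊥ : Subgroup L).subgroupOf K).Normal := Subgroup.Normal.subgroupOf inferInstance K
      apply Cfsg.Agent.S1521.result K hsolv τ R hS hodd ⊥ bot_le inferInstance ⁅K, K⁆
        (sup_bot_eq _).symm hH₁K hKL hfrob
      right; right; left
      rw [Subgroup.relIndex_bot_left]
      exact hpp
    exact coherent_mono hXsub hall (cs_exists_ne_zero hS hXsub hXc hXne)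
  obtain ⟨p, n, hp, hcard⟩ := hpp
  have he : Odd K.index := Odd.of_dvd_nat hodd (Subgroup.index_dvd_card K)
  have hKpos : 0 < K.index := he.pos
  obtain ⟨j, hj0, hj⟩ : ∃ j, j ≠ 0 ∧ (⁅K, K⁆).relIndex K = p ^ j := by
    have h1 : (⁅K, K⁆).relIndex K ∣ p ^ n := hcard ▸ Subgroup.relIndex_dvd_card _ _
    obtain ⟨j, _, hj⟩ := (Nat.dvd_prime_pow hp).1 h1
    refine ⟨j, ?_, hj⟩
    rintro rfl
    rw [pow_zero] at hj
    exact absurd (Subgroup.relIndex_eq_one.1 hj) (not_le_of_gt hH₁K)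
  have hpo : Odd p := by
    apply Odd.of_dvd_nat hodd
    refine (dvd_pow_self p hj0).trans ?_
    rw [← hj]
    exact (Subgroup.relIndex_dvd_card _ _).trans (Subgroup.card_subgroup_dvd_card K)
  have hp3 : 3 ≤ p := by
    have h2 := hp.two_le
    rcases Nat.lt_or_ge 2 p with h | h
    · exact h
    · have : p = 2 := le_antisymm h h2
      rw [this] at hpo
      exact absurd hpo (by decide)
  have hcop : Nat.Coprime K.index p := by
    have d := frob_dvd_relIndex_sub_one K ⁅K, K⁆ K hH₁K.le le_rfl hfrob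
    rw [hj] at d
    rw [Nat.coprime_comm, Nat.Prime.coprime_iff_not_dvd hp]
    intro hpe
    have h1 : p ∣ p ^ j - 1 := hpe.trans d
    have h2 : p ∣ p ^ j := dvd_pow_self p hj0
    have h3 : p ∣ p ^ j - (p ^ j - 1) := Nat.dvd_sub h2 h1
    have h4 : p ^ j - (p ^ j - 1) = 1 := by
      have : 0 < p ^ j := pow_pos hp.pos j
      omega
    rw [h4] at h3
    exact hp.one_lt.ne' (Nat.dvd_one.1 h3)
  obtain ⟨_, n', _, hn', _, _⟩ := cs_exists_dn hS
  have hd : ∀ φ ∈ Cfsg.inducedIrrAbove K ⊥, φ 1 = (charDegree φ : ℂ) := fun φ hφ =>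
    Helper82.isChar_one_eq (hS.isCharacter φ hφ)
  have hVcoe : (↑(indAbove K ⊥ \ indAbove K Z) : Set (L → ℂ))
      = Cfsg.inducedIrrAbove K ⊥ \ Cfsg.inducedIrrAbove K Z := by
    rw [Finset.coe_sdiff, coe_indAbove, coe_indAbove]
  generalize hV : indAbove K ⊥ \ indAbove K Z = V at hVcoe
  have hmemV : ∀ φ, φ ∈ V ↔ φ ∈ Cfsg.inducedIrrAbove K ⊥ \ Cfsg.inducedIrrAbove K Z := fun φ => by
    rw [← hVcoe, Finset.mem_coe]
  have hVne : V.Nonempty := by
    obtain ⟨x, hx⟩ := hXne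
    exact ⟨x, (hmemV x).2 hx⟩
  obtain ⟨χ₁, hχ₁V, hχ₁min⟩ := Finset.exists_min_image V charDegree hVne
  have hconjdeg : ∀ φ ∈ V, charDegree (conjFun φ) = charDegree φ := by
    intro φ hφ
    unfold charDegree
    rw [cs_conj_one hS (hXsub ((hmemV φ).1 hφ))]
  have hVS : (↑V : Set (L → ℂ)) ⊆ Cfsg.inducedIrrAbove K ⊥ := by rw [hVcoe]; exact hXsub
  have hVc : ∀ φ ∈ V, conjFun φ ∈ V := fun φ hφ => (hmemV _).2 (hXc φ ((hmemV φ).1 hφ))
  have hTc : ∀ φ ∈ V.filter (fun φ => charDegree φ = charDegree χ₁),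
      conjFun φ ∈ V.filter (fun φ => charDegree φ = charDegree χ₁) := by
    intro φ hφ
    rw [Finset.mem_filter] at hφ ⊢
    exact ⟨hVc φ hφ.1, by rw [hconjdeg φ hφ.1]; exact hφ.2⟩
  have hdegpow : ∀ φ ∈ V, ∃ b : ℕ, charDegree φ = K.index * p ^ b := by
    intro φ hφ
    obtain ⟨θ, g0, _, _, rfl⟩ := ((hmemV φ).1 hφ).1
    have := Helper82.isIrr_charDegree_dvd_card g0
    rw [hcard] at this
    obtain ⟨b, _, hb⟩ := (Nat.dvd_prime_pow hp).1 this
    exact ⟨b, by rw [Helper82.charDegree_indFun K (Helper83.IsIrr.isChar g0), hb]⟩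
  rw [← hVcoe]
  apply coherent_extend_gen hS charDegree n' hd hn' (V.filter (fun φ => charDegree φ = charDegree χ₁))
    V (Finset.filter_subset _ _) hVS hTc hVc
  · apply Cfsg.Agent.S1517.result _ τ R (cs_restrict hS
      (fun φ hφ => hVS (Finset.mem_coe.2 (Finset.mem_filter.1 (Finset.mem_coe.1 hφ)).1))
      (fun φ hφ => Finset.mem_coe.2 (hTc φ (Finset.mem_coe.1 hφ)))
      ⟨χ₁, Finset.mem_coe.2 (Finset.mem_filter.2 ⟨hχ₁V, rfl⟩)⟩)
    intro φ hφ ψ hψ
    rw [Finset.mem_coe, Finset.mem_filter] at hφ hψ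
    rw [hd φ (hVS hφ.1), hd ψ (hVS hψ.1), hφ.2, hψ.2]
  · intro S₁ hT hS₁V hc
    have hne : (V \ S₁).Nonempty := by
      obtain ⟨x, hx, hx'⟩ := Finset.exists_of_ssubset hS₁V
      exact ⟨x, Finset.mem_sdiff.2 ⟨hx, hx'⟩⟩
    obtain ⟨χ, hχ, hχmin⟩ := Finset.exists_min_image (V \ S₁) charDegree hne
    rw [Finset.mem_sdiff] at hχ
    obtain ⟨a, ha⟩ := hdegpow χ hχ.1
    obtain ⟨a₁, ha₁⟩ := hdegpow χ₁ hχ₁V
    have hlt : charDegree χ₁ < charDegree χ := by
      apply lt_of_le_of_ne (hχ₁min χ hχ.1)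
      intro h
      exact hχ.2 (hT (Finset.mem_filter.2 ⟨hχ.1, h.symm⟩))
    have haa : a₁ < a := by
      rw [ha, ha₁] at hlt
      exact (Nat.pow_lt_pow_iff_right hp.one_lt).1 (Nat.lt_of_mul_lt_mul_left hlt)
    refine ⟨χ, hχ.1, hχ.2, χ₁, hT (Finset.mem_filter.2 ⟨hχ₁V, rfl⟩), ?_, ?_⟩
    · rw [ha, ha₁]
      exact Nat.mul_dvd_mul_left _ (pow_dvd_pow p haa.le)
    · have hkey := key_dvd K Z hZK hZc hS.orthogonal hirr hp hcard hcop ((hmemV χ).1 hχ.1)
      rw [hV] at hkey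
      have hpos : 0 < ∑ φ ∈ V.filter (fun φ => charDegree φ < charDegree χ), charDegree φ ^ 2 := by
        apply Finset.sum_pos'
        · intro i _; positivity
        · refine ⟨χ₁, Finset.mem_filter.2 ⟨hχ₁V, hlt⟩, ?_⟩
          rw [ha₁]
          have := pow_pos hp.pos a₁
          positivity
      have hle := Nat.le_of_dvd hpos hkey
      have hsub : V.filter (fun φ => charDegree φ < charDegree χ) ⊆ S₁ := by
        intro φ hφ
        rw [Finset.mem_filter] at hφ
        by_contra hφS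
        have := hχmin φ (Finset.mem_sdiff.2 ⟨hφ.1, hφS⟩)
        omega
      have h1 : ∑ φ ∈ V.filter (fun φ => charDegree φ < charDegree χ),
          ((charDegree φ : ℝ) ^ 2 / (n' φ : ℝ)) ≤ ∑ φ ∈ S₁, ((charDegree φ : ℝ) ^ 2 / (n' φ : ℝ)) := by
        apply Finset.sum_le_sum_of_subset_of_nonneg hsub
        intro i _ _
        positivity
      have h2 : ∑ φ ∈ V.filter (fun φ => charDegree φ < charDegree χ),
          ((charDegree φ : ℝ) ^ 2 / (n' φ : ℝ))
          = ((∑ φ ∈ V.filter (fun φ => charDegree φ < charDegree χ), charDegree φ ^ 2 : ℕ) : ℝ) := by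
        push_cast
        apply Finset.sum_congr rfl
        intro φ hφ
        rw [Finset.mem_filter] at hφ
        have g1 := hn' φ (hVS hφ.1)
        rw [Helper20.classInner_irr_self (hirr φ ((hmemV φ).1 hφ.1))] at g1
        have g2 : n' φ = 1 := by exact_mod_cast g1.symm
        rw [g2]
        simp
      refine lt_of_lt_of_le ?_ h1
      rw [h2]
      have h3 : 2 * charDegree χ * charDegree χ₁ < charDegree χ ^ 2 := by
        have h4 : 2 * charDegree χ₁ < charDegree χ := by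
          rw [ha, ha₁]
          have h5 : p ^ (a₁ + 1) ≤ p ^ a := Nat.pow_le_pow_right hp.pos haa
          have h6 : 0 < p ^ a₁ := pow_pos hp.pos a₁
          rw [pow_succ] at h5
          nlinarith
        have h7 : 0 < charDegree χ := by omega
        nlinarith
      have h8 : 2 * charDegree χ * charDegree χ₁
          < ∑ φ ∈ V.filter (fun φ => charDegree φ < charDegree χ), charDegree φ ^ 2 :=
        lt_of_lt_of_le h3 hle
      exact_mod_cast h8

end Cfsg.Agent.S1522
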