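import Cfsg.Statements.S0149
import Cfsg.Agent.Lib.Helper19.IndFun

set_option autoImplicit false
open Cfsg

namespace Cfsg.Agent.S0149

/-- Let T be a subset of G meeting each of its conjugates by elements outside its normalizer N only in the identity, and let ψ be a class function of N vanishing on N away from T. Then the function induced from ψ agrees with ψ at every non-identity element of T. -/
theorem result {G : Type*} [Group G] [Fintype G] (T : Set G) (hTI : ∀ g : G, g ∉ Subgroup.normalizer T → ∀ t ∈ T, g * t * g⁻¹ ∈ T → t = 1) (hTN : T ⊆ Subgroup.normalizer T) (ψ : Subgroup.normalizer T → ℂ) (hψ : Cfsg.IsClassFunction (Subgroup.normalizer T) ψ) (hψT : ∀ x : Subgroup.normalizer T, (x : G) ∉ T → ψ x = 0) (t : Subgroup.normalizer T) (htT : (t : G) ∈ T) (ht1 : t ≠ 1) : Cfsg.indFun (Subgroup.normalizer T) ψ t = ψ t := by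
  classical
  rw [Cfsg.Agent.Lib.Helper19.indFun_apply]
  have h1 : ∀ x : G, Cfsg.extendByZero (Subgroup.normalizer T) ψ (x⁻¹ * (t : G) * x) =
      if x ∈ Subgroup.normalizer T then ψ t else 0 := by
    intro x
    split_ifs with hx
    · have hmem : x⁻¹ * (t : G) * x ∈ Subgroup.normalizer T :=
        mul_mem (mul_mem (inv_mem hx) t.2) hx
      rw [Cfsg.Agent.Lib.Helper19.extendByZero_of_mem _ _ hmem]
      have := hψ t (⟨x, hx⟩⁻¹ : Subgroup.normalizer T)
      rw [← this]
      congr 1
      apply Subtype.ext
      simp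
    · by_cases hmem : x⁻¹ * (t : G) * x ∈ Subgroup.normalizer T
      · rw [Cfsg.Agent.Lib.Helper19.extendByZero_of_mem _ _ hmem]
        apply hψT
        intro hT
        have hx' : x⁻¹ ∉ Subgroup.normalizer T := fun h => hx (by simpa using inv_mem h)
        have := hTI x⁻¹ hx' (t : G) htT (by simpa using hT)
        exact ht1 (Subtype.ext this)
      · exact Cfsg.Agent.Lib.Helper19.extendByZero_of_not_mem _ _ hmem
  simp only [h1]
  rw [← Finset.sum_filter, Finset.sum_const, nsmul_eq_mul, ← mul_assoc]
  have h2 : ((Finset.univ.filter fun x : G => x ∈ Subgroup.normalizer T).card : ℂ) =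
      (Nat.card (Subgroup.normalizer T) : ℂ) := by
    rw [Nat.card_eq_fintype_card, Fintype.card_subtype]
  rw [h2, inv_mul_cancel₀ (Cfsg.Agent.Lib.Helper19.card_ne_zero_complex _), one_mul]

end Cfsg.Agent.S0149
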