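import Cfsg.Statements.S1386
import Mathlib

set_option autoImplicit false
open Cfsg
open scoped Pointwise

namespace Cfsg.Agent.S1386

theorem coprime_of_cyclic_sup {G : Type*} [Group G] [Finite G] (A B : Subgroup G)
    (hAB : A ⊓ B = ⊥) (hcomm : ∀ a ∈ A, ∀ b ∈ B, a * b = b * a) (hc : IsCyclic ↥(A ⊔ B)) :
    (Nat.card A).Coprime (Nat.card B) := by
  let f : A × B →* G := MonoidHom.noncommCoprod A.subtype B.subtype
    (fun a b => hcomm a a.2 b b.2)
  have hf : ∀ x, f x ∈ A ⊔ B := fun x =>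
    mul_mem (Subgroup.mem_sup_left x.1.2) (Subgroup.mem_sup_right x.2.2)
  let f' : A × B →* ↥(A ⊔ B) := f.codRestrict _ hf
  have hinj : Function.Injective f' := by
    rw [injective_iff_map_eq_one]
    rintro ⟨a, b⟩ h
    have h1 : (a : G) * b = 1 := congrArg Subtype.val h
    have ha : (a : G) ∈ A ⊓ B := by
      refine Subgroup.mem_inf.mpr ⟨a.2, ?_⟩
      rw [eq_inv_of_mul_eq_one_left h1]
      exact inv_mem b.2
    rw [hAB, Subgroup.mem_bot] at ha
    have hb : (b : G) = 1 := by simpa [ha] using h1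
    ext <;> simp [ha, hb]
  have : IsCyclic (A × B) := isCyclic_of_injective f' hinj
  exact coprime_card_of_isCyclic_prod A B

/-- Let G be a finite group, W₁, W₂ subgroups forming a self-normalizing cyclic pair, S a subgroup with W₂ ≤ S and W₁ a complement to S' in S, and (W₁, U, W₂') type-P data for S. Then W₂' = W₂ (that is, C_{S'}(W₁) = W₂). -/
theorem result {G : Type*} [Group G] [Finite G] (W₁ W₂ S U W₂' : Subgroup G) (hW : Cfsg.IsSelfNormalizingCyclic W₁ W₂)
    (hSW : Cfsg.IsComplIn ⁅S, S⁆ W₁ S) (hW₂S : W₂ ≤ S) (hP : Cfsg.IsTypePWith S W₁ U W₂') :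
    W₂' = W₂ := by
  obtain ⟨hW1ne, hW2ne, hinf, hcomm, hcyc, hnorm⟩ := hW
  obtain ⟨hS'S, hW1S, hS'W1, hprod⟩ := hSW
  have hcop : (Nat.card W₁).Coprime (Nat.card W₂) := coprime_of_cyclic_sup W₁ W₂ hinf hcomm hcyc
  have hconj : ∀ s ∈ S, ∀ a ∈ ⁅S, S⁆, s * a * s⁻¹ ∈ ⁅S, S⁆ := by
    intro s hs a ha
    exact (Subgroup.mem_normalizer_iff.mp (Subgroup.normalizer_commutator_ge_left S S hs) a).mp ha
  have hpow : ∀ a ∈ ⁅S, S⁆, ∀ b ∈ W₁, ∀ k : ℕ, ∃ a' ∈ ⁅S, S⁆, (a * b) ^ k = a' * b ^ k := by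
    intro a ha b hb k
    induction k with
    | zero => exact ⟨1, one_mem _, by simp⟩
    | succ k ih =>
      obtain ⟨a', ha', h⟩ := ih
      refine ⟨a' * (b ^ k * a * (b ^ k)⁻¹), mul_mem ha' (hconj _ (hW1S (pow_mem hb k)) a ha), ?_⟩
      rw [pow_succ, h, pow_succ]
      group
  have hpowcard : ∀ (H : Subgroup G), ∀ h ∈ H, h ^ (Nat.card H) = 1 := by
    intro H h hh
    have := pow_card_eq_one' (G := H) (x := ⟨h, hh⟩)
    exact congrArg Subtype.val this
  have hW2S' : W₂ ≤ ⁅S, S⁆ := by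
    intro w hw
    obtain ⟨a, ha, b, hb, rfl⟩ := hprod w (hW₂S hw)
    obtain ⟨a', ha', h⟩ := hpow a ha b hb (Nat.card W₂)
    have h1 : (a * b) ^ (Nat.card W₂) = 1 := hpowcard _ _ hw
    have h2 : b ^ (Nat.card W₂) ∈ ⁅S, S⁆ ⊓ W₁ := by
      refine Subgroup.mem_inf.mpr ⟨?_, pow_mem hb _⟩
      have : b ^ (Nat.card W₂) = a'⁻¹ := by
        rw [h1] at h
        exact (inv_eq_of_mul_eq_one_right h.symm).symm
      rw [this]; exact inv_mem ha'
    rw [hS'W1, Subgroup.mem_bot] at h2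
    have h3 : b ^ (Nat.card W₁) = 1 := hpowcard _ _ hb
    have h4 : b = 1 := by
      have := pow_gcd_eq_one.mpr ⟨h3, h2⟩
      rwa [Nat.Coprime.gcd_eq_one hcop, pow_one] at this
    simpa [h4] using ha
  obtain ⟨x, hx, hx1⟩ : ∃ x ∈ W₁, x ≠ 1 := by
    by_contra hcon
    push Not at hcon
    exact hW1ne ((Subgroup.eq_bot_iff_forall _).mpr hcon)
  obtain ⟨y, hy, hy1⟩ : ∃ y ∈ W₂, y ≠ 1 := by
    by_contra hcon
    push Not at hcon
    exact hW2ne ((Subgroup.eq_bot_iff_forall _).mpr hcon)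
  have hle : W₂ ≤ W₂' := by
    rw [← hP.W₂_centralizer x hx hx1]
    refine le_inf hW2S' ?_
    intro w hw
    rw [Subgroup.mem_centralizer_iff]
    intro z hz
    rw [Set.mem_singleton_iff] at hz
    subst hz
    exact hcomm z hx w hw
  refine le_antisymm ?_ hle
  obtain ⟨-, -, hinf', hcomm', hcyc', -⟩ := hP.selfNormalizing
  have hW2'comm : ∀ u ∈ W₂', ∀ v ∈ W₂', u * v = v * u := by
    intro u hu v hv
    have := (IsCyclic.commGroup (α := ↥(W₁ ⊔ W₂'))).mul_comm ⟨u, Subgroup.mem_sup_right hu⟩ ⟨v, Subgroup.mem_sup_right hv⟩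
    exact congrArg Subtype.val this
  have hxy : Subgroup.normalizer ({x * y} : Set G) = W₁ ⊔ W₂ := by
    apply hnorm
    · rw [Set.singleton_subset_iff]
      refine ⟨mul_mem (Subgroup.mem_sup_left hx) (Subgroup.mem_sup_right hy), ?_⟩
      rintro (h | h)
      · apply hy1
        have : y ∈ W₁ ⊓ W₂ := Subgroup.mem_inf.mpr ⟨by simpa using mul_mem (inv_mem hx) h, hy⟩
        rwa [hinf, Subgroup.mem_bot] at this
      · apply hx1
        have : x ∈ W₁ ⊓ W₂ := Subgroup.mem_inf.mpr ⟨hx, by simpa using mul_mem h (inv_mem hy)⟩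
        rwa [hinf, Subgroup.mem_bot] at this
    · exact Set.singleton_nonempty _
  intro w hw
  have hwS' : w ∈ ⁅S, S⁆ := by
    have := hP.W₂_centralizer x hx hx1
    rw [← this] at hw
    exact hw.1
  have hw1 : w ∈ W₁ ⊔ W₂ := by
    rw [← hxy, Subgroup.mem_set_normalizer_iff]
    have hc : w * (x * y) * w⁻¹ = x * y := by
      have e1 : x * w = w * x := hcomm' x hx w hw
      have e2 : w * y = y * w := hW2'comm w hw y (hle hy)
      calc w * (x * y) * w⁻¹ = (w * x) * y * w⁻¹ := by group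
        _ = (x * w) * y * w⁻¹ := by rw [e1]
        _ = x * (w * y) * w⁻¹ := by group
        _ = x * (y * w) * w⁻¹ := by rw [e2]
        _ = x * y := by group
    intro n
    simp only [Set.mem_singleton_iff]
    constructor
    · rintro rfl; exact hc
    · intro h
      have : w * n * w⁻¹ = w * (x * y) * w⁻¹ := by rw [h, hc]
      simpa using this
  have hcoe : ((W₁ ⊔ W₂ : Subgroup G) : Set G) = (W₁ : Set G) * (W₂ : Set G) := by
    apply Subgroup.coe_mul_of_left_le_normalizer_right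
    intro a ha
    rw [Subgroup.mem_normalizer_iff]
    intro b
    constructor
    · intro hb; rw [hcomm a ha b hb]; simpa using hb
    · intro hb
      have h2 := hcomm a⁻¹ (inv_mem ha) _ hb
      have : b = a⁻¹ * (a * b * a⁻¹) * a := by group
      rw [this, h2]; simpa using hb
  have hw2 : w ∈ ((W₁ ⊔ W₂ : Subgroup G) : Set G) := hw1
  rw [hcoe] at hw2
  obtain ⟨a, ha, b, hb, rfl⟩ := hw2
  have ha1 : a ∈ ⁅S, S⁆ ⊓ W₁ := by
    refine Subgroup.mem_inf.mpr ⟨?_, ha⟩
    have := mul_mem hwS' (inv_mem (hW2S' hb))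
    simpa using this
  rw [hS'W1, Subgroup.mem_bot] at ha1
  simpa [ha1] using hb

end Cfsg.Agent.S1386
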