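import Cfsg.Statements.S1523
-- import your own Cfsg.Agent.* helpers here
import Cfsg.Agent.Lib.Helper32.FreeSum
import Cfsg.Agent.Lib.Helper32.GenChar
import Cfsg.Agent.Lib.Helper82.ClassSum
import Cfsg.Agent.Lib.Helper79.GaloisRat
import Cfsg.Agent.Lib.Helper4.CharIntegral

set_option autoImplicit false
open Cfsg

namespace Cfsg.Agent.S1523

theorem int_of_char {G : Type*} [Group G] [Finite G] {η : G → ℂ} (hη : Cfsg.IsCharacter G η)
    (g : G) (h : ∀ j : ℕ, j.Coprime (orderOf g) → η (g ^ j) = η g) : ∃ n : ℤ, η g = n := by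
  haveI : NeZero (orderOf g) := ⟨(orderOf_pos g).ne'⟩
  obtain ⟨q, hq⟩ := Cfsg.Agent.Lib.Helper79.IsCharacter.exists_rat_of_pow_eq hη (orderOf g) g
    (pow_orderOf_eq_one g) h
  have hi := Cfsg.Agent.Lib.Helper20.isCharacter_isIntegral hη g
  rw [hq] at hi
  obtain ⟨z, hz⟩ := Cfsg.Agent.Lib.Helper4.exists_int_of_isIntegral_rat hi
  exact ⟨z, by rw [hq, hz]; simp⟩

theorem int_dvd_of_isIntegral {a : ℤ} {b : ℕ} {A : ℂ} (hA : IsIntegral ℤ A)
    (h : (a : ℂ) = b * A) (hb : b ≠ 0) : (b : ℤ) ∣ a := by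
  have hb0 : (b : ℂ) ≠ 0 := by exact_mod_cast hb
  have h2 : A = (((a : ℚ) / (b : ℚ) : ℚ) : ℂ) := by
    push_cast
    rw [h]
    field_simp
  rw [h2] at hA
  obtain ⟨y, hy⟩ := Cfsg.Agent.Lib.Helper4.exists_int_of_isIntegral_rat hA
  refine ⟨y, ?_⟩
  have hbQ : (b : ℚ) ≠ 0 := by exact_mod_cast hb
  have h4 : (a : ℚ) = (b : ℚ) * (y : ℚ) := by
    rw [← hy]; field_simp
  exact_mod_cast h4

theorem eq_one_of_conj_inv {G : Type*} [Group G] {a z : G} (ha : Odd (orderOf a))
    (hz : Odd (orderOf z)) (h : a * z * a⁻¹ = z⁻¹) : z = 1 := by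
  have h2 : Commute (a ^ 2) z := by
    have : a ^ 2 * z * (a ^ 2)⁻¹ = z := by
      calc a ^ 2 * z * (a ^ 2)⁻¹ = a * (a * z * a⁻¹) * a⁻¹ := by
            rw [pow_two, mul_inv_rev]; simp only [mul_assoc]
        _ = a * z⁻¹ * a⁻¹ := by rw [h]
        _ = (a * z * a⁻¹)⁻¹ := by simp only [mul_inv_rev, inv_inv, mul_assoc]
        _ = z := by rw [h, inv_inv]
    show a ^ 2 * z = z * a ^ 2
    calc a ^ 2 * z = a ^ 2 * z * (a ^ 2)⁻¹ * a ^ 2 := by group
      _ = z * a ^ 2 := by rw [this]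
  obtain ⟨j, hj⟩ := ha
  have h3 : (a ^ 2) ^ j = a⁻¹ := by
    apply eq_inv_of_mul_eq_one_left
    rw [← pow_mul, ← pow_succ, ← hj, pow_orderOf_eq_one]
  have h4 : Commute a⁻¹ z := h3 ▸ h2.pow_left j
  have h5 : Commute a z := (Commute.inv_left_iff).1 h4
  have h6 : z = z⁻¹ := by
    rw [← h, h5.eq]; group
  have h7 : z ^ 2 = 1 := by
    rw [pow_two]
    nth_rewrite 1 [h6]
    group
  have h8 : orderOf z ∣ 2 := orderOf_dvd_of_pow_eq_one h7
  have h9 : orderOf z = 1 := by
    rcases (Nat.dvd_prime Nat.prime_two).1 h8 with e | e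
    · exact e
    · rw [e] at hz; exact absurd hz (by decide)
  exact orderOf_eq_one_iff.1 h9


/-- Let G be a finite group, p a prime, P a Sylow p-subgroup whose underlying set is a TI-subset of G, with L the set normaliser of P of odd order. Let Z ≠ ⊥ be a subgroup of P, normal in L and central in P, such that the centralisers in L of any two non-identity elements of Z have the same order. If ψ is an irreducible character of G taking the same value at all non-identity elements of Z, then for z ∈ Z, z ≠ 1, the value ψ z is an integer n with Nat.card P dividing ψ(1) − n (as integers, ψ 1 being the degree). -/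
theorem result {G : Type*} [Group G] [Finite G] (p : ℕ) [Fact p.Prime] (P : Sylow p G) (hTI : Cfsg.IsTISubset ((P : Subgroup G) : Set G)) (hodd : Odd (Nat.card (Subgroup.normalizer ((P : Subgroup G) : Set G)))) (Z : Subgroup G) (hZ1 : Z ≠ ⊥) (hZP : Z ≤ P) (hZn : ∀ x ∈ Subgroup.normalizer ((P : Subgroup G) : Set G), ∀ z ∈ Z, x * z * x⁻¹ ∈ Z) (hZc : ∀ z ∈ Z, ∀ y ∈ (P : Subgroup G), z * y = y * z) (hCL : ∀ z ∈ Z, ∀ z' ∈ Z, z ≠ 1 → z' ≠ 1 → Nat.card ↥(Subgroup.normalizer ((P : Subgroup G) : Set G) ⊓ Subgroup.centralizer ({z} : Set G)) = Nat.card ↥(Subgroup.normalizer ((P : Subgroup G) : Set G) ⊓ Subgroup.centralizer ({z'} : Set G))) (ψ : G → ℂ) (hψ : Cfsg.IsIrrCharacter G ψ) (hconst : ∀ z ∈ Z, ∀ z' ∈ Z, z ≠ 1 → z' ≠ 1 → ψ z = ψ z') (z : G) (hz : z ∈ Z) (hz1 : z ≠ 1) : ∃ n d : ℤ, ψ z = n ∧ ψ 1 = d ∧ (Nat.card (P : Subgroup G) : ℤ) ∣ d - n := by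
  classical
  haveI : Fintype G := Fintype.ofFinite G
  have hp : p.Prime := Fact.out
  have hchar := Cfsg.Agent.Lib.Helper83.IsIrr.isChar hψ
  have hPL : (P : Subgroup G) ≤ Subgroup.normalizer ((P : Subgroup G) : Set G) :=
    Subgroup.le_normalizer
  have hmemL : ∀ g x : G, x ∈ (P : Subgroup G) → x ≠ 1 → g * x * g⁻¹ ∈ (P : Subgroup G) →
      g ∈ Subgroup.normalizer ((P : Subgroup G) : Set G) := by
    intro g x hx hx1 hgx
    by_contra hg
    exact hx1 (hTI g hg x hx hgx)
  have hoddL : ∀ a ∈ Subgroup.normalizer ((P : Subgroup G) : Set G), Odd (orderOf a) := by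
    intro a ha
    have h1 : orderOf a ∣ Nat.card (Subgroup.normalizer ((P : Subgroup G) : Set G)) := by
      have := orderOf_dvd_natCard (⟨a, ha⟩ : Subgroup.normalizer ((P : Subgroup G) : Set G))
      rwa [Subgroup.orderOf_mk] at this
    exact hodd.of_dvd_nat h1
  obtain ⟨n, hn⟩ : ∃ n : ℤ, ψ z = n := int_of_char hchar z (by
    intro j hj
    apply hconst _ (pow_mem hz j) _ hz _ hz1
    intro h
    have h1 := orderOf_dvd_of_pow_eq_one h
    have h2 : orderOf z = 1 := Nat.eq_one_of_dvd_coprimes hj h1 dvd_rfl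
    exact hz1 (orderOf_eq_one_iff.1 h2))
  obtain ⟨d, hd0, hd⟩ := Cfsg.Agent.Lib.Helper32.irr_apply_one hψ
  refine ⟨n, d, hn, by simpa using hd, ?_⟩
  have hzP : z ∈ (P : Subgroup G) := hZP hz
  have hCL' : Subgroup.centralizer ({z} : Set G) ≤
      Subgroup.normalizer ((P : Subgroup G) : Set G) := by
    intro c hc
    rw [Subgroup.mem_centralizer_singleton_iff] at hc
    apply hmemL c z hzP hz1
    rw [hc]; simpa using hzP
  have hzinv : ψ z⁻¹ = ψ z := hconst _ (inv_mem hz) _ hz (by simpa using hz1) hz1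
  -- the total sum vanishes
  have hsum0 : ∑ a : G, (ψ (a * z * a⁻¹ * z) - ψ (a * z * a⁻¹ * z⁻¹)) = 0 := by
    rw [Finset.sum_sub_distrib, Cfsg.Agent.Lib.Helper82.isIrr_sum_conj_mul hψ,
      Cfsg.Agent.Lib.Helper82.isIrr_sum_conj_mul hψ, hzinv, sub_self]
  -- values on L
  have hL : ∀ a ∈ Subgroup.normalizer ((P : Subgroup G) : Set G),
      ψ (a * z * a⁻¹ * z) - ψ (a * z * a⁻¹ * z⁻¹) =
        if a ∈ Subgroup.centralizer ({z} : Set G) then ((n : ℂ) - d) else 0 := by
    intro a ha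
    have hu : a * z * a⁻¹ ∈ Z := hZn a ha z hz
    have h1 : ψ (a * z * a⁻¹ * z) = n := by
      rw [← hn]
      apply hconst _ (mul_mem hu hz) _ hz _ hz1
      intro h
      have h2 : a * z * a⁻¹ = z⁻¹ := eq_inv_of_mul_eq_one_left h
      exact hz1 (eq_one_of_conj_inv (hoddL a ha) (hoddL z (hPL hzP)) h2)
    rw [h1]
    split_ifs with hc
    · rw [Subgroup.mem_centralizer_singleton_iff] at hc
      have : a * z * a⁻¹ * z⁻¹ = 1 := by rw [hc]; group
      rw [this, hd]
    · have h2 : ψ (a * z * a⁻¹ * z⁻¹) = n := by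
        rw [← hn]
        apply hconst _ (mul_mem hu (inv_mem hz)) _ hz _ hz1
        intro h
        apply hc
        rw [Subgroup.mem_centralizer_singleton_iff]
        have h3 : a * z * a⁻¹ = z := by
          have := eq_inv_of_mul_eq_one_left h
          rwa [inv_inv] at this
        calc a * z = a * z * a⁻¹ * a := by group
          _ = z * a := by rw [h3]
      rw [h2, sub_self]
  letI act : MulAction (↥(P : Subgroup G) × ↥(Subgroup.centralizer ({z} : Set G))) G :=
    { smul := fun γ a => (γ.1 : G) * a * (γ.2 : G)⁻¹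
      one_smul := by
        intro a
        show (((1 : ↥(P : Subgroup G) × ↥(Subgroup.centralizer ({z} : Set G))).1 : G)) * a *
          (((1 : ↥(P : Subgroup G) × ↥(Subgroup.centralizer ({z} : Set G))).2 : G))⁻¹ = a
        simp
      mul_smul := by
        intro γ δ a
        show (((γ * δ).1 : ↥(P : Subgroup G)) : G) * a * ((((γ * δ).2 :
          ↥(Subgroup.centralizer ({z} : Set G))) : G))⁻¹ =
          (γ.1 : G) * ((δ.1 : G) * a * (δ.2 : G)⁻¹) * (γ.2 : G)⁻¹
        simp only [Prod.fst_mul, Prod.snd_mul, Subgroup.coe_mul, mul_inv_rev, mul_assoc] }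
  have hsmul : ∀ (γ : ↥(P : Subgroup G) × ↥(Subgroup.centralizer ({z} : Set G))) (a : G),
      γ • a = (γ.1 : G) * a * (γ.2 : G)⁻¹ := fun _ _ => rfl
  obtain ⟨A, hA, hAsum⟩ := Cfsg.Agent.Lib.Helper32.free_sum
    (Γ := ↥(P : Subgroup G) × ↥(Subgroup.centralizer ({z} : Set G)))
    (fun a : G => if a ∈ Subgroup.normalizer ((P : Subgroup G) : Set G) then 0
      else ψ (a * z * a⁻¹ * z) - ψ (a * z * a⁻¹ * z⁻¹))
    (by
      intro γ a
      obtain ⟨⟨t, ht⟩, ⟨c, hc⟩⟩ := γ
      rw [hsmul]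
      simp only
      have hmem : t * a * c⁻¹ ∈ Subgroup.normalizer ((P : Subgroup G) : Set G) ↔
          a ∈ Subgroup.normalizer ((P : Subgroup G) : Set G) := by
        constructor
        · intro h
          have := mul_mem (mul_mem (inv_mem (hPL ht)) h) (hCL' hc)
          simpa [mul_assoc] using this
        · intro h
          exact mul_mem (mul_mem (hPL ht) h) (inv_mem (hCL' hc))
      have hc' := Subgroup.mem_centralizer_singleton_iff.1 hc
      have e0 : c⁻¹ * z * c = z := by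
        calc c⁻¹ * z * c = c⁻¹ * (z * c) := by group
          _ = c⁻¹ * (c * z) := by rw [hc']
          _ = z := by group
      have e1 : t * a * c⁻¹ * z * (t * a * c⁻¹)⁻¹ = t * (a * z * a⁻¹) * t⁻¹ := by
        calc t * a * c⁻¹ * z * (t * a * c⁻¹)⁻¹ = t * a * (c⁻¹ * z * c) * a⁻¹ * t⁻¹ := by group
          _ = t * (a * z * a⁻¹) * t⁻¹ := by rw [e0]; group
      have hzt : z * t = t * z := hZc z hz t ht
      have hzt' : z⁻¹ * t = t * z⁻¹ := hZc z⁻¹ (inv_mem hz) t ht
      have e2 : t * (a * z * a⁻¹) * t⁻¹ * z = t * (a * z * a⁻¹ * z) * t⁻¹ := by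
        calc t * (a * z * a⁻¹) * t⁻¹ * z = t * (a * z * a⁻¹) * t⁻¹ * (z * t) * t⁻¹ := by group
          _ = t * (a * z * a⁻¹ * z) * t⁻¹ := by rw [hzt]; group
      have e3 : t * (a * z * a⁻¹) * t⁻¹ * z⁻¹ = t * (a * z * a⁻¹ * z⁻¹) * t⁻¹ := by
        calc t * (a * z * a⁻¹) * t⁻¹ * z⁻¹ = t * (a * z * a⁻¹) * t⁻¹ * (z⁻¹ * t) * t⁻¹ := by group
          _ = t * (a * z * a⁻¹ * z⁻¹) * t⁻¹ := by rw [hzt']; group
      have hcl := Cfsg.Agent.Lib.Helper20.isClassFunction_of_isCharacter hchar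
      simp only [hmem, e1, e2, e3, hcl _ t])
    (by
      intro a
      split_ifs
      · exact isIntegral_zero
      · exact (Cfsg.Agent.Lib.Helper20.isCharacter_isIntegral hchar _).sub
          (Cfsg.Agent.Lib.Helper20.isCharacter_isIntegral hchar _))
    (by
      intro a ha γ hγ
      have haL : a ∉ Subgroup.normalizer ((P : Subgroup G) : Set G) := by
        intro h
        simp only [if_pos h] at ha
        exact ha rfl
      obtain ⟨⟨t, ht⟩, ⟨c, hc⟩⟩ := γ
      rw [hsmul] at hγ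
      simp only at hγ
      have htc : t = a * c * a⁻¹ := by
        calc t = t * a * c⁻¹ * c * a⁻¹ := by group
          _ = a * c * a⁻¹ := by rw [hγ]
      have hc1 : c = 1 := by
        by_contra hc1
        obtain ⟨k, hk⟩ := P.2 ⟨t, ht⟩
        have hk' : t ^ p ^ k = 1 := by
          have := congrArg Subtype.val hk
          simpa using this
        have hck : c ^ p ^ k = 1 := by
          have : a * c ^ p ^ k * a⁻¹ = 1 := by
            rw [← conj_pow, ← htc, hk']
          have h2 : c ^ p ^ k = a⁻¹ * (a * c ^ p ^ k * a⁻¹) * a := by group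
          rw [h2, this]; group
        obtain ⟨j, -, hj⟩ := (Nat.dvd_prime_pow hp).1 (orderOf_dvd_of_pow_eq_one hck)
        have hpg : IsPGroup p (Subgroup.zpowers c) :=
          IsPGroup.of_card (n := j) (by rw [Nat.card_zpowers, hj])
        have hcP : c ∈ (P : Subgroup G) := by
          have h1 : c ∈ Subgroup.zpowers c ⊓ Subgroup.normalizer ((P : Subgroup G) : Set G) :=
            ⟨Subgroup.mem_zpowers c, hCL' hc⟩
          have h2 := hpg.inf_normalizer_sylow P
          exact ((SetLike.ext_iff.1 h2 c).1 h1).2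
        exact haL (hmemL a c hcP hc1 (htc ▸ ht))
      have ht1 : t = 1 := by rw [htc, hc1]; group
      ext <;> simp [ht1, hc1])
  have hsplit : ∀ a : G, ψ (a * z * a⁻¹ * z) - ψ (a * z * a⁻¹ * z⁻¹) =
      (if a ∈ Subgroup.normalizer ((P : Subgroup G) : Set G) then 0
        else ψ (a * z * a⁻¹ * z) - ψ (a * z * a⁻¹ * z⁻¹)) +
      (if a ∈ Subgroup.centralizer ({z} : Set G) then ((n : ℂ) - d) else 0) := by
    intro a
    by_cases ha : a ∈ Subgroup.normalizer ((P : Subgroup G) : Set G)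
    · rw [if_pos ha, zero_add, hL a ha]
    · rw [if_neg ha, if_neg (fun h => ha (hCL' h)), add_zero]
  have hCsum : ∑ a : G, (if a ∈ Subgroup.centralizer ({z} : Set G) then ((n : ℂ) - d) else 0) =
      (Nat.card (Subgroup.centralizer ({z} : Set G)) : ℂ) * ((n : ℂ) - d) := by
    rw [← Finset.sum_filter, Finset.sum_const, nsmul_eq_mul]
    congr 2
    rw [Nat.card_eq_fintype_card, Fintype.card_subtype]
  rw [Finset.sum_congr rfl (fun a _ => hsplit a), Finset.sum_add_distrib, hAsum, hCsum,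
    Nat.card_prod] at hsum0
  have hC0 : (Nat.card (Subgroup.centralizer ({z} : Set G)) : ℂ) ≠ 0 := by
    exact_mod_cast Nat.card_pos.ne'
  have hfin : (((d : ℤ) - n : ℤ) : ℂ) = (Nat.card (P : Subgroup G) : ℕ) * A := by
    push_cast at hsum0 ⊢
    have h1 : (Nat.card (Subgroup.centralizer ({z} : Set G)) : ℂ) *
        ((Nat.card (P : Subgroup G) : ℂ) * A - ((d : ℂ) - n)) = 0 := by
      linear_combination hsum0
    have h2 := (mul_eq_zero.1 h1).resolve_left hC0
    linear_combination -h2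
  exact int_dvd_of_isIntegral hA hfin Nat.card_pos.ne'

end Cfsg.Agent.S1523
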