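import Cfsg.Statements.S0161
import Cfsg.Agent.Lib.Helper4.CharInner
import Cfsg.Agent.S0158

set_option autoImplicit false
open Cfsg

namespace Cfsg.Agent.S0161

/-- In a finite group of odd order, a real-valued irreducible complex character is the trivial character. -/
theorem result {G : Type*} [Group G] [Finite G] (hodd : Odd (Nat.card G)) (χ : Cfsg.IrrCharacter G) (hreal : ∀ g : G, ((χ : G → ℂ) g).im = 0) : (χ : G → ℂ) = fun _ => 1 := by
  classical
  have := Fintype.ofFinite G
  obtain ⟨n, ρ, hρ, hχρ⟩ := χ.2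
  have h158 := (Cfsg.Agent.S0158.result ρ).2
  have hne : (Nat.card G : ℂ)⁻¹ * ∑ s : G, ρ.character (s * s) ≠ 0 := by
    intro h0
    obtain ⟨s, hs⟩ := h158.mp h0
    rw [hχρ] at hs
    exact hs (hreal s)
  have hcop : (Nat.card G).Coprime 2 := Nat.Coprime.symm (Nat.coprime_two_left.mpr hodd)
  have hsum : ∑ s : G, ρ.character (s * s) = ∑ s : G, ρ.character s := by
    rw [← Equiv.sum_comp (powCoprime hcop) (fun s => ρ.character s)]
    refine Finset.sum_congr rfl fun s _ => ?_
    rw [powCoprime_apply, pow_two]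
  rw [hsum] at hne
  have h1 : Cfsg.classInner (χ : G → ℂ) (fun _ => 1) ≠ 0 := by
    rw [Cfsg.classInner, ← hχρ]
    simpa using hne
  by_contra hcon
  exact h1 (Cfsg.Agent.Lib.Helper4.classInner_irr_ne χ.2
    Cfsg.Agent.Lib.Helper4.isIrrCharacter_one hcon)

end Cfsg.Agent.S0161
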