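import Cfsg.Statements.S0171
import Cfsg.Agent.Lib.Helper4.CharDecomp
import Cfsg.Agent.Lib.Helper5.Clifford
import Cfsg.Agent.Lib.Helper79.PermLemma
import Cfsg.Agent.S0146
import Cfsg.Agent.S0148

set_option autoImplicit false
open Cfsg

namespace Cfsg.Agent.S0171

section frob

variable {G : Type*} [Group G] [Finite G] (K H : Subgroup G) [K.Normal]

theorem coset_conj (hfpf : ∀ h ∈ H, h ≠ 1 → ∀ k ∈ K, h * k = k * h → k = 1)
    (h : G) (hh : h ∈ H) (h1 : h ≠ 1) (y : G) (hy : y ∈ K) : ∃ z ∈ K, z⁻¹ * h * z = h * y := by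
  have hK : K.Normal := inferInstance
  let f : K → K := fun z => ⟨h⁻¹ * (z : G)⁻¹ * h * z, by
    have h2 : h⁻¹ * (z : G)⁻¹ * h ∈ K := by
      have := hK.conj_mem (z : G)⁻¹ (inv_mem z.2) h⁻¹
      simpa using this
    exact mul_mem h2 z.2⟩
  have hinj : Function.Injective f := by
    intro z z' hzz
    have h2 : h⁻¹ * (z : G)⁻¹ * h * z = h⁻¹ * (z' : G)⁻¹ * h * z' := congrArg Subtype.val hzz
    have h3 : h * ((z' : G) * (z : G)⁻¹) = ((z' : G) * (z : G)⁻¹) * h := by
      have h4 : (z : G)⁻¹ * h * z = (z' : G)⁻¹ * h * z' := by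
        have := congrArg (fun t => h * t) h2
        simpa [mul_assoc] using this
      calc h * ((z' : G) * (z : G)⁻¹) = (z' : G) * ((z' : G)⁻¹ * h * z') * (z : G)⁻¹ := by group
        _ = (z' : G) * ((z : G)⁻¹ * h * z) * (z : G)⁻¹ := by rw [h4]
        _ = ((z' : G) * (z : G)⁻¹) * h := by group
    have h5 := hfpf h hh h1 _ (mul_mem z'.2 (inv_mem z.2)) h3
    apply Subtype.ext
    exact (mul_inv_eq_one.mp h5).symm
  obtain ⟨z, hz⟩ := (Finite.injective_iff_surjective.mp hinj) ⟨y, hy⟩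
  refine ⟨z, z.2, ?_⟩
  have h2 : h⁻¹ * (z : G)⁻¹ * h * z = y := congrArg Subtype.val hz
  rw [← h2]
  group

theorem centralizer_trivial (hKH' : K ⊔ H = ⊤)
    (hfpf : ∀ h ∈ H, h ≠ 1 → ∀ k ∈ K, h * k = k * h → k = 1)
    (x : G) (hx : x ∉ K) (k : G) (hk : k ∈ K) (hxk : x * k = k * x) : k = 1 := by
  have hK : K.Normal := inferInstance
  have hx' : x ∈ K ⊔ H := by rw [hKH']; exact Subgroup.mem_top x
  obtain ⟨k₁, hk₁, h, hh, rfl⟩ := Subgroup.mem_sup_of_normal_left.mp hx'
  have h1 : h ≠ 1 := by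
    rintro rfl
    exact hx (by simpa using hk₁)
  have hy : h⁻¹ * k₁ * h ∈ K := by
    have := hK.conj_mem k₁ hk₁ h⁻¹
    simpa using this
  obtain ⟨z, hz, hzh⟩ := coset_conj K H hfpf h hh h1 _ hy
  have hx2 : k₁ * h = z⁻¹ * h * z := by rw [hzh]; group
  rw [hx2] at hxk
  have h3 : h * (z * k * z⁻¹) = (z * k * z⁻¹) * h := by
    calc h * (z * k * z⁻¹) = z * (z⁻¹ * h * z * k) * z⁻¹ := by group
      _ = z * (k * (z⁻¹ * h * z)) * z⁻¹ := by rw [hxk]
      _ = (z * k * z⁻¹) * h := by group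
  have h4 := hfpf h hh h1 _ (hK.conj_mem k hk z) h3
  have h5 : k = z⁻¹ * (z * k * z⁻¹) * z := by group
  rw [h5, h4]
  group

open Cfsg.Agent.Lib.Helper5 in
theorem cjF_ne (hKH' : K ⊔ H = ⊤)
    (hfpf : ∀ h ∈ H, h ≠ 1 → ∀ k ∈ K, h * k = k * h → k = 1)
    (τ : K → ℂ) (hτ : Cfsg.IsIrrCharacter K τ) (hτ1 : τ ≠ fun _ => 1) (x : G) (hx : x ∉ K) :
    cjF (inferInstance : K.Normal) τ x ≠ τ := by
  intro hfix
  have hK : K.Normal := inferInstance
  let a : K → K := fun n => ⟨x * n * x⁻¹, hK.conj_mem n n.2 x⟩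
  have hcard := Cfsg.Agent.Lib.Helper79.card_fixed_irr_eq a
    (fun χ hχ => isIrrCharacter_cjF hK hχ x) (fun C => C = ConjClasses.mk 1) (by
      intro k
      rw [ConjClasses.mk_eq_mk_iff_isConj]
      constructor
      · intro h
        have hk1 : k = 1 := isConj_one_right.mp h.symm ▸ rfl
        subst hk1
        have : a 1 = 1 := by
          apply Subtype.ext
          simp [a]
        rw [this]
      · intro h
        obtain ⟨c, hc⟩ := isConj_iff.mp h
        have hc' : (c : G) * (x * k * x⁻¹) * (c : G)⁻¹ = k := congrArg Subtype.val hc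
        have hcx : (c : G) * x ∉ K := by
          intro hmem
          apply hx
          have := mul_mem (inv_mem c.2) hmem
          simpa using this
        have hcomm : ((c : G) * x) * k = k * ((c : G) * x) := by
          calc ((c : G) * x) * k = ((c : G) * (x * k * x⁻¹) * (c : G)⁻¹) * ((c : G) * x) := by group
            _ = k * ((c : G) * x) := by rw [hc']
        have := centralizer_trivial K H hKH' hfpf _ hcx k k.2 hcomm
        have hk1 : k = 1 := Subtype.ext this
        rw [hk1])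
  have h1 : Nat.card {C : ConjClasses K // C = ConjClasses.mk 1} = 1 := by
    simp
  rw [h1] at hcard
  have hsub : Subsingleton {χ : Cfsg.IrrCharacter K // ∀ g, (χ : K → ℂ) (a g) = (χ : K → ℂ) g} :=
    (Nat.card_eq_one_iff_unique.mp hcard).1
  have e := hsub.elim ⟨⟨τ, hτ⟩, fun g => congrFun hfix g⟩
    ⟨⟨fun _ => 1, Cfsg.Agent.Lib.Helper4.isIrrCharacter_one⟩, fun g => rfl⟩
  exact hτ1 (congrArg (fun t => (t.1 : K → ℂ)) e)

end frob


/-- Let G = K H with K normal, K ⊓ H trivial, and no non-identity element of H commuting with a non-identity element of K (a Frobenius group with kernel K and complement H). Then every non-principal irreducible character of K induces to an irreducible character of G. -/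
theorem result {G : Type*} [Group G] [Fintype G] (K H : Subgroup G) [K.Normal] (hKH : K ⊓ H = ⊥) (hKH' : K ⊔ H = ⊤) (hfpf : ∀ h ∈ H, h ≠ 1 → ∀ k ∈ K, h * k = k * h → k = 1) (τ : K → ℂ) (hτ : Cfsg.IsIrrCharacter K τ) (hτ1 : τ ≠ fun _ => 1) : Cfsg.IsIrrCharacter G (Cfsg.indFun K τ) := by
  classical
  have hK : K.Normal := inferInstance
  have := Fintype.ofFinite K
  apply Cfsg.Agent.Lib.Helper4.isIrrCharacter_of_classInner_self_eq_one
    (Cfsg.Agent.S0148.result K τ (Cfsg.Agent.Lib.Helper4.isCharacter_of_irr hτ))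
  rw [Cfsg.Agent.S0146.result K τ _ (Cfsg.Agent.Lib.Helper19.indFun_isClassFunction K τ),
    Cfsg.Agent.Lib.Helper5.indFun_restrict_normal hK τ,
    Cfsg.Agent.Lib.Helper4.classInner_smul_right, Cfsg.Agent.Lib.Helper4.classInner_sum_right]
  have h1 : ∀ x : G, Cfsg.classInner τ (Cfsg.Agent.Lib.Helper5.cjF hK τ x) =
      if x ∈ K then 1 else 0 := by
    intro x
    split_ifs with hx
    · have : Cfsg.Agent.Lib.Helper5.cjF hK τ x = τ := by
        funext n
        rw [Cfsg.Agent.Lib.Helper5.cjF_apply]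
        have := Cfsg.Agent.Lib.Helper4.isClassFunction_of_char
          (Cfsg.Agent.Lib.Helper4.isCharacter_of_irr hτ) n ⟨x, hx⟩
        rw [← this]
        rfl
      rw [this, Cfsg.Agent.Lib.Helper4.classInner_irr_self hτ]
    · exact Cfsg.Agent.Lib.Helper4.classInner_irr_ne hτ
        (Cfsg.Agent.Lib.Helper5.isIrrCharacter_cjF hK hτ x)
        (cjF_ne K H hKH' hfpf τ hτ hτ1 x hx).symm
  simp only [h1]
  rw [Finset.sum_boole, map_inv₀, map_natCast]
  have h2 : ((Finset.univ.filter fun x : G => x ∈ K).card : ℂ) = (Nat.card K : ℂ) := by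
    rw [Nat.card_eq_fintype_card, Fintype.card_subtype]
  rw [h2, inv_mul_cancel₀ (Cfsg.Agent.Lib.Helper19.card_ne_zero_complex K)]

end Cfsg.Agent.S0171
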