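import Cfsg.Statements.S1514
-- import your own Cfsg.Agent.* helpers here
import Cfsg.Agent.Lib.Helper32.ConjFun

set_option autoImplicit false
open Cfsg

namespace Cfsg.Agent.S1514

open Cfsg.Agent.Lib.Helper32 Cfsg.Agent.Lib.Helper20


/-- Let S be a nonempty set of irreducible characters of the finite group L, closed under complex conjugation and containing no real-valued member, and τ a linear isometry on the integer combinations of S vanishing at 1, with values virtual characters of G vanishing at 1. Then there is a choice R making (S, τ, R) a coherence system. -/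
theorem result {L : Type*} [Group L] [Fintype L] {G : Type*} [Group G] [Fintype G] (S : Set (L → ℂ)) (hS : S.Nonempty) (hirr : ∀ χ ∈ S, Cfsg.IsIrrCharacter L χ) (hconj : ∀ χ ∈ S, Cfsg.conjFun χ ∈ S ∧ Cfsg.conjFun χ ≠ χ) (τ : (L → ℂ) → (G → ℂ)) (hτ : Cfsg.IsLinearIsometryOn (Cfsg.zspanOn S {1}ᶜ) τ) (hτ1 : ∀ α ∈ Cfsg.zspanOn S {1}ᶜ, τ α 1 = 0) : ∃ R : (L → ℂ) → Finset (G → ℂ), Cfsg.IsCoherenceSystem S τ R := by
  classical
  have hmem : ∀ χ ∈ S, χ - Cfsg.conjFun χ ∈ Cfsg.zspanOn S {1}ᶜ := by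
    intro χ hχ
    rw [mem_zspanOn_one]
    refine ⟨Submodule.sub_mem _ (Submodule.subset_span hχ) (Submodule.subset_span (hconj χ hχ).1), ?_⟩
    rw [Pi.sub_apply, conjFun_one_of_char (isCharacter_of_isIrrCharacter (hirr χ hχ)), sub_self]
  have hinner : ∀ χ ∈ S, ∀ φ ∈ S, Cfsg.classInner (φ - Cfsg.conjFun φ) (χ - Cfsg.conjFun χ) =
      Cfsg.classInner φ χ - Cfsg.classInner φ (Cfsg.conjFun χ)
        - (starRingEnd ℂ) (Cfsg.classInner φ (Cfsg.conjFun χ))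
        + (starRingEnd ℂ) (Cfsg.classInner φ χ) := by
    intro χ _ φ _
    rw [classInner_sub_left, classInner_sub_right, classInner_sub_right, classInner_conjFun,
      classInner_conjFun_left]
    ring
  have hex : ∀ χ ∈ S, ∃ μ₁ μ₂ : G → ℂ, Cfsg.IsIrrCharacter G μ₁ ∧ Cfsg.IsIrrCharacter G μ₂ ∧
      μ₁ ≠ μ₂ ∧ τ (χ - Cfsg.conjFun χ) = μ₁ - μ₂ := by
    intro χ hχ
    apply genChar_norm_two (hτ.2.2.2 _ (hmem χ hχ))
    · rw [hτ.2.2.1 _ (hmem χ hχ) _ (hmem χ hχ), hinner χ hχ χ hχ, classInner_irr_self (hirr χ hχ),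
        classInner_irr_ne (hirr χ hχ) (hirr _ (hconj χ hχ).1) (hconj χ hχ).2.symm]
      simp; norm_num
    · exact hτ1 _ (hmem χ hχ)
  choose! μ₁ μ₂ h₁ h₂ hne hμ using hex
  have hne' : ∀ χ ∈ S, μ₁ χ ≠ -μ₂ χ := by
    intro χ hχ h
    obtain ⟨n, hn, hn'⟩ := irr_apply_one (h₁ χ hχ)
    obtain ⟨m, hm, hm'⟩ := irr_apply_one (h₂ χ hχ)
    have := congrFun h 1
    rw [Pi.neg_apply, hn', hm'] at this
    have h2 : (n : ℤ) = -m := by exact_mod_cast this
    omega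
  have hdeg : ∀ χ ∈ S, μ₁ χ 1 = μ₂ χ 1 := by
    intro χ hχ
    have := hτ1 _ (hmem χ hχ)
    rw [hμ χ hχ, Pi.sub_apply, sub_eq_zero] at this
    exact this
  refine ⟨fun χ => {μ₁ χ, -μ₂ χ}, ⟨hS, fun χ hχ => isCharacter_of_isIrrCharacter (hirr χ hχ),
    fun χ hχ => (hconj χ hχ).1, fun χ hχ => (hconj χ hχ).2, hτ, hτ1,
    fun χ hχ φ hφ h => classInner_irr_ne (hirr χ hχ) (hirr φ hφ) h, ?_, ?_, ?_, ?_⟩⟩
  · intro χ hχ α hα β hβ
    simp only [Finset.mem_insert, Finset.mem_singleton] at hα hβ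
    have e12 := classInner_irr_ne (h₁ χ hχ) (h₂ χ hχ) (hne χ hχ)
    have e21 := classInner_irr_ne (h₂ χ hχ) (h₁ χ hχ) (hne χ hχ).symm
    rcases hα with rfl | rfl <;> rcases hβ with rfl | rfl
    · rw [if_pos rfl, classInner_irr_self (h₁ χ hχ)]
    · rw [if_neg (hne' χ hχ), classInner_neg_right, e12, neg_zero]
    · rw [if_neg (hne' χ hχ).symm, classInner_neg_left, e21, neg_zero]
    · rw [if_pos rfl, classInner_neg_left, classInner_neg_right, classInner_irr_self (h₂ χ hχ),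
        neg_neg]
  · intro χ hχ α hα
    simp only [Finset.mem_insert, Finset.mem_singleton] at hα
    rcases hα with rfl | rfl
    · exact genChar_of_irr (h₁ χ hχ)
    · exact genChar_neg (genChar_of_irr (h₂ χ hχ))
  · intro χ hχ
    rw [Finset.sum_pair (hne' χ hχ), hμ χ hχ, sub_eq_add_neg]
  · intro χ hχ φ hφ e1 e2 α hα β hβ
    have hmix : Cfsg.classInner (((1 : ℝ) : ℂ) • μ₁ φ - ((1 : ℝ) : ℂ) • μ₂ φ)
        (((1 : ℝ) : ℂ) • μ₁ χ - ((1 : ℝ) : ℂ) • μ₂ χ) = 0 := by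
      simp only [Complex.ofReal_one, one_smul]
      rw [← hμ χ hχ, ← hμ φ hφ, hτ.2.2.1 _ (hmem φ hφ) _ (hmem χ hχ), hinner χ hχ φ hφ, e1, e2]
      simp
    obtain ⟨f1, f2, f3, f4⟩ := four_signed (Or.inl (h₁ φ hφ)) (Or.inl (h₂ φ hφ))
      (Or.inl (h₁ χ hχ)) (Or.inl (h₂ χ hχ)) 1 1 1 1 one_ne_zero one_ne_zero one_ne_zero one_ne_zero
      (classInner_irr_ne (h₁ φ hφ) (h₂ φ hφ) (hne φ hφ))
      (classInner_irr_ne (h₁ χ hχ) (h₂ χ hχ) (hne χ hχ)) hmix
      (by rw [hdeg φ hφ]) (by rw [hdeg χ hχ])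
    simp only [Finset.mem_insert, Finset.mem_singleton] at hα hβ
    rcases hα with rfl | rfl <;> rcases hβ with rfl | rfl
    · exact f1
    · rw [classInner_neg_right, f2, neg_zero]
    · rw [classInner_neg_left, f3, neg_zero]
    · rw [classInner_neg_left, classInner_neg_right, f4, neg_zero, neg_zero]

end Cfsg.Agent.S1514
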