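import Cfsg.Statements.S1524
-- import your own Cfsg.Agent.* helpers here
import Cfsg.Agent.Lib.Helper32.Sib3
import Cfsg.Agent.Lib.Helper32.Sib4
import Cfsg.Agent.Lib.Helper32.Sib5
import Cfsg.Agent.S0161
import Cfsg.Agent.S0171
import Cfsg.Agent.S1514

set_option autoImplicit false
open Cfsg

namespace Cfsg.Agent.S1524

open Cfsg.Agent.Lib.Helper32 Cfsg.Agent.Lib
open scoped commutatorElement


/-- Let G be a finite group and H ≤ L subgroups with L of odd order, H ≠ ⊥ nilpotent and normal in L with a nontrivial complement W₁ in L (H ⊓ W₁ = ⊥, H ⊔ W₁ = L) acting on H without non-identity fixed points (L is a Frobenius group with kernel H), and suppose the underlying set of H is a TI-subset of G whose normaliser is L. Let S be the set of functions on L induced from the non-principal irreducible characters of H. Then (S, L minus 1, induction to G) is coherent. -/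
theorem result {G : Type*} [Group G] [Fintype G] (H L W₁ : Subgroup G) [Fintype L] (hodd : Odd (Nat.card L)) (hHL : H ≤ L) (hW₁L : W₁ ≤ L) (hH1 : H ≠ ⊥) (hW1 : W₁ ≠ ⊥) (hnil : Group.IsNilpotent H) (hHn : ∀ x ∈ L, ∀ h ∈ H, x * h * x⁻¹ ∈ H) (hinf : H ⊓ W₁ = ⊥) (hsup : H ⊔ W₁ = L) (hfpf : ∀ w ∈ W₁, w ≠ 1 → ∀ h ∈ H, w * h = h * w → h = 1) (hTI : Cfsg.IsTISubset (H : Set G)) (hN : Subgroup.normalizer (H : Set G) = L) : Cfsg.IsCoherent (Cfsg.inducedIrrAbove (H.subgroupOf L) ⊥) {1}ᶜ (fun α : L → ℂ => Cfsg.indFun L α) := by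
  classical
  haveI hKn : (H.subgroupOf L).Normal := ⟨fun k hk x => hHn x x.2 k hk⟩
  have hinf' : H.subgroupOf L ⊓ W₁.subgroupOf L = ⊥ := by
    rw [eq_bot_iff]
    rintro x ⟨hx1, hx2⟩
    have : (x : G) ∈ H ⊓ W₁ := ⟨hx1, hx2⟩
    rw [hinf, Subgroup.mem_bot] at this
    rw [Subgroup.mem_bot]
    exact Subtype.ext this
  have hsup' : H.subgroupOf L ⊔ W₁.subgroupOf L = ⊤ := by
    rw [← Subgroup.subgroupOf_sup hHL hW₁L, hsup, Subgroup.subgroupOf_self]
  have hfpf' : ∀ h ∈ W₁.subgroupOf L, h ≠ 1 → ∀ k ∈ H.subgroupOf L, h * k = k * h → k = 1 := by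
    intro h hh h1 k hk hc
    apply Subtype.ext
    exact hfpf h hh (fun e => h1 (Subtype.ext e)) k hk (congrArg Subtype.val hc)
  have F2 := frob_centralizer (H.subgroupOf L) (W₁.subgroupOf L) hinf' hsup' hfpf'
  haveI hnilK : Group.IsNilpotent (H.subgroupOf L) :=
    haveI := hnil
    Group.nilpotent_of_mulEquiv (Subgroup.subgroupOfEquivOfLe hHL).symm
  have hsolv : Group.IsSolvable (H.subgroupOf L) := inferInstance
  have hirr : ∀ χ ∈ Cfsg.inducedIrrAbove (H.subgroupOf L) ⊥, Cfsg.IsIrrCharacter L χ := by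
    rintro _ ⟨θ, h0, h1, _, rfl⟩
    exact Cfsg.Agent.S0171.result _ _ hinf' hsup' hfpf' θ h0 h1
  have hKbot : H.subgroupOf L ≠ ⊥ := by
    intro h
    apply hH1
    rw [eq_bot_iff]
    intro x hx
    have : (⟨x, hHL hx⟩ : L) ∈ H.subgroupOf L := hx
    rw [h, Subgroup.mem_bot] at this
    rw [Subgroup.mem_bot]
    exact congrArg Subtype.val this
  have hKtop : H.subgroupOf L < ⊤ := by
    rw [lt_top_iff_ne_top]
    intro h
    apply hW1
    rw [Subgroup.subgroupOf_eq_top] at h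
    rw [← hinf]
    exact (inf_eq_right.2 (hW₁L.trans h)).symm
  have hK'K : ⁅H.subgroupOf L, H.subgroupOf L⁆ < H.subgroupOf L := by
    apply lt_of_le_of_ne (Subgroup.commutator_le_left _ _)
    intro h
    apply hKbot
    haveI : ((⊥ : Subgroup L).subgroupOf (H.subgroupOf L)).Normal :=
      Subgroup.Normal.subgroupOf inferInstance _
    exact eq_of_commutator_sup_eq ⊥ _ _ bot_le le_rfl inferInstance (by rw [sup_bot_eq]; exact h)
  obtain ⟨x₀, hx₀⟩ : ∃ x₀ : L, x₀ ∉ H.subgroupOf L := by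
    by_contra hcon
    push Not at hcon
    exact hKtop.ne (eq_top_iff.2 (fun x _ => hcon x))
  have hne : (Cfsg.inducedIrrAbove (H.subgroupOf L) ⊥).Nonempty := by
    obtain ⟨χ, hχ, _⟩ := exists_linear_above (H.subgroupOf L) hsolv ⊥ (bot_lt_iff_ne_bot.2 hKbot)
    exact ⟨χ, hχ⟩
  have hconj : ∀ χ ∈ Cfsg.inducedIrrAbove (H.subgroupOf L) ⊥,
      Cfsg.conjFun χ ∈ Cfsg.inducedIrrAbove (H.subgroupOf L) ⊥ ∧ Cfsg.conjFun χ ≠ χ := by
    intro χ hχ
    refine ⟨inducedIrrAbove_conj _ hχ, fun h => ?_⟩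
    have h1 := Cfsg.Agent.S0161.result hodd ⟨χ, hirr χ hχ⟩ (by
      intro g
      have := congrFun h g
      rw [conjFun_apply] at this
      exact Complex.conj_eq_iff_im.1 this)
    obtain ⟨θ, _, _, _, rfl⟩ := hχ
    have h2 := congrFun h1 x₀
    simp only at h2
    rw [indFun_normal_eq_zero _ θ hx₀] at h2
    exact zero_ne_one h2
  obtain ⟨R, hS⟩ := Cfsg.Agent.S1514.result _ hne hirr hconj _ (ind_isometry L H hHL hTI hN)
    (ind_map_one L _)
  have hfrob := frob_quot (H.subgroupOf L) ⁅H.subgroupOf L, H.subgroupOf L⁆ hK'K.le F2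
  haveI hbn : ((⊥ : Subgroup L).subgroupOf (H.subgroupOf L)).Normal :=
    Subgroup.Normal.subgroupOf inferInstance _
  by_cases hpp : ∃ p n : ℕ, p.Prime ∧ Nat.card (H.subgroupOf L) = p ^ n
  swap
  · apply Cfsg.Agent.S1521.result (H.subgroupOf L) hsolv _ R hS hodd ⊥ bot_le inferInstance
      ⁅H.subgroupOf L, H.subgroupOf L⁆ (sup_bot_eq _).symm hK'K hKtop hfrob
    right; right; left
    rw [Subgroup.relIndex_bot_left]
    exact hpp
  by_cases hab : ⁅H.subgroupOf L, H.subgroupOf L⁆ = ⊥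
  · apply Cfsg.Agent.S1521.result (H.subgroupOf L) hsolv _ R hS hodd ⊥ bot_le inferInstance
      ⁅H.subgroupOf L, H.subgroupOf L⁆ (sup_bot_eq _).symm hK'K hKtop hfrob
    right; right; right; left
    exact hab.le
  obtain ⟨p, n, hp, hcard⟩ := hpp
  haveI : Fact p.Prime := ⟨hp⟩
  obtain ⟨z₀, hz₀, hz₀1, hz₀c⟩ := nil_inf_center (H.subgroupOf L) hnilK _
    ⁅H.subgroupOf L, H.subgroupOf L⁆ inferInstance hK'K.le hab rfl
  have F2' : ∀ y ∈ H.subgroupOf L, y ≠ 1 → ∀ g : L, g * y * g⁻¹ = y → g ∈ H.subgroupOf L := by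
    intro y hy hy1 g hg
    apply F2 y hy hy1 g
    calc g * y = g * y * g⁻¹ * g := by group
      _ = y * g := by rw [hg]
  have he : Odd (H.subgroupOf L).index := Odd.of_dvd_nat hodd (Subgroup.index_dvd_card _)
  have hn0 : n ≠ 0 := by
    rintro rfl
    rw [pow_zero] at hcard
    exact hKbot (Subgroup.card_eq_one.1 hcard)
  have hcop : Nat.Coprime (H.relIndex L) p := by
    have d := index_dvd_card_sub_one (H.subgroupOf L) (H.subgroupOf L) F2'
    rw [hcard] at d
    rw [Nat.coprime_comm, Nat.Prime.coprime_iff_not_dvd hp]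
    intro hpe
    have h1 : p ∣ p ^ n - 1 := hpe.trans d
    have h2 : p ∣ p ^ n := dvd_pow_self p hn0
    have h3 : p ∣ p ^ n - (p ^ n - 1) := Nat.dvd_sub h2 h1
    have h4 : p ^ n - (p ^ n - 1) = 1 := by
      have : 0 < p ^ n := pow_pos hp.pos n
      omega
    rw [h4] at h3
    exact hp.one_lt.ne' (Nat.dvd_one.1 h3)
  have hpH : IsPGroup p H := by
    apply IsPGroup.of_card (n := n)
    rw [← hcard]
    exact (Nat.card_congr (Subgroup.subgroupOfEquivOfLe hHL).toEquiv).symm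
  obtain ⟨P, hP⟩ := exists_sylow_eq H L hN hpH hcop
  subst hP
  generalize hZdef : ⁅(P : Subgroup G).subgroupOf L, (P : Subgroup G).subgroupOf L⁆ ⊓
    Subgroup.centralizer (((P : Subgroup G).subgroupOf L : Subgroup L) : Set L) = Z
  haveI hZn : Z.Normal := by rw [← hZdef]; infer_instance
  have hZK' : Z ≤ ⁅(P : Subgroup G).subgroupOf L, (P : Subgroup G).subgroupOf L⁆ := by
    rw [← hZdef]; exact inf_le_left
  have hZc : ∀ z ∈ Z, ∀ k ∈ (P : Subgroup G).subgroupOf L, z * k = k * z := by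
    intro z hz k hk
    rw [← hZdef, Subgroup.mem_inf, Subgroup.mem_centralizer_iff] at hz
    exact (hz.2 k hk).symm
  have hZ1 : Z ≠ ⊥ := by
    intro h
    have : z₀ ∈ Z := by
      rw [← hZdef, Subgroup.mem_inf, Subgroup.mem_centralizer_iff]
      exact ⟨hz₀, fun k hk => (hz₀c k hk).symm⟩
    rw [h, Subgroup.mem_bot] at this
    exact hz₀1 this
  have hZK : Z ≤ (P : Subgroup G).subgroupOf L := hZK'.trans hK'K.le
  have hZcard : 2 * ((P : Subgroup G).subgroupOf L).index + 1 ≤ Nat.card Z := by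
    apply two_mul_add_one_le he (Odd.of_dvd_nat hodd (Subgroup.card_subgroup_dvd_card Z))
    · exact (Subgroup.one_lt_card_iff_ne_bot Z).2 hZ1
    · exact index_dvd_card_sub_one _ Z (fun y hy => F2' y (hZK hy))
  have h67 := h67_of p P L hN hTI hodd Z hZ1 hZK hZc F2
  obtain ⟨hXeq, cohX⟩ := Cfsg.Agent.S1522.result _ hsolv _ R hS hodd hnilK hK'K hKtop hfrob Z hZ1
    hZK hZc (fun χ hχ => hirr χ hχ.1)
  apply sibley_extend _ hsolv _ R hS Z hZK' hK'K hZc hZcard
  exact sibley_glue L _ hsolv R hS hirr Z hZK' hZ1 hK'K hXeq cohX h67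

end Cfsg.Agent.S1524
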