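import Cfsg.Statements.S0183
import Cfsg.Agent.Lib.Helper30.CNMain
import Cfsg.Agent.S1526

set_option autoImplicit false
open Cfsg

namespace Cfsg.Agent.S0183
/-- The CN-Theorem for odd order: a finite group of odd order in which every non-identity element has a nilpotent centralizer (a CN-group) is solvable. -/
theorem result {G : Type*} [Group G] [Finite G] (hodd : Odd (Nat.card G)) (hCN : Cfsg.IsCNGroup G) : Group.IsSolvable G := by
  refine Cfsg.Agent.Lib.Helper30.cn_theorem_of ?_ hodd hCN
  intro G _ _ hodd ι _ hι L H h2 h3 h4 h5 h6 h7 h8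
  exact Cfsg.Agent.S1526.result hodd hι L H h2 h3 h4 h5 h6 h7 h8

end Cfsg.Agent.S0183
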