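import Cfsg.Statements.S1463
import Mathlib

set_option autoImplicit false
open scoped MatrixGroups
open Cfsg

namespace Cfsg.Agent.S1463

variable {F : Type*} [Field F]

theorem pow_upper (M : Matrix (Fin 2) (Fin 2) F) (h10 : M 1 0 = 0) (n : ℕ) :
    (M ^ n) 1 0 = 0 ∧ (M ^ n) 0 0 = (M 0 0) ^ n := by
  induction n with
  | zero => simp
  | succ n ih =>
    rw [pow_succ, Matrix.mul_apply, Matrix.mul_apply, Fin.sum_univ_two, Fin.sum_univ_two, ih.1, ih.2,
      h10]
    constructor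
    · ring
    · ring

theorem eq_one_of_pow_char_pow (p : ℕ) [Fact p.Prime] [CharP F p] (μ : F) (k : ℕ)
    (h : μ ^ p ^ k = 1) : μ = 1 := by
  have h1 : (μ - 1) ^ p ^ k = 0 := by
    rw [sub_pow_char_pow, h, one_pow, sub_self]
  exact sub_eq_zero.mp (pow_eq_zero_iff (pow_ne_zero k (Fact.out : p.Prime).ne_zero) |>.mp h1)

/-- the upper unitriangular element -/
def ux (a : F) : GL (Fin 2) F :=
  ⟨!![1, a; 0, 1], !![1, -a; 0, 1], by ext i j; fin_cases i <;> fin_cases j <;> simp,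
    by ext i j; fin_cases i <;> fin_cases j <;> simp⟩

/-- the lower unitriangular element -/
def uy (b : F) : GL (Fin 2) F :=
  ⟨!![1, 0; b, 1], !![1, 0; -b, 1], by ext i j; fin_cases i <;> fin_cases j <;> simp,
    by ext i j; fin_cases i <;> fin_cases j <;> simp⟩

/-- the reflection -/
def dd : GL (Fin 2) F :=
  ⟨!![1, 0; 0, -1], !![1, 0; 0, -1], by ext i j; fin_cases i <;> fin_cases j <;> simp,
    by ext i j; fin_cases i <;> fin_cases j <;> simp⟩

theorem dd_ux (a : F) : dd * ux a * dd⁻¹ = (ux a)⁻¹ := by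
  apply Units.ext
  ext i j
  fin_cases i <;> fin_cases j <;> simp [dd, ux, Matrix.mul_apply, Fin.sum_univ_two]

theorem dd_uy (b : F) : dd * uy b * dd⁻¹ = (uy b)⁻¹ := by
  apply Units.ext
  ext i j
  fin_cases i <;> fin_cases j <;> simp [dd, uy, Matrix.mul_apply, Fin.sum_univ_two]

/-- commuting with a nontrivial upper unitriangular-like matrix forces upper triangular shape -/
theorem lower_zero_of_commute (h z : Matrix (Fin 2) (Fin 2) F) (hz10 : z 1 0 = 0)
    (hz01 : z 0 1 ≠ 0) (hzd : z 0 0 = z 1 1) (hc : h * z = z * h) : h 1 0 = 0 ∧ h 0 0 = h 1 1 := by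
  have e00 := congrFun (congrFun hc 0) 0
  have e01 := congrFun (congrFun hc 0) 1
  simp only [Matrix.mul_apply, Fin.sum_univ_two, hz10] at e00 e01
  have h10 : h 1 0 = 0 := by
    have : z 0 1 * h 1 0 = 0 := by linear_combination -e00
    exact (mul_eq_zero.mp this).resolve_left hz01
  refine ⟨h10, ?_⟩
  have : z 0 1 * (h 0 0 - h 1 1) = 0 := by
    rw [hzd] at e01
    linear_combination e01
  exact sub_eq_zero.mp ((mul_eq_zero.mp this).resolve_left hz01)

/-- a finite `p`-subgroup containing a nontrivial upper unitriangular element is upper triangular -/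
theorem upper_of_pgroup (p : ℕ) [Fact p.Prime] [CharP F p] (P : Subgroup (GL (Fin 2) F)) [Finite P]
    (hP : IsPGroup p P) (a : F) (ha : a ≠ 0) (hx : ux a ∈ P) :
    ∀ h ∈ P, (h : Matrix (Fin 2) (Fin 2) F) 1 0 = 0 := by
  have hnt : Nontrivial P := by
    refine ⟨⟨⟨ux a, hx⟩, 1, ?_⟩⟩
    intro h
    have h1 : (ux a : Matrix (Fin 2) (Fin 2) F) 0 1 = (1 : Matrix (Fin 2) (Fin 2) F) 0 1 := by
      have := congrArg (fun t : P => ((t : GL (Fin 2) F) : Matrix (Fin 2) (Fin 2) F) 0 1) h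
      simpa using this
    simp [ux] at h1
    exact ha h1
  have hcen := hP.center_nontrivial
  obtain ⟨z, hz⟩ := exists_ne (1 : Subgroup.center P)
  set Z : Matrix (Fin 2) (Fin 2) F := (((z : P) : GL (Fin 2) F) : Matrix (Fin 2) (Fin 2) F) with hZ
  have hcomm : ∀ h ∈ P, (h : Matrix (Fin 2) (Fin 2) F) * Z = Z * (h : Matrix (Fin 2) (Fin 2) F) := by
    intro h hh
    have h1 := Subgroup.mem_center_iff.mp z.2 ⟨h, hh⟩
    have h2 := congrArg (fun t : P => ((t : GL (Fin 2) F) : Matrix (Fin 2) (Fin 2) F)) h1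
    simpa using h2
  have hz1 := lower_zero_of_commute Z (ux a : Matrix (Fin 2) (Fin 2) F) (by simp [ux])
    (by simpa [ux] using ha) (by simp [ux]) (hcomm _ hx).symm
  obtain ⟨k, hk⟩ := hP (z : P)
  have hZk : Z ^ p ^ k = 1 := by
    have h2 := congrArg (fun t : P => ((t : GL (Fin 2) F) : Matrix (Fin 2) (Fin 2) F)) hk
    simpa using h2
  have hz00 : Z 0 0 = 1 := by
    have h3 := (pow_upper Z hz1.1 (p ^ k)).2
    rw [hZk] at h3
    exact eq_one_of_pow_char_pow p _ k (by simpa using h3.symm)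
  have hz01 : Z 0 1 ≠ 0 := by
    intro h01
    apply hz
    apply Subtype.ext
    apply Subtype.ext
    apply Units.ext
    change Z = 1
    ext i j
    fin_cases i <;> fin_cases j
    · simpa using hz00
    · simpa using h01
    · simpa using hz1.1
    · simpa using (hz1.2.symm.trans hz00)
  intro h hh
  exact (lower_zero_of_commute _ Z hz1.1 hz01 hz1.2 (hcomm h hh)).1

theorem ux_pow (a : F) (n : ℕ) : (ux a) ^ n = ux (n * a) := by
  induction n with
  | zero =>
    apply Units.ext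
    ext i j
    fin_cases i <;> fin_cases j <;> simp [ux]
  | succ n ih =>
    rw [pow_succ, ih]
    apply Units.ext
    ext i j
    fin_cases i <;> fin_cases j <;> simp [ux, Matrix.mul_apply, Fin.sum_univ_two]
    ring

theorem uy_pow (b : F) (n : ℕ) : (uy b) ^ n = uy (n * b) := by
  induction n with
  | zero =>
    apply Units.ext
    ext i j
    fin_cases i <;> fin_cases j <;> simp [uy]
  | succ n ih =>
    rw [pow_succ, ih]
    apply Units.ext
    ext i j
    fin_cases i <;> fin_cases j <;> simp [uy, Matrix.mul_apply, Fin.sum_univ_two]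
    ring

theorem ux_pow_char (p : ℕ) [CharP F p] (a : F) : (ux a) ^ p = 1 := by
  rw [ux_pow, CharP.cast_eq_zero, zero_mul]
  apply Units.ext
  ext i j
  fin_cases i <;> fin_cases j <;> simp [ux]

theorem uy_pow_char (p : ℕ) [CharP F p] (b : F) : (uy b) ^ p = 1 := by
  rw [uy_pow, CharP.cast_eq_zero, zero_mul]
  apply Units.ext
  ext i j
  fin_cases i <;> fin_cases j <;> simp [uy]

theorem isPGroup_zpowers {G : Type*} [Group G] (p : ℕ) (x : G) (hx : x ^ p = 1) :
    IsPGroup p (Subgroup.zpowers x) := by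
  rintro ⟨g, hg⟩
  obtain ⟨k, rfl⟩ := Subgroup.mem_zpowers_iff.mp hg
  refine ⟨1, ?_⟩
  apply Subtype.ext
  change (x ^ k) ^ p ^ 1 = 1
  rw [pow_one, ← zpow_natCast, ← zpow_mul, mul_comm, zpow_mul, zpow_natCast, hx, one_zpow]

theorem neg_one_pow_char (p : ℕ) [Fact p.Prime] [CharP F p] (W : Matrix (Fin 2) (Fin 2) F)
    (h00 : W 0 0 = -1) (h01 : W 0 1 = 0) (h11 : W 1 1 = -1) : W ^ p = -1 := by
  have h2 : (W + 1) ^ 2 = 0 := by
    rw [pow_two]
    ext i j
    fin_cases i <;> fin_cases j <;> simp [Matrix.mul_apply, Fin.sum_univ_two, h00, h01, h11]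
  have hp2 : 2 ≤ p := (Fact.out : p.Prime).two_le
  have h3 : (W + 1) ^ p = 0 := by
    obtain ⟨m, rfl⟩ := Nat.exists_eq_add_of_le hp2
    rw [pow_add, h2, zero_mul]
  rw [add_pow_char_of_commute p (Commute.one_right W), one_pow] at h3
  exact eq_neg_of_add_eq_zero_left h3

theorem core (p : ℕ) [Fact p.Prime] [CharP F p] (hp : p ≠ 2) (H : Subgroup (GL (Fin 2) F))
    [Finite H] (a b : F) (ha : a ≠ 0) (hb : b ≠ 0) (hx : ux a ∈ H) (hy : uy b ∈ H) :
    2 ∣ Nat.card H := by
  set K : Subgroup (GL (Fin 2) F) := Subgroup.closure {ux a, uy b} with hK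
  have hKH : K ≤ H := by
    rw [hK, Subgroup.closure_le]
    intro t ht
    rcases ht with rfl | rfl
    · exact hx
    · exact hy
  have hfin : Finite K := Finite.of_injective _ (Subgroup.inclusion_injective hKH)
  have hxK : ux a ∈ K := Subgroup.subset_closure (by simp)
  have hyK : uy b ∈ K := Subgroup.subset_closure (by simp)
  have hσ : ∀ k ∈ K, dd * k * dd⁻¹ ∈ K := by
    intro k hk
    induction hk using Subgroup.closure_induction with
    | mem t ht =>
      rcases ht with rfl | rfl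
      · rw [dd_ux]; exact K.inv_mem hxK
      · rw [dd_uy]; exact K.inv_mem hyK
    | one => simp
    | mul s t _ _ hs ht =>
      have : dd * (s * t) * dd⁻¹ = (dd * s * dd⁻¹) * (dd * t * dd⁻¹) := by group
      rw [this]; exact K.mul_mem hs ht
    | inv s _ hs =>
      have : dd * s⁻¹ * dd⁻¹ = (dd * s * dd⁻¹)⁻¹ := by group
      rw [this]; exact K.inv_mem hs
  obtain ⟨P, hP⟩ := (isPGroup_zpowers p (⟨ux a, hxK⟩ : K)
    (Subtype.ext (ux_pow_char p a))).exists_le_sylow
  obtain ⟨Q, hQ⟩ := (isPGroup_zpowers p (⟨uy b, hyK⟩ : K)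
    (Subtype.ext (uy_pow_char p b))).exists_le_sylow
  obtain ⟨g, hg⟩ := MulAction.exists_smul_eq K P Q
  have hmem : g⁻¹ * ⟨uy b, hyK⟩ * g ∈ (P : Subgroup K) := by
    have h1 : (⟨uy b, hyK⟩ : K) ∈ (Q : Subgroup K) := hQ (Subgroup.mem_zpowers _)
    rw [← hg, Sylow.smul_def, Sylow.pointwise_smul_def,
      Subgroup.mem_pointwise_smul_iff_inv_smul_mem] at h1
    simpa [MulAut.smul_def] using h1
  have hfin2 : Finite ((P : Subgroup K).map K.subtype) :=
    Finite.of_equiv _ ((P : Subgroup K).equivMapOfInjective _ K.subtype_injective).toEquiv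
  have hup := upper_of_pgroup p ((P : Subgroup K).map K.subtype) (P.isPGroup'.map _) a ha
    (Subgroup.mem_map.mpr ⟨⟨ux a, hxK⟩, hP (Subgroup.mem_zpowers _), rfl⟩)
  set G₀ : GL (Fin 2) F := (g : GL (Fin 2) F) with hG₀
  have h10 := hup (G₀⁻¹ * uy b * G₀) (Subgroup.mem_map.mpr ⟨_, hmem, rfl⟩)
  set h : GL (Fin 2) F := G₀⁻¹ * uy b * G₀ with hh
  set G : Matrix (Fin 2) (Fin 2) F := (G₀ : Matrix (Fin 2) (Fin 2) F) with hG
  have heq : G * (h : Matrix (Fin 2) (Fin 2) F) = (uy b : Matrix (Fin 2) (Fin 2) F) * G := by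
    have : G₀ * h = uy b * G₀ := by rw [hh]; group
    have h2 := congrArg (fun t : GL (Fin 2) F => (t : Matrix (Fin 2) (Fin 2) F)) this
    simpa using h2
  have hG00 : G 0 0 = 0 := by
    have e00 := congrFun (congrFun heq 0) 0
    have e10 := congrFun (congrFun heq 1) 0
    have u00 : (uy b : Matrix (Fin 2) (Fin 2) F) 0 0 = 1 := by simp [uy]
    have u01 : (uy b : Matrix (Fin 2) (Fin 2) F) 0 1 = 0 := by simp [uy]
    have u10 : (uy b : Matrix (Fin 2) (Fin 2) F) 1 0 = b := by simp [uy]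
    have u11 : (uy b : Matrix (Fin 2) (Fin 2) F) 1 1 = 1 := by simp [uy]
    simp only [Matrix.mul_apply, Fin.sum_univ_two, h10, u00, u01, u10, u11] at e00 e10
    by_contra hne
    have h00 : (h : Matrix (Fin 2) (Fin 2) F) 0 0 = 1 := by
      have : G 0 0 * ((h : Matrix (Fin 2) (Fin 2) F) 0 0 - 1) = 0 := by linear_combination e00
      exact sub_eq_zero.mp ((mul_eq_zero.mp this).resolve_left hne)
    rw [h00] at e10
    have : b * G 0 0 = 0 := by linear_combination -e10
    rcases mul_eq_zero.mp this with e | e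
    · exact hb e
    · exact hne e
  have hdet : G 0 1 * G 1 0 ≠ 0 := by
    have h1 : G.det ≠ 0 := by
      have := (Matrix.GeneralLinearGroup.det G₀).ne_zero
      simpa using this
    rw [Matrix.det_fin_two, hG00] at h1
    intro h2
    apply h1
    rw [h2]; ring
  have hG01 : G 0 1 ≠ 0 := left_ne_zero_of_mul hdet
  have hG10 : G 1 0 ≠ 0 := right_ne_zero_of_mul hdet
  set w : GL (Fin 2) F := G₀ * dd * G₀⁻¹ * dd⁻¹ with hw
  have hwK : w ∈ K := by
    have : w = G₀ * (dd * G₀ * dd⁻¹)⁻¹ := by rw [hw]; group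
    rw [this]
    exact K.mul_mem g.2 (K.inv_mem (hσ _ g.2))
  set W : Matrix (Fin 2) (Fin 2) F := (w : Matrix (Fin 2) (Fin 2) F) with hW
  have hWeq : W * ((dd : GL (Fin 2) F) : Matrix (Fin 2) (Fin 2) F) * G
      = G * ((dd : GL (Fin 2) F) : Matrix (Fin 2) (Fin 2) F) := by
    have : w * dd * G₀ = G₀ * dd := by rw [hw]; group
    have h2 := congrArg (fun t : GL (Fin 2) F => (t : Matrix (Fin 2) (Fin 2) F)) this
    simpa using h2
  have d00 : ((dd : GL (Fin 2) F) : Matrix (Fin 2) (Fin 2) F) 0 0 = 1 := by simp [dd]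
  have d01 : ((dd : GL (Fin 2) F) : Matrix (Fin 2) (Fin 2) F) 0 1 = 0 := by simp [dd]
  have d10 : ((dd : GL (Fin 2) F) : Matrix (Fin 2) (Fin 2) F) 1 0 = 0 := by simp [dd]
  have d11 : ((dd : GL (Fin 2) F) : Matrix (Fin 2) (Fin 2) F) 1 1 = -1 := by simp [dd]
  have e00 := congrFun (congrFun hWeq 0) 0
  have e01 := congrFun (congrFun hWeq 0) 1
  have e10 := congrFun (congrFun hWeq 1) 0
  simp only [Matrix.mul_apply, Fin.sum_univ_two, d00, d01, d10, d11, hG00] at e00 e01 e10
  have w01 : W 0 1 = 0 := by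
    have : W 0 1 * G 1 0 = 0 := by linear_combination -e00
    exact (mul_eq_zero.mp this).resolve_right hG10
  have w00 : W 0 0 = -1 := by
    rw [w01] at e01
    have : (W 0 0 + 1) * G 0 1 = 0 := by linear_combination e01
    exact eq_neg_of_add_eq_zero_left ((mul_eq_zero.mp this).resolve_right hG01)
  have w11 : W 1 1 = -1 := by
    have : (W 1 1 + 1) * G 1 0 = 0 := by linear_combination -e10
    exact eq_neg_of_add_eq_zero_left ((mul_eq_zero.mp this).resolve_right hG10)
  have hWp := neg_one_pow_char p W w00 w01 w11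
  have h2F : (2 : F) ≠ 0 := by
    intro h2
    have h3 : ((2 : ℕ) : F) = 0 := by exact_mod_cast h2
    rw [CharP.cast_eq_zero_iff F p] at h3
    exact hp ((Nat.prime_dvd_prime_iff_eq Fact.out Nat.prime_two).mp h3)
  have ht2 : (w ^ p) ^ 2 = 1 := by
    apply Units.ext
    change ((w ^ p) ^ 2 : GL (Fin 2) F).val = 1
    rw [Units.val_pow_eq_pow_val, Units.val_pow_eq_pow_val, ← hW, hWp]
    simp
  have ht1 : w ^ p ≠ 1 := by
    intro h1
    have h3 : ((w ^ p : GL (Fin 2) F) : Matrix (Fin 2) (Fin 2) F) 0 0 = 1 := by rw [h1]; simp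
    rw [Units.val_pow_eq_pow_val, ← hW, hWp] at h3
    simp at h3
    apply h2F
    linear_combination -h3
  have hord : orderOf (w ^ p) = 2 := orderOf_eq_prime ht2 ht1
  have hmemH : w ^ p ∈ H := hKH (K.pow_mem hwK p)
  have := orderOf_dvd_natCard (⟨w ^ p, hmemH⟩ : H)
  rwa [Subgroup.orderOf_mk, hord] at this

theorem det_eq_one_of_pow (p : ℕ) [Fact p.Prime] [CharP F p] (t : GL (Fin 2) F) (ht : t ^ p = 1) :
    (t : Matrix (Fin 2) (Fin 2) F).det = 1 := by
  apply eq_one_of_pow_char_pow p _ 1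
  rw [pow_one, ← Matrix.det_pow, ← Units.val_pow_eq_pow_val, ht]
  simp

theorem form_x (p : ℕ) [Fact p.Prime] [CharP F p] (t : GL (Fin 2) F) (ht : t ^ p = 1) (ht1 : t ≠ 1)
    (hfix : (t : Matrix (Fin 2) (Fin 2) F).mulVec ![1, 0] = ![1, 0]) : ∃ a : F, a ≠ 0 ∧ t = ux a := by
  have e0 := congrFun hfix 0
  have e1 := congrFun hfix 1
  simp [Matrix.mulVec, dotProduct, Fin.sum_univ_two] at e0 e1
  have hd := det_eq_one_of_pow p t ht
  rw [Matrix.det_fin_two, e0, e1] at hd
  have e11 : (t : Matrix (Fin 2) (Fin 2) F) 1 1 = 1 := by linear_combination hd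
  have key : t = ux ((t : Matrix (Fin 2) (Fin 2) F) 0 1) := by
    apply Units.ext
    ext i j
    fin_cases i <;> fin_cases j <;> simp [ux, e0, e1, e11]
  refine ⟨_, ?_, key⟩
  intro h0
  apply ht1
  rw [key, h0]
  apply Units.ext
  ext i j
  fin_cases i <;> fin_cases j <;> simp [ux]

theorem form_y (p : ℕ) [Fact p.Prime] [CharP F p] (t : GL (Fin 2) F) (ht : t ^ p = 1) (ht1 : t ≠ 1)
    (hfix : (t : Matrix (Fin 2) (Fin 2) F).mulVec ![0, 1] = ![0, 1]) : ∃ b : F, b ≠ 0 ∧ t = uy b := by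
  have e0 := congrFun hfix 0
  have e1 := congrFun hfix 1
  simp [Matrix.mulVec, dotProduct, Fin.sum_univ_two] at e0 e1
  have hd := det_eq_one_of_pow p t ht
  rw [Matrix.det_fin_two, e0, e1] at hd
  have e00 : (t : Matrix (Fin 2) (Fin 2) F) 0 0 = 1 := by linear_combination hd
  have key : t = uy ((t : Matrix (Fin 2) (Fin 2) F) 1 0) := by
    apply Units.ext
    ext i j
    fin_cases i <;> fin_cases j <;> simp [uy, e0, e1, e00]
  refine ⟨_, ?_, key⟩
  intro h0
  apply ht1
  rw [key, h0]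
  apply Units.ext
  ext i j
  fin_cases i <;> fin_cases j <;> simp [uy]

theorem conj_fix (B t : GL (Fin 2) F) (e v : Fin 2 → F)
    (hB : (B : Matrix (Fin 2) (Fin 2) F).mulVec e = v)
    (ht : (t : Matrix (Fin 2) (Fin 2) F).mulVec v = v) :
    ((B⁻¹ * t * B : GL (Fin 2) F) : Matrix (Fin 2) (Fin 2) F).mulVec e = e := by
  rw [Units.val_mul, Units.val_mul, ← Matrix.mulVec_mulVec, ← Matrix.mulVec_mulVec, hB, ht, ← hB,
    Matrix.mulVec_mulVec, ← Units.val_mul, inv_mul_cancel]
  simp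

theorem det_ne_zero_of_not_mem_span (v₁ v₂ : Fin 2 → F) (hv₁ : v₁ ≠ 0)
    (h : v₂ ∉ Submodule.span F {v₁}) : (!![v₁ 0, v₂ 0; v₁ 1, v₂ 1] : Matrix (Fin 2) (Fin 2) F).det ≠ 0 := by
  intro hd
  rw [Matrix.det_fin_two_of] at hd
  apply h
  rw [Submodule.mem_span_singleton]
  by_cases h0 : v₁ 0 = 0
  · have h1 : v₁ 1 ≠ 0 := by
      intro h1
      apply hv₁
      ext i
      fin_cases i
      · exact h0
      · exact h1
    refine ⟨v₂ 1 / v₁ 1, ?_⟩
    ext i
    fin_cases i
    · rw [h0] at hd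
      have : v₂ 0 * v₁ 1 = 0 := by linear_combination -hd
      have h2 : v₂ 0 = 0 := (mul_eq_zero.mp this).resolve_right h1
      simp [h0, h2]
    · simp [h1]
  · refine ⟨v₂ 0 / v₁ 0, ?_⟩
    ext i
    fin_cases i
    · simp [h0]
    · simp only [Pi.smul_apply, smul_eq_mul]
      change v₂ 0 / v₁ 0 * v₁ 1 = v₂ 1
      field_simp
      linear_combination -hd

/-- Let F be a field of odd characteristic p and H a finite subgroup of odd order of GL(2, F) that leaves no 1-dimensional subspace of F² invariant. Then p does not divide the order of H. -/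
theorem result {F : Type*} [Field F] (p : ℕ) [Fact p.Prime] [CharP F p] (hp : p ≠ 2)
    (H : Subgroup (GL (Fin 2) F)) [Finite H] (hodd : Odd (Nat.card H))
    (hirr : ∀ v : Fin 2 → F, v ≠ 0 → ∃ g ∈ H, (g : Matrix (Fin 2) (Fin 2) F).mulVec v ∉ Submodule.span F {v}) :
    ¬ p ∣ Nat.card H := by
  intro hdvd
  obtain ⟨x, hx⟩ := exists_prime_orderOf_dvd_card' (G := H) p hdvd
  have hxp : (x : GL (Fin 2) F) ^ p = 1 := by
    have := pow_orderOf_eq_one x
    rw [hx] at this
    exact congrArg Subtype.val this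
  have hx1 : (x : GL (Fin 2) F) ≠ 1 := by
    intro h
    have : x = 1 := Subtype.ext h
    rw [this, orderOf_one] at hx
    exact (Fact.out : p.Prime).one_lt.ne hx
  set X : Matrix (Fin 2) (Fin 2) F := ((x : GL (Fin 2) F) : Matrix (Fin 2) (Fin 2) F) with hX
  have hXp : X ^ p = 1 := by
    rw [hX, ← Units.val_pow_eq_pow_val, hxp]; rfl
  have hdet : (X - 1).det = 0 := by
    have h1 : (X - 1) ^ p = 0 := by
      rw [sub_pow_char_of_commute p (Commute.one_right X), hXp, one_pow, sub_self]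
    have h2 := congrArg Matrix.det h1
    rw [Matrix.det_pow, Matrix.det_zero] at h2
    exact pow_eq_zero_iff (Fact.out : p.Prime).ne_zero |>.mp h2
  obtain ⟨v₁, hv₁, hfix⟩ := Matrix.exists_mulVec_eq_zero_iff.mpr hdet
  have hXv : X.mulVec v₁ = v₁ := by
    rw [Matrix.sub_mulVec, Matrix.one_mulVec, sub_eq_zero] at hfix
    exact hfix
  obtain ⟨g, hgH, hg⟩ := hirr v₁ hv₁
  set v₂ := (g : Matrix (Fin 2) (Fin 2) F).mulVec v₁ with hv₂
  have hBdet := det_ne_zero_of_not_mem_span v₁ v₂ hv₁ hg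
  set B : GL (Fin 2) F := Matrix.GeneralLinearGroup.mkOfDetNeZero _ hBdet with hB
  have hB1 : (B : Matrix (Fin 2) (Fin 2) F).mulVec ![1, 0] = v₁ := by
    ext i
    fin_cases i <;> simp [hB, Matrix.GeneralLinearGroup.mkOfDetNeZero, Matrix.mulVec, dotProduct]
  have hB2 : (B : Matrix (Fin 2) (Fin 2) F).mulVec ![0, 1] = v₂ := by
    ext i
    fin_cases i <;> simp [hB, Matrix.GeneralLinearGroup.mkOfDetNeZero, Matrix.mulVec, dotProduct]
  set y : GL (Fin 2) F := g * x * g⁻¹ with hy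
  have hyv : (y : Matrix (Fin 2) (Fin 2) F).mulVec v₂ = v₂ := by
    have := conj_fix g⁻¹ x v₂ v₁ (by
      rw [hv₂, Matrix.mulVec_mulVec, ← Units.val_mul, inv_mul_cancel]; simp) hXv
    rwa [inv_inv] at this
  have hyp : y ^ p = 1 := by rw [hy, conj_pow, hxp]; group
  have hy1 : y ≠ 1 := by
    intro h
    apply hx1
    have : (x : GL (Fin 2) F) = g⁻¹ * y * g := by rw [hy]; group
    rw [this, h]; group
  have hyH : y ∈ H := H.mul_mem (H.mul_mem hgH x.2) (H.inv_mem hgH)
  obtain ⟨a, ha, hxa⟩ := form_x p (B⁻¹ * (x : GL (Fin 2) F) * B) (by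
      have := conj_pow (a := B⁻¹) (b := (x : GL (Fin 2) F)) (i := p)
      rw [inv_inv] at this
      rw [this, hxp]; group)
    (by
      intro h
      apply hx1
      have : (x : GL (Fin 2) F) = B * (B⁻¹ * x * B) * B⁻¹ := by group
      rw [this, h]; group) (conj_fix B x _ _ hB1 hXv)
  obtain ⟨b, hb, hyb⟩ := form_y p (B⁻¹ * y * B) (by
      have := conj_pow (a := B⁻¹) (b := y) (i := p)
      rw [inv_inv] at this
      rw [this, hyp]; group)
    (by
      intro h
      apply hy1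
      have : y = B * (B⁻¹ * y * B) * B⁻¹ := by group
      rw [this, h]; group) (conj_fix B y _ _ hB2 hyv)
  set H' : Subgroup (GL (Fin 2) F) := H.map (MulAut.conj B⁻¹).toMonoidHom with hH'
  have e : H ≃* H' := H.equivMapOfInjective _ (MulAut.conj B⁻¹).injective
  have hfin : Finite H' := Finite.of_equiv _ e.toEquiv
  have hxH' : ux a ∈ H' := by
    rw [← hxa]
    refine Subgroup.mem_map.mpr ⟨x, x.2, ?_⟩
    change B⁻¹ * x * B⁻¹⁻¹ = _
    rw [inv_inv]
  have hyH' : uy b ∈ H' := by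
    rw [← hyb]
    refine Subgroup.mem_map.mpr ⟨y, hyH, ?_⟩
    change B⁻¹ * y * B⁻¹⁻¹ = _
    rw [inv_inv]
  have h2 := core p hp H' a b ha hb hxH' hyH'
  rw [← Nat.card_congr e.toEquiv] at h2
  exact (Nat.not_even_iff_odd.mpr hodd) (even_iff_two_dvd.mpr h2)

end Cfsg.Agent.S1463
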