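import Cfsg.Statements.S0015
import Mathlib

set_option autoImplicit false
open Cfsg

namespace Cfsg.Agent.S0015

/-- In a finite nilpotent group, an abelian normal subgroup that is maximal among abelian normal subgroups equals its own centralizer. -/
theorem result {G : Type*} [Group G] [Finite G] [Group.IsNilpotent G]
    (N : Subgroup G) [N.Normal] [IsMulCommutative N]
    (hmax : ∀ M : Subgroup G, M.Normal → IsMulCommutative M → N ≤ M → M = N) :
    Subgroup.centralizer (N : Set G) = N := by
  apply le_antisymm _ (Subgroup.le_centralizer N)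
  by_contra hCN
  set C := Subgroup.centralizer (N : Set G) with hC
  have hCn : C.Normal := Subgroup.normal_centralizer
  obtain ⟨c, hc⟩ := Group.IsNilpotent.nilpotent G
  have hex : ∃ n, ¬ (C ⊓ Subgroup.upperCentralSeries G n ≤ N) := ⟨c, by rw [hc, inf_top_eq]; exact hCN⟩
  classical
  set n := Nat.find hex with hn
  have hn1 : ¬ (C ⊓ Subgroup.upperCentralSeries G n ≤ N) := Nat.find_spec hex
  have hn0 : n ≠ 0 := by
    intro h0
    rw [h0, Subgroup.upperCentralSeries_zero, inf_bot_eq] at hn1
    exact hn1 bot_le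
  obtain ⟨k, hk⟩ := Nat.exists_eq_succ_of_ne_zero hn0
  have hk1 : C ⊓ Subgroup.upperCentralSeries G k ≤ N := by
    have := Nat.find_min hex (m := k) (by omega)
    exact not_not.mp this
  rw [SetLike.not_le_iff_exists] at hn1
  obtain ⟨x, hx, hxN⟩ := hn1
  obtain ⟨hxC, hxZ⟩ := Subgroup.mem_inf.mp hx
  rw [hk, Subgroup.mem_upperCentralSeries_succ_iff] at hxZ
  have hcommN : ∀ g : G, x * g * x⁻¹ * g⁻¹ ∈ N := by
    intro g
    apply hk1
    refine Subgroup.mem_inf.mpr ⟨?_, hxZ g⟩
    have : x * g * x⁻¹ * g⁻¹ = x * (g * x⁻¹ * g⁻¹) := by group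
    rw [this]
    exact C.mul_mem hxC (hCn.conj_mem _ (C.inv_mem hxC) g)
  set M := N ⊔ Subgroup.zpowers x with hM
  have hxM : x ∈ M := Subgroup.mem_sup_right (Subgroup.mem_zpowers x)
  have hMn : M.Normal := by
    constructor
    intro m hm g
    have h1 : g * m * g⁻¹ ∈ M.map (MulAut.conj g).toMonoidHom := ⟨m, hm, by simp⟩
    rw [hM, Subgroup.map_sup, MonoidHom.map_zpowers] at h1
    refine (show _ ≤ M from sup_le ?_ ?_) h1
    · rintro _ ⟨y, hy, rfl⟩
      apply Subgroup.mem_sup_left
      simpa using ‹N.Normal›.conj_mem y hy g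
    · rw [Subgroup.zpowers_le]
      have h2 : (MulAut.conj g).toMonoidHom x = (x * g * x⁻¹ * g⁻¹)⁻¹ * x := by
        simp; group
      rw [h2]
      exact M.mul_mem (Subgroup.mem_sup_left (N.inv_mem (hcommN g))) hxM
  have hzC : Subgroup.zpowers x ≤ Subgroup.centralizer (N : Set G) := by
    rw [Subgroup.zpowers_le]; exact hxC
  have hMc : IsMulCommutative M := by
    rw [← Subgroup.le_centralizer_iff_isMulCommutative]
    apply sup_le
    · rw [Subgroup.le_centralizer_iff]
      exact sup_le (Subgroup.le_centralizer N) hzC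
    · rw [Subgroup.le_centralizer_iff]
      apply sup_le
      · rw [Subgroup.le_centralizer_iff]; exact hzC
      · exact Subgroup.le_centralizer _
  have := hmax M hMn hMc le_sup_left
  exact hxN (this ▸ hxM)

end Cfsg.Agent.S0015
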