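import Cfsg.Statements.S0044
-- import your own Cfsg.Agent.* helpers here
import Mathlib.GroupTheory.Nilpotent

set_option autoImplicit false
open Cfsg

namespace Cfsg.Agent.S0044

/-- In a finite solvable group, the centraliser of the Fitting subgroup is contained in the Fitting subgroup. -/
theorem result {G : Type*} [Group G] [Finite G] [Group.IsSolvable G] :
    Subgroup.centralizer (Cfsg.fittingSubgroup G : Set G) ≤ Cfsg.fittingSubgroup G := by
  set F := Cfsg.fittingSubgroup G with hF
  have hFn : F.Normal := Subgroup.sSup_normal _ (fun H hH => hH.1)
  set C := Subgroup.centralizer (F : Set G) with hC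
  have hCn : C.Normal := inferInstance
  let D : ℕ → Subgroup G :=
    fun n => Nat.rec (motive := fun _ => Subgroup G) C (fun _ K => ⁅K, K⁆) n
  have D0 : D 0 = C := rfl
  have Ds : ∀ n, D (n + 1) = ⁅D n, D n⁆ := fun n => rfl
  have Dn : ∀ n, (D n).Normal := by
    intro n
    induction n with
    | zero => exact hCn
    | succ n ih => rw [Ds]; infer_instance
  have DC : ∀ n, D n ≤ C := by
    intro n
    induction n with
    | zero => exact le_rfl
    | succ n ih =>
      rw [Ds]
      have := Dn n
      exact (Subgroup.commutator_le_left (D n) (D n)).trans ih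
  have Dd : ∀ n, D n ≤ derivedSeries G n := by
    intro n
    induction n with
    | zero => exact le_top
    | succ n ih =>
      rw [Ds, derivedSeries_succ]
      exact Subgroup.commutator_mono ih ih
  have step : ∀ n, D (n + 1) ≤ F → D n ≤ F := by
    intro n h
    have hnil : Group.IsNilpotent (D n) := by
      apply Subgroup.isNilpotent_of_lowerCentralSeries_eq_bot (n := 2)
      rw [Subgroup.lowerCentralSeries_succ, Subgroup.lowerCentralSeries_succ,
        Subgroup.lowerCentralSeries_zero, ← Ds, Subgroup.commutator_eq_bot_iff_le_centralizer]
      refine h.trans ?_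
      rw [Subgroup.le_centralizer_iff]
      exact DC n
    exact le_sSup ⟨Dn n, hnil⟩
  obtain ⟨N, hN⟩ := (inferInstance : Group.IsSolvable G).solvable
  have hbot : D N ≤ F := by
    have := Dd N
    rw [hN] at this
    exact this.trans bot_le
  have down : ∀ n, D n ≤ F → D 0 ≤ F := by
    intro n
    induction n with
    | zero => exact id
    | succ n ih => exact fun h => ih (step n h)
  exact down N hbot

end Cfsg.Agent.S0044
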