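import Cfsg.Statements.S2005
import Cfsg.Agent.Lib.Helper62.CharFunctor
import Cfsg.Agent.Lib.Helper14.PConstrained

set_option autoImplicit false
universe u
open Cfsg

namespace Cfsg.Agent.S2005

open Subgroup Cfsg.Agent.Lib.Helper62 Cfsg.Agent.Lib.Helper77

/-- `X` is (isomorphic to) a section of `G`. -/
def Sec (G : Type u) [Group G] (X : Type u) [Group X] : Prop :=
  ∃ (L : Type u) (_ : Group L) (i : L →* G) (f : L →* X), Function.Injective i ∧ Function.Surjective f

theorem Sec.refl (G : Type u) [Group G] : Sec G G :=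
  ⟨G, inferInstance, MonoidHom.id G, MonoidHom.id G, Function.injective_id, Function.surjective_id⟩

theorem Sec.sub {G : Type u} [Group G] {X : Type u} [Group X] (h : Sec G X) (Y : Subgroup X) :
    Sec G Y := by
  obtain ⟨L, _, i, f, hi, hf⟩ := h
  exact ⟨Y.comap f, inferInstance, i.comp (Y.comap f).subtype, f.subgroupComap Y,
    hi.comp (Y.comap f).subtype_injective, f.subgroupComap_surjective_of_surjective Y hf⟩

theorem Sec.quot {G : Type u} [Group G] {X : Type u} [Group X] (h : Sec G X) (N : Subgroup X)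
    [N.Normal] : Sec G (X ⧸ N) := by
  obtain ⟨L, _, i, f, hi, hf⟩ := h
  exact ⟨L, inferInstance, i, (QuotientGroup.mk' N).comp f, hi,
    (QuotientGroup.mk'_surjective N).comp hf⟩

theorem Sec.exists_equiv {G : Type u} [Group G] {X : Type u} [Group X] (h : Sec G X) :
    ∃ (K R : Subgroup G) (_ : (R.subgroupOf K).Normal), Nonempty (X ≃* ↥K ⧸ R.subgroupOf K) := by
  obtain ⟨L, _, i, f, hi, hf⟩ := h
  let e₁ : L ≃* i.range := MonoidHom.ofInjective hi
  let g : i.range →* X := f.comp e₁.symm.toMonoidHom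
  have hg : Function.Surjective g := hf.comp e₁.symm.surjective
  have hker : g.ker = (f.ker.map i).subgroupOf i.range := by
    ext x
    obtain ⟨l, rfl⟩ := e₁.surjective x
    rw [MonoidHom.mem_ker, mem_subgroupOf]
    have h1 : g (e₁ l) = f l := by
      change f (e₁.symm (e₁ l)) = f l
      rw [MulEquiv.symm_apply_apply]
    have h2 : ((e₁ l : i.range) : G) = i l := rfl
    rw [h1, h2, mem_map_iff_mem hi, MonoidHom.mem_ker]
  have hn : ((f.ker.map i).subgroupOf i.range).Normal := hker ▸ inferInstance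
  exact ⟨i.range, f.ker.map i, hn,
    ⟨(QuotientGroup.quotientKerEquivOfSurjective g hg).symm.trans
      (QuotientGroup.quotientMulEquivOfEq hker)⟩⟩

theorem fin_aux {G : Type u} [Group G] [Finite G] {p : ℕ} [Fact p.Prime]
    (W : ∀ (Q : Type u) [Group Q], Subgroup Q) (hW : Cfsg.IsCharPFunctor.{u} p W)
    (hloc : ∀ (K R : Subgroup G) [hR : (R.subgroupOf K).Normal], Subgroup.centralizer ((Cfsg.pCore p (↥K ⧸ R.subgroupOf K) : Subgroup (↥K ⧸ R.subgroupOf K)) : Set (↥K ⧸ R.subgroupOf K)) ≤ Cfsg.pCore p (↥K ⧸ R.subgroupOf K) → Cfsg.HasNormalPComplement p ((↥K ⧸ R.subgroupOf K) ⧸ Cfsg.pCore p (↥K ⧸ R.subgroupOf K)) → ∀ T : Sylow p (↥K ⧸ R.subgroupOf K), IsCoatom (T : Subgroup (↥K ⧸ R.subgroupOf K)) → (Cfsg.inducedFunctor (G := (↥K ⧸ R.subgroupOf K)) W ((T : Subgroup (↥K ⧸ R.subgroupOf K)))).Normal)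
    (X : Type u) [Group X] [Finite X] (hS : Sec G X)
    (hC : centralizer (Cfsg.pCore p X : Set X) ≤ Cfsg.pCore p X) (hq : NPC p (X ⧸ Cfsg.pCore p X))
    (T : Sylow p X) (hco : IsCoatom (T : Subgroup X)) :
    (Cfsg.inducedFunctor W (T : Subgroup X)).Normal := by
  obtain ⟨K, R, hR, ⟨e⟩⟩ := hS.exists_equiv
  have hcore : (Cfsg.pCore p X).map e.toMonoidHom = Cfsg.pCore p (↥K ⧸ R.subgroupOf K) :=
    Cfsg.Agent.Lib.Helper14.map_pCore e
  have t1 : centralizer (Cfsg.pCore p (↥K ⧸ R.subgroupOf K) : Set (↥K ⧸ R.subgroupOf K)) ≤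
      Cfsg.pCore p (↥K ⧸ R.subgroupOf K) := by
    intro y hy
    obtain ⟨x, rfl⟩ := e.surjective y
    rw [← hcore]
    refine ⟨x, hC ?_, rfl⟩
    rw [mem_centralizer_iff]
    intro h hh
    have h1 : e h ∈ Cfsg.pCore p (↥K ⧸ R.subgroupOf K) := hcore ▸ ⟨h, hh, rfl⟩
    have h2 := mem_centralizer_iff.1 hy (e h) h1
    rw [← map_mul, ← map_mul] at h2
    exact e.injective h2
  have t2 : Cfsg.HasNormalPComplement p
      ((↥K ⧸ R.subgroupOf K) ⧸ Cfsg.pCore p (↥K ⧸ R.subgroupOf K)) := by
    rw [Cfsg.Agent.S0072.hasNPC_iff]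
    refine NPC.of_surjective (QuotientGroup.map (Cfsg.pCore p X) (Cfsg.pCore p (↥K ⧸ R.subgroupOf K))
      e.toMonoidHom (by rw [← map_le_iff_le_comap, hcore])) ?_ hq
    intro y
    obtain ⟨y, rfl⟩ := QuotientGroup.mk_surjective y
    obtain ⟨x, rfl⟩ := e.surjective y
    exact ⟨QuotientGroup.mk x, rfl⟩
  have hes : Function.Surjective e.toMonoidHom := e.surjective
  have t3 : IsCoatom ((T.mapSurjective hes : Sylow p (↥K ⧸ R.subgroupOf K)) :
      Subgroup (↥K ⧸ R.subgroupOf K)) := by
    rw [Sylow.coe_mapSurjective]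
    exact (OrderIso.isCoatom_iff (MulEquiv.mapSubgroup e) _).2 hco
  have hn := hloc K R t1 t2 _ t3
  rw [Sylow.coe_mapSurjective, ind_map hW e.toMonoidHom _ T.2 e.injective.injOn] at hn
  have h5 := hn.comap e.toMonoidHom
  rwa [comap_map_eq_self_of_injective e.injective] at h5

/-- Thompson's normal p-complement criterion in functor form. Let p be a prime, G a finite group with Sylow p-subgroup S, and W an isomorphism-invariant p-group functor (W assigns to every group Q a subgroup W(Q), nontrivial whenever Q is a nontrivial finite p-group, and every isomorphism from a finite p-group Q onto a group R carries W(Q) onto W(R)). Suppose N_G(W(S)) has a normal p-complement, and that W(S*) is normal in G* whenever G* = K/R is a section of G with C_{G*}(O_p(G*)) ≤ O_p(G*) such that G*/O_p(G*) has a normal p-complement, and S* is a Sylow p-subgroup of G* that is a maximal subgroup of G*. Then G has a normal p-complement. -/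
theorem result {G : Type u} [Group G] [Finite G] {p : ℕ} [Fact p.Prime] (W : ∀ (Q : Type u) [Group Q], Subgroup Q) (hW : Cfsg.IsCharPFunctor.{u} p W) (S : Sylow p G) (hN : Cfsg.HasNormalPComplement p ↥(Subgroup.normalizer ((Cfsg.inducedFunctor (G := G) W (S : Subgroup G) : Subgroup G) : Set G))) (hloc : ∀ (K R : Subgroup G) [hR : (R.subgroupOf K).Normal], Subgroup.centralizer ((Cfsg.pCore p (↥K ⧸ R.subgroupOf K) : Subgroup (↥K ⧸ R.subgroupOf K)) : Set (↥K ⧸ R.subgroupOf K)) ≤ Cfsg.pCore p (↥K ⧸ R.subgroupOf K) → Cfsg.HasNormalPComplement p ((↥K ⧸ R.subgroupOf K) ⧸ Cfsg.pCore p (↥K ⧸ R.subgroupOf K)) → ∀ T : Sylow p (↥K ⧸ R.subgroupOf K), IsCoatom (T : Subgroup (↥K ⧸ R.subgroupOf K)) → (Cfsg.inducedFunctor (G := (↥K ⧸ R.subgroupOf K)) W ((T : Subgroup (↥K ⧸ R.subgroupOf K)))).Normal) : Cfsg.HasNormalPComplement p G := by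
  rw [Cfsg.Agent.S0072.hasNPC_iff] at hN ⊢
  have F : Frame p (fun X _ => Sec G X)
      (fun X _ R => NPC p (normalizer (Cfsg.inducedFunctor W R : Set X))) :=
    { sub := fun X _ Y h => h.sub Y
      quot := fun X _ N _ h => h.quot N
      loc := by
        intro X _ _ _ R hR h
        exact h _ (ind_le _) (ind_ne_bot hW _ R.2 hR) (absChar_ind hW _ R.2)
      res := by
        intro X _ _ Y R hRY h
        apply npc_normalizer_of_injective Y.subtype Y.subtype_injective
        rw [← ind_map hW Y.subtype _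
          (show IsPGroup p ((R : Subgroup X).subgroupOf Y) from R.2.comap_subtype)
          Y.subtype_injective.injOn,
          subgroupOf_map_subtype, inf_of_le_left hRY]
        exact h
      pquot := by
        intro X _ _ D _ hD R h
        rw [ind_map hW _ _ R.2 (injOn_mk'_of_coprime D hD R.2)]
        exact npc_normalizer_quot D hD (R.2.to_le (ind_le _)) h
      fin := by
        intro X _ _ hS hH hC hq hco
        obtain ⟨T⟩ : Nonempty (Sylow p X) := inferInstance
        have hn := fin_aux W hW hloc X hS hC hq T (hco T)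
        exact NPC.of_eq_top (normalizer_eq_top_iff.2 hn) (hH T) }
  apply F.main _ G rfl (Sec.refl G)
  intro T
  obtain ⟨g, rfl⟩ := MulAction.exists_smul_eq G S T
  have h1 : ((g • S : Sylow p G) : Subgroup G) = (S : Subgroup G).map (MulAut.conj g).toMonoidHom := rfl
  rw [h1, ind_map hW _ _ S.2 (MulAut.conj g).injective.injOn,
    ← map_normalizer_eq_of_bijective _ (MulAut.conj g).bijective]
  exact NPC.of_mulEquiv (equivMapOfInjective _ _ (MulAut.conj g).injective) hN

end Cfsg.Agent.S2005
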