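import Cfsg.Statements.S5546
-- import your own Cfsg.Agent.* helpers here

set_option autoImplicit false
open Cfsg

namespace Cfsg.Agent.S5546

open Cfsg.Spor

abbrev W : Type := GolayPt → ZMod 13

abbrev Lam : Type := ↥leechLattice

def single4 (i : GolayPt) : GolayPt → ℤ := fun k => if k = i then 4 else 0

theorem sum_single4 (i : GolayPt) : ∑ k, single4 i k = 4 := by
  simp [single4]

theorem plus_mem (i j : GolayPt) : single4 i + single4 j ∈ leechLattice := by
  apply AddSubgroup.subset_closure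
  refine mem_leechSet_of_const_mod_four _ 0 0 (by decide) ?_ ?_
  · intro k
    simp only [Pi.add_apply, single4]
    split_ifs <;> decide
  · simp only [Pi.add_apply, Finset.sum_add_distrib, sum_single4]
    decide

theorem minus_mem (i j : GolayPt) : single4 i - single4 j ∈ leechLattice := by
  apply AddSubgroup.subset_closure
  refine mem_leechSet_of_const_mod_four _ 0 0 (by decide) ?_ ?_
  · intro k
    simp only [Pi.sub_apply, single4]
    split_ifs <;> decide
  · simp only [Pi.sub_apply, Finset.sum_sub_distrib, sum_single4]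
    decide

theorem norm_plus (i j : GolayPt) (h : i ≠ j) : sqNorm (single4 i + single4 j) = 32 := by
  have : ∀ k, (single4 i + single4 j) k ^ 2 = (if k = i then 16 else 0) + (if k = j then 16 else 0) := by
    intro k
    simp only [Pi.add_apply, single4]
    by_cases h1 : k = i
    · have h2 : k ≠ j := fun h2 => h (h1.symm.trans h2)
      simp [h1, h]
    · by_cases h2 : k = j
      · simp [h2, Ne.symm h]
      · simp [h1, h2]
  unfold sqNorm
  simp only [this, Finset.sum_add_distrib]
  simp

theorem norm_minus (i j : GolayPt) (h : i ≠ j) : sqNorm (single4 i - single4 j) = 32 := by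
  have : ∀ k, (single4 i - single4 j) k ^ 2 = (if k = i then 16 else 0) + (if k = j then 16 else 0) := by
    intro k
    simp only [Pi.sub_apply, single4]
    by_cases h1 : k = i
    · have h2 : k ≠ j := fun h2 => h (h1.symm.trans h2)
      simp [h1, h]
    · by_cases h2 : k = j
      · simp [h2, Ne.symm h]
      · simp [h1, h2]
  unfold sqNorm
  simp only [this, Finset.sum_add_distrib]
  simp

def E8 (i : GolayPt) : Lam := ⟨single4 i + single4 i, plus_mem i i⟩

theorem E8_apply (i k : GolayPt) : (E8 i).1 k = if k = i then 8 else 0 := by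
  simp only [E8, Pi.add_apply, single4]
  split_ifs <;> rfl

def redLam : Lam →+ W where
  toFun x := fun i => ((x.1 i : ℤ) : ZMod 13)
  map_zero' := by ext; simp
  map_add' := by intros; ext; simp

theorem redLam_apply (x : Lam) (i : GolayPt) : redLam x i = ((x.1 i : ℤ) : ZMod 13) := rfl

theorem eight_smul (v : Lam) : (8 : ℤ) • v = ∑ i, (v.1 i) • E8 i := by
  apply Subtype.ext
  funext k
  have h1 : ((∑ i, (v.1 i) • E8 i : Lam) : GolayPt → ℤ) = ∑ i, (v.1 i) • (E8 i).1 := by
    simp
  rw [h1]
  simp only [Finset.sum_apply, Pi.smul_apply, E8_apply, smul_eq_mul]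
  simp [mul_comm]

noncomputable def bar (f : Equiv.Perm Lam) : W →ₗ[ZMod 13] W :=
  ∑ i, (LinearMap.proj i : W →ₗ[ZMod 13] ZMod 13).smulRight ((5 : ZMod 13) • redLam (f (E8 i)))

theorem bar_apply (f : Equiv.Perm Lam) (w : W) :
    bar f w = ∑ i, w i • ((5 : ZMod 13) • redLam (f (E8 i))) := by
  simp [bar]

theorem bar_red (f : Equiv.Perm Lam) (hf : f ∈ Co0) (v : Lam) : bar f (redLam v) = redLam (f v) := by
  have hadd : ∀ v w : Lam, f (v + w) = f v + f w := hf.1
  let fA : Lam →+ Lam := AddMonoidHom.mk' f hadd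
  have h1 := congrArg (fun x => redLam (fA x)) (eight_smul v)
  simp only [map_zsmul, map_sum] at h1
  have h2 : ∀ x, fA x = f x := fun x => rfl
  simp only [h2] at h1
  rw [bar_apply]
  have h3 : ∀ i, redLam v i • ((5 : ZMod 13) • redLam (f (E8 i))) = (5 : ZMod 13) • ((v.1 i) • redLam (f (E8 i))) := by
    intro i
    rw [redLam_apply, smul_comm, Int.cast_smul_eq_zsmul]
  simp only [h3]
  rw [← Finset.smul_sum, ← h1, ← Int.cast_smul_eq_zsmul (ZMod 13), smul_smul]
  have : (5 : ZMod 13) * ((8 : ℤ) : ZMod 13) = 1 := by decide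
  rw [this, one_smul]

theorem red_surj (w : W) : ∃ v : Lam, redLam v = w := by
  refine ⟨∑ i, ((5 * (w i).val : ℕ) : ℤ) • E8 i, ?_⟩
  rw [map_sum]
  funext k
  simp only [map_zsmul, Finset.sum_apply, Pi.smul_apply, redLam_apply, E8_apply]
  simp only [zsmul_eq_mul]
  rw [Finset.sum_eq_single k]
  · simp only [if_true]
    push_cast
    rw [ZMod.natCast_zmod_val]
    have : (5 : ZMod 13) * w k * 8 = (5 * 8) * w k := by ring
    rw [this]
    have : (5 : ZMod 13) * 8 = 1 := by decide
    rw [this, one_mul]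
  · intro b _ hb
    simp [Ne.symm hb]
  · intro h; exact absurd (Finset.mem_univ k) h

theorem bar_mul (f g : Equiv.Perm Lam) (hf : f ∈ Co0) (hg : g ∈ Co0) : bar (f * g) = bar f ∘ₗ bar g := by
  apply LinearMap.ext
  intro w
  obtain ⟨v, rfl⟩ := red_surj w
  rw [LinearMap.comp_apply, bar_red g hg, bar_red f hf, bar_red (f * g) (Co0.mul_mem hf hg)]
  rfl

theorem bar_one : bar 1 = LinearMap.id := by
  apply LinearMap.ext
  intro w
  obtain ⟨v, rfl⟩ := red_surj w
  rw [bar_red 1 Co0.one_mem]
  rfl

noncomputable def e23 : Fin 23 ≃ ZMod 23 := (ZMod.finEquiv 23).toEquiv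

noncomputable def piMap : W →ₗ[ZMod 13] (Fin 23 → ZMod 13) where
  toFun w := fun i => w (some (e23 i)) - if e23 i = 0 then w none else 0
  map_add' := by
    intro x y; funext i
    simp only [Pi.add_apply]
    split_ifs <;> ring
  map_smul' := by
    intro c x; funext i
    simp only [Pi.smul_apply, smul_eq_mul, RingHom.id_apply]
    split_ifs <;> ring

noncomputable def sigMap : (Fin 23 → ZMod 13) →ₗ[ZMod 13] W where
  toFun y := fun p => match p with
    | none => 0
    | some x => y (e23.symm x)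
  map_add' := by
    intro x y; funext p
    cases p <;> simp
  map_smul' := by
    intro c x; funext p
    cases p <;> simp

theorem pi_sig (y : Fin 23 → ZMod 13) : piMap (sigMap y) = y := by
  funext i
  simp [piMap, sigMap]

def ubar : W := redLam leechU

theorem ubar_apply (p : GolayPt) : ubar p = if p = none ∨ p = some 0 then 4 else 0 := by
  simp only [ubar, redLam_apply, leechU, vecU]
  split_ifs <;> simp

theorem pi_ubar : piMap ubar = 0 := by
  funext i
  simp only [piMap, LinearMap.coe_mk, AddHom.coe_mk, ubar_apply, Pi.zero_apply]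
  by_cases h : e23 i = 0
  · simp [h]
  · simp [h]

theorem sig_pi (w : W) : sigMap (piMap w) = w + (-(10 : ZMod 13) * w none) • ubar := by
  funext p
  have h40 : (10 : ZMod 13) * 4 = 1 := by decide
  cases p with
  | none =>
    simp only [sigMap, LinearMap.coe_mk, AddHom.coe_mk, Pi.add_apply, Pi.smul_apply, ubar_apply, smul_eq_mul]
    simp only [true_or, if_true]
    have : -(10 : ZMod 13) * w none * 4 = -((10 * 4) * w none) := by ring
    rw [this, h40]; ring
  | some x =>
    simp only [sigMap, piMap, LinearMap.coe_mk, AddHom.coe_mk, Pi.add_apply, Pi.smul_apply, ubar_apply,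
      smul_eq_mul, Equiv.apply_symm_apply]
    by_cases h : x = 0
    · simp only [h, if_true, or_true]
      have : -(10 : ZMod 13) * w none * 4 = -((10 * 4) * w none) := by ring
      rw [this, h40]; ring
    · simp [h]

theorem bar_ubar (f : Equiv.Perm Lam) (hf : f ∈ Co2) : bar f ubar = ubar := by
  have h1 : f leechU = leechU := hf.2
  rw [ubar, bar_red f hf.1, h1]

theorem pi_bar_sig_pi (f : Equiv.Perm Lam) (hf : f ∈ Co2) (w : W) :
    piMap (bar f (sigMap (piMap w))) = piMap (bar f w) := by
  rw [sig_pi, map_add, map_smul, bar_ubar f hf, map_add, map_smul, pi_ubar, smul_zero, add_zero]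

noncomputable def Fmap (f : Equiv.Perm Lam) : Module.End (ZMod 13) (Fin 23 → ZMod 13) :=
  piMap ∘ₗ bar f ∘ₗ sigMap

theorem Fmap_apply (f : Equiv.Perm Lam) (y : Fin 23 → ZMod 13) :
    Fmap f y = piMap (bar f (sigMap y)) := rfl

theorem Fmap_one : Fmap 1 = 1 := by
  apply LinearMap.ext
  intro y
  rw [Fmap_apply, bar_one, Module.End.one_apply, LinearMap.id_apply]
  exact pi_sig y

theorem Fmap_mul (f g : Equiv.Perm Lam) (hf : f ∈ Co2) (hg : g ∈ Co2) : Fmap (f * g) = Fmap f * Fmap g := by
  apply LinearMap.ext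
  intro y
  rw [Module.End.mul_apply, Fmap_apply, Fmap_apply, Fmap_apply, pi_bar_sig_pi f hf, bar_mul f g hf.1 hg.1,
    LinearMap.comp_apply]

noncomputable def Fhom : ↥Co2 →* Module.End (ZMod 13) (Fin 23 → ZMod 13) where
  toFun f := Fmap f.1
  map_one' := Fmap_one
  map_mul' := fun f g => Fmap_mul f.1 g.1 f.2 g.2

theorem sqNorm_add (x y : GolayPt → ℤ) : sqNorm (x + y) = sqNorm x + sqNorm y + 2 * dotInt x y := by
  simp only [sqNorm, dotInt, Pi.add_apply, Finset.mul_sum, ← Finset.sum_add_distrib]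
  apply Finset.sum_congr rfl
  intro i _
  ring

theorem dot_pres (f : Equiv.Perm Lam) (hf : f ∈ Co0) (x y : Lam) :
    dotInt (f x).1 (f y).1 = dotInt x.1 y.1 := by
  have h1 := hf.2 (x + y)
  rw [hf.1 x y] at h1
  have h2 : ((f x + f y : Lam) : GolayPt → ℤ) = (f x).1 + (f y).1 := rfl
  have h3 : ((x + y : Lam) : GolayPt → ℤ) = x.1 + y.1 := rfl
  rw [h2, h3, sqNorm_add, sqNorm_add, hf.2 x, hf.2 y] at h1
  linarith

theorem dot_vecU (y : GolayPt → ℤ) : dotInt y vecU = 4 * y none + 4 * y (some 0) := by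
  simp only [dotInt, vecU, Fintype.sum_option]
  simp only [true_or, if_true, reduceCtorEq, false_or, Option.some.injEq, mul_ite, mul_zero]
  rw [Finset.sum_ite_eq' Finset.univ (0 : ZMod 23) (fun x => y (some x) * 4)]
  simp
  ring

theorem dvd_of_Fmap_one (f : Equiv.Perm Lam) (hf : f ∈ Co2) (h1 : Fmap f = 1) (v : Lam) (k : GolayPt) :
    (13 : ℤ) ∣ (f v).1 k - v.1 k := by
  have hpi : piMap (redLam (f v) - redLam v) = 0 := by
    rw [map_sub, ← bar_red f hf.1, ← pi_bar_sig_pi f hf, ← Fmap_apply, h1, Module.End.one_apply, sub_self]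
  have hx := sig_pi (redLam (f v) - redLam v)
  rw [hpi, map_zero] at hx
  obtain ⟨c, hc⟩ : ∃ c : ZMod 13, redLam (f v) - redLam v = c • ubar := by
    refine ⟨-(-(10 : ZMod 13) * (redLam (f v) - redLam v) none), ?_⟩
    rw [neg_smul]
    exact eq_neg_of_add_eq_zero_left hx.symm
  have hfu : f leechU = leechU := hf.2
  have hdot : dotInt ((f v).1 - v.1) vecU = 0 := by
    have e1 := dot_pres f hf.1 v leechU
    rw [hfu] at e1
    have e2 : dotInt ((f v).1 - v.1) vecU = dotInt (f v).1 vecU - dotInt v.1 vecU := by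
      simp only [dotInt, Pi.sub_apply, sub_mul, Finset.sum_sub_distrib]
    rw [e2]
    have e3 : (leechU : Lam).1 = vecU := rfl
    rw [e3] at e1
    rw [e1, sub_self]
  rw [dot_vecU] at hdot
  have hn := congrFun hc none
  have h0 := congrFun hc (some 0)
  simp only [Pi.sub_apply, Pi.smul_apply, redLam_apply, ubar_apply, smul_eq_mul, true_or, or_true, if_true] at hn h0
  have hcast := congrArg (fun z : ℤ => (z : ZMod 13)) hdot
  simp only [Pi.sub_apply] at hcast
  push_cast at hcast
  rw [hn, h0] at hcast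
  have hc0 : c = 0 := by
    have h32 : (32 : ZMod 13) * c = 0 := by
      have e : (32 : ZMod 13) * c = 4 * (c * 4) + 4 * (c * 4) := by ring
      rw [e]; exact hcast
    have h11 : (11 : ZMod 13) * 32 = 1 := by decide
    calc c = ((11 : ZMod 13) * 32) * c := by rw [h11, one_mul]
      _ = 11 * (32 * c) := by ring
      _ = 0 := by rw [h32, mul_zero]
  rw [hc0, zero_smul] at hc
  have hk := congrFun hc k
  simp only [Pi.sub_apply, redLam_apply, Pi.zero_apply] at hk
  rw [← Int.cast_sub] at hk
  exact (ZMod.intCast_zmod_eq_zero_iff_dvd _ 13).1 hk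

theorem fix_small (f : Equiv.Perm Lam) (hf : f ∈ Co0) (v : Lam)
    (hd : ∀ k, (13 : ℤ) ∣ (f v).1 k - v.1 k) (hs : sqNorm v.1 ≤ 42) : f v = v := by
  by_contra hne
  have : ∃ k, (f v).1 k - v.1 k ≠ 0 := by
    by_contra hcon
    push_neg at hcon
    apply hne
    apply Subtype.ext
    funext k
    exact sub_eq_zero.1 (hcon k)
  obtain ⟨k, hk⟩ := this
  obtain ⟨c, hc⟩ := hd k
  have hc0 : c ≠ 0 := by
    intro h; rw [h, mul_zero] at hc; exact hk hc
  have hc1 : 1 ≤ c ^ 2 := by
    have : 0 < c ^ 2 := by positivity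
    linarith
  have h169 : 169 ≤ ((f v).1 k - v.1 k) ^ 2 := by
    rw [hc]; nlinarith
  have hle : ((f v).1 k - v.1 k) ^ 2 ≤ ∑ j, ((f v).1 j - v.1 j) ^ 2 :=
    Finset.single_le_sum (f := fun j => ((f v).1 j - v.1 j) ^ 2) (fun j _ => sq_nonneg _) (Finset.mem_univ k)
  have hle2 : ∑ j, ((f v).1 j - v.1 j) ^ 2 ≤ ∑ j, (2 * (f v).1 j ^ 2 + 2 * v.1 j ^ 2) := by
    apply Finset.sum_le_sum
    intro j _
    nlinarith [sq_nonneg ((f v).1 j + v.1 j)]
  rw [Finset.sum_add_distrib, ← Finset.mul_sum, ← Finset.mul_sum] at hle2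
  have hn := hf.2 v
  unfold sqNorm at hn hs
  rw [hn] at hle2
  linarith

theorem eq_one_of_Fmap_one (f : Equiv.Perm Lam) (hf : f ∈ Co2) (h1 : Fmap f = 1) : f = 1 := by
  have hd := dvd_of_Fmap_one f hf h1
  have hE : ∀ i, f (E8 i) = E8 i := by
    intro i
    obtain ⟨j, hj⟩ : ∃ j : GolayPt, i ≠ j := by
      by_cases h : i = none
      · exact ⟨some 0, by rw [h]; simp⟩
      · exact ⟨none, h⟩
    have e : E8 i = (⟨_, plus_mem i j⟩ : Lam) + ⟨_, minus_mem i j⟩ := by
      apply Subtype.ext
      show single4 i + single4 i = (single4 i + single4 j) + (single4 i - single4 j)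
      abel
    rw [e, hf.1.1]
    rw [fix_small f hf.1 ⟨_, plus_mem i j⟩ (hd _) (by rw [norm_plus i j hj]; norm_num),
      fix_small f hf.1 ⟨_, minus_mem i j⟩ (hd _) (by rw [norm_minus i j hj]; norm_num)]
  ext1 v
  have hadd : ∀ v w : Lam, f (v + w) = f v + f w := hf.1.1
  let fA : Lam →+ Lam := AddMonoidHom.mk' f hadd
  have h2 : ∀ x, fA x = f x := fun x => rfl
  have h3 := congrArg fA (eight_smul v)
  simp only [map_zsmul, map_sum] at h3
  simp only [h2, hE] at h3
  rw [← eight_smul] at h3
  show f v = v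
  apply Subtype.ext
  funext k
  have h4 := congrFun (congrArg Subtype.val h3) k
  have h5 : (8 : ℤ) * (f v).1 k = 8 * v.1 k := by simpa using h4
  linarith

/-- The second Conway group (the stabilizer in the Leech lattice automorphism group of the short vector fixed in the definitions) is isomorphic to a subgroup of the general linear group of degree 23 over the field with 13 elements: there is an injective homomorphism into it. -/
theorem result : ∃ f : ↥Cfsg.Spor.Co2 →* GL (Fin 23) (ZMod 13), Function.Injective f := by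
  let Φ : ↥Cfsg.Spor.Co2 →* Matrix (Fin 23) (Fin 23) (ZMod 13) :=
    (LinearMap.toMatrixAlgEquiv' : Module.End (ZMod 13) (Fin 23 → ZMod 13) ≃ₐ[ZMod 13] _).toMonoidHom.comp Fhom
  refine ⟨Φ.toHomUnits, ?_⟩
  rw [injective_iff_map_eq_one]
  intro f hf
  have h1 : Φ f = 1 := by
    have := congrArg Units.val hf
    simpa using this
  have h2 : Fhom f = 1 := by
    have h3 : (LinearMap.toMatrixAlgEquiv' : Module.End (ZMod 13) (Fin 23 → ZMod 13) ≃ₐ[ZMod 13] _) (Fhom f) = 1 := h1
    exact (map_eq_one_iff _ (AlgEquiv.injective _)).1 h3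
  apply Subtype.ext
  exact eq_one_of_Fmap_one f.1 f.2 h2

end Cfsg.Agent.S5546
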