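import Cfsg.Statements.S5551
import Cfsg.Agent.S0391

set_option autoImplicit false
open Cfsg

namespace Cfsg.Agent.S5551

theorem sqNorm_two_smul (z : GolayPt → ℤ) : sqNorm (2 • z) = 4 * sqNorm z := by
  simp only [sqNorm, Pi.smul_apply, Finset.mul_sum]
  apply Finset.sum_congr rfl
  intro i _
  rw [nsmul_eq_mul]
  push_cast
  ring

theorem parallelogram (v w : GolayPt → ℤ) : sqNorm (v - w) + sqNorm (v + w) = 2 * sqNorm v + 2 * sqNorm w := by
  simp only [sqNorm, Pi.sub_apply, Pi.add_apply, Finset.mul_sum, ← Finset.sum_add_distrib]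
  apply Finset.sum_congr rfl
  intro i _
  ring

theorem sqNorm_neg (v : GolayPt → ℤ) : sqNorm (-v) = sqNorm v := by
  simp [sqNorm]

theorem key (v w : GolayPt → ℤ) (hw : w ∈ leechLattice)
    (hc : ∃ z ∈ leechLattice, v - w = 2 • z) (h1 : w ≠ v) (h2 : w ≠ -v) :
    128 ≤ sqNorm (v - w) ∧ 128 ≤ sqNorm (v + w) := by
  obtain ⟨z, hz, hvz⟩ := hc
  have hz0 : z ≠ 0 := by
    intro h
    rw [h, smul_zero] at hvz
    exact h1 (sub_eq_zero.1 hvz).symm
  have hzw : v + w = 2 • (z + w) := by
    have : v + w = (v - w) + 2 • w := by rw [two_smul]; abel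
    rw [this, hvz, smul_add]
  have hzw0 : z + w ≠ 0 := by
    intro h
    rw [h, smul_zero] at hzw
    apply h2
    exact (neg_eq_of_add_eq_zero_right hzw).symm
  have n1 := Cfsg.Agent.S0391.result z hz hz0
  have n2 := Cfsg.Agent.S0391.result (z + w) (leechLattice.add_mem hz hw) hzw0
  rw [hvz, hzw, sqNorm_two_smul, sqNorm_two_smul]
  constructor <;> linarith

/-- In the Leech lattice of the definitions (integer coordinates, minimal squared length 32), let v and w be non-zero lattice vectors of squared length at most 64 that are congruent modulo twice the lattice. Then they have the same squared length, and if that length is less than 64 then w = v or w = −v. (So a class that contains a non-zero vector of squared length at most 64 has a well-defined type 2, 3 or 4, and a class of type 2 or 3 contains no such vector other than v and −v.) -/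
theorem result (v w : Cfsg.GolayPt → ℤ) (hv : v ∈ Cfsg.leechLattice) (hw : w ∈ Cfsg.leechLattice) (hv0 : v ≠ 0) (hw0 : w ≠ 0) (hvn : Cfsg.sqNorm v ≤ 64) (hwn : Cfsg.sqNorm w ≤ 64) (hc : ∃ z ∈ Cfsg.leechLattice, v - w = 2 • z) : Cfsg.sqNorm v = Cfsg.sqNorm w ∧ (Cfsg.sqNorm v < 64 → w = v ∨ w = -v) := by
  by_cases h1 : w = v
  · subst h1
    exact ⟨rfl, fun _ => Or.inl rfl⟩
  by_cases h2 : w = -v
  · subst h2
    exact ⟨(sqNorm_neg v).symm, fun _ => Or.inr rfl⟩
  obtain ⟨k1, k2⟩ := key v w hw hc h1 h2
  have hp := parallelogram v w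
  constructor
  · linarith
  · intro h; exfalso; linarith

end Cfsg.Agent.S5551
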