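import Cfsg.Statements.S0752
-- import your own Cfsg.Agent.* helpers here

set_option autoImplicit false
open Cfsg

namespace Cfsg.Agent.S0752

section
variable {F V : Type*} [Field F] [AddCommGroup V] [Module F V]

def IsHyp (B : LinearMap.BilinForm F V) (m : ℕ) (e f : Fin m → V) : Prop :=
  (∀ i j, B (e i) (f j) = if i = j then 1 else 0) ∧ (∀ i j, B (e i) (e j) = 0) ∧ (∀ i j, B (f i) (f j) = 0)

theorem swap' {B : LinearMap.BilinForm F V} (hA : B.IsAlt) (x y : V) : B x y = - B y x :=
  (LinearMap.IsAlt.neg hA y x).symm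

theorem IsHyp.fe {B : LinearMap.BilinForm F V} (hA : B.IsAlt) {m : ℕ} {e f : Fin m → V} (h : IsHyp B m e f)
    (i j : Fin m) : B (f i) (e j) = if i = j then -1 else 0 := by
  rw [swap' hA, h.1]
  by_cases hij : i = j
  · simp [hij]
  · have : j ≠ i := fun h => hij h.symm
    simp [hij, this]

theorem finish [FiniteDimensional F V] {B : LinearMap.BilinForm F V} (hA : B.IsAlt) {m : ℕ} {e f : Fin m → V}
    (h : IsHyp B m e f)
    (hN : ∀ w w' : V, (∀ i, B (e i) w = 0 ∧ B (f i) w = 0) → (∀ i, B (e i) w' = 0 ∧ B (f i) w' = 0) → B w w' = 0) :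
    ∃ (k : ℕ) (b : Module.Basis ((Fin m ⊕ Fin m) ⊕ Fin k) F V),
      (∀ i, b (Sum.inl (Sum.inl i)) = e i) ∧ (∀ i, b (Sum.inl (Sum.inr i)) = f i) ∧
      (∀ (j : Fin k) (v : V), B (b (Sum.inr j)) v = 0) := by
  classical
  let N : Submodule F V := ⨅ i, LinearMap.ker (B (e i)) ⊓ LinearMap.ker (B (f i))
  have hNmem : ∀ w, w ∈ N ↔ ∀ i, B (e i) w = 0 ∧ B (f i) w = 0 := by
    intro w
    simp [N, Submodule.mem_iInf]
  let r := Module.finBasis F N
  let fam : (Fin m ⊕ Fin m) ⊕ Fin (Module.finrank F N) → V := Sum.elim (Sum.elim e f) (fun j => (r j : V))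
  let π : V → V := fun v => ∑ i, (B v (f i) • e i - B v (e i) • f i)
  have hπ : ∀ v, v - π v ∈ N := by
    intro v
    rw [hNmem]
    intro j
    constructor
    · simp only [π, map_sub, map_sum, map_smul, smul_eq_mul, h.2.1, h.1, mul_zero, zero_sub, mul_ite, mul_one,
        Finset.sum_neg_distrib, Finset.sum_ite_eq, Finset.mem_univ, if_true]
      rw [swap' hA (e j) v]
      ring
    · simp only [π, map_sub, map_sum, map_smul, smul_eq_mul, h.2.2, IsHyp.fe hA h, mul_zero, sub_zero, mul_ite,
        mul_neg, mul_one, Finset.sum_ite_eq, Finset.mem_univ, if_true]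
      rw [swap' hA (f j) v]
      ring
  have hrN : ∀ j, ∀ i, B (e i) (r j : V) = 0 ∧ B (f i) (r j : V) = 0 := fun j => (hNmem _).mp (r j).2
  have hrad : ∀ w ∈ N, ∀ v, B w v = 0 := by
    intro w hw v
    have h1 : v = π v + (v - π v) := by abel
    rw [h1, map_add, hN w (v - π v) ((hNmem w).mp hw) ((hNmem _).mp (hπ v)), add_zero]
    simp only [π, map_sum, map_sub, map_smul, smul_eq_mul]
    apply Finset.sum_eq_zero
    intro i _
    rw [swap' hA w (e i), swap' hA w (f i), ((hNmem w).mp hw i).1, ((hNmem w).mp hw i).2]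
    simp
  have hli : LinearIndependent F fam := by
    rw [Fintype.linearIndependent_iff]
    intro g hg
    simp only [Fintype.sum_sum_type, fam, Sum.elim_inl, Sum.elim_inr] at hg
    have h1 : ∀ j, g (Sum.inl (Sum.inl j)) = 0 := by
      intro j
      have := congrArg (fun x => B x (f j)) hg
      simp only [map_add, map_sum, map_smul, LinearMap.add_apply, LinearMap.sum_apply, LinearMap.smul_apply,
        smul_eq_mul, h.1, h.2.2, hrad _ (r _).2, mul_zero, Finset.sum_const_zero, add_zero, mul_ite, mul_one,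
        Finset.sum_ite_eq', Finset.mem_univ, if_true, map_zero, LinearMap.zero_apply] at this
      exact this
    have h2 : ∀ j, g (Sum.inl (Sum.inr j)) = 0 := by
      intro j
      have := congrArg (fun x => B x (e j)) hg
      simp only [map_add, map_sum, map_smul, LinearMap.add_apply, LinearMap.sum_apply, LinearMap.smul_apply,
        smul_eq_mul, h.2.1, IsHyp.fe hA h, hrad _ (r _).2, mul_zero, Finset.sum_const_zero, add_zero, zero_add,
        mul_ite, mul_neg, mul_one, Finset.sum_ite_eq', Finset.mem_univ, if_true, LinearMap.zero_apply] at this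
      simpa using this
    have h3 : ∀ j, g (Sum.inr j) = 0 := by
      simp only [h1, h2, zero_smul, Finset.sum_const_zero, zero_add] at hg
      have h4 : ∑ j, g (Sum.inr j) • r j = 0 := by
        apply Subtype.ext
        simpa using hg
      exact Fintype.linearIndependent_iff.mp r.linearIndependent (fun j => g (Sum.inr j)) h4
    rintro ((i | i) | j)
    · exact h1 i
    · exact h2 i
    · exact h3 j
  have hsp : ⊤ ≤ Submodule.span F (Set.range fam) := by
    intro v _
    have h1 : v = π v + (v - π v) := by abel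
    rw [h1]
    apply Submodule.add_mem
    · apply Submodule.sum_mem
      intro i _
      apply Submodule.sub_mem
      · exact Submodule.smul_mem _ _ (Submodule.subset_span ⟨Sum.inl (Sum.inl i), rfl⟩)
      · exact Submodule.smul_mem _ _ (Submodule.subset_span ⟨Sum.inl (Sum.inr i), rfl⟩)
    · have h2 := r.sum_repr ⟨v - π v, hπ v⟩
      have h3 : v - π v = ∑ j, (r.repr ⟨v - π v, hπ v⟩ j) • (r j : V) := by
        have := congrArg Subtype.val h2
        simp only [Submodule.coe_sum, Submodule.coe_smul] at this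
        exact this.symm
      rw [h3]
      apply Submodule.sum_mem
      intro j _
      exact Submodule.smul_mem _ _ (Submodule.subset_span ⟨Sum.inr j, rfl⟩)
  refine ⟨Module.finrank F N, Module.Basis.mk hli hsp, ?_, ?_, ?_⟩
  · intro i
    simp [fam]
  · intro i
    simp [fam]
  · intro j v
    simp only [Module.Basis.mk_apply, fam, Sum.elim_inr]
    exact hrad _ (r j).2 v

theorem IsHyp.linearIndependent {B : LinearMap.BilinForm F V} (hA : B.IsAlt) {m : ℕ} {e f : Fin m → V}
    (h : IsHyp B m e f) : LinearIndependent F (Sum.elim e f) := by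
  classical
  rw [Fintype.linearIndependent_iff]
  intro g hg
  simp only [Fintype.sum_sum_type, Sum.elim_inl, Sum.elim_inr] at hg
  rintro (j | j)
  · have := congrArg (fun x => B x (f j)) hg
    simp only [map_add, map_sum, map_smul, LinearMap.add_apply, LinearMap.sum_apply, LinearMap.smul_apply,
      smul_eq_mul, h.1, h.2.2, mul_zero, Finset.sum_const_zero, add_zero, mul_ite, mul_one,
      Finset.sum_ite_eq', Finset.mem_univ, if_true, map_zero, LinearMap.zero_apply] at this
    exact this
  · have := congrArg (fun x => B x (e j)) hg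
    simp only [map_add, map_sum, map_smul, LinearMap.add_apply, LinearMap.sum_apply, LinearMap.smul_apply,
      smul_eq_mul, h.2.1, IsHyp.fe hA h, mul_zero, Finset.sum_const_zero, zero_add,
      mul_ite, mul_neg, mul_one, Finset.sum_ite_eq', Finset.mem_univ, if_true, LinearMap.zero_apply] at this
    simpa using this

theorem IsHyp.two_mul_le [FiniteDimensional F V] {B : LinearMap.BilinForm F V} (hA : B.IsAlt) {m : ℕ}
    {e f : Fin m → V} (h : IsHyp B m e f) : 2 * m ≤ Module.finrank F V := by
  have := (IsHyp.linearIndependent hA h).fintype_card_le_finrank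
  simp only [Fintype.card_sum, Fintype.card_fin] at this
  omega

theorem extend {B : LinearMap.BilinForm F V} (hA : B.IsAlt) {m : ℕ} {e f : Fin m → V} (h : IsHyp B m e f)
    {w w' : V} (hw : ∀ i, B (e i) w = 0 ∧ B (f i) w = 0) (hw' : ∀ i, B (e i) w' = 0 ∧ B (f i) w' = 0)
    (hww : B w w' = 1) : IsHyp B (m + 1) (Fin.cons w e) (Fin.cons w' f) := by
  refine ⟨?_, ?_, ?_⟩
  · intro i j
    refine Fin.cases ?_ (fun i => ?_) i <;> refine Fin.cases ?_ (fun j => ?_) j
    · simp [hww]
    · simp only [Fin.cons_zero, Fin.cons_succ]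
      rw [swap' hA, (hw j).2]
      simp [(Fin.succ_ne_zero j).symm]
    · simp only [Fin.cons_zero, Fin.cons_succ]
      rw [(hw' i).1]
      simp [Fin.succ_ne_zero i]
    · simp only [Fin.cons_succ, h.1, Fin.succ_inj]
  · intro i j
    refine Fin.cases ?_ (fun i => ?_) i <;> refine Fin.cases ?_ (fun j => ?_) j
    · simp [hA w]
    · simp only [Fin.cons_zero, Fin.cons_succ]
      rw [swap' hA, (hw j).1, neg_zero]
    · simp only [Fin.cons_zero, Fin.cons_succ]
      rw [(hw i).1]
    · simp only [Fin.cons_succ, h.2.1]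
  · intro i j
    refine Fin.cases ?_ (fun i => ?_) i <;> refine Fin.cases ?_ (fun j => ?_) j
    · simp [hA w']
    · simp only [Fin.cons_zero, Fin.cons_succ]
      rw [swap' hA, (hw' j).2, neg_zero]
    · simp only [Fin.cons_zero, Fin.cons_succ]
      rw [(hw' i).2]
    · simp only [Fin.cons_succ, h.2.2]

theorem main [FiniteDimensional F V] {B : LinearMap.BilinForm F V} (hA : B.IsAlt) (d : ℕ) :
    ∀ (m : ℕ) (e f : Fin m → V), IsHyp B m e f → Module.finrank F V - 2 * m = d →
    ∃ (m' : ℕ) (e' f' : Fin m' → V), IsHyp B m' e' f' ∧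
      ∀ w w' : V, (∀ i, B (e' i) w = 0 ∧ B (f' i) w = 0) → (∀ i, B (e' i) w' = 0 ∧ B (f' i) w' = 0) →
        B w w' = 0 := by
  induction d using Nat.strong_induction_on with
  | _ d ih =>
    intro m e f h hd
    by_cases hN : ∀ w w' : V, (∀ i, B (e i) w = 0 ∧ B (f i) w = 0) → (∀ i, B (e i) w' = 0 ∧ B (f i) w' = 0) →
        B w w' = 0
    · exact ⟨m, e, f, h, hN⟩
    · push Not at hN
      obtain ⟨w, w', hw, hw', hww⟩ := hN
      have h' : IsHyp B (m + 1) (Fin.cons ((B w w')⁻¹ • w) e) (Fin.cons w' f) := by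
        apply extend hA h _ hw'
        · rw [map_smul, LinearMap.smul_apply, smul_eq_mul, inv_mul_cancel₀ hww]
        · intro i
          simp [(hw i).1, (hw i).2]
      have h2 := IsHyp.two_mul_le hA h'
      exact ih (Module.finrank F V - 2 * (m + 1)) (by omega) (m + 1) _ _ h' rfl

end

/-- Classification of alternating forms: for an alternating bilinear form B on a finite-dimensional space over any field there is a basis indexed by (Fin m ⊕ Fin m) ⊕ Fin k such that B (e_i, f_j) = δ_ij, the e's are pairwise orthogonal, the f's are pairwise orthogonal, and the last k basis vectors are orthogonal to everything (they span the radical). -/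
theorem result {F V : Type*} [Field F] [AddCommGroup V] [Module F V] [FiniteDimensional F V] (B : LinearMap.BilinForm F V) (hA : B.IsAlt) : ∃ (m k : ℕ) (b : Module.Basis ((Fin m ⊕ Fin m) ⊕ Fin k) F V), (∀ i j : Fin m, B (b (Sum.inl (Sum.inl i))) (b (Sum.inl (Sum.inr j))) = if i = j then 1 else 0) ∧ (∀ i j : Fin m, B (b (Sum.inl (Sum.inl i))) (b (Sum.inl (Sum.inl j))) = 0) ∧ (∀ i j : Fin m, B (b (Sum.inl (Sum.inr i))) (b (Sum.inl (Sum.inr j))) = 0) ∧ (∀ (j : Fin k) (v : V), B (b (Sum.inr j)) v = 0) := by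
  obtain ⟨m, e, f, h, hN⟩ := main hA _ 0 (fun i => i.elim0) (fun i => i.elim0)
    ⟨fun i => i.elim0, fun i => i.elim0, fun i => i.elim0⟩ rfl
  obtain ⟨k, b, hb1, hb2, hb3⟩ := finish hA h hN
  refine ⟨m, k, b, ?_, ?_, ?_, hb3⟩
  · intro i j
    rw [hb1, hb2, h.1]
  · intro i j
    rw [hb1, hb1, h.2.1]
  · intro i j
    rw [hb2, hb2, h.2.2]

end Cfsg.Agent.S0752
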