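import Cfsg.Statements.S0750
-- import your own Cfsg.Agent.* helpers here
import Cfsg.Agent.Lib.Helper17.Witt

set_option autoImplicit false
open Cfsg

namespace Cfsg.Agent.S0750



/-- Witt's Lemma for quadratic forms over a finite field, in any characteristic: if Q is a quadratic form on a finite-dimensional space V whose polar bilinear form is non-degenerate, then every linear equivalence between subspaces X, Y of V that preserves Q extends to a Q-preserving linear automorphism of V. (In odd characteristic this is the symmetric-bilinear case; in characteristic two it is the statement for non-degenerate quadratic forms.) -/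
theorem result {F V : Type*} [Field F] [Finite F] [AddCommGroup V] [Module F V] [FiniteDimensional F V] (Q : QuadraticForm F V) (hQ : (QuadraticMap.polarBilin Q).Nondegenerate) (X Y : Submodule F V) (φ : X ≃ₗ[F] Y) (hφ : ∀ x : X, Q (φ x : V) = Q (x : V)) : ∃ g : V ≃ₗ[F] V, (∀ v : V, Q (g v) = Q v) ∧ ∀ x : X, g (x : V) = (φ x : V) := by
  let D : Cfsg.Agent.Lib.Helper17.WittData F V :=
    { σ := RingHom.id F
      B := QuadraticMap.polarBilin Q
      q := Q
      τ := fun a => a
      t := fun a => a
      n := fun a => a * a
      σσ := fun _ => rfl
      swap := fun x y => QuadraticMap.polar_comm Q x y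
      q_add := fun u v => QuadraticMap.map_add Q u v
      q_smul := fun a v => by rw [QuadraticMap.map_smul, smul_eq_mul]
      t_zero := rfl
      sep := hQ.1
      rep := fun f => ⟨(LinearMap.BilinForm.toDual (QuadraticMap.polarBilin Q) hQ).symm f,
        fun v => LinearMap.BilinForm.apply_toDual_symm_apply f v⟩
      adj := by
        intro x y' y _ hqx hb
        have hb' : QuadraticMap.polar Q y' x ≠ 0 := hb
        have key : Q (y' + ((Q y - Q y') / QuadraticMap.polar Q y' x) • x) = Q y := by
          rw [QuadraticMap.map_add Q, QuadraticMap.map_smul, hqx, QuadraticMap.polar_smul_right, smul_eq_mul,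
            smul_eq_mul, div_mul_cancel₀ _ hb']
          ring
        refine ⟨(Q y - Q y') / QuadraticMap.polar Q y' x, ?_, key⟩
        simp only [QuadraticMap.polarBilin_apply_apply, QuadraticMap.polar_self, key] }
  obtain ⟨g, -, hg2, hg3⟩ := D.witt X Y φ
    (by
      intro u u'
      change QuadraticMap.polar Q _ _ = QuadraticMap.polar Q _ _
      simp only [QuadraticMap.polar]
      have h1 : ((φ u : V) + (φ u' : V)) = ((φ (u + u') : Y) : V) := by simp
      have h2 : ((u : V) + (u' : V)) = ((u + u' : X) : V) := by simp
      rw [h1, h2, hφ, hφ, hφ])
    hφ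
  exact ⟨g, hg2, hg3⟩

end Cfsg.Agent.S0750
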