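import Cfsg.Statements.S0760
-- import your own Cfsg.Agent.* helpers here
import Cfsg.Agent.S0750

set_option autoImplicit false
open Cfsg

namespace Cfsg.Agent.S0760

theorem aux {F V : Type*} [Field F] [Finite F] [AddCommGroup V] [Module F V] [FiniteDimensional F V]
    (Q : QuadraticForm F V) (hQ : (QuadraticMap.polarBilin Q).Nondegenerate) (W₁ W₂ : Submodule F V)
    (h₁ : ∀ w ∈ W₁, Q w = 0) (h₂ : ∀ w ∈ W₂, Q w = 0)
    (hmax₁ : ∀ W : Submodule F V, W₁ ≤ W → (∀ w ∈ W, Q w = 0) → W = W₁)
    (hle : Module.finrank F W₁ ≤ Module.finrank F W₂) :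
    Module.finrank F W₁ = Module.finrank F W₂ := by
  obtain ⟨f, hf⟩ := finrank_le_iff_exists_linearMap.mp hle
  let f' : W₁ →ₗ[F] V := W₂.subtype ∘ₗ f
  have hf' : Function.Injective f' := W₂.subtype_injective.comp hf
  let φ : W₁ ≃ₗ[F] LinearMap.range f' := LinearEquiv.ofInjective f' hf'
  have hφ : ∀ x : W₁, (φ x : V) = (f x : V) := fun x => rfl
  obtain ⟨g, hg1, hg2⟩ := Cfsg.Agent.S0750.result Q hQ W₁ (LinearMap.range f') φ
    (by
      intro x
      rw [hφ, h₁ _ x.2, h₂ _ (f x).2])
  have hW : W₂.comap (g : V →ₗ[F] V) = W₁ := by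
    apply hmax₁
    · intro w hw
      rw [Submodule.mem_comap]
      have := hg2 ⟨w, hw⟩
      simp only [LinearEquiv.coe_coe]
      rw [this, hφ]
      exact (f ⟨w, hw⟩).2
    · intro w hw
      rw [← hg1]
      exact h₂ _ hw
  have h3 : (W₂.comap (g : V →ₗ[F] V)).map (g : V →ₗ[F] V) = W₂ :=
    Submodule.map_comap_eq_of_surjective g.surjective W₂
  rw [hW] at h3
  rw [← h3]
  exact (LinearEquiv.finrank_map_eq g W₁).symm

/-- Witt index is well defined: if Q is a quadratic form on a finite-dimensional space V over a finite field with non-degenerate polar form, and W₁, W₂ are subspaces on which Q vanishes that are maximal with this property, then W₁ and W₂ have the same dimension, and twice this dimension is at most dim V. -/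
theorem result {F V : Type*} [Field F] [Finite F] [AddCommGroup V] [Module F V] [FiniteDimensional F V] (Q : QuadraticForm F V) (hQ : (QuadraticMap.polarBilin Q).Nondegenerate) (W₁ W₂ : Submodule F V) (h₁ : ∀ w ∈ W₁, Q w = 0) (h₂ : ∀ w ∈ W₂, Q w = 0) (hmax₁ : ∀ W : Submodule F V, W₁ ≤ W → (∀ w ∈ W, Q w = 0) → W = W₁) (hmax₂ : ∀ W : Submodule F V, W₂ ≤ W → (∀ w ∈ W, Q w = 0) → W = W₂) : Module.finrank F W₁ = Module.finrank F W₂ ∧ 2 * Module.finrank F W₁ ≤ Module.finrank F V := by
  constructor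
  · rcases le_total (Module.finrank F W₁) (Module.finrank F W₂) with h | h
    · exact aux Q hQ W₁ W₂ h₁ h₂ hmax₁ h
    · exact (aux Q hQ W₂ W₁ h₂ h₁ hmax₂ h).symm
  · have hle : W₁ ≤ LinearMap.BilinForm.orthogonal (QuadraticMap.polarBilin Q) W₁ := by
      intro w hw
      rw [LinearMap.BilinForm.mem_orthogonal_iff]
      intro w' hw'
      change QuadraticMap.polar Q w' w = 0
      simp only [QuadraticMap.polar]
      rw [h₁ _ hw, h₁ _ hw', h₁ _ (W₁.add_mem hw' hw)]
      simp
    have h1 := Submodule.finrank_mono hle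
    rw [LinearMap.BilinForm.finrank_orthogonal hQ] at h1
    omega

end Cfsg.Agent.S0760
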