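import Cfsg.Statements.S0749
-- import your own Cfsg.Agent.* helpers here
import Cfsg.Agent.Lib.Helper17.Witt

set_option autoImplicit false
open Cfsg

namespace Cfsg.Agent.S0749



/-- Witt's Lemma for alternating forms. If B is a non-degenerate alternating bilinear form on a finite-dimensional vector space V (over any field) and φ is a linear equivalence between subspaces X and Y of V preserving B, then φ extends to a B-preserving linear automorphism of V. -/
theorem result {F V : Type*} [Field F] [AddCommGroup V] [Module F V] [FiniteDimensional F V] (B : LinearMap.BilinForm F V) (hB : B.Nondegenerate) (hA : B.IsAlt) (X Y : Submodule F V) (φ : X ≃ₗ[F] Y) (hφ : ∀ x x' : X, B (φ x : V) (φ x' : V) = B (x : V) (x' : V)) : ∃ g : V ≃ₗ[F] V, (∀ u v : V, B (g u) (g v) = B u v) ∧ ∀ x : X, g (x : V) = (φ x : V) := by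
  let D : Cfsg.Agent.Lib.Helper17.WittData F V :=
    { σ := RingHom.id F
      B := B
      q := fun _ => 0
      τ := fun a => -a
      t := fun _ => 0
      n := fun _ => 0
      σσ := fun _ => rfl
      swap := fun x y => (LinearMap.IsAlt.neg hA y x).symm
      q_add := fun _ _ => by simp
      q_smul := fun _ _ => by simp
      t_zero := rfl
      sep := hB.1
      rep := fun f => ⟨(B.toDual hB).symm f, fun v => LinearMap.BilinForm.apply_toDual_symm_apply f v⟩
      adj := fun x y' y _ _ _ => ⟨0, by rw [hA, hA], rfl⟩ }
  obtain ⟨g, hg1, -, hg3⟩ := D.witt X Y φ hφ (fun _ => rfl)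
  exact ⟨g, hg1, hg3⟩

end Cfsg.Agent.S0749
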