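import Cfsg.Statements.S0245
import Cfsg.Agent.Lib.Helper50.SympCount

set_option autoImplicit false
open Cfsg
open Matrix Cfsg.Agent.Lib.Helper50 Cfsg.Agent.Lib.Helper50.Symp

namespace Cfsg.Agent.S0245

variable {F : Type*} [Field F]

/-- the standard alternating form -/
noncomputable def stdB (m : ℕ) : LinearMap.BilinForm F (Fin m ⊕ Fin m → F) :=
  Matrix.toLinearMap₂' F (J (Fin m) F)

theorem stdB_apply (m : ℕ) (u v : Fin m ⊕ Fin m → F) : stdB m u v = u ⬝ᵥ (J (Fin m) F *ᵥ v) :=
  Matrix.toLinearMap₂'_apply' _ _ _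

theorem stdB_alt (m : ℕ) : (stdB (F := F) m).IsAlt := by
  intro v
  rw [stdB_apply]
  simp only [dotProduct, mulVec, J, Fintype.sum_sum_type, fromBlocks_apply₁₁, fromBlocks_apply₁₂,
    fromBlocks_apply₂₁, fromBlocks_apply₂₂, Matrix.zero_apply, zero_mul, Finset.sum_const_zero, zero_add, add_zero,
    Matrix.neg_apply, one_apply, neg_mul, ite_mul, one_mul, Finset.sum_neg_distrib, Finset.sum_ite_eq,
    Finset.mem_univ, if_true, mul_neg]
  rw [neg_add_eq_zero]
  exact Finset.sum_congr rfl (fun i _ => mul_comm _ _)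

theorem stdB_nondeg (m : ℕ) : Nondeg (stdB (F := F) m) ⊤ := by
  intro w _ hw
  obtain ⟨i, hi⟩ : ∃ i, w i ≠ 0 := by
    by_contra hcon
    push Not at hcon
    exact hw (funext hcon)
  refine ⟨(-J (Fin m) F) *ᵥ Pi.single i 1, Submodule.mem_top, ?_⟩
  rw [stdB_apply, mulVec_mulVec, mul_neg, J_squared, neg_neg, one_mulVec, dotProduct_single, mul_one]
  exact hi

def colEquiv (m : ℕ) : Matrix (Fin m ⊕ Fin m) (Fin m ⊕ Fin m) F ≃
    (Fin m → (Fin m ⊕ Fin m → F)) × (Fin m → (Fin m ⊕ Fin m → F)) where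
  toFun A := (fun i r => A r (.inr i), fun i r => A r (.inl i))
  invFun x := Matrix.of (fun r c => Sum.elim (fun i => x.2 i r) (fun i => x.1 i r) c)
  left_inv A := by
    ext r c; cases c <;> rfl
  right_inv x := rfl

theorem gram_entry (m : ℕ) (A : Matrix (Fin m ⊕ Fin m) (Fin m ⊕ Fin m) F) (s t : Fin m ⊕ Fin m) :
    (Aᵀ * J (Fin m) F * A) s t = stdB m (fun r => A r s) (fun r => A r t) := by
  rw [stdB_apply, Matrix.mul_assoc]
  rfl

theorem mem_iff_isFr (m : ℕ) (A : Matrix (Fin m ⊕ Fin m) (Fin m ⊕ Fin m) F) :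
    A ∈ symplecticGroup (Fin m) F ↔ IsFr (stdB m) m ⊤ (colEquiv m A) := by
  rw [SymplecticGroup.mem_iff']
  constructor
  · intro h
    have h' : ∀ s t, stdB m (fun r => A r s) (fun r => A r t) = J (Fin m) F s t := by
      intro s t; rw [← gram_entry, h]
    refine ⟨fun _ => Submodule.mem_top, fun _ => Submodule.mem_top, fun i j => ?_, fun i j => ?_, fun i j => ?_⟩
    · exact (h' (.inr i) (.inr j)).trans (by simp [J])
    · exact (h' (.inl i) (.inl j)).trans (by simp [J])
    · exact (h' (.inr i) (.inl j)).trans (by simp [J, one_apply])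
  · rintro ⟨-, -, h1, h2, h3⟩
    ext s t
    rw [gram_entry]
    rcases s with i | i <;> rcases t with j | j
    · exact (h2 i j).trans (by simp [J])
    · rw [← (stdB_alt m).neg_eq]
      have : stdB m (fun r => A r (.inr j)) (fun r => A r (.inl i)) = if j = i then 1 else 0 := h3 j i
      rw [this]
      simp [J, one_apply, eq_comm]
    · exact (h3 i j).trans (by simp [J, one_apply])
    · exact (h1 i j).trans (by simp [J])

theorem result {F : Type*} [Field F] [Fintype F] {q : ℕ} (hF : Fintype.card F = q) (m : ℕ) : Nat.card (Matrix.symplecticGroup (Fin m) F) = q ^ (m ^ 2) * ∏ i ∈ Finset.range m, (q ^ (2 * (i + 1)) - 1) := by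
  have e : ↥(Matrix.symplecticGroup (Fin m) F) ≃
      {x : (Fin m → (Fin m ⊕ Fin m → F)) × (Fin m → (Fin m ⊕ Fin m → F)) // IsFr (stdB m) m ⊤ x} :=
    (colEquiv m).subtypeEquiv (fun A => mem_iff_isFr m A)
  have hq : Nat.card F = q := by rw [Nat.card_eq_fintype_card, hF]
  have hcard : Nat.card (⊤ : Submodule F (Fin m ⊕ Fin m → F)) = Nat.card F ^ (2 * m) := by
    rw [Nat.card_congr (Submodule.topEquiv (R := F) (M := Fin m ⊕ Fin m → F)).toEquiv, Nat.card_fun]
    simp [two_mul]
  rw [Nat.card_congr e, card_frames (stdB_alt m) m ⊤ (stdB_nondeg m) hcard, hq, Finset.prod_mul_distrib,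
    mul_comm]
  congr 1
  rw [Finset.prod_pow_eq_pow_sum]
  congr 1
  clear e hcard
  induction m with
  | zero => simp
  | succ k ih => rw [Finset.sum_range_succ, ih]; ring

end Cfsg.Agent.S0245
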