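import Cfsg.Statements.S0198
import Cfsg.Agent.Lib.Helper32.GenChar
import Cfsg.Agent.Lib.Helper4.CharBasic

set_option autoImplicit false
open Cfsg

namespace Cfsg.Agent.S0198

open Cfsg.Agent.Lib.Helper20 Cfsg.Agent.Lib.Helper32

theorem pair {G : Type*} [Group G] [Fintype G] {a b c d : G → ℂ} (ha : IsIrrCharacter G a)
    (hb : IsIrrCharacter G b) (hc : IsIrrCharacter G c) (hd : IsIrrCharacter G d)
    (hab : a ≠ b) (hcd : c ≠ d) (h : classInner (a - b) (c - d) = 1) :
    (a = c ∧ b ≠ d) ∨ (a ≠ c ∧ b = d) := by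
  classical
  rw [classInner_sub_left, classInner_sub_right, classInner_sub_right, classInner_irr ha hc,
    classInner_irr ha hd, classInner_irr hb hc, classInner_irr hb hd] at h
  by_cases h1 : a = c
  · subst h1
    left
    refine ⟨rfl, ?_⟩
    intro h2
    subst h2
    rw [if_pos rfl, if_pos rfl, if_neg hab, if_neg hab.symm] at h
    norm_num at h
  · right
    refine ⟨h1, ?_⟩
    by_contra h2
    rw [if_neg h1, if_neg h2] at h
    split_ifs at h <;> norm_num at h

theorem core {G : Type*} [Group G] [Fintype G] (n : ℕ) (i₀ : Fin n) (τ : Fin n → (G → ℂ))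
    (h0 : τ i₀ = 0) (x y : Fin n → (G → ℂ)) (ε : ℂ) (hε : ε = 1 ∨ ε = -1)
    (hx : ∀ i, i ≠ i₀ → IsIrrCharacter G (x i)) (hy : ∀ i, i ≠ i₀ → IsIrrCharacter G (y i))
    (hxy : ∀ i, i ≠ i₀ → x i ≠ y i) (hτ : ∀ i, i ≠ i₀ → τ i = ε • (x i - y i))
    (i : Fin n) (hi : i ≠ i₀) (hall : ∀ k, k ≠ i₀ → y k = y i)
    (hinj : ∀ k l, k ≠ i₀ → l ≠ i₀ → x k = x l → k = l) :
    ∃ ε : ℂ, (ε = 1 ∨ ε = -1) ∧ ∃ μ : Fin n → (G → ℂ), (∀ i, Cfsg.IsIrrCharacter G (μ i)) ∧
      Function.Injective μ ∧ ∀ i, τ i = ε • (μ i - μ i₀) := by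
  classical
  refine ⟨ε, hε, fun k => if k = i₀ then y i else x k, ?_, ?_, ?_⟩
  · intro k
    by_cases hk : k = i₀
    · simp only [hk, if_true]
      exact hy i hi
    · simp only [hk, if_false]
      exact hx k hk
  · intro k l hkl
    by_cases hk : k = i₀ <;> by_cases hl : l = i₀
    · rw [hk, hl]
    · simp only [hk, hl, if_true, if_false] at hkl
      exact absurd (hkl.symm.trans (hall l hl).symm) (hxy l hl)
    · simp only [hk, hl, if_true, if_false] at hkl
      exact absurd (hkl.trans (hall k hk).symm) (hxy k hk)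
    · simp only [hk, hl, if_false] at hkl
      exact hinj k l hk hl hkl
  · intro k
    by_cases hk : k = i₀
    · simp only [hk, if_true, sub_self, smul_zero]
      exact h0
    · simp only [hk, if_true, if_false]
      rw [hτ k hk, hall k hk]

/-- The isometry lemma behind exceptional characters. Let τ be a family of generalized characters of a finite group G indexed by Fin n, with τ i₀ = 0, every τ i vanishing at the identity, and inner products ⟨τ i, τ j⟩ = 2 if i = j and 1 otherwise for i, j ≠ i₀. Then there are a sign ε and pairwise distinct irreducible characters μ i with τ i = ε (μ i − μ i₀) for all i. -/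
theorem result {G : Type*} [Group G] [Fintype G] (n : ℕ) (i₀ : Fin n) (τ : Fin n → (G → ℂ)) (h0 : τ i₀ = 0) (hgen : ∀ i, Cfsg.IsGeneralizedCharacter G (τ i)) (hone : ∀ i, τ i 1 = 0) (hgram : ∀ i j, i ≠ i₀ → j ≠ i₀ → Cfsg.classInner (τ i) (τ j) = if i = j then 2 else 1) : ∃ ε : ℂ, (ε = 1 ∨ ε = -1) ∧ ∃ μ : Fin n → (G → ℂ), (∀ i, Cfsg.IsIrrCharacter G (μ i)) ∧ Function.Injective μ ∧ ∀ i, τ i = ε • (μ i - μ i₀) := by
  classical
  have hdec : ∀ i, i ≠ i₀ → ∃ x y : G → ℂ, IsIrrCharacter G x ∧ IsIrrCharacter G y ∧ x ≠ y ∧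
      τ i = x - y := fun i hi =>
    genChar_norm_two (hgen i) (by rw [hgram i i hi hi, if_pos rfl]) (hone i)
  choose! x y hx hy hxy hτ using hdec
  have hpair : ∀ i j, i ≠ i₀ → j ≠ i₀ → i ≠ j →
      (x i = x j ∧ y i ≠ y j) ∨ (x i ≠ x j ∧ y i = y j) := by
    intro i j hi hj hij
    apply pair (hx i hi) (hy i hi) (hx j hj) (hy j hj) (hxy i hi) (hxy j hj)
    rw [← hτ i hi, ← hτ j hj, hgram i j hi hj, if_neg hij]
  by_cases hex : ∃ i j, i ≠ i₀ ∧ j ≠ i₀ ∧ i ≠ j ∧ x i = x j
  · obtain ⟨i, j, hi, hj, hij, hxij⟩ := hex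
    have hyij : y i ≠ y j := by
      rcases hpair i j hi hj hij with h | h
      · exact h.2
      · exact absurd hxij h.1
    have hall : ∀ k, k ≠ i₀ → x k = x i := by
      intro k hk
      by_cases hki : k = i
      · rw [hki]
      by_cases hkj : k = j
      · rw [hkj, hxij]
      rcases hpair k i hk hi hki with h | h
      · exact h.1
      rcases hpair k j hk hj hkj with h' | h'
      · rw [h'.1, hxij]
      · exact absurd (h.2.symm.trans h'.2) hyij
    apply core n i₀ τ h0 y x (-1) (Or.inr rfl) hy hx (fun k hk => (hxy k hk).symm) _ i hi hall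
    · intro k l hk hl hkl
      by_contra hne
      rcases hpair k l hk hl hne with h | h
      · exact h.2 hkl
      · exact h.1 ((hall k hk).trans (hall l hl).symm)
    · intro k hk
      rw [hτ k hk]
      funext g
      simp
  · by_cases hne : ∃ i, i ≠ i₀
    · obtain ⟨i, hi⟩ := hne
      apply core n i₀ τ h0 x y 1 (Or.inl rfl) hx hy hxy (fun k hk => by rw [hτ k hk, one_smul]) i hi
      · intro k hk
        by_cases hki : k = i
        · rw [hki]
        rcases hpair k i hk hi hki with h | h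
        · exact absurd ⟨k, i, hk, hi, hki, h.1⟩ hex
        · exact h.2
      · intro k l hk hl hkl
        by_contra hne
        exact hex ⟨k, l, hk, hl, hne, hkl⟩
    · push Not at hne
      refine ⟨1, Or.inl rfl, fun _ => fun _ => 1, fun _ => Cfsg.Agent.Lib.Helper4.isIrrCharacter_one, ?_, ?_⟩
      · intro k l _
        rw [hne k, hne l]
      · intro k
        rw [hne k, h0]
        simp

end Cfsg.Agent.S0198
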