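import Cfsg.Statements.S0037
import Cfsg.Agent.Lib.Helper1.Frobenius

set_option autoImplicit false
open Pointwise
open Cfsg

namespace Cfsg.Agent.S0037

open Lib.Helper1

/-- every nonidentity element of the smaller complement lies in a conjugate of the larger one -/
theorem step1 {G : Type*} [Group G] [Finite G] (H H₀ : Subgroup G)
    (hH : Cfsg.IsFrobeniusComplement H) (hH₀ : Cfsg.IsFrobeniusComplement H₀)
    (hle : Nat.card H₀ ≤ Nat.card H) (y : G) (hy : y ∈ H₀) (hy1 : y ≠ 1) :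
    ∃ g : G, y ∈ MulAut.conj g • H := by
  by_contra hcon
  push Not at hcon
  have hyK : y ∈ Cfsg.frobeniusKernel H := Or.inr hcon
  have hne : ∀ c : G, c * y * c⁻¹ ≠ 1 := by
    intro c h
    apply hy1
    have : y = c⁻¹ * (c * y * c⁻¹) * c := by group
    rw [this, h]; group
  let f : G ⧸ H₀ → {x : Cfsg.frobeniusKernel H // x ≠ ⟨1, one_mem_frobeniusKernel H⟩} :=
    fun c => ⟨⟨c.out * y * c.out⁻¹, conj_mem_frobeniusKernel hyK _⟩,
      fun h => hne _ (congrArg Subtype.val h)⟩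
  have hf : Function.Injective f := by
    intro c c' h
    have h1 : c.out * y * c.out⁻¹ = c'.out * y * c'.out⁻¹ :=
      congrArg (fun z => (z.1.1 : G)) h
    have m1 : c.out * y * c.out⁻¹ ∈ MulAut.conj c.out • H₀ := by
      rw [mem_conj_smul]; convert hy using 1; group
    have m2 : c.out * y * c.out⁻¹ ∈ MulAut.conj c'.out • H₀ := by
      rw [h1, mem_conj_smul]; convert hy using 1; group
    have h2 := frob_inv_mul_mem hH₀ (hne _) m1 m2
    rw [← QuotientGroup.out_eq' c, ← QuotientGroup.out_eq' c']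
    exact QuotientGroup.eq.mpr h2
  have h1 := Nat.card_le_card_of_injective f hf
  have h2 := card_subtype_ne_add_one (⟨1, one_mem_frobeniusKernel H⟩ : Cfsg.frobeniusKernel H)
  rw [card_frobeniusKernel hH] at h2
  have h3 : Nat.card (G ⧸ H₀) = H₀.index := rfl
  rw [h3] at h1
  have h4 : H₀.index < H.index := by
    rw [← h2]
    exact Nat.lt_succ_of_le h1
  have h5 := H.index_mul_card
  have h6 := H₀.index_mul_card
  have h7 : H₀.index * Nat.card H₀ < H.index * Nat.card H :=
    Nat.mul_lt_mul_of_lt_of_le h4 hle Nat.card_pos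
  omega

/-- Of two Frobenius complements in one finite group, the one of smaller (or equal) order is conjugate to a subgroup of the other. -/
theorem result {G : Type*} [Group G] [Finite G] (H H₀ : Subgroup G)
    (hH : Cfsg.IsFrobeniusComplement H) (hH₀ : Cfsg.IsFrobeniusComplement H₀) (hle : Nat.card H₀ ≤ Nat.card H) :
    ∃ g : G, MulAut.conj g • H₀ ≤ H := by
  by_contra hno
  push Not at hno
  let D : G → Subgroup H₀ := fun g => (MulAut.conj g • H).subgroupOf H₀
  have hDmem : ∀ (g : G) (x : H₀), x ∈ D g ↔ g⁻¹ * (x : G) * g ∈ H := by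
    intro g x
    change (x : G) ∈ MulAut.conj g • H ↔ _
    rw [mem_conj_smul]
  have hDtop : ∀ g, D g ≠ ⊤ := by
    intro g h
    apply hno g⁻¹
    rw [Subgroup.subgroupOf_eq_top] at h
    intro x hx
    rw [mem_conj_smul] at hx
    have := h hx
    rw [mem_conj_smul] at this
    convert this using 1
    group
  have hDconj : ∀ (γ : H₀) (g : G), MulAut.conj γ • D g = D (γ * g) := by
    intro γ g
    ext x
    rw [mem_conj_smul, hDmem, hDmem]
    have : g⁻¹ * ((γ⁻¹ * x * γ : H₀) : G) * g = ((γ : G) * g)⁻¹ * (x : G) * ((γ : G) * g) := by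
      push_cast; group
    rw [this]
  have hDeq : ∀ (g g' : G) (x : H₀), x ≠ 1 → x ∈ D g → x ∈ D g' → D g = D g' := by
    intro g g' x hx h1 h2
    have hx' : (x : G) ≠ 1 := fun h => hx (Subtype.ext h)
    have h3 := frob_inv_mul_mem hH hx' (show (x : G) ∈ MulAut.conj g • H from h1)
      (show (x : G) ∈ MulAut.conj g' • H from h2)
    have h4 : MulAut.conj g' • H = MulAut.conj g • H := by
      have : g' = g * (g⁻¹ * g') := by group
      rw [this, conj_mul_smul, Subgroup.conj_smul_eq_self_of_mem h3]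
    change (MulAut.conj g • H).subgroupOf H₀ = (MulAut.conj g' • H).subgroupOf H₀
    rw [h4]
  have hDfrob : ∀ g, D g ≠ ⊥ → Cfsg.IsFrobeniusComplement (D g) := by
    intro g hb
    refine ⟨hb, hDtop g, ?_⟩
    intro γ hγ
    rw [eq_bot_iff]
    intro x hx
    obtain ⟨hx1, hx2⟩ := Subgroup.mem_inf.mp hx
    rw [Subgroup.mem_bot]
    by_contra hne
    rw [hDconj] at hx2
    have hx' : (x : G) ≠ 1 := fun h => hne (Subtype.ext h)
    have h3 := frob_inv_mul_mem hH hx' (show (x : G) ∈ MulAut.conj g • H from hx1)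
      (show (x : G) ∈ MulAut.conj ((γ : G) * g) • H from hx2)
    apply hγ
    rw [hDmem]
    convert h3 using 1
    group
  have hcover : ∀ x : H₀, x ≠ 1 → ∃ g, x ∈ D g := by
    intro x hx
    exact step1 H H₀ hH hH₀ hle x x.2 (fun h => hx (Subtype.ext h))
  have hhalf : ∀ g, D g ≠ ⊥ → 2 * Nat.card (Cfsg.frobeniusKernel (D g)) ≤ Nat.card H₀ := by
    intro g hb
    rw [card_frobeniusKernel (hDfrob g hb), ← (D g).index_mul_card, mul_comm]
    exact Nat.mul_le_mul_left _ ((Subgroup.one_lt_card_iff_ne_bot _).mpr hb)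
  obtain ⟨γ₁, hγ₁⟩ : ∃ γ : H₀, γ ≠ 1 := by
    have : Nontrivial H₀ := (Subgroup.nontrivial_iff_ne_bot H₀).mpr hH₀.1
    exact exists_ne 1
  obtain ⟨g₁, hg₁⟩ := hcover γ₁ hγ₁
  have hb₁ : D g₁ ≠ ⊥ := by
    intro h
    rw [h, Subgroup.mem_bot] at hg₁
    exact hγ₁ hg₁
  have hF₁ := hDfrob g₁ hb₁
  -- a nonidentity element of the kernel of `D g₁`
  obtain ⟨γ₂, hγ₂K, hγ₂⟩ : ∃ γ : H₀, γ ∈ Cfsg.frobeniusKernel (D g₁) ∧ γ ≠ 1 := by
    by_contra hcon
    push Not at hcon
    have h1 : Cfsg.frobeniusKernel (D g₁) = {1} := by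
      ext z
      constructor
      · intro hz; exact hcon z hz
      · rintro rfl; exact one_mem_frobeniusKernel _
    have h2 := card_frobeniusKernel hF₁
    rw [h1] at h2
    simp only [Nat.card_eq_fintype_card, Fintype.card_unique] at h2
    exact hDtop g₁ (Subgroup.index_eq_one.mp h2.symm)
  obtain ⟨g₂, hg₂⟩ := hcover γ₂ hγ₂
  have hb₂ : D g₂ ≠ ⊥ := by
    intro h
    rw [h, Subgroup.mem_bot] at hg₂
    exact hγ₂ hg₂
  have hunion : Cfsg.frobeniusKernel (D g₁) ∪ Cfsg.frobeniusKernel (D g₂) = Set.univ := by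
    rw [Set.eq_univ_iff_forall]
    intro z
    by_contra hz
    rw [Set.mem_union, not_or] at hz
    obtain ⟨hz1, a, ha⟩ := not_mem_frobeniusKernel_iff.mp hz.1
    obtain ⟨-, b, hb⟩ := not_mem_frobeniusKernel_iff.mp hz.2
    rw [hDconj] at ha hb
    have h1 := hDeq _ _ z hz1 ha hb
    rw [← hDconj, ← hDconj] at h1
    have h2 : D g₂ = MulAut.conj (b⁻¹ * a) • D g₁ := by
      rw [conj_mul_smul, h1, ← conj_mul_smul, inv_mul_cancel, map_one, one_smul]
    rcases hγ₂K with h | h
    · exact hγ₂ h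
    · exact h (b⁻¹ * a) (h2 ▸ hg₂)
  have hinter : 1 ≤ (Cfsg.frobeniusKernel (D g₁) ∩ Cfsg.frobeniusKernel (D g₂)).ncard := by
    rw [Nat.one_le_iff_ne_zero, ← Nat.pos_iff_ne_zero, Set.ncard_pos]
    exact ⟨1, one_mem_frobeniusKernel _, one_mem_frobeniusKernel _⟩
  have hcount := Set.ncard_union_add_ncard_inter (Cfsg.frobeniusKernel (D g₁))
    (Cfsg.frobeniusKernel (D g₂))
  rw [hunion, Set.ncard_univ] at hcount
  have e1 := hhalf g₁ hb₁
  have e2 := hhalf g₂ hb₂
  rw [Nat.card_coe_set_eq] at e1 e2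
  omega

end Cfsg.Agent.S0037
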