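import Cfsg.Statements.S0038
import Cfsg.Agent.Lib.Helper1.Fpf3
import Cfsg.Agent.Lib.Helper1.Frobenius
import Cfsg.Agent.S0035
import Cfsg.Agent.S0037

set_option autoImplicit false
open Pointwise
open Cfsg

namespace Cfsg.Agent.S0038

open Lib.Helper1

/-- a Frobenius complement acts fixed-point-freely on the kernel -/
theorem frob_fpf {G : Type*} [Group G] {H N : Subgroup G} (hH : Cfsg.IsFrobeniusComplement H)
    (hN : (N : Set G) = Cfsg.frobeniusKernel H) (h : G) (hh : h ∈ H) (h1 : h ≠ 1) :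
    N ⊓ Subgroup.centralizer {h} = ⊥ := by
  rw [eq_bot_iff]
  intro k hk
  obtain ⟨hkN, hkc⟩ := Subgroup.mem_inf.mp hk
  rw [Subgroup.mem_bot]
  by_contra hk1
  have hkK : k ∈ Cfsg.frobeniusKernel H := by
    rw [← hN]; exact hkN
  rcases hkK with h' | h'
  · exact hk1 h'
  · have hkH : k ∉ H := by
      intro hkH
      apply h' 1
      rw [map_one, one_smul]
      exact hkH
    have h2 := hH.2.2 k hkH
    rw [Subgroup.mem_centralizer_singleton_iff] at hkc
    have hm : h ∈ H ⊓ MulAut.conj k • H := by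
      refine Subgroup.mem_inf.mpr ⟨hh, ?_⟩
      rw [mem_conj_smul]
      have : k⁻¹ * h * k = h := by
        rw [mul_assoc, ← hkc, inv_mul_cancel_left]
      rw [this]
      exact hh
    rw [h2, Subgroup.mem_bot] at hm
    exact h1 hm

theorem frob_conj {G : Type*} [Group G] [Finite G] {H : Subgroup G}
    (hH : Cfsg.IsFrobeniusComplement H) (g : G) :
    Cfsg.IsFrobeniusComplement (MulAut.conj g • H) := by
  refine ⟨?_, ?_, ?_⟩
  · intro h
    apply hH.1
    rw [← Subgroup.card_eq_one, ← card_conj_smul g H, h, Subgroup.card_bot]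
  · intro h
    apply hH.2.1
    apply Subgroup.eq_top_of_card_eq
    rw [← card_conj_smul g H, h, Subgroup.card_top]
  · intro y hy
    rw [eq_bot_iff]
    intro z hz
    obtain ⟨hz1, hz2⟩ := Subgroup.mem_inf.mp hz
    rw [Subgroup.mem_bot]
    by_contra hne
    rw [← conj_mul_smul] at hz2
    have h3 := frob_inv_mul_mem hH hne hz1 hz2
    apply hy
    rw [mem_conj_smul]
    convert h3 using 1
    group

theorem no_proper {G : Type*} [Group G] [Finite G] (H H₀ : Subgroup G)
    (hH : Cfsg.IsFrobeniusComplement H) (hH₀ : Cfsg.IsFrobeniusComplement H₀) (hle : H₀ ≤ H) :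
    H₀ = H := by
  by_contra hne
  obtain ⟨K, hK, hKn, hKc⟩ := Cfsg.Agent.S0035.result H hH
  obtain ⟨K₀, hK₀, hK₀n, hK₀c⟩ := Cfsg.Agent.S0035.result H₀ hH₀
  have hKbot : K ≠ ⊥ := by
    rintro rfl
    exact hH.2.1 (Subgroup.isComplement'_bot_left.mp hKc)
  set M := K₀ ⊓ H with hMdef
  have hM : M ≠ ⊥ := by
    intro hM
    have hinj := Subgroup.mul_injective_of_disjoint (disjoint_iff.mpr hM)
    have hc := Nat.card_le_card_of_injective _ hinj
    rw [Nat.card_prod, ← hK₀c.card_mul_card] at hc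
    have : Nat.card H ≤ Nat.card H₀ := Nat.le_of_mul_le_mul_left hc Nat.card_pos
    exact hne (Subgroup.eq_of_le_of_card_ge hle this)
  have hH₀1 : Nat.card H₀ ≠ 1 := fun h => hH₀.1 (Subgroup.card_eq_one.mp h)
  obtain ⟨r, hr, hrd⟩ := Nat.exists_prime_and_dvd hH₀1
  have : Fact r.Prime := ⟨hr⟩
  obtain ⟨h, hh⟩ := exists_prime_orderOf_dvd_card' (G := H₀) r hrd
  have hh' : orderOf (h : G) = r := by rw [Subgroup.orderOf_coe, hh]
  have hh1 : (h : G) ≠ 1 := by
    intro h0
    rw [h0, orderOf_one] at hh'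
    exact hr.one_lt.ne hh'
  set R := Subgroup.zpowers (h : G) with hRdef
  have hRH₀ : R ≤ H₀ := by
    rw [hRdef, Subgroup.zpowers_le]; exact h.2
  have hRc : Nat.card R = r := by rw [hRdef, Nat.card_zpowers, hh']
  have hRM : R ≤ Subgroup.normalizer (M : Set G) := by
    intro g hg
    rw [mem_normalizer_iff_conj_smul, hMdef, Subgroup.smul_inf,
      Subgroup.Normal.conj_smul_eq_self, Subgroup.conj_smul_eq_self_of_mem (hle (hRH₀ hg))]
  have hRfpf : ∀ e ∈ R, e ≠ 1 → M ⊓ Subgroup.centralizer {e} = ⊥ := by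
    intro e he he1
    rw [eq_bot_iff, ← frob_fpf hH₀ hK₀ e (hRH₀ he) he1]
    exact inf_le_inf_right _ inf_le_left
  have hcop := fpf_coprime R M hRM hRfpf
  have hM1 : Nat.card M ≠ 1 := fun h => hM (Subgroup.card_eq_one.mp h)
  obtain ⟨q, hq, hqM⟩ := Nat.exists_prime_and_dvd hM1
  have : Fact q.Prime := ⟨hq⟩
  obtain ⟨Q, hQ, hRQ⟩ := coprime_exists_invariant_sylow R M hRM hcop
    (Or.inl (Group.isSolvable_of_comm mul_comm')) q
  have hqQ : q ∣ Nat.card Q := by
    have h1 := card_mul_relIndex hQ.1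
    rw [← h1] at hqM
    exact (hq.dvd_mul.mp hqM).resolve_right hQ.2.2
  obtain ⟨x, hx⟩ := exists_prime_orderOf_dvd_card' (G := Q) q hqQ
  have hx' : orderOf (x : G) = q := by rw [Subgroup.orderOf_coe, hx]
  have hx1 : (x : G) ≠ 1 := by
    intro h0
    rw [h0, orderOf_one] at hx'
    exact hq.one_lt.ne hx'
  set X := Subgroup.zpowers (x : G) with hXdef
  have hXQ : X ≤ Q := by
    rw [hXdef, Subgroup.zpowers_le]; exact x.2
  have hXc : Nat.card X = q := by rw [hXdef, Nat.card_zpowers, hx']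
  have hQH : Q ≤ H := hQ.1.trans inf_le_right
  have hHfpf : ∀ e ∈ H, e ≠ 1 → K ⊓ Subgroup.centralizer {e} = ⊥ := frob_fpf hH hK
  have hNK : ∀ L : Subgroup G, L ≤ Subgroup.normalizer (K : Set G) := by
    intro L
    rw [Subgroup.normalizer_eq_top]
    exact le_top
  have hRX : R ≤ Subgroup.normalizer (X : Set G) := by
    intro g hg
    rw [mem_normalizer_iff_conj_smul]
    refine fpf_pgroup_unique q Q K hQ.2.1 (hNK Q) hKbot (fun e he => hHfpf e (hQH he)) _ _
      ?_ hXQ ?_ hXc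
    · have h1 := mem_normalizer_iff_conj_smul.mp (hRQ hg)
      rw [← h1]
      exact Subgroup.pointwise_smul_le_pointwise_smul_iff.mpr hXQ
    · rw [card_conj_smul, hXc]
  set E := R ⊔ X with hEdef
  have hrq : r.Coprime q := by
    rw [hRc] at hcop
    exact Nat.Coprime.coprime_dvd_right hqM hcop
  have hEc : Nat.card E = r * q := by
    rw [hEdef, card_sup_of_coprime_le_normalizer hRX (by rw [hRc, hXc]; exact hrq), hRc, hXc]
  have hEH : E ≤ H := sup_le (hRH₀.trans hle) (hXQ.trans hQH)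
  have hXE : X ≤ E := le_sup_right
  have hEsolv : Group.IsSolvable E := by
    have hn : (X.subgroupOf E).Normal :=
      (Subgroup.normal_subgroupOf_iff_le_normalizer hXE).mpr (sup_le hRX Subgroup.le_normalizer)
    rw [Group.isSolvable_iff_subgroup_quotient (X.subgroupOf E)]
    refine ⟨Group.isSolvable_of_comm mul_comm', ?_⟩
    have hc : Nat.card (E ⧸ X.subgroupOf E) = r := by
      have h1 := card_mul_relIndex hXE
      rw [hXc, hEc, mul_comm] at h1
      exact Nat.eq_of_mul_eq_mul_right hq.pos h1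
    have : IsCyclic (E ⧸ X.subgroupOf E) := isCyclic_of_prime_card hc
    exact Group.isSolvable_of_comm mul_comm'
  obtain ⟨V, -, hV1, hVc, hEV, hVf⟩ := fpf_exists_invariant_abelian E K (hNK E) hKbot
    (fun e he => hHfpf e (hEH he)) (Or.inl hEsolv)
  have hcyc : IsCyclic E := fpf_isCyclic_subgroup E V hV1 hEV hVf (Or.inr ⟨r, q, hr, hq, hEc⟩)
  have hhE : (h : G) ∈ E := (le_sup_left : R ≤ E) (Subgroup.mem_zpowers _)
  have hxE : (x : G) ∈ E := hXE (Subgroup.mem_zpowers _)
  have hcomm : (x : G) * h = h * x := congrArg Subtype.val (mul_comm' (⟨x, hxE⟩ : E) ⟨h, hhE⟩)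
  have hmem : (x : G) ∈ M ⊓ Subgroup.centralizer {(h : G)} := by
    refine Subgroup.mem_inf.mpr ⟨hQ.1 x.2, ?_⟩
    rw [Subgroup.mem_centralizer_singleton_iff]
    exact hcomm
  rw [hRfpf h (Subgroup.mem_zpowers _) hh1, Subgroup.mem_bot] at hmem
  exact hx1 hmem

/-- All Frobenius complements of a finite group are conjugate to one another. -/
theorem result {G : Type*} [Group G] [Finite G] (H H₀ : Subgroup G)
    (hH : Cfsg.IsFrobeniusComplement H) (hH₀ : Cfsg.IsFrobeniusComplement H₀) :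
    ∃ g : G, MulAut.conj g • H₀ = H := by
  rcases le_total (Nat.card H₀) (Nat.card H) with hle | hle
  · obtain ⟨g, hg⟩ := Cfsg.Agent.S0037.result H H₀ hH hH₀ hle
    exact ⟨g, no_proper H _ hH (frob_conj hH₀ g) hg⟩
  · obtain ⟨g, hg⟩ := Cfsg.Agent.S0037.result H₀ H hH₀ hH hle
    have h1 := no_proper H₀ _ hH₀ (frob_conj hH g) hg
    exact ⟨g⁻¹, by rw [← h1, ← conj_mul_smul, inv_mul_cancel, map_one, one_smul]⟩

end Cfsg.Agent.S0038
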