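import Cfsg.Statements.S0042
import Cfsg.Agent.Lib.Helper1.TFpf3
import Cfsg.Agent.S0038
import Cfsg.Agent.S0659

set_option autoImplicit false
open Cfsg

namespace Cfsg.Agent.S0042

open Lib.Helper1

/-- In a finite Frobenius group, the Frobenius kernel is (the carrier of) a normal subgroup which is nilpotent. -/
theorem result {G : Type*} [Group G] [Finite G] (H : Subgroup G) (hH : Cfsg.IsFrobeniusComplement H) :
    ∃ N : Subgroup G, (N : Set G) = Cfsg.frobeniusKernel H ∧ N.Normal ∧ Group.IsNilpotent N := by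
  obtain ⟨N, hN, hNn, hNc⟩ := Cfsg.Agent.S0035.result H hH
  refine ⟨N, hN, hNn, ?_⟩
  have hH1 : Nat.card H ≠ 1 := fun h => hH.1 (Subgroup.card_eq_one.mp h)
  obtain ⟨p, hp, hpd⟩ := Nat.exists_prime_and_dvd hH1
  have := Fact.mk hp
  obtain ⟨h, hh⟩ := exists_prime_orderOf_dvd_card' (G := H) p hpd
  have hh' : orderOf (h : G) = p := by rw [Subgroup.orderOf_coe, hh]
  have hh1 : (h : G) ≠ 1 := by
    intro h0
    rw [h0, orderOf_one] at hh'
    exact hp.one_lt.ne hh'
  let φ : N →* N := (MulAut.conjNormal (h : G)).toMonoidHom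
  have hφ : ∀ x : N, ((φ x : N) : G) = h * x * (h : G)⁻¹ := fun _ => rfl
  apply thompson_fpf (fun X _ _ q _ hq P h => Cfsg.Agent.S0659.result hq P h) hp φ
  · intro x hx
    have h1 : (x : G) ∈ N ⊓ Subgroup.centralizer {(h : G)} := by
      refine Subgroup.mem_inf.mpr ⟨x.2, ?_⟩
      rw [Subgroup.mem_centralizer_singleton_iff]
      have := congrArg Subtype.val hx
      rw [hφ] at this
      exact (mul_inv_eq_iff_eq_mul.mp this).symm
    rw [Cfsg.Agent.S0038.frob_fpf hH hN h h.2 hh1, Subgroup.mem_bot] at h1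
    exact Subtype.ext h1
  · have h2 : ∀ (n : ℕ) (x : N), φ^[n] x = MulAut.conjNormal ((h : G) ^ n) x := by
      intro n
      induction n with
      | zero => intro x; simp
      | succ n ih =>
        intro x
        rw [Function.iterate_succ_apply', ih, pow_succ', map_mul]
        rfl
    funext x
    rw [h2, ← hh', pow_orderOf_eq_one, map_one]
    rfl

end Cfsg.Agent.S0042
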