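import Cfsg.Statements.S0539
import Cfsg.Agent.Lib.Helper12.Subnormal
import Cfsg.Agent.Lib.Helper12.CoreFree

set_option autoImplicit false
open Pointwise
open Cfsg

namespace Cfsg.Agent.S0539

open Cfsg.Agent.Lib.Helper12

theorem smul_eq_of_smul_le {G : Type*} [Group G] [Finite G] (H : Subgroup G) (g : G)
    (h : MulAut.conj g • H ≤ H) : MulAut.conj g • H = H := by
  apply Subgroup.eq_of_le_of_card_ge h
  rw [card_conj_smul]

theorem conj_smul_eq_map {G : Type*} [Group G] (H : Subgroup G) (g : G) :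
    MulAut.conj g • H = H.map (MulAut.conj g).toMonoidHom := rfl

theorem mem_normalizer_sSup {G : Type*} [Group G] [Finite G] (T : Set (Subgroup G)) (x : G)
    (h : ∀ U ∈ T, MulAut.conj x • U ∈ T) : x ∈ Subgroup.normalizer ((sSup T : Subgroup G) : Set G) := by
  rw [mem_normalizer_iff_smul]
  apply smul_eq_of_smul_le
  rw [sSup_eq_iSup, conj_smul_eq_map, Subgroup.map_iSup]
  apply iSup_le
  intro U
  rw [Subgroup.map_iSup]
  apply iSup_le
  intro hU
  exact le_iSup₂_of_le (MulAut.conj x • U) (h U hU) le_rfl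

theorem claim {G : Type*} [Group G] [Finite G] (S : Set (Subgroup G))
    (hconj : ∀ U ∈ S, ∀ g : G, MulAut.conj g • U ∈ S) (K : Subgroup G) (hK : K.IsSubnormal) :
    (∀ U ∈ S, U ≤ K) ∨ ∃ X ∈ S, ¬ X ≤ K ∧
      X ≤ Subgroup.normalizer ((sSup {U | U ∈ S ∧ U ≤ K} : Subgroup G) : Set G) := by
  induction hK with
  | top => left; intro U _; exact le_top
  | step H K hHK hKsub hN ih =>
    rw [Subgroup.normal_subgroupOf_iff_le_normalizer hHK] at hN
    by_cases hex : ∃ X ∈ S, X ≤ K ∧ ¬ X ≤ H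
    · obtain ⟨X, hXS, hXK, hXH⟩ := hex
      right
      refine ⟨X, hXS, hXH, ?_⟩
      intro x hx
      apply mem_normalizer_sSup
      rintro U ⟨hUS, hUH⟩
      refine ⟨hconj U hUS x, ?_⟩
      have h1 : MulAut.conj x • H = H := (mem_normalizer_iff_smul H x).1 (hN (hXK hx))
      rw [← h1]
      exact Subgroup.pointwise_smul_le_pointwise_smul_iff.2 hUH
    · push Not at hex
      have hset : {U | U ∈ S ∧ U ≤ K} = {U | U ∈ S ∧ U ≤ H} := by
        ext U
        constructor
        · rintro ⟨h1, h2⟩; exact ⟨h1, hex U h1 h2⟩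
        · rintro ⟨h1, h2⟩; exact ⟨h1, h2.trans hHK⟩
      rcases ih with h | ⟨X, hXS, hXK, hXn⟩
      · left; intro U hU; exact hex U hU (h U hU)
      · right
        refine ⟨X, hXS, fun h => hXK (h.trans hHK), ?_⟩
        rw [← hset]; exact hXn

/-- Let S be a family of subnormal subgroups of a finite group that is closed under conjugation, and S₀ a proper subfamily. Then some member of S not in S₀ normalizes the join of S₀. -/
theorem result {G : Type*} [Group G] [Finite G] (S S₀ : Set (Subgroup G)) (hS : ∀ U ∈ S, U.IsSubnormal) (hconj : ∀ U ∈ S, ∀ g : G, MulAut.conj g • U ∈ S) (h₀ : S₀ ⊂ S) : ∃ X ∈ S, X ∉ S₀ ∧ X ≤ Subgroup.normalizer ((sSup S₀ : Subgroup G) : Set G) := by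
  have hsub : (sSup S₀).IsSubnormal := isSubnormal_sSup S₀ (fun U hU => hS U (h₀.1 hU))
  by_cases hex : ∃ X ∈ S, X ∉ S₀ ∧ X ≤ sSup S₀
  · obtain ⟨X, h1, h2, h3⟩ := hex
    exact ⟨X, h1, h2, h3.trans Subgroup.le_normalizer⟩
  · push Not at hex
    have hset : {U | U ∈ S ∧ U ≤ sSup S₀} = S₀ := by
      ext U
      constructor
      · rintro ⟨h1, h2⟩
        by_contra h3
        exact hex U h1 h3 h2
      · intro h; exact ⟨h₀.1 h, le_sSup h⟩
    rcases claim S hconj (sSup S₀) hsub with h | ⟨X, hXS, hXK, hXn⟩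
    · exfalso
      apply h₀.2
      intro U hU
      by_contra h3
      exact hex U hU h3 (h U hU)
    · rw [hset] at hXn
      exact ⟨X, hXS, fun h => hXK (le_sSup h), hXn⟩

end Cfsg.Agent.S0539
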