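import Cfsg.Statements.S0540
import Cfsg.Agent.Lib.Helper12.SubnormalRel

set_option autoImplicit false
open Pointwise
open Cfsg

namespace Cfsg.Agent.S0540

open Cfsg.Agent.Lib.Helper12

theorem conj_closed {G : Type*} [Group G] (A : Subgroup G)
    (S : Subgroup G → Set (Subgroup G)) (hS : ∀ V B : Subgroup G, B ∈ S V ↔ (∃ g : G, B = MulAut.conj g • A) ∧ B ≤ V ∧ (B.subgroupOf V).IsSubnormal)
    (V : Subgroup G) : ∀ B ∈ S V, ∀ g ∈ V, MulAut.conj g • B ∈ S V := by
  intro B hB g hg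
  rw [hS] at hB ⊢
  obtain ⟨⟨x, rfl⟩, h2, h3⟩ := hB
  refine ⟨⟨g * x, by rw [map_mul, mul_smul]⟩, Subgroup.conj_smul_le_of_le h2 ⟨g, hg⟩, ?_⟩
  have := Subgroup.conj_smul_subgroupOf h2 ⟨g, hg⟩
  rw [← this]
  exact h3.smul _

theorem step {G : Type*} [Group G] [Finite G] (A : Subgroup G) (U : Set (Subgroup G))
    (S : Subgroup G → Set (Subgroup G)) (hS : ∀ V B : Subgroup G, B ∈ S V ↔ (∃ g : G, B = MulAut.conj g • A) ∧ B ≤ V ∧ (B.subgroupOf V).IsSubnormal)
    (h2 : ∀ V ∈ U, ∀ W ∈ U, ∀ B ∈ S W, B ≤ V → B ∈ S V)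
    (V W X : Subgroup G) (hV : Maximal (· ∈ U) V) (hX : Maximal (· ∈ U) X)
    (hn : Subgroup.normalizer ((sSup (S V ∩ S W) : Subgroup G) : Set G) ≤ X)
    (ih : ∀ V' W' : Subgroup G, Maximal (· ∈ U) V' → Maximal (· ∈ U) W' →
      S V ∩ S W ⊂ S V' ∩ S W' → V' = W') : V = X := by
  have hsub : S V ∩ S W ⊆ S X := by
    intro C hC
    apply h2 X hX.1 V hV.1 C hC.1
    exact (le_sSup hC).trans (Subgroup.le_normalizer.trans hn)
  by_cases heq : S V ∩ S W = S V
  · have hVn : V ≤ Subgroup.normalizer ((sSup (S V ∩ S W) : Subgroup G) : Set G) := by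
      intro v hv
      rw [heq]
      apply Cfsg.Agent.S0539.mem_normalizer_sSup
      intro B hB
      exact conj_closed A S hS V B hB v hv
    exact le_antisymm (hVn.trans hn) (hV.2 hX.1 (hVn.trans hn))
  · have hss : S V ∩ S W ⊂ S V := ⟨Set.inter_subset_left, fun h => heq (Set.Subset.antisymm Set.inter_subset_left h)⟩
    obtain ⟨B, hB, hB0, hBn⟩ := exists_normalizes_sSup_rel V (S V) (S V ∩ S W)
      (fun B hB => ((hS V B).1 hB).2.1) (fun B hB => ((hS V B).1 hB).2.2)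
      (conj_closed A S hS V) hss
    have hBX : B ∈ S X := h2 X hX.1 V hV.1 B hB (hBn.trans hn)
    apply ih V X hV hX
    refine ⟨fun C hC => ⟨hC.1, hsub hC⟩, fun h => hB0 (h ⟨hB, hBX⟩)⟩

/-- A uniqueness lemma of zipper type. Let A be a subgroup of a finite group G and U a nonempty family of subgroups. For V in U write S(V) for the set of conjugates of A that lie in V and are subnormal in V. Assume: A belongs to S(V) for every V in U; a member of some S(W) that lies in V belongs to S(V); and for all V, W in U the normalizer of the join of S(V) ∩ S(W) lies in some member of U. Then U has a greatest element. -/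
theorem result {G : Type*} [Group G] [Finite G] (A : Subgroup G) (U : Set (Subgroup G)) (hU : U.Nonempty) (S : Subgroup G → Set (Subgroup G)) (hS : ∀ V B : Subgroup G, B ∈ S V ↔ (∃ g : G, B = MulAut.conj g • A) ∧ B ≤ V ∧ (B.subgroupOf V).IsSubnormal) (h1 : ∀ V ∈ U, A ∈ S V) (h2 : ∀ V ∈ U, ∀ W ∈ U, ∀ B ∈ S W, B ≤ V → B ∈ S V) (h3 : ∀ V ∈ U, ∀ W ∈ U, ∃ X ∈ U, Subgroup.normalizer ((sSup (S V ∩ S W) : Subgroup G) : Set G) ≤ X) : ∃ M ∈ U, ∀ V ∈ U, V ≤ M := by
  have hmax : ∀ V ∈ U, ∃ M, V ≤ M ∧ Maximal (· ∈ U) M := fun V hV =>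
    exists_maximal_ge_of_wellFoundedGT (· ∈ U) V hV
  have key : ∀ T : Set (Subgroup G), ∀ V W : Subgroup G, Maximal (· ∈ U) V → Maximal (· ∈ U) W →
      S V ∩ S W = T → V = W := by
    intro T
    induction T using (wellFounded_gt (α := Set (Subgroup G))).induction with
    | _ T ih =>
      intro V W hV hW hT
      obtain ⟨X₀, hX₀, hn₀⟩ := h3 V hV.1 W hW.1
      obtain ⟨X, hX₀X, hX⟩ := hmax X₀ hX₀
      have e1 : V = X := by
        apply step A U S hS h2 V W X hV hX (hn₀.trans hX₀X)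
        intro V' W' hV' hW' hss
        exact ih (S V' ∩ S W') (by rw [← hT]; exact hss) V' W' hV' hW' rfl
      have e2 : W = X := by
        apply step A U S hS h2 W V X hW hX (by rw [Set.inter_comm]; exact hn₀.trans hX₀X)
        intro V' W' hV' hW' hss
        exact ih (S V' ∩ S W') (by rw [← hT, Set.inter_comm]; exact hss) V' W' hV' hW' rfl
      rw [e1, e2]
  obtain ⟨V₀, hV₀⟩ := hU
  obtain ⟨M, -, hM⟩ := hmax V₀ hV₀
  refine ⟨M, hM.1, fun V hV => ?_⟩
  obtain ⟨M', hVM', hM'⟩ := hmax V hV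
  rw [key _ M M' hM hM' rfl]
  exact hVM'

end Cfsg.Agent.S0540
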