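import Cfsg.Statements.S4333
-- import your own Cfsg.Agent.* helpers here
import Cfsg.Agent.S0540

set_option autoImplicit false
open Pointwise
open Cfsg

namespace Cfsg.Agent.S4333

universe u

theorem rel_transfer {G : Type*} [Group G] {A T H : Subgroup G} (hTH : T ≤ H)
    (h : (A.subgroupOf T).IsSubnormal) : ((A.subgroupOf H).subgroupOf (T.subgroupOf H)).IsSubnormal := by
  have h1 := h.comap (Subgroup.subgroupOfEquivOfLe hTH).toMonoidHom
  have h2 : (A.subgroupOf T).comap (Subgroup.subgroupOfEquivOfLe hTH).toMonoidHom =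
      (A.subgroupOf H).subgroupOf (T.subgroupOf H) := by
    ext x
    simp [Subgroup.mem_subgroupOf, Subgroup.subgroupOfEquivOfLe]
  rwa [h2] at h1

theorem conj_transfer {G : Type*} [Group G] {A V : Subgroup G} (g : G)
    (h : (A.subgroupOf V).IsSubnormal) :
    ((MulAut.conj g • A).subgroupOf (MulAut.conj g • V)).IsSubnormal := by
  have h1 := h.comap (Subgroup.equivSMul (MulAut.conj g) V).symm.toMonoidHom
  have h2 : (A.subgroupOf V).comap (Subgroup.equivSMul (MulAut.conj g) V).symm.toMonoidHom =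
      (MulAut.conj g • A).subgroupOf (MulAut.conj g • V) := by
    ext x
    obtain ⟨y, rfl⟩ := (Subgroup.equivSMul (MulAut.conj g) V).surjective x
    simp only [Subgroup.mem_comap, MulEquiv.coe_toMonoidHom, MulEquiv.symm_apply_apply,
      Subgroup.mem_subgroupOf]
    have : ((Subgroup.equivSMul (MulAut.conj g) V) y : G) = MulAut.conj g • (y : G) := rfl
    rw [this, Subgroup.smul_mem_pointwise_smul_iff]
  rwa [h2] at h1

theorem zipper {G : Type*} [Group G] [Finite G] (A : Subgroup G) (hA : ¬ A.IsSubnormal)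
    (hprop : ∀ V : Subgroup G, A ≤ V → V ≠ ⊤ → (A.subgroupOf V).IsSubnormal) :
    ∃ M : Subgroup G, A ≤ M ∧ M ≠ ⊤ ∧ ∀ V : Subgroup G, A ≤ V → V ≠ ⊤ → V ≤ M := by
  have hAtop : A ≠ ⊤ := fun h => hA (h ▸ Subgroup.IsSubnormal.top)
  obtain ⟨M, ⟨hM1, hM2⟩, hM3⟩ := Cfsg.Agent.S0540.result A {V | A ≤ V ∧ V ≠ ⊤} ⟨A, le_rfl, hAtop⟩
    (fun V => {B | (∃ g : G, B = MulAut.conj g • A) ∧ B ≤ V ∧ (B.subgroupOf V).IsSubnormal})
    (fun V B => Iff.rfl)
    (fun V hV => ⟨⟨1, by simp⟩, hV.1, hprop V hV.1 hV.2⟩)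
    (by
      rintro V ⟨hV1, hV2⟩ W - B ⟨⟨g, rfl⟩, -, -⟩ hBV
      refine ⟨⟨g, rfl⟩, hBV, ?_⟩
      have h1 : A ≤ MulAut.conj g⁻¹ • V := by
        rw [map_inv, Subgroup.subset_pointwise_smul_iff, inv_inv]
        exact hBV
      have h2 : MulAut.conj g⁻¹ • V ≠ ⊤ := by
        intro h
        apply hV2
        have := congrArg (fun X => MulAut.conj g • X) h
        simpa [map_inv] using this
      have h3 := conj_transfer g (hprop _ h1 h2)
      rw [map_inv, smul_inv_smul] at h3
      exact h3)
    (by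
      rintro V ⟨hV1, hV2⟩ W ⟨hW1, hW2⟩
      set T : Subgroup G := sSup ({B | (∃ g : G, B = MulAut.conj g • A) ∧ B ≤ V ∧ (B.subgroupOf V).IsSubnormal} ∩
        {B | (∃ g : G, B = MulAut.conj g • A) ∧ B ≤ W ∧ (B.subgroupOf W).IsSubnormal}) with hT
      have hAT : A ≤ T := le_sSup ⟨⟨⟨1, by simp⟩, hV1, hprop V hV1 hV2⟩, ⟨⟨1, by simp⟩, hW1, hprop W hW1 hW2⟩⟩
      have hTV : T ≤ V := sSup_le (fun B hB => hB.1.2.1)
      have hTtop : T ≠ ⊤ := fun h => hV2 (top_le_iff.1 (h ▸ hTV))
      refine ⟨Subgroup.normalizer (T : Set G), ⟨hAT.trans Subgroup.le_normalizer, ?_⟩, le_rfl⟩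
      intro hn
      have hTn : T.Normal := Subgroup.normalizer_eq_top_iff.1 hn
      exact hA (Subgroup.IsSubnormal.trans hAT (hprop T hAT hTtop) hTn.isSubnormal))
  exact ⟨M, hM1, hM2, fun V h1 h2 => hM3 V ⟨h1, h2⟩⟩

theorem aux : ∀ (n : ℕ) (G : Type u) [Group G] [Finite G] (A : Subgroup G), Nat.card G = n →
    (∀ a ∈ A, ∀ g : G, (A.subgroupOf (A ⊔ MulAut.conj (g⁻¹ * a * g) • A)).IsSubnormal) →
    A.IsSubnormal := by
  intro n
  induction n using Nat.strong_induction_on with
  | _ n ih =>
    intro G _ _ A hn h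
    by_contra hA
    have hprop : ∀ V : Subgroup G, A ≤ V → V ≠ ⊤ → (A.subgroupOf V).IsSubnormal := by
      intro V hAV hV
      have hlt : Nat.card V < n := by
        rw [← hn]
        by_contra hcon
        push Not at hcon
        exact hV (Subgroup.eq_top_of_le_card V hcon)
      apply ih _ hlt V (A.subgroupOf V) rfl
      intro a ha g
      have h1 := h (a : G) ha (g : G)
      have hx : ((g⁻¹ * a * g : V) : G) = (g : G)⁻¹ * a * g := by simp
      have hle : A ⊔ MulAut.conj ((g : G)⁻¹ * a * g) • A ≤ V := by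
        apply sup_le hAV
        rw [← hx]
        exact Subgroup.conj_smul_le_of_le hAV _
      have h2 := rel_transfer hle h1
      rw [Subgroup.subgroupOf_sup hAV (by rw [← hx]; exact Subgroup.conj_smul_le_of_le hAV _), ← hx,
        ← Subgroup.conj_smul_subgroupOf hAV] at h2
      exact h2
    obtain ⟨M, hAM, hMtop, hM⟩ := zipper A hA hprop
    have hNM : Subgroup.normalizer (M : Set G) ≤ M := by
      apply hM _ (hAM.trans Subgroup.le_normalizer)
      intro hn
      have hMn : M.Normal := Subgroup.normalizer_eq_top_iff.1 hn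
      exact hA (Subgroup.IsSubnormal.trans hAM (hprop M hAM hMtop) hMn.isSubnormal)
    have hconj : ∀ a ∈ A, ∀ g : G, g⁻¹ * a * g ∈ M := by
      intro a ha g
      set x := g⁻¹ * a * g with hx
      have hT : A ⊔ MulAut.conj x • A ≠ ⊤ := by
        intro htop
        have h1 := h a ha g
        rw [← hx, htop] at h1
        exact hA (Subgroup.IsSubnormal.trans le_top h1 Subgroup.IsSubnormal.top)
      have h1 : MulAut.conj x • A ≤ M := le_trans le_sup_right (hM _ le_sup_left hT)
      have h2 : A ≤ MulAut.conj x⁻¹ • M := by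
        rw [map_inv, Subgroup.subset_pointwise_smul_iff, inv_inv]
        exact h1
      have h3 : MulAut.conj x⁻¹ • M ≠ ⊤ := by
        intro h
        apply hMtop
        have := congrArg (fun X => MulAut.conj x • X) h
        simpa [map_inv] using this
      have h4 : MulAut.conj x⁻¹ • M ≤ M := hM _ h2 h3
      have h5 : MulAut.conj x⁻¹ • M = M := by
        apply Subgroup.eq_of_le_of_card_ge h4
        exact (Nat.card_congr (Subgroup.equivSMul (MulAut.conj x⁻¹) M).toEquiv).le
      apply hNM
      have h6 : x⁻¹ ∈ Subgroup.normalizer (M : Set G) := by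
        rw [Subgroup.mem_normalizer_iff_map_conj_eq]
        exact h5
      simpa using Subgroup.inv_mem _ h6
    have hC : Subgroup.normalClosure (A : Set G) ≤ M := by
      rw [Subgroup.normalClosure, Subgroup.closure_le]
      intro y hy
      rw [Group.mem_conjugatesOfSet_iff] at hy
      obtain ⟨a, ha, hay⟩ := hy
      rw [isConj_iff] at hay
      obtain ⟨c, rfl⟩ := hay
      simpa using hconj a ha c⁻¹
    have hCtop : Subgroup.normalClosure (A : Set G) ≠ ⊤ := fun h => hMtop (top_le_iff.1 (h ▸ hC))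
    exact hA (Subgroup.IsSubnormal.trans Subgroup.le_normalClosure
      (hprop _ Subgroup.le_normalClosure hCtop) (Subgroup.normalClosure_normal).isSubnormal)

/-- Let A be a subgroup of a finite group G. If A is subnormal in the subgroup generated by A and its conjugate by g⁻¹ a g, for every a ∈ A and every g ∈ G, then A is subnormal in G. (A sharpening of Wielandt's subnormality criterion: only conjugates of A by conjugates of elements of A are needed.) -/
theorem result {G : Type*} [Group G] [Finite G]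
    (A : Subgroup G)
    (h : ∀ a ∈ A, ∀ g : G, (A.subgroupOf (A ⊔ MulAut.conj (g⁻¹ * a * g) • A)).IsSubnormal) :
    A.IsSubnormal := by
  exact aux _ G A rfl h

end Cfsg.Agent.S4333
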