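import Cfsg.Statements.S1422
-- import your own Cfsg.Agent.* helpers here
import Cfsg.Agent.Lib.Helper2.BG12C
import Cfsg.Agent.S1350
import Cfsg.Agent.S1403
import Cfsg.Agent.S1405
import Cfsg.Agent.S1412
import Cfsg.Agent.S1416
import Cfsg.Agent.S1420

set_option autoImplicit false
open Cfsg

namespace Cfsg.Agent.S1422

/-- Let G be a minimal simple group of odd order, p a prime and P a non-abelian p-subgroup of G. Then P lies in exactly one maximal subgroup of G. -/
theorem result {G : Type*} [Group G] [Finite G] (hG : Cfsg.IsMinSimpleOddOrder G) (p : ℕ) [Fact p.Prime] (P : Subgroup G) (hP : IsPGroup p P) (hPna : ¬ IsMulCommutative P) :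
    Cfsg.InUniqueMaximal P := by
  refine Cfsg.Agent.Lib.Helper2.BG12.S1422_of hG
    (fun K h1 h2 h3 => Cfsg.Agent.S1403.result hG K h1 h2 h3)
    (fun M hM => (Cfsg.Agent.S1405.result hG M hM).2.2.2.2)
    (fun p _ P hr => Cfsg.Agent.S1412.result hG p P hr)
    (fun M hM p _ A hA => (Cfsg.Agent.S1416.result hG M hM p A hA).2)
    ?_ ?_ p P hP hPna
  · intro M hM
    obtain ⟨E, hE⟩ := Cfsg.Agent.Lib.Helper2.BG12.exists_sigma_compl (Cfsg.Agent.S1350.result hG M hM).1
    exact (Cfsg.Agent.S1420.result hG M hM E hE).1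
  · intro M hM
    obtain ⟨E, hE⟩ := Cfsg.Agent.Lib.Helper2.BG12.exists_sigma_compl (Cfsg.Agent.S1350.result hG M hM).1
    exact (Cfsg.Agent.S1420.result hG M hM E hE).2.2.1

end Cfsg.Agent.S1422
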