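import Cfsg.Statements.S1378
-- import your own Cfsg.Agent.* helpers here
import Cfsg.Agent.Lib.Helper2.BG139Main
import Cfsg.Agent.Lib.Helper58.BG13c
import Cfsg.Agent.S1350
import Cfsg.Agent.S1403
import Cfsg.Agent.S1404
import Cfsg.Agent.S1405
import Cfsg.Agent.S1406
import Cfsg.Agent.S1409
import Cfsg.Agent.S1411
import Cfsg.Agent.S1414
import Cfsg.Agent.S1415
import Cfsg.Agent.S1417
import Cfsg.Agent.S1418
import Cfsg.Agent.S1422
import Cfsg.Agent.S1423
import Cfsg.Agent.S1427

set_option autoImplicit false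
open Cfsg

namespace Cfsg.Agent.S1378

/-- Let G be a minimal simple group of odd order. Then every prime dividing the order of G belongs to σ(M) for some maximal subgroup M, and if σ(M) and σ(N) have a prime in common for maximal subgroups M, N then N is conjugate to M; so the sets σ(M_i) over representatives of the conjugacy classes of maximal subgroups partition the prime divisors of #G. -/
theorem result {G : Type*} [Group G] [Finite G] (hG : Cfsg.IsMinSimpleOddOrder G) :
    (∀ p : ℕ, p.Prime → p ∣ Nat.card G → ∃ M : Subgroup G, IsCoatom M ∧ p ∈ Cfsg.sigma M) ∧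
      ∀ M N : Subgroup G, IsCoatom M → IsCoatom N → (Cfsg.sigma M ∩ Cfsg.sigma N).Nonempty → ∃ g : G, N = M.map (MulAut.conj g).toMonoidHom := by
  have T : Cfsg.Agent.Lib.Helper2.BG139.Texts0 G :=
    { hG := hG
      hU := fun K h1 h2 h3 => Cfsg.Agent.S1403.result hG K h1 h2 h3
      t04 := fun M hM p _ hp X hXp hX1 hXM => Cfsg.Agent.S1404.result hG M hM p hp X hXp hX1 hXM
      t05 := fun M hM => (Cfsg.Agent.S1405.result hG M hM).1
      t05n := fun M hM => (Cfsg.Agent.S1405.result hG M hM).2.2.2.2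
      t06 := fun M hM X hXM hXα hr => Cfsg.Agent.S1406.result hG M hM X hXM hXα hr
      t09 := fun M hM p _ hp X hX hNX => (Cfsg.Agent.S1409.result hG M hM p hp X hX hNX).1
      t11 := fun p _ P V hV => (Cfsg.Agent.S1411.result hG p P V hV).1
      t14 := fun M hM => ⟨(Cfsg.Agent.S1414.result hG M hM).1, (Cfsg.Agent.S1414.result hG M hM).2.2.2.1⟩
      t15 := fun M hM E hE => Cfsg.Agent.S1415.result hG M hM E hE
      t17 := fun M hM p _ hp A hA =>
        ⟨(Cfsg.Agent.S1417.result hG M hM p hp A hA).1, (Cfsg.Agent.S1417.result hG M hM p hp A hA).2.2.1⟩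
      t22 := fun p _ P hP hPna => Cfsg.Agent.S1422.result hG p P hP hPna
      t23 := fun M hM p _ hp X hXM hX P h => Cfsg.Agent.S1423.result hG M hM p hp X hXM hX P h
      t50 := fun M hM => (Cfsg.Agent.S1350.result hG M hM).1 }
  have t27 : Cfsg.Agent.Lib.Helper2.BG139.T1427 G :=
    fun M hM E hE p _ S hS1 hSc => Cfsg.Agent.S1427.result hG M hM E hE p S hS1 hSc
  have core : Cfsg.Agent.Lib.Helper2.BG139.Core1428 G :=
    Cfsg.Agent.Lib.Helper58.BG13.core1428_of T
      (fun M hM p _ hp A hA => Cfsg.Agent.S1417.result hG M hM p hp A hA)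
      (fun M hM E hE p _ hp A hA => Cfsg.Agent.S1418.result hG M hM E hE p hp A hA)
  refine ⟨fun p hp hpG => Cfsg.Agent.Lib.Helper2.BG139.exists_coatom_sigma hG hp hpG, ?_⟩
  rintro M N hM hN ⟨q, hqM, hqN⟩
  exact Cfsg.Agent.Lib.Helper2.BG139.sigma_partition T t27 core hM hN hqM hqN

end Cfsg.Agent.S1378
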