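import Cfsg.Statements.S1425
-- import your own Cfsg.Agent.* helpers here
import Cfsg.Agent.Lib.Helper2.BG12G
import Cfsg.Agent.S1350
import Cfsg.Agent.S1403
import Cfsg.Agent.S1405
import Cfsg.Agent.S1417
import Cfsg.Agent.S1420
import Cfsg.Agent.S1424

set_option autoImplicit false
open Cfsg

namespace Cfsg.Agent.S1425

/-- Let G be a minimal simple group of odd order, M a maximal subgroup and Y a nontrivial subgroup of G all of whose prime divisors lie in σ(M). Then gYg⁻¹ ≤ M_σ for some g ∈ G. -/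
theorem result {G : Type*} [Group G] [Finite G] (hG : Cfsg.IsMinSimpleOddOrder G)
    (M : Subgroup G) (hM : IsCoatom M) (Y : Subgroup G) (hY1 : Y ≠ ⊥) (hY : ∀ p : ℕ, p.Prime → p ∣ Nat.card Y → p ∈ Cfsg.sigma M) :
    ∃ g : G, Y.map (MulAut.conj g).toMonoidHom ≤ Cfsg.sigmaCore M := by
  refine Cfsg.Agent.Lib.Helper2.BG12.S1425_of hG
    (fun K h1 h2 h3 => Cfsg.Agent.S1403.result hG K h1 h2 h3)
    (fun M hM => (Cfsg.Agent.S1405.result hG M hM).1)
    (fun M hM => (Cfsg.Agent.S1405.result hG M hM).2.2.2.2)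
    (fun M hM => (Cfsg.Agent.S1350.result hG M hM).1)
    (fun M hM p _ hp A hA =>
      ⟨(Cfsg.Agent.S1417.result hG M hM p hp A hA).1, (Cfsg.Agent.S1417.result hG M hM p hp A hA).2.2.1⟩)
    ?_
    (fun M hM q _ hq X hXq hX1 hXM Ms hMs hne hNX S hXS =>
      Cfsg.Agent.S1424.result hG M hM q hq X hXq hX1 hXM Ms hMs hne hNX S hXS)
    M hM Y hY1 hY
  intro M hM
  obtain ⟨E, hE⟩ := Cfsg.Agent.Lib.Helper2.BG12.exists_sigma_compl (Cfsg.Agent.S1350.result hG M hM).1
  exact (Cfsg.Agent.S1420.result hG M hM E hE).2.2.1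

end Cfsg.Agent.S1425
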