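import Cfsg.Statements.S0039
import Mathlib

set_option autoImplicit false
open Cfsg

namespace Cfsg.Agent.S0039

open scoped Pointwise

/-- In a finite group that is a semidirect product of a normal subgroup K by a nontrivial subgroup H, H is a Frobenius complement exactly when each nonidentity element of H acts without nonidentity fixed points on K by conjugation. -/
theorem result {G : Type*} [Group G] [Finite G] (K H : Subgroup G) [K.Normal]
    (hc : Subgroup.IsComplement' K H) (hK : K ≠ ⊥) (hH : H ≠ ⊥) :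
    Cfsg.IsFrobeniusComplement H ↔ ∀ h ∈ H, h ≠ 1 → K ⊓ Subgroup.centralizer {h} = ⊥ := by
  have hdisj : ∀ x, x ∈ K → x ∈ H → x = 1 := by
    intro x hxK hxH
    have := hc.disjoint.le_bot (Subgroup.mem_inf.mpr ⟨hxK, hxH⟩)
    simpa using this
  have hmemconj : ∀ (g x : G), x ∈ MulAut.conj g • H ↔ g⁻¹ * x * g ∈ H := by
    intro g x
    rw [Subgroup.mem_pointwise_smul_iff_inv_smul_mem]
    simp [MulAut.smul_def]
  constructor
  · rintro ⟨-, -, hF⟩ h hh h1
    rw [eq_bot_iff]
    intro k hk
    obtain ⟨hkK, hkC⟩ := Subgroup.mem_inf.mp hk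
    rw [Subgroup.mem_bot]
    by_contra hk1
    have hkH : k ∉ H := fun hkH => hk1 (hdisj k hkK hkH)
    have h2 := hF k hkH
    have h3 : h ∈ H ⊓ MulAut.conj k • H := by
      refine Subgroup.mem_inf.mpr ⟨hh, ?_⟩
      rw [hmemconj]
      have : h * k = k * h := (Subgroup.mem_centralizer_iff.mp hkC) h rfl
      rw [mul_assoc, this, inv_mul_cancel_left]
      exact hh
    rw [h2, Subgroup.mem_bot] at h3
    exact h1 h3
  · intro hfpf
    refine ⟨hH, ?_, ?_⟩
    · intro htop
      apply hK
      rw [eq_bot_iff]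
      intro x hx
      rw [Subgroup.mem_bot]
      exact hdisj x hx (htop ▸ Subgroup.mem_top x)
    · intro g hg
      rw [eq_bot_iff]
      intro x hx
      obtain ⟨hxH, hxg⟩ := Subgroup.mem_inf.mp hx
      rw [Subgroup.mem_bot]
      by_contra hx1
      obtain ⟨⟨⟨k, hk⟩, ⟨h₀, hh₀⟩⟩, hkh⟩ := hc.2 g
      simp only at hkh
      rw [hmemconj, ← hkh] at hxg
      have hy : k⁻¹ * x * k ∈ H := by
        have := H.mul_mem (H.mul_mem hh₀ hxg) (H.inv_mem hh₀)
        convert this using 1
        group
      have h4 : x⁻¹ * (k⁻¹ * x * k) ∈ K := by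
        have : x⁻¹ * (k⁻¹ * x * k) = (x⁻¹ * k⁻¹ * x⁻¹⁻¹) * k := by group
        rw [this]
        exact K.mul_mem (‹K.Normal›.conj_mem _ (K.inv_mem hk) _) hk
      have h5 := hdisj _ h4 (H.mul_mem (H.inv_mem hxH) hy)
      have h6 : k ∈ K ⊓ Subgroup.centralizer {x} := by
        refine Subgroup.mem_inf.mpr ⟨hk, ?_⟩
        rw [Subgroup.mem_centralizer_iff]
        intro z hz
        rw [Set.mem_singleton_iff] at hz
        subst hz
        have h7 : k⁻¹ * z * k = z := by
          have := inv_mul_eq_one.mp h5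
          exact this.symm
        calc z * k = k * (k⁻¹ * z * k) := by group
          _ = k * z := by rw [h7]
      rw [hfpf x hxH hx1, Subgroup.mem_bot] at h6
      apply hg
      rw [← hkh, h6, one_mul]
      exact hh₀

end Cfsg.Agent.S0039
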