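import Cfsg.Statements.S1474
import Cfsg.Agent.Lib.Helper31.CNFrob
import Cfsg.Agent.Lib.Helper74.Fitting
import Cfsg.Agent.Lib.Helper29.Cores
import Cfsg.Agent.S0039

set_option autoImplicit false
open Cfsg

namespace Cfsg.Agent.S1474

open Cfsg.Agent.Lib.Helper31

theorem fittingHall_nilpotent (G : Type*) [Group G] [Finite G] :
    Group.IsNilpotent (Cfsg.fittingHall G) :=
  nilpotent_of_le (L := Cfsg.fittingSubgroup G)
    (sSup_le_sSup (fun N (hN : N.Normal ∧ Group.IsNilpotent N ∧ (Nat.card N).Coprime N.index) =>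
      (⟨hN.1, hN.2.1⟩ : N.Normal ∧ Group.IsNilpotent N)))
    (Cfsg.Agent.Lib.Helper74.fittingSubgroup_isNilpotent G)

theorem le_fittingHall {G : Type*} [Group G] {N : Subgroup G} (h1 : N.Normal)
    (h2 : Group.IsNilpotent N) (h3 : (Nat.card N).Coprime N.index) : N ≤ Cfsg.fittingHall G :=
  le_sSup ⟨h1, h2, h3⟩

theorem fpf_of_cn {G : Type*} [Group G] [Finite G] (hCN : Cfsg.IsCNGroup G) (E : Subgroup G)
    (hc : Subgroup.IsComplement' (Cfsg.fittingHall G) E) (hF1 : Cfsg.fittingHall G ≠ ⊥) :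
    ∀ e ∈ E, e ≠ 1 → Cfsg.fittingHall G ⊓ Subgroup.centralizer ({e} : Set G) = ⊥ := by
  set F := Cfsg.fittingHall G with hF
  have hFn : F.Normal := inferInstance
  have hFnil : Group.IsNilpotent F := fittingHall_nilpotent G
  have hFhall : (Nat.card F).Coprime F.index := Cfsg.Agent.Lib.Helper29.card_fittingHall_coprime_index
  have hEcard : F.index = Nat.card E := hc.symm.index_eq_card
  have hord : ∀ {L : Subgroup G} {x : G}, x ∈ L → orderOf x ∣ Nat.card L := by
    intro L x hx
    have := orderOf_dvd_natCard (⟨x, hx⟩ : L)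
    rwa [Subgroup.orderOf_mk] at this
  have hcop : ∀ e ∈ E, ∀ f ∈ F, (orderOf e).Coprime (orderOf f) := by
    intro e he f hf
    exact (Nat.Coprime.coprime_dvd_left (hord hf)
      (Nat.Coprime.coprime_dvd_right (hord he) (hEcard ▸ hFhall))).symm
  intro e he he1
  by_contra hne
  obtain ⟨⟨h, hh⟩, hh1'⟩ := Subgroup.ne_bot_iff_exists_ne_one.1 hne
  have hh1 : h ≠ 1 := fun h0 => hh1' (Subtype.ext h0)
  obtain ⟨hhF, hhe⟩ := Subgroup.mem_inf.1 hh
  rw [Subgroup.mem_centralizer_singleton_iff] at hhe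
  -- a central element of `F`
  have hFcard : Nat.card F ≠ 1 := fun h0 => hF1 (Subgroup.card_eq_one.mp h0)
  obtain ⟨r, hr, hrF⟩ := Nat.exists_prime_and_dvd hFcard
  have := Fact.mk hr
  obtain ⟨z, hzF, hz1, -, hzc⟩ := exists_central_prime_elt F hFnil r hrF
  have hez : e * z = z * e := by
    apply commute_of_mem_nilpotent _ (hCN h hh1)
    · rw [Subgroup.mem_centralizer_singleton_iff]; exact hhe.symm
    · rw [Subgroup.mem_centralizer_singleton_iff]; exact (hzc h hhF).symm
    · exact hcop e he z hzF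
  have heF : ∀ f ∈ F, e * f = f * e := by
    intro f hf
    apply commute_of_mem_nilpotent _ (hCN z hz1)
    · rw [Subgroup.mem_centralizer_singleton_iff]; exact hez
    · rw [Subgroup.mem_centralizer_singleton_iff]; exact hzc f hf
    · exact hcop e he f hf
  -- prime order
  have heo : orderOf e ≠ 1 := fun h0 => he1 (orderOf_eq_one_iff.1 h0)
  set q := (orderOf e).minFac with hq
  have hqp : q.Prime := Nat.minFac_prime heo
  have := Fact.mk hqp
  have hqe : q ∣ orderOf e := Nat.minFac_dvd _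
  set e' := e ^ (orderOf e / q) with he'
  have he'o : orderOf e' = q := orderOf_pow_orderOf_div (orderOf_pos e).ne' hqe
  have he'1 : e' ≠ 1 := by
    intro h0
    rw [h0, orderOf_one] at he'o
    exact hqp.one_lt.ne he'o
  have he'E : e' ∈ E := E.pow_mem he _
  have he'F : ∀ f ∈ F, e' * f = f * e' := by
    intro f hf
    exact ((Commute.pow_left (show Commute e f from heF f hf) _)).eq
  have hqF : ∀ f ∈ F, ∀ k : ℕ, (q ^ k).Coprime (orderOf f) := by
    intro f hf k
    apply Nat.Coprime.pow_left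
    rw [← he'o]; exact hcop e' he'E f hf
  have hP' : IsPGroup q (Subgroup.zpowers e') :=
    IsPGroup.of_card (n := 1) (by rw [Nat.card_zpowers, he'o, pow_one])
  obtain ⟨Q, hQ⟩ := hP'.exists_le_sylow
  have he'Q : e' ∈ (Q : Subgroup G) := hQ (Subgroup.mem_zpowers e')
  have hqQ : q ∣ Nat.card (Q : Subgroup G) := by
    have h0 := hord he'Q
    rwa [he'o] at h0
  obtain ⟨z₁, hz₁Q, hz₁1, ⟨k₁, hk₁⟩, hz₁c⟩ :=
    exists_central_prime_elt (Q : Subgroup G) Q.2.isNilpotent q hqQ
  have hz₁F : ∀ f ∈ F, z₁ * f = f * z₁ := by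
    intro f hf
    apply commute_of_mem_nilpotent _ (hCN e' he'1)
    · rw [Subgroup.mem_centralizer_singleton_iff]; exact (hz₁c e' he'Q).symm
    · rw [Subgroup.mem_centralizer_singleton_iff]; exact (he'F f hf).symm
    · rw [hk₁]; exact hqF f hf k₁
  have hQF : ∀ x ∈ (Q : Subgroup G), ∀ f ∈ F, x * f = f * x := by
    intro x hx f hf
    obtain ⟨j, hj⟩ := orderOf_of_mem_pgroup Q.2 hx
    apply commute_of_mem_nilpotent _ (hCN z₁ hz₁1)
    · rw [Subgroup.mem_centralizer_singleton_iff]; exact hz₁c x hx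
    · rw [Subgroup.mem_centralizer_singleton_iff]; exact (hz₁F f hf).symm
    · rw [hj]; exact hqF f hf j
  set K := Subgroup.centralizer (F : Set G) with hK
  have hKn : K.Normal := inferInstance
  have hKnil : Group.IsNilpotent K := by
    refine nilpotent_of_le ?_ (hCN z hz1)
    exact Subgroup.centralizer_le (by simpa using hzF)
  have hQK : (Q : Subgroup G) ≤ K := by
    intro x hx
    rw [hK, Subgroup.mem_centralizer_iff]
    intro f hf
    exact (hQF x hx f hf).symm
  have hQn : (Q : Subgroup G).Normal := by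
    constructor
    intro x hx g
    have h1 : g * x * g⁻¹ ∈ K := hKn.conj_mem x (hQK hx) g
    obtain ⟨j, hj⟩ := orderOf_of_mem_pgroup Q.2 hx
    have h2 : orderOf (⟨g * x * g⁻¹, h1⟩ : K) = q ^ j := by
      rw [Subgroup.orderOf_mk, ← hj]
      exact orderOf_injective (MulAut.conj g).toMonoidHom (MulAut.conj g).injective x
    have h3 := mem_sylow_of_normal (Q.subtype hQK) ⟨g * x * g⁻¹, h1⟩ ⟨j, h2⟩
    rw [Sylow.coe_subtype, Subgroup.mem_subgroupOf] at h3
    exact h3
  have hNle : F ⊔ (Q : Subgroup G) ≤ F := by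
    apply le_fittingHall
    · infer_instance
    · exact Cfsg.Agent.Lib.Helper74.isNilpotent_sup_of_normal _ _ hFn hQn hFnil Q.2.isNilpotent
    · apply Nat.coprime_of_dvd
      intro t ht htN htI
      have h1 := htN.trans (Cfsg.Agent.Lib.Helper1.card_sup_dvd_of_normal F (Q : Subgroup G))
      rcases (Nat.Prime.dvd_mul ht).1 h1 with h2 | h2
      · have h3 : t ∣ F.index := htI.trans (Subgroup.index_dvd_of_le le_sup_left)
        exact ht.one_lt.ne' (Nat.dvd_one.mp (hFhall ▸ Nat.dvd_gcd h2 h3))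
      · obtain ⟨m, hm⟩ := IsPGroup.iff_card.1 Q.2
        rw [hm] at h2
        have h3 : t = q := (Nat.prime_dvd_prime_iff_eq ht hqp).1 (ht.dvd_of_dvd_pow h2)
        subst h3
        exact Q.not_dvd_index (htI.trans (Subgroup.index_dvd_of_le le_sup_right))
  have h1 : e' ∈ F ⊓ E := ⟨hNle (Subgroup.mem_sup_right he'Q), he'E⟩
  rw [hc.disjoint.eq_bot, Subgroup.mem_bot] at h1
  exact he'1 h1

/-- Let G be a finite group in which every non-identity element has nilpotent centralizer, not itself nilpotent, and having a nontrivial normal Sylow p-subgroup for some prime p. Let H be the largest normal nilpotent Hall subgroup of G. Then H is a nontrivial proper normal subgroup with a complement E that is a Frobenius complement in G (no non-identity element of E centralizes a non-identity element of H), and G/H is nilpotent. -/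
theorem result {G : Type*} [Group G] [Finite G] (hCN : Cfsg.IsCNGroup G) (hnn : ¬ Group.IsNilpotent G) (p : ℕ) [Fact p.Prime] (P : Sylow p G)
    (hP1 : (P : Subgroup G) ≠ ⊥) (hPn : (P : Subgroup G).Normal) :
    Cfsg.fittingHall G ≠ ⊥ ∧ Cfsg.fittingHall G ≠ ⊤ ∧
      (∃ E : Subgroup G, Subgroup.IsComplement' (Cfsg.fittingHall G) E ∧ Cfsg.IsFrobeniusComplement E ∧
        ∀ e ∈ E, e ≠ 1 → Cfsg.fittingHall G ⊓ Subgroup.centralizer ({e} : Set G) = ⊥) ∧
      Group.IsNilpotent (G ⧸ Cfsg.fittingHall G) := by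
  have hFn : (Cfsg.fittingHall G).Normal := inferInstance
  have hFnil : Group.IsNilpotent (Cfsg.fittingHall G) := fittingHall_nilpotent G
  have hFhall : (Nat.card (Cfsg.fittingHall G)).Coprime (Cfsg.fittingHall G).index :=
    Cfsg.Agent.Lib.Helper29.card_fittingHall_coprime_index
  have hPF : (P : Subgroup G) ≤ Cfsg.fittingHall G :=
    le_fittingHall hPn P.2.isNilpotent P.card_coprime_index
  have hF1 : Cfsg.fittingHall G ≠ ⊥ := by
    intro h
    rw [h, le_bot_iff] at hPF
    exact hP1 hPF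
  have hF2 : Cfsg.fittingHall G ≠ ⊤ := by
    intro h
    rw [h] at hFnil
    exact hnn (Group.isNilpotent_top.1 hFnil)
  obtain ⟨E, hc⟩ := Subgroup.exists_right_complement'_of_coprime hFhall
  have hE1 : E ≠ ⊥ := by
    rintro rfl
    exact hF2 (Subgroup.isComplement'_bot_right.1 hc)
  have hfpf := fpf_of_cn hCN E hc hF1
  have hEnil : Group.IsNilpotent E :=
    nilpotent_of_fpf_cn hCN E (Cfsg.fittingHall G)
      (by rw [Subgroup.normalizer_eq_top]; exact le_top) hF1 inferInstance hfpf
  refine ⟨hF1, hF2, ⟨E, hc, (Cfsg.Agent.S0039.result _ E hc hF1 hE1).2 hfpf, hfpf⟩, ?_⟩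
  apply Group.nilpotent_of_surjective ((QuotientGroup.mk' (Cfsg.fittingHall G)).comp E.subtype)
  intro y
  obtain ⟨g, rfl⟩ := QuotientGroup.mk'_surjective _ y
  have hg : g ∈ Cfsg.fittingHall G ⊔ E := hc.sup_eq_top ▸ Subgroup.mem_top g
  rw [Subgroup.mem_sup_of_normal_left] at hg
  obtain ⟨f, hf, e, he, rfl⟩ := hg
  refine ⟨⟨e, he⟩, ?_⟩
  simp only [MonoidHom.comp_apply, Subgroup.subtype_apply, map_mul]
  have : QuotientGroup.mk' (Cfsg.fittingHall G) f = 1 := by
    rw [QuotientGroup.mk'_apply, QuotientGroup.eq_one_iff]; exact hf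
  rw [this, one_mul]

end Cfsg.Agent.S1474
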