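import Cfsg.Statements.S0132
import Cfsg.Agent.S0071
import Cfsg.Agent.Lib.Helper31.Nilpotent
import Cfsg.Agent.Lib.Helper11.Constrained

set_option autoImplicit false
open Cfsg

namespace Cfsg.Agent.S0132

open Cfsg.Agent.Lib.Helper11

/-- A minimal non-p-nilpotent finite group is a minimal non-nilpotent group with a normal Sylow p-subgroup. -/
theorem result {G : Type*} [Group G] [Finite G] {p : ℕ} [Fact p.Prime] (h1 : ¬ Cfsg.HasNormalPComplement p G) (h2 : ∀ H : Subgroup G, H ≠ ⊤ → Cfsg.HasNormalPComplement p H) : (∀ H : Subgroup G, H ≠ ⊤ → Group.IsNilpotent H) ∧ ¬ Group.IsNilpotent G ∧ ∀ P : Sylow p G, (P : Subgroup G).Normal := by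
  have hp : p.Prime := Fact.out
  obtain ⟨P⟩ : Nonempty (Sylow p G) := inferInstance
  have h3 : ¬ ∃ N : Subgroup G, N.Normal ∧ N.IsComplement' (P : Subgroup G) := by
    rintro ⟨N, hN, hc⟩
    exact h1 ⟨P, N, hN, hc⟩
  rw [Cfsg.Agent.S0071.result P] at h3
  push Not at h3
  obtain ⟨Q, hQP, g, hgN, hgp, hgC⟩ := h3
  have hQp : IsPGroup p Q := P.isPGroup'.to_le hQP
  -- the subgroup generated by Q and g is everything
  have hQN : Q ≤ Subgroup.normalizer (Q : Set G) := Subgroup.le_normalizer
  have hZN : Subgroup.zpowers g ≤ Subgroup.normalizer (Q : Set G) := by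
    rw [Subgroup.zpowers_le]; exact hgN
  have htop : Q ⊔ Subgroup.zpowers g = ⊤ := by
    by_contra hne
    have hHN : Q ⊔ Subgroup.zpowers g ≤ Subgroup.normalizer (Q : Set G) := sup_le hQN hZN
    have hQH : Q ≤ Q ⊔ Subgroup.zpowers g := le_sup_left
    have hgH : g ∈ Q ⊔ Subgroup.zpowers g :=
      (le_sup_right : Subgroup.zpowers g ≤ _) (Subgroup.mem_zpowers g)
    generalize Q ⊔ Subgroup.zpowers g = H at hne hHN hQH hgH
    obtain ⟨P', N, hN, hc⟩ := h2 _ hne
    have h4 := (Cfsg.Agent.S0071.result P').1 ⟨N, hN, hc⟩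
    have : (Q.subgroupOf H).Normal := Subgroup.normal_subgroupOf_of_le_normalizer hHN
    have hQ'p : IsPGroup p (Q.subgroupOf H) := hQp.comap_subtype
    have h5 : Q.subgroupOf H ≤ (P' : Subgroup H) := normal_isPGroup_le_sylow _ hQ'p P'
    have h6 := h4 (Q.subgroupOf H) h5 ⟨g, hgH⟩ (by
      rw [Subgroup.normalizer_eq_top]; trivial) (by
      rw [Subgroup.orderOf_mk]; exact hgp)
    apply hgC
    rw [Subgroup.mem_centralizer_iff] at h6 ⊢
    intro x hx
    have hxH : x ∈ H := hQH hx
    have := h6 ⟨x, hxH⟩ (by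
      show (⟨x, hxH⟩ : H) ∈ Q.subgroupOf H
      rw [Subgroup.mem_subgroupOf]; exact hx)
    exact congrArg Subtype.val this
  have hQn : Q.Normal := by
    rw [← Subgroup.normalizer_eq_top_iff, eq_top_iff, ← htop]
    exact sup_le hQN hZN
  -- index of Q is coprime to p
  have hidx : Q.index ∣ orderOf g := by
    have h7 : Q.relIndex (Subgroup.zpowers g ⊔ Q) = Q.relIndex (Subgroup.zpowers g) :=
      Subgroup.relIndex_sup_right _ _
    rw [sup_comm, htop, Subgroup.relIndex_top_right] at h7
    rw [h7, ← Nat.card_zpowers]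
    exact Subgroup.index_dvd_card _
  have hidxp : (Q.index).Coprime p := Nat.Coprime.coprime_dvd_left hidx hgp
  -- the quotient is commutative
  have hcomm : ∀ a b : G ⧸ Q, a * b = b * a := by
    have hrep : ∀ a : G ⧸ Q, ∃ k : ℤ, a = ((g ^ k : G) : G ⧸ Q) := by
      intro a
      obtain ⟨x, rfl⟩ := QuotientGroup.mk_surjective a
      have hx : x ∈ ((Subgroup.zpowers g ⊔ Q : Subgroup G) : Set G) := by
        rw [sup_comm, htop]; trivial
      rw [Subgroup.mul_normal] at hx
      obtain ⟨z, hz, q, hq, rfl⟩ := hx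
      obtain ⟨k, rfl⟩ := hz
      refine ⟨k, ?_⟩
      rw [QuotientGroup.eq]
      simpa using Q.inv_mem hq
    intro a b
    obtain ⟨k, rfl⟩ := hrep a
    obtain ⟨l, rfl⟩ := hrep b
    rw [← QuotientGroup.mk_mul, ← QuotientGroup.mk_mul, ← zpow_add, ← zpow_add, add_comm]
  refine ⟨?_, ?_, ?_⟩
  · intro H hH
    obtain ⟨P', N, hN, hc⟩ := h2 H hH
    have := hN
    -- embed H into H/N × G/Q
    let f : H →* (H ⧸ N) × (G ⧸ Q) :=
      (QuotientGroup.mk' N).prod ((QuotientGroup.mk' Q).comp H.subtype)
    have hNcop : (Nat.card N).Coprime p := by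
      have h8 := hc.card_mul_card
      have h9 := (P' : Subgroup H).card_mul_index
      have h10 : Nat.card N = (P' : Subgroup H).index := by
        have hpos : 0 < Nat.card (P' : Subgroup H) := Nat.card_pos
        have : Nat.card (P' : Subgroup H) * Nat.card N
            = Nat.card (P' : Subgroup H) * (P' : Subgroup H).index := by
          rw [h9, mul_comm, h8]
        exact Nat.eq_of_mul_eq_mul_left hpos this
      rw [h10]
      exact ((Nat.Prime.coprime_iff_not_dvd hp).2 P'.not_dvd_index).symm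
    have hf : Function.Injective f := by
      rw [injective_iff_map_eq_one]
      intro h hh
      have e1 : (QuotientGroup.mk' N) h = 1 := congrArg Prod.fst hh
      have e2 : (QuotientGroup.mk' Q) (h : G) = 1 := congrArg Prod.snd hh
      rw [QuotientGroup.mk'_apply, QuotientGroup.eq_one_iff] at e1 e2
      obtain ⟨k, hk⟩ := hQp ⟨(h : G), e2⟩
      have hk' : h ^ p ^ k = 1 := by
        apply Subtype.ext
        have := congrArg Subtype.val hk
        simpa using this
      have h11 : orderOf h ∣ p ^ k := orderOf_dvd_of_pow_eq_one hk'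
      have h12 : orderOf h ∣ Nat.card N := by
        have := orderOf_dvd_natCard (⟨h, e1⟩ : N)
        rwa [Subgroup.orderOf_mk] at this
      have h13 : orderOf h = 1 :=
        Nat.eq_one_of_dvd_coprimes (hNcop.pow_right k) h12 h11
      exact orderOf_eq_one_iff.1 h13
    have hn1 : Group.IsNilpotent (H ⧸ N) := by
      apply IsPGroup.isNilpotent (p := p)
      apply IsPGroup.of_card (n := (Nat.card H).factorization p)
      rw [← Subgroup.index_eq_card, ← P'.card_eq_multiplicity]
      have h8 := hc.card_mul_card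
      have h9 := N.card_mul_index
      have hpos : 0 < Nat.card N := Nat.card_pos
      exact Nat.eq_of_mul_eq_mul_left hpos (h9.trans h8.symm)
    have hn2 : Group.IsNilpotent (G ⧸ Q) := by
      let _ : CommGroup (G ⧸ Q) := { (inferInstance : Group (G ⧸ Q)) with mul_comm := hcomm }
      exact CommGroup.isNilpotent
    exact Subgroup.isNilpotent_of_ker_le_center f (by
      rw [(MonoidHom.ker_eq_bot_iff f).2 hf]; exact bot_le)
  · intro hnil
    apply hgC
    rw [Subgroup.mem_centralizer_iff]
    intro x hx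
    obtain ⟨k, hk⟩ := hQp ⟨x, hx⟩
    have hk' : x ^ p ^ k = 1 := by
      have := congrArg Subtype.val hk
      simpa using this
    have h11 : orderOf x ∣ p ^ k := orderOf_dvd_of_pow_eq_one hk'
    have h12 : (orderOf x).Coprime (orderOf g) :=
      Nat.Coprime.coprime_dvd_left h11 ((hgp.pow_right k).symm)
    exact Cfsg.Agent.Lib.Helper31.commute_of_coprime_orderOf G x g h12
  · intro P'
    have h14 : Q ≤ (P' : Subgroup G) := normal_isPGroup_le_sylow Q hQp P'
    have h15 : (P' : Subgroup G) = Q := by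
      symm
      apply Subgroup.eq_of_le_of_card_ge h14
      apply Nat.le_of_dvd Nat.card_pos
      have h16 : Nat.card (P' : Subgroup G) ∣ Nat.card Q * Q.index := by
        rw [Q.card_mul_index]; exact Subgroup.card_subgroup_dvd_card _
      rw [P'.card_eq_multiplicity] at h16 ⊢
      exact (Nat.Coprime.dvd_of_dvd_mul_right ((hidxp.symm).pow_left _) h16)
    rw [h15]; exact hQn

end Cfsg.Agent.S0132
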