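import Cfsg.Statements.S3738
import Mathlib
import Cfsg.Agent.Lib.Helper70.Wielandt
import Cfsg.Agent.Lib.Helper71.QuadGroup
import Cfsg.Agent.Lib.Helper3.PGroup
import Cfsg.Agent.S0093
import Cfsg.Agent.S0121
-- import your own Cfsg.Agent.* helpers here

set_option autoImplicit false
open Cfsg

namespace Cfsg.Agent.S3738

open MulAction in
theorem nine_dvd_card {X : Type*} [Finite X] (f : Equiv.Perm X) (h9 : f ^ 9 = 1)
    (h3 : ∀ x, (f ^ 3) x ≠ x) : 9 ∣ Nat.card X := by
  rcases isEmpty_or_nonempty X with hX | ⟨⟨x0⟩⟩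
  · simp
  have hper : ∀ x : X, period f x = 9 := by
    intro x
    have h1 : period f x ∣ 9 := by
      rw [← pow_smul_eq_iff_period_dvd]
      rw [h9, one_smul]
    have h2 : period f x ∣ 3 ^ 2 := by simpa using h1
    obtain ⟨j, hj, hj'⟩ := (Nat.dvd_prime_pow Nat.prime_three).1 h2
    interval_cases j
    · exfalso
      apply h3 x
      have : f ^ 3 • x = x := by
        rw [pow_smul_eq_iff_period_dvd, hj']; norm_num
      exact this
    · exfalso
      apply h3 x
      have : f ^ 3 • x = x := by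
        rw [pow_smul_eq_iff_period_dvd, hj']; norm_num
      exact this
    · rw [hj']; norm_num
  have hord : orderOf f = 9 := by
    apply Nat.dvd_antisymm (orderOf_dvd_of_pow_eq_one h9)
    rw [← hper x0]
    exact period_dvd_orderOf f x0
  have hG : Nat.card (Subgroup.zpowers f) = 9 := by
    rw [Nat.card_zpowers, hord]
  apply Cfsg.Agent.Lib.Helper70.dvd_card_of_stabilizer (G := Subgroup.zpowers f)
  intro x
  have : stabilizer (Subgroup.zpowers f) x = ⊥ := by
    rw [eq_bot_iff]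
    rintro ⟨g, hg⟩ hgx
    obtain ⟨k, rfl⟩ := Subgroup.mem_zpowers_iff.1 hg
    rw [mem_stabilizer_iff] at hgx
    have h1 : f ^ k • x = x := hgx
    rw [zpow_smul_eq_iff_period_dvd, hper] at h1
    rw [Subgroup.mem_bot]
    apply Subtype.ext
    change f ^ k = 1
    rw [← orderOf_dvd_iff_zpow_eq_one, hord]
    exact h1
  rw [this, hG]
  simp

theorem nine_dvd_card_sub {X : Type*} [Finite X] (f : Equiv.Perm X) (h9 : f ^ 9 = 1)
    (p : X → Prop) (hp : ∀ x, p (f x) ↔ p x)
    (h3 : ∀ x, p x → (f ^ 3) x ≠ x) : 9 ∣ Nat.card {x // p x} := by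
  apply nine_dvd_card (f.subtypePerm hp)
  · rw [Equiv.Perm.subtypePerm_pow]
    ext x
    simp [h9]
  · intro x hx
    rw [Equiv.Perm.subtypePerm_pow] at hx
    apply h3 x x.2
    have := congrArg Subtype.val hx
    simpa using this


open Cfsg.Agent.Lib.Helper71 in
/-- helper71's `exists_sq_mem`, with the target only required to have its squares in `R0`. -/
theorem exists_sq_mem' {G : Type*} [Group G] [Finite G] (U M R R0 : Subgroup G)
    (hMU : M ≤ U) (hRM : R ≤ M) (hR0 : R0 ≤ R)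
    (hRc : ∀ r ∈ R, ∀ u ∈ U, r * u = u * r) (hR2 : ∀ r ∈ R, r * r ∈ R0)
    (hsq : ∀ x ∈ U, x * x ∈ R) (hk : ∀ x ∈ U, ∀ y ∈ U, x⁻¹ * y * x * y⁻¹ ∈ R)
    (hM : ∀ x ∈ U, ∀ m ∈ M, (x * m) * (x * m) * (x * x)⁻¹ ∈ R0)
    (hcard : (R0.relIndex R) ^ 2 < M.relIndex U) : ∃ x ∈ U, x ∉ M ∧ x * x ∈ R0 := by
  have hRU : R ≤ U := hRM.trans hMU
  have hMn : (M.subgroupOf U).Normal := by
    constructor
    rintro ⟨m, hmU⟩ hm ⟨u, hu⟩
    rw [Subgroup.mem_subgroupOf] at hm ⊢
    change u * m * u⁻¹ ∈ M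
    have h1 : (u⁻¹)⁻¹ * m * u⁻¹ * m⁻¹ ∈ R := hk u⁻¹ (U.inv_mem hu) m hmU
    have h2 : u * m * u⁻¹ = ((u⁻¹)⁻¹ * m * u⁻¹ * m⁻¹) * m := by group
    rw [h2]; exact M.mul_mem (hRM h1) hm
  have hRcomm : ∀ a b : R, a * b = b * a := fun a b => Subtype.ext (hRc a a.2 b (hRU b.2))
  have hR0n : (R0.subgroupOf R).Normal := by
    constructor
    intro n hn g
    have : g * n * g⁻¹ = n := by rw [hRcomm g n]; group
    rw [this]; exact hn
  let sR : U → R := fun x => ⟨x * x, hsq x x.2⟩
  let kR : U → U → R := fun x y => ⟨(x : G)⁻¹ * y * x * (y : G)⁻¹, hk x x.2 y y.2⟩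
  have hs : ∀ x y : U, sR (x * y) = sR x * sR y * kR x y := by
    intro x y
    apply Subtype.ext
    change ((x : G) * y) * ((x : G) * y) = (x : G) * x * ((y : G) * y) * ((x : G)⁻¹ * y * x * (y : G)⁻¹)
    have hc := hRc _ (hk x x.2 y y.2) ((y : G) * y) (U.mul_mem y.2 y.2)
    calc ((x : G) * y) * ((x : G) * y)
        = (x : G) * x * (((x : G)⁻¹ * y * x * (y : G)⁻¹) * ((y : G) * y)) := by group
      _ = (x : G) * x * ((y : G) * y) * ((x : G)⁻¹ * y * x * (y : G)⁻¹) := by rw [hc]; group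
  have hkm : ∀ x x' y : U, kR (x * x') y = kR x y * kR x' y := by
    intro x x' y
    apply Subtype.ext
    change ((x : G) * x')⁻¹ * y * ((x : G) * x') * (y : G)⁻¹
      = ((x : G)⁻¹ * y * x * (y : G)⁻¹) * ((x' : G)⁻¹ * y * x' * (y : G)⁻¹)
    have hc := hRc _ (hk x x.2 y y.2) ((x' : G)⁻¹) (U.inv_mem x'.2)
    calc ((x : G) * x')⁻¹ * y * ((x : G) * x') * (y : G)⁻¹
        = ((x' : G)⁻¹ * ((x : G)⁻¹ * y * x * (y : G)⁻¹)) * (y * x' * (y : G)⁻¹) := by group
      _ = ((x : G)⁻¹ * y * x * (y : G)⁻¹) * ((x' : G)⁻¹ * y * x' * (y : G)⁻¹) := by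
          rw [← hc]; group
  have hcube : ∀ x y z : U, sR (x * y * z) * sR x * sR y * sR z
      = sR (x * y) * sR (x * z) * sR (y * z) := by
    intro x y z
    rw [hs (x * y) z, hs x y, hs x z, hs y z, hkm]
    letI : CommGroup R := { (inferInstance : Group R) with mul_comm := hRcomm }
    exact ac_id (sR x) (sR y) (sR z) (kR x y) (kR x z) (kR y z)
  let q0 : U → R ⧸ (R0.subgroupOf R) := fun x => QuotientGroup.mk (sR x)
  have hwd : ∀ a b : U, (QuotientGroup.leftRel (M.subgroupOf U)).r a b → q0 a = q0 b := by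
    intro a b hab
    rw [QuotientGroup.leftRel_apply, Subgroup.mem_subgroupOf] at hab
    apply QuotientGroup.eq.2
    rw [Subgroup.mem_subgroupOf]
    have h1 := hM a a.2 _ hab
    have h2 : (a : G) * ((a⁻¹ * b : U) : G) = b := by
      change (a : G) * ((a : G)⁻¹ * b) = b
      group
    rw [h2] at h1
    have h3 : (((sR a)⁻¹ * sR b : R) : G) = (b : G) * b * ((a : G) * a)⁻¹ := by
      rw [hRcomm]; rfl
    rw [h3]; exact h1
  let Q : (U ⧸ M.subgroupOf U) → R ⧸ (R0.subgroupOf R) := Quotient.lift q0 hwd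
  have hQmk : ∀ x : U, Q (QuotientGroup.mk x) = QuotientGroup.mk (sR x) := fun x => rfl
  obtain ⟨v, hv, hQv⟩ := exists_one_of_quad_group (V := U ⧸ M.subgroupOf U)
    (W := R ⧸ (R0.subgroupOf R)) (by
      intro a b
      induction a using QuotientGroup.induction_on with | H a => ?_
      induction b using QuotientGroup.induction_on with | H b => ?_
      rw [← QuotientGroup.mk_mul, ← QuotientGroup.mk_mul]
      apply QuotientGroup.eq.2
      rw [Subgroup.mem_subgroupOf]
      have h1 := hk b b.2 a⁻¹ (U.inv_mem a.2)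
      have h2 : (((a * b)⁻¹ * (b * a) : U) : G) = (b : G)⁻¹ * (a : G)⁻¹ * b * ((a : G)⁻¹)⁻¹ := by
        change ((a : G) * b)⁻¹ * ((b : G) * a) = _
        group
      rw [h2]; exact hRM h1) (by
      intro a
      induction a using QuotientGroup.induction_on with | H a => ?_
      rw [← QuotientGroup.mk_mul]
      apply (QuotientGroup.eq_one_iff _).2
      rw [Subgroup.mem_subgroupOf]
      exact hRM (hsq a a.2)) (by
      intro a b
      induction a using QuotientGroup.induction_on with | H a => ?_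
      induction b using QuotientGroup.induction_on with | H b => ?_
      rw [← QuotientGroup.mk_mul, ← QuotientGroup.mk_mul, hRcomm]) (by
      intro a
      induction a using QuotientGroup.induction_on with | H a => ?_
      rw [← QuotientGroup.mk_mul]
      apply (QuotientGroup.eq_one_iff _).2
      rw [Subgroup.mem_subgroupOf]
      exact hR2 a a.2) Q (by
      intro x y z
      induction x using QuotientGroup.induction_on with | H x => ?_
      induction y using QuotientGroup.induction_on with | H y => ?_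
      induction z using QuotientGroup.induction_on with | H z => ?_
      simp only [← QuotientGroup.mk_mul, hQmk]
      rw [hcube]) hcard
  induction v using QuotientGroup.induction_on with | H x => ?_
  refine ⟨x, x.2, ?_, ?_⟩
  · intro hx
    apply hv
    apply (QuotientGroup.eq_one_iff _).2
    rw [Subgroup.mem_subgroupOf]; exact hx
  · rw [hQmk] at hQv
    have := (QuotientGroup.eq_one_iff _).1 hQv
    rw [Subgroup.mem_subgroupOf] at this
    exact this

/-- The subgroup generated by pairwise commuting involutions is elementary abelian. -/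
theorem closure_invol {G : Type*} [Group G] (S : Set G) (hc : ∀ x ∈ S, ∀ y ∈ S, x * y = y * x)
    (h2 : ∀ x ∈ S, x * x = 1) :
    (∀ a ∈ Subgroup.closure S, ∀ b ∈ Subgroup.closure S, a * b = b * a) ∧
      ∀ a ∈ Subgroup.closure S, a * a = 1 := by
  have h1 : ∀ a ∈ Subgroup.closure S, ∀ b ∈ Subgroup.closure S, a * b = b * a := by
    have hle : Subgroup.closure S ≤ Subgroup.centralizer (Subgroup.closure S : Set G) := by
      rw [Subgroup.closure_le]
      intro x hx
      rw [SetLike.mem_coe, Subgroup.mem_centralizer_iff]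
      intro y hy
      have hle2 : Subgroup.closure S ≤ Subgroup.centralizer {x} := by
        rw [Subgroup.closure_le]
        intro y hy
        rw [SetLike.mem_coe, Subgroup.mem_centralizer_iff]
        intro w hw
        rw [Set.mem_singleton_iff] at hw
        rw [hw]
        exact hc x hx y hy
      have := Subgroup.mem_centralizer_iff.1 (hle2 hy) x rfl
      exact this.symm
    intro a ha b hb
    exact (Subgroup.mem_centralizer_iff.1 (hle ha) b hb).symm
  refine ⟨h1, ?_⟩
  intro a ha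
  induction ha using Subgroup.closure_induction with
  | mem x hx => exact h2 x hx
  | one => simp
  | mul x y hx hy ihx ihy =>
    calc x * y * (x * y) = x * (y * x) * y := by group
      _ = x * (x * y) * y := by rw [h1 y hy x hx]
      _ = (x * x) * (y * y) := by group
      _ = 1 := by rw [ihx, ihy, one_mul]
  | inv x hx ih =>
    calc x⁻¹ * x⁻¹ = (x * x)⁻¹ := by group
      _ = 1 := by rw [ih, inv_one]


/-- Fixed points of an automorphism. -/
def fx {P : Type*} [Group P] (τ : MulAut P) : Subgroup P where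
  carrier := {x | τ x = x}
  mul_mem' := by
    intro a b ha hb
    rw [Set.mem_ofPred_eq] at ha hb ⊢
    rw [map_mul, ha, hb]
  one_mem' := map_one τ
  inv_mem' := by
    intro a ha
    rw [Set.mem_ofPred_eq] at ha ⊢
    rw [map_inv, ha]

theorem mem_fx {P : Type*} [Group P] (τ : MulAut P) (x : P) : x ∈ fx τ ↔ τ x = x := Iff.rfl

theorem card_eq_add {P : Type*} [Group P] [Finite P] (ρ : MulAut P) (h9 : ρ ^ 9 = 1)
    (B : Subgroup P) (hB : ∀ x, ρ x ∈ B ↔ x ∈ B) :
    ∃ m, Nat.card B = Nat.card (B ⊓ fx (ρ ^ 3) : Subgroup P) + 9 * m := by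
  have h1 : 9 ∣ Nat.card {x // x ∈ B ∧ (ρ ^ 3) x ≠ x} := by
    apply nine_dvd_card_sub (MulAut.toPerm P ρ)
    · rw [← map_pow, h9, map_one]
    · intro x
      have e1 : (MulAut.toPerm P ρ) x = ρ x := rfl
      rw [e1, hB]
      have e2 : (ρ ^ 3) (ρ x) = ρ ((ρ ^ 3) x) := by
        rw [← MulAut.mul_apply, ← MulAut.mul_apply, ← pow_succ, ← pow_succ']
      rw [e2, Ne, Ne, ρ.injective.eq_iff]
    · intro x hx
      rw [← map_pow]
      exact hx.2
  obtain ⟨m, hm⟩ := h1
  refine ⟨m, ?_⟩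
  have h2 : ((B : Set P) \ ((B ⊓ fx (ρ ^ 3) : Subgroup P) : Set P)).ncard
      + ((B ⊓ fx (ρ ^ 3) : Subgroup P) : Set P).ncard = (B : Set P).ncard :=
    Set.ncard_sdiff_add_ncard_of_subset (by
      intro x hx
      exact hx.1) (Set.toFinite _)
  have h3 : ((B : Set P) \ ((B ⊓ fx (ρ ^ 3) : Subgroup P) : Set P)) = {x | x ∈ B ∧ (ρ ^ 3) x ≠ x} := by
    ext x
    simp only [Set.mem_sdiff, SetLike.mem_coe, Subgroup.mem_inf, mem_fx, Set.mem_ofPred_eq]
    tauto
  rw [h3] at h2
  have h4 : Nat.card {x // x ∈ B ∧ (ρ ^ 3) x ≠ x} = {x | x ∈ B ∧ (ρ ^ 3) x ≠ x}.ncard := by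
    rw [← Nat.card_coe_set_eq]
    rfl
  rw [← h4, hm] at h2
  have h5 : Nat.card B = (B : Set P).ncard := (Nat.card_coe_set_eq (B : Set P))
  have h6 : Nat.card (B ⊓ fx (ρ ^ 3) : Subgroup P) = ((B ⊓ fx (ρ ^ 3) : Subgroup P) : Set P).ncard :=
    (Nat.card_coe_set_eq ((B ⊓ fx (ρ ^ 3) : Subgroup P) : Set P))
  omega

theorem sq_index {P : Type*} [Group P] [Finite P] (Z : Subgroup P)
    (hc : ∀ a ∈ Z, ∀ b ∈ Z, a * b = b * a) :
    ∃ Ω Z2 : Subgroup P, (∀ x, x ∈ Ω ↔ x ∈ Z ∧ x * x = 1) ∧ (∀ x, x ∈ Z2 ↔ ∃ z ∈ Z, z * z = x) ∧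
      Z2.relIndex Z = Nat.card Ω := by
  let sq : Z →* Z :=
    { toFun := fun z => z * z
      map_one' := by simp
      map_mul' := by
        intro a b
        have h : b * a = a * b := Subtype.ext (hc b b.2 a a.2)
        calc a * b * (a * b) = a * (b * a) * b := by group
          _ = a * (a * b) * b := by rw [h]
          _ = a * a * (b * b) := by group }
  have hsq : ∀ z : Z, sq z = z * z := fun z => rfl
  refine ⟨sq.ker.map Z.subtype, sq.range.map Z.subtype, ?_, ?_, ?_⟩
  · intro x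
    rw [Subgroup.mem_map]
    constructor
    · rintro ⟨w, hw, rfl⟩
      refine ⟨w.2, ?_⟩
      rw [MonoidHom.mem_ker, hsq] at hw
      exact congrArg Subtype.val hw
    · rintro ⟨hx, hx2⟩
      refine ⟨⟨x, hx⟩, ?_, rfl⟩
      rw [MonoidHom.mem_ker, hsq]
      exact Subtype.ext hx2
  · intro x
    rw [Subgroup.mem_map]
    constructor
    · rintro ⟨w, ⟨v, rfl⟩, rfl⟩
      exact ⟨v, v.2, rfl⟩
    · rintro ⟨z, hz, rfl⟩
      exact ⟨sq ⟨z, hz⟩, ⟨_, rfl⟩, rfl⟩
  · rw [Subgroup.relIndex, Subgroup.subgroupOf,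
      Subgroup.comap_map_eq_self_of_injective (Subgroup.subtype_injective Z),
      Subgroup.card_map_of_injective (Subgroup.subtype_injective Z)]
    have h1 := sq.ker.card_mul_index
    rw [Subgroup.index_ker] at h1
    have h2 := sq.range.card_mul_index
    rw [← h2, mul_comm] at h1
    exact (Nat.eq_of_mul_eq_mul_left Nat.card_pos h1).symm


theorem main {P : Type*} [Group P] [Finite P] (hP : IsPGroup 2 P) (σ ρ : MulAut P)
    (hfpf : ∀ x, σ x = x → x = 1) (h9 : ρ ^ 9 = 1)
    (hrank : ∀ E : Subgroup P, (∀ a ∈ E, ∀ b ∈ E, a * b = b * a) → (∀ a ∈ E, a * a = 1) →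
      Nat.card E ≤ 4) : ρ ^ 3 = 1 := by
  haveI : Fact (Nat.Prime 2) := ⟨Nat.prime_two⟩
  obtain ⟨C, hCchar, hC1, hC2, hC3⟩ := Cfsg.Agent.S0093.result hP
  have hτ3 : (ρ ^ 3) ^ 3 = 1 := by rw [← pow_mul]; exact h9
  apply Cfsg.Agent.S0121.result hP C hCchar hC1 hC2 hC3 (ρ ^ 3)
    (Nat.Coprime.coprime_dvd_left (orderOf_dvd_of_pow_eq_one hτ3) (by norm_num))
  generalize hτ : ρ ^ 3 = τ at hτ3
  obtain ⟨Z, hZdef⟩ : ∃ Z : Subgroup P, Z = C ⊓ Subgroup.centralizer (C : Set P) := ⟨_, rfl⟩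
  have hZmem : ∀ x, x ∈ Z ↔ x ∈ C ∧ ∀ c ∈ C, c * x = x * c := by
    intro x
    rw [hZdef, Subgroup.mem_inf, Subgroup.mem_centralizer_iff]
    rfl
  have hZC : Z ≤ C := fun x hx => ((hZmem x).1 hx).1
  have hZc : ∀ r ∈ Z, ∀ u ∈ C, r * u = u * r := fun r hr u hu => (((hZmem r).1 hr).2 u hu).symm
  have hCα : ∀ (α : MulAut P) (x : P), α x ∈ C ↔ x ∈ C := by
    intro α x
    have := (Subgroup.characteristic_iff_comap_eq.1 hCchar) α
    conv_rhs => rw [← this]
    rfl
  have hZα1 : ∀ (α : MulAut P) (x : P), x ∈ Z → α x ∈ Z := by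
    intro α x hx
    rw [hZmem]
    refine ⟨(hCα α x).2 (hZC hx), ?_⟩
    intro c hc
    have h1 : α⁻¹ c ∈ C := (hCα _ _).2 hc
    have h2 := hZc x hx _ h1
    have h3 := congrArg α h2
    rw [map_mul, map_mul, MulAut.apply_inv_self] at h3
    exact h3.symm
  have hZα : ∀ (α : MulAut P) (x : P), α x ∈ Z ↔ x ∈ Z := by
    intro α x
    refine ⟨fun h => ?_, hZα1 α x⟩
    have := hZα1 α⁻¹ _ h
    rwa [MulAut.inv_apply_self] at this
  have hsq : ∀ x ∈ C, x * x ∈ Z := by
    intro x hx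
    rw [hZdef]
    refine ⟨C.mul_mem hx hx, ?_⟩
    apply hC1
    refine ⟨(⟨x, hx⟩ : C) ^ 2, Cfsg.Agent.Lib.Helper3.pow_p_mem_frattini (hP.to_subgroup C) _, ?_⟩
    simp [pow_two]
  have hk : ∀ x ∈ C, ∀ y ∈ C, x⁻¹ * y * x * y⁻¹ ∈ Z := by
    intro x hx y hy
    rw [hZdef]
    apply hC2
    have := Subgroup.commutator_mem_commutator (C.inv_mem hx) (Subgroup.mem_top y)
    rw [commutatorElement_def, inv_inv] at this
    exact this
  -- the trivial case
  by_cases hZbot : ∀ x ∈ Z, x = 1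
  · intro x hx
    have : x ∈ Z := by
      rw [hZmem]
      refine ⟨hx, fun c hc => ?_⟩
      have h1 := hZbot _ (hk x hx c hc)
      calc c * x = x * (x⁻¹ * c * x * c⁻¹) * c := by group
        _ = x * c := by rw [h1, mul_one]
    rw [hZbot x this, map_one]
  push Not at hZbot
  obtain ⟨y, hyZ, hy1⟩ := hZbot
  -- an involution in Z
  have hinv : ∀ k : ℕ, ∀ y ∈ Z, y ^ (2 ^ k) = 1 → y ≠ 1 → ∃ z ∈ Z, z ≠ 1 ∧ z * z = 1 := by
    intro k
    induction k with
    | zero =>
      intro y _ h1 h2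
      rw [pow_zero, pow_one] at h1
      exact absurd h1 h2
    | succ k ih =>
      intro y hy h1 h2
      by_cases h3 : y * y = 1
      · exact ⟨y, hy, h2, h3⟩
      · apply ih (y * y) (Z.mul_mem hy hy) _ h3
        rw [← pow_two, ← pow_mul, ← pow_succ']
        exact h1
  obtain ⟨k0, hk0⟩ := hP y
  obtain ⟨z, hzZ, hz1, hz2⟩ := hinv k0 y hyZ hk0 hy1
  have hZcomm : ∀ a ∈ Z, ∀ b ∈ Z, a * b = b * a := fun a ha b hb => hZc a ha b (hZC hb)
  obtain ⟨Ω, Z2, hΩ, hZ2, hidx⟩ := sq_index Z hZcomm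
  have hΩZ : Ω ≤ Z := fun x hx => ((hΩ x).1 hx).1
  have hΩcard : Nat.card Ω ≤ 4 := by
    apply hrank
    · intro a ha b hb
      exact hZcomm a (hΩZ ha) b (hΩZ hb)
    · intro a ha
      exact ((hΩ a).1 ha).2
  -- τ fixes Ω
  have hΩτ : ∀ x ∈ Ω, τ x = x := by
    obtain ⟨m, hm⟩ := card_eq_add ρ h9 Ω (by
      intro x
      rw [hΩ, hΩ, hZα, ← map_mul]
      constructor
      · rintro ⟨h1, h2⟩
        refine ⟨h1, ?_⟩
        rw [← map_one ρ] at h2
        exact ρ.injective h2
      · rintro ⟨h1, h2⟩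
        exact ⟨h1, by rw [h2, map_one]⟩)
    have hm0 : m = 0 := by omega
    rw [hm0, mul_zero, add_zero, hτ] at hm
    have h1 : (Ω ⊓ fx τ : Subgroup P) = Ω :=
      Subgroup.eq_of_le_of_card_ge inf_le_left hm.le
    intro x hx
    rw [← h1] at hx
    exact hx.2
  -- τ fixes Z
  have hZτ' : ∀ k : ℕ, ∀ y ∈ Z, y ^ (2 ^ k) = 1 → τ y = y := by
    intro k
    induction k with
    | zero =>
      intro y _ h1
      rw [pow_zero, pow_one] at h1
      rw [h1, map_one]
    | succ k ih =>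
      intro y hy h1
      have h2 : τ (y * y) = y * y := by
        apply ih (y * y) (Z.mul_mem hy hy)
        rw [← pow_two, ← pow_mul, ← pow_succ']
        exact h1
      have hτy : τ y ∈ Z := (hZα τ y).2 hy
      have hw : y⁻¹ * τ y ∈ Ω := by
        rw [hΩ]
        refine ⟨Z.mul_mem (Z.inv_mem hy) hτy, ?_⟩
        calc y⁻¹ * τ y * (y⁻¹ * τ y) = y⁻¹ * (τ y * y⁻¹) * τ y := by group
          _ = y⁻¹ * (y⁻¹ * τ y) * τ y := by rw [hZcomm _ hτy _ (Z.inv_mem hy)]
          _ = (y * y)⁻¹ * τ (y * y) := by rw [map_mul]; group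
          _ = 1 := by rw [h2, inv_mul_cancel]
      have h3 := hΩτ _ hw
      have h4 : τ (τ y) = y := by
        rw [map_mul, map_inv] at h3
        have h5 := ((hΩ _).1 hw).2
        calc τ (τ y) = τ y * ((τ y)⁻¹ * τ (τ y)) := by group
          _ = τ y * (y⁻¹ * τ y) := by rw [h3]
          _ = y * ((y⁻¹ * τ y) * (y⁻¹ * τ y)) := by group
          _ = y := by rw [h5, mul_one]
      have h6 : (τ ^ 3) y = y := by rw [hτ3]; rfl
      have h7 : (τ ^ 3) y = τ (τ (τ y)) := rfl
      rw [h7, h4] at h6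
      exact h6
  have hZτ : ∀ y ∈ Z, τ y = y := by
    intro y hy
    obtain ⟨k, hk⟩ := hP y
    exact hZτ' k y hy hk
  -- |C : Z| ≤ 16
  have hidx16 : Z.relIndex C ≤ 16 := by
    by_contra hcon
    push Not at hcon
    obtain ⟨x, hxC, hxZ, hx2⟩ := exists_sq_mem' C Z Z Z2 hZC le_rfl (by
        intro x hx
        obtain ⟨w, hw, rfl⟩ := (hZ2 x).1 hx
        exact Z.mul_mem hw hw) hZc (fun r hr => (hZ2 _).2 ⟨r, hr, rfl⟩) hsq hk (by
        intro x hx m hm
        rw [hZ2]
        refine ⟨m, hm, ?_⟩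
        have h1 := hZc m hm x hx
        rw [eq_mul_inv_iff_mul_eq]
        calc m * m * (x * x) = m * (m * x) * x := by group
          _ = m * (x * m) * x := by rw [h1]
          _ = (m * x) * (m * x) := by group
          _ = x * m * (x * m) := by rw [h1]) (by
        rw [hidx]
        calc (Nat.card Ω) ^ 2 ≤ 4 ^ 2 := Nat.pow_le_pow_left hΩcard 2
          _ < Z.relIndex C := by norm_num; exact hcon)
    obtain ⟨z0, hz0, hz0x⟩ := (hZ2 _).1 hx2
    obtain ⟨t, ht⟩ : ∃ t, t = x * z0⁻¹ := ⟨_, rfl⟩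
    have htC : t ∈ C := by rw [ht]; exact C.mul_mem hxC (C.inv_mem (hZC hz0))
    have htZ : t ∉ Z := by
      intro h
      apply hxZ
      have : x = t * z0 := by rw [ht]; group
      rw [this]
      exact Z.mul_mem h hz0
    have ht2 : t * t = 1 := by
      have h1 := hZc z0⁻¹ (Z.inv_mem hz0) x hxC
      calc t * t = x * (z0⁻¹ * x) * z0⁻¹ := by rw [ht]; group
        _ = x * (x * z0⁻¹) * z0⁻¹ := by rw [h1]
        _ = (x * x) * (z0 * z0)⁻¹ := by group
        _ = 1 := by rw [hz0x, mul_inv_cancel]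
    have hσz : σ z ∈ Z := (hZα σ z).2 hzZ
    have hσz2 : σ z * σ z = 1 := by rw [← map_mul, hz2, map_one]
    obtain ⟨hE1, hE2⟩ := closure_invol ({z, σ z, t} : Set P) (by
      rintro a (rfl | rfl | rfl) b (rfl | rfl | rfl)
      · rfl
      · exact hZc _ hzZ _ (hZC hσz)
      · exact hZc _ hzZ _ htC
      · exact hZc _ hσz _ (hZC hzZ)
      · rfl
      · exact hZc _ hσz _ htC
      · exact (hZc _ hzZ _ htC).symm
      · exact (hZc _ hσz _ htC).symm
      · rfl) (by
      rintro a (rfl | rfl | rfl)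
      · exact hz2
      · exact hσz2
      · exact ht2)
    have hE := hrank _ hE1 hE2
    classical
    have hA : ∀ w ∈ Z, w ≠ t := by
      rintro w hw rfl
      exact htZ hw
    have hB : ∀ w ∈ Z, w ≠ t * z := by
      intro w hw h
      apply htZ
      have : t = w * z⁻¹ := by rw [h]; group
      rw [this]
      exact Z.mul_mem hw (Z.inv_mem hzZ)
    have hσz1 : σ z ≠ 1 := by
      intro h
      apply hz1
      rw [← map_one σ] at h
      exact σ.injective h
    have hσzz : σ z ≠ z := fun h => hz1 (hfpf z h)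
    have hcard5 : ({1, z, σ z, t, t * z} : Finset P).card = 5 := by
      rw [Finset.card_insert_of_notMem, Finset.card_insert_of_notMem,
        Finset.card_insert_of_notMem, Finset.card_insert_of_notMem, Finset.card_singleton]
      all_goals simp only [Finset.mem_insert, Finset.mem_singleton, not_or]
      · intro h
        apply hz1
        have : t * 1 = t * z := by rw [mul_one]; exact h
        exact (mul_left_cancel this).symm
      · exact ⟨hA _ hσz, hB _ hσz⟩
      · exact ⟨hσzz.symm, hA _ hzZ, hB _ hzZ⟩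
      · exact ⟨hz1.symm, hσz1.symm, hA _ Z.one_mem, hB _ Z.one_mem⟩
    have hsub : (({1, z, σ z, t, t * z} : Finset P) : Set P)
        ⊆ (Subgroup.closure ({z, σ z, t} : Set P) : Set P) := by
      have hz' : z ∈ Subgroup.closure ({z, σ z, t} : Set P) :=
        Subgroup.subset_closure (by simp)
      have hσ' : σ z ∈ Subgroup.closure ({z, σ z, t} : Set P) :=
        Subgroup.subset_closure (by simp)
      have ht' : t ∈ Subgroup.closure ({z, σ z, t} : Set P) :=
        Subgroup.subset_closure (by simp)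
      intro w hw
      simp only [Finset.coe_insert, Finset.coe_singleton, Set.mem_insert_iff,
        Set.mem_singleton_iff] at hw
      rcases hw with rfl | rfl | rfl | rfl | rfl
      · exact Subgroup.one_mem _
      · exact hz'
      · exact hσ'
      · exact ht'
      · exact Subgroup.mul_mem _ ht' hz'
    have h5 := Set.ncard_le_ncard hsub (Set.toFinite _)
    rw [Set.ncard_coe_finset, hcard5] at h5
    have h6 : Nat.card (Subgroup.closure ({z, σ z, t} : Set P))
        = (Subgroup.closure ({z, σ z, t} : Set P) : Set P).ncard :=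
      Nat.card_coe_set_eq _
    omega
  -- the final count
  obtain ⟨m, hm⟩ := card_eq_add ρ h9 C (hCα ρ)
  rw [hτ] at hm
  obtain ⟨F, hF⟩ : ∃ F : Subgroup P, F = C ⊓ fx τ := ⟨_, rfl⟩
  rw [← hF] at hm
  have hZF : Z ≤ F := fun x hx => by rw [hF]; exact ⟨hZC hx, hZτ x hx⟩
  have hFC : F ≤ C := by rw [hF]; exact inf_le_left
  have h1 : F.relIndex C ∣ Z.relIndex C := Subgroup.relIndex_dvd_of_le_left C hZF
  have h2 : F.relIndex C * Nat.card F = Nat.card C := by
    have := Subgroup.relIndex_mul_relIndex ⊥ F C bot_le hFC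
    rw [Subgroup.relIndex_bot_left, Subgroup.relIndex_bot_left, mul_comm] at this
    exact this
  obtain ⟨c, hc⟩ := (hP.to_subgroup C).exists_card_eq
  obtain ⟨f, hf⟩ := (hP.to_subgroup F).exists_card_eq
  have h3 : F.relIndex C ∣ 2 ^ c := hc ▸ Dvd.intro _ h2
  obtain ⟨j, hj, hj'⟩ := (Nat.dvd_prime_pow Nat.prime_two).1 h3
  have hZpos : 0 < Z.relIndex C := Nat.pos_of_ne_zero Subgroup.index_ne_zero_of_finite
  have h4 : F.relIndex C ≤ 16 := (Nat.le_of_dvd hZpos h1).trans hidx16
  have hj4 : j ≤ 4 := by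
    by_contra hcon
    push Not at hcon
    have : 2 ^ 5 ≤ 2 ^ j := Nat.pow_le_pow_right (by norm_num) hcon
    omega
  have hpos : 0 < F.relIndex C := by rw [hj']; positivity
  obtain ⟨e, he⟩ : ∃ e, F.relIndex C = e + 1 := ⟨_, (Nat.succ_pred_eq_of_pos hpos).symm⟩
  have h5 : e * Nat.card F = 9 * m := by
    have := h2
    rw [he, hm, add_mul, one_mul] at this
    linarith
  have h6 : 9 ∣ e := by
    apply Nat.Coprime.dvd_of_dvd_mul_right _ ⟨m, h5⟩
    rw [hf]
    apply Nat.Coprime.pow_right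
    norm_num
  have he0 : e = 0 := by
    rw [he] at hj'
    interval_cases j <;> omega
  rw [he0] at he
  have h7 : C ≤ F := Subgroup.relIndex_eq_one.1 he
  intro x hx
  have := h7 hx
  rw [hF] at this
  exact this.2

/-- Let d be a non-identity 3-element of a finite group and P a 2-subgroup normalized by d on which ⟨d⟩ acts faithfully (no non-identity power of d centralizes P) and without non-identity fixed points (C_P(d) = 1). If every abelian subgroup of P has 2-rank at most 2, then d has order 3. -/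
theorem result {X : Type*} [Group X] [Finite X] (d : X) (n : ℕ) (hn : 1 ≤ n) (hd : orderOf d = 3 ^ n) (P : Subgroup X) (hP : IsPGroup 2 P) (hdP : d ∈ Subgroup.normalizer (P : Set X)) (hfaith : Subgroup.zpowers d ⊓ Subgroup.centralizer (P : Set X) = ⊥) (hfpf : P ⊓ Subgroup.centralizer {d} = ⊥) (hrank : ∀ V : Subgroup X, V ≤ P → IsMulCommutative V → Cfsg.PRankLE 2 2 V) : orderOf d = 3 := by
  by_contra hne
  have hn2 : 2 ≤ n := by
    rcases Nat.lt_or_ge n 2 with h | h
    · have h1 : n = 1 := by omega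
      rw [h1, pow_one] at hd
      exact absurd hd hne
    · exact h
  obtain ⟨σ, hσ⟩ : ∃ σ : MulAut P, σ = P.normalizerMonoidHom ⟨d, hdP⟩ := ⟨_, rfl⟩
  have hσk : ∀ (k : ℕ) (x : P), (((σ ^ k) x : P) : X) = d ^ k * x * (d ^ k)⁻¹ := by
    intro k x
    rw [hσ, ← map_pow]
    rfl
  have hσ1 : ∀ x : P, ((σ x : P) : X) = d * x * d⁻¹ := by
    intro x
    have := hσk 1 x
    rwa [pow_one, pow_one] at this
  have hfix : ∀ x : P, σ x = x → x = 1 := by
    intro x hx
    have h1 : (x : X) ∈ P ⊓ Subgroup.centralizer {d} := by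
      rw [Subgroup.mem_inf]
      refine ⟨x.2, ?_⟩
      rw [Subgroup.mem_centralizer_iff]
      intro w hw
      rw [Set.mem_singleton_iff] at hw
      rw [hw]
      have h2 := hσ1 x
      rw [hx] at h2
      calc d * (x : X) = (d * x * d⁻¹) * d := by group
        _ = x * d := by rw [← h2]
    rw [hfpf, Subgroup.mem_bot] at h1
    exact Subtype.ext h1
  have hkey : ∀ k : ℕ, σ ^ k = 1 → d ^ k = 1 := by
    intro k hk
    have h1 : d ^ k ∈ Subgroup.zpowers d ⊓ Subgroup.centralizer (P : Set X) := by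
      rw [Subgroup.mem_inf]
      refine ⟨Subgroup.pow_mem _ (Subgroup.mem_zpowers d) k, ?_⟩
      rw [Subgroup.mem_centralizer_iff]
      intro w hw
      have h2 := hσk k ⟨w, hw⟩
      rw [hk] at h2
      change w = d ^ k * w * (d ^ k)⁻¹ at h2
      calc w * d ^ k = (d ^ k * w * (d ^ k)⁻¹) * d ^ k := by rw [← h2]
        _ = d ^ k * w := by group
    rw [hfaith, Subgroup.mem_bot] at h1
    exact h1
  have h9 : (σ ^ (3 ^ (n - 2))) ^ 9 = 1 := by
    rw [← pow_mul]
    have e : 3 ^ (n - 2) * 9 = 3 ^ n := by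
      obtain ⟨j, rfl⟩ : ∃ j, n = j + 2 := ⟨n - 2, by omega⟩
      rw [Nat.add_sub_cancel, pow_add]
      norm_num
    rw [e, hσ, ← map_pow]
    have : (⟨d, hdP⟩ : Subgroup.normalizer (P : Set X)) ^ 3 ^ n = 1 := by
      apply Subtype.ext
      change d ^ 3 ^ n = 1
      rw [← hd]
      exact pow_orderOf_eq_one d
    rw [this, map_one]
  have hmain := main (P := P) hP σ (σ ^ (3 ^ (n - 2))) hfix h9 (by
    intro E hE1 hE2
    have hV : IsMulCommutative (E.map P.subtype) := by
      refine ⟨⟨?_⟩⟩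
      rintro ⟨_, a, ha, rfl⟩ ⟨_, b, hb, rfl⟩
      apply Subtype.ext
      exact congrArg (Subtype.val : P → X) (hE1 a ha b hb)
    have h1 := hrank (E.map P.subtype) (by
      rintro _ ⟨a, _, rfl⟩
      exact a.2) hV ⊤ (by
      refine ⟨⟨?_⟩⟩
      intro a b
      apply Subtype.ext
      exact hV.is_comm.comm a.1 b.1) (by
      rintro ⟨_, a, ha, rfl⟩ _
      apply Subtype.ext
      rw [pow_two]
      exact congrArg (Subtype.val : P → X) (hE2 a ha))
    rw [Subgroup.card_top, Subgroup.card_map_of_injective (Subgroup.subtype_injective P)] at h1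
    exact h1)
  rw [← pow_mul] at hmain
  have h3 := hkey _ hmain
  have h4 := orderOf_dvd_of_pow_eq_one h3
  rw [hd] at h4
  have e : 3 ^ (n - 2) * 3 = 3 ^ (n - 1) := by
    obtain ⟨j, rfl⟩ : ∃ j, n = j + 2 := ⟨n - 2, by omega⟩
    rw [Nat.add_sub_cancel, ← pow_succ]
    rfl
  rw [e] at h4
  have h5 := (Nat.pow_dvd_pow_iff_le_right (by norm_num : 1 < 3)).1 h4
  omega

end Cfsg.Agent.S3738
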