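import Cfsg.Statements.S0055
-- import your own Cfsg.Agent.* helpers here
import Mathlib.GroupTheory.Commutator.Basic
import Mathlib.GroupTheory.OrderOfElement
import Mathlib.Algebra.BigOperators.Group.Finset.Basic
import Mathlib.Algebra.BigOperators.Group.Finset.Lemmas
import Mathlib.Tactic.Group

set_option autoImplicit false
open Cfsg

namespace Cfsg.Agent.S0055

open scoped IsMulCommutative commutatorElement in
lemma main {G : Type*} [Group G] [Finite G] (A V : Subgroup G) [IsMulCommutative V]
    (hAV : A ≤ Subgroup.normalizer (V : Set G)) (hcop : (Nat.card A).Coprime (Nat.card V)) :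
    (V ⊓ Subgroup.centralizer (A : Set G)) ⊓ ⁅V, A⁆ = ⊥ ∧
      (V ⊓ Subgroup.centralizer (A : Set G)) ⊔ ⁅V, A⁆ = V := by
  classical
  have : Fintype A := Fintype.ofFinite A
  let act : A → V →* V := fun a =>
    { toFun := fun v => ⟨(a : G) * v * (a : G)⁻¹, (Subgroup.mem_normalizer_iff.mp (hAV a.2) v).mp v.2⟩
      map_one' := by apply Subtype.ext; simp
      map_mul' := by intro v w; apply Subtype.ext; simp }
  have act_coe : ∀ (a : A) (v : V), ((act a v : V) : G) = (a : G) * v * (a : G)⁻¹ := fun a v => rfl
  have act_act : ∀ (a b : A) (v : V), act a (act b v) = act (a * b) v := by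
    intro a b v
    apply Subtype.ext
    simp only [act_coe, Subgroup.coe_mul]
    group
  let θ : V →* V := ∏ a : A, act a
  have θ_apply : ∀ v, θ v = ∏ a : A, act a v := fun v => MonoidHom.finsetProd_apply _ _ _
  have θ_act : ∀ (b : A) (v : V), θ (act b v) = θ v := by
    intro b v
    rw [θ_apply, θ_apply]
    simp only [act_act]
    exact Fintype.prod_equiv (Equiv.mulRight b) _ _ (fun a => rfl)
  have act_θ : ∀ (b : A) (v : V), act b (θ v) = θ v := by
    intro b v
    rw [θ_apply, map_prod]
    simp only [act_act]
    exact Fintype.prod_equiv (Equiv.mulLeft b) _ _ (fun a => rfl)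
  have hVA : ⁅V, A⁆ ≤ V := Subgroup.le_normalizer_iff_commutator_le_left.mp hAV
  have hker : ⁅V, A⁆ ≤ θ.ker.map V.subtype := by
    rw [Subgroup.commutator_le]
    intro v hv a ha
    refine ⟨⟨v, hv⟩ * act ⟨a, ha⟩ ⟨v, hv⟩⁻¹, ?_, ?_⟩
    · rw [SetLike.mem_coe, MonoidHom.mem_ker, map_mul, θ_act, map_inv, mul_inv_cancel]
    · simp only [Subgroup.subtype_apply, Subgroup.coe_mul, act_coe, Subgroup.coe_inv,
        commutatorElement_def]
      group
  constructor
  · rw [eq_bot_iff]
    rintro x ⟨⟨hxV, hxC⟩, hxK⟩
    obtain ⟨y, hy, rfl⟩ := hker hxK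
    have hfix : ∀ a : A, act a y = y := by
      intro a
      apply Subtype.ext
      rw [act_coe]
      have := (Subgroup.mem_centralizer_iff.mp hxC) a a.2
      simp only [Subgroup.subtype_apply] at this
      rw [this]; group
    have h1 : y ^ Nat.card A = 1 := by
      have h2 : θ y = 1 := hy
      rw [θ_apply] at h2
      simp only [hfix, Finset.prod_const, Finset.card_univ] at h2
      rwa [Nat.card_eq_fintype_card]
    have h3 : orderOf y ∣ Nat.card A := orderOf_dvd_of_pow_eq_one h1
    have h4 : orderOf y ∣ Nat.card V := orderOf_dvd_natCard y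
    have h5 : orderOf y = 1 := Nat.eq_one_of_dvd_coprimes hcop h3 h4
    rw [orderOf_eq_one_iff] at h5
    rw [h5]
    simp
  · apply le_antisymm
    · exact sup_le inf_le_left hVA
    · intro v hv
      set W := (V ⊓ Subgroup.centralizer (A : Set G)) ⊔ ⁅V, A⁆ with hW
      set y : V := ⟨v, hv⟩ with hy
      have h1 : ((θ y : V) : G) ∈ V ⊓ Subgroup.centralizer (A : Set G) := by
        refine Subgroup.mem_inf.mpr ⟨(θ y).2, ?_⟩
        rw [Subgroup.mem_centralizer_iff]
        intro a ha
        have := congrArg Subtype.val (act_θ ⟨a, ha⟩ y)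
        rw [act_coe] at this
        simp only at this
        calc a * (θ y : V) = (a * (θ y : V) * a⁻¹) * a := by group
          _ = (θ y : V) * a := by rw [this]
      have h2 : y ^ Nat.card A * (θ y)⁻¹ ∈ ⁅V, A⁆.subgroupOf V := by
        have e : y ^ Nat.card A * (θ y)⁻¹ = ∏ a : A, y * (act a y)⁻¹ := by
          rw [Finset.prod_mul_distrib, Finset.prod_const, Finset.card_univ,
            Finset.prod_inv_distrib, θ_apply, Nat.card_eq_fintype_card]
        rw [e]
        apply Subgroup.prod_mem
        intro a _
        rw [Subgroup.mem_subgroupOf]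
        have : ((y * (act a y)⁻¹ : V) : G) = ⁅v, (a : G)⁆ := by
          simp only [Subgroup.coe_mul, Subgroup.coe_inv, act_coe, commutatorElement_def, hy]
          group
        rw [this]
        exact Subgroup.commutator_mem_commutator hv a.2
      have h3 : v ^ Nat.card A ∈ W := by
        have e : v ^ Nat.card A = ((θ y : V) : G) * ((y ^ Nat.card A * (θ y)⁻¹ : V) : G) := by
          simp only [Subgroup.coe_mul, Subgroup.coe_inv, Subgroup.coe_pow, hy]
          have hc : (y ^ Nat.card A * (θ y)⁻¹ : V) = (θ y)⁻¹ * y ^ Nat.card A := mul_comm _ _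
          have hc' := congrArg Subtype.val hc
          simp only [Subgroup.coe_mul, Subgroup.coe_inv, Subgroup.coe_pow, hy] at hc'
          rw [hc']
          group
        rw [e]
        exact mul_mem (Subgroup.mem_sup_left h1) (Subgroup.mem_sup_right h2)
      have hco : (Nat.card A).Coprime (orderOf v) := by
        have : orderOf v ∣ Nat.card V := by
          have := orderOf_dvd_natCard y
          rwa [← Subgroup.orderOf_coe] at this
        exact Nat.Coprime.coprime_dvd_right this hcop
      obtain ⟨m, hm⟩ := exists_pow_eq_self_of_coprime hco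
      rw [← hm]
      exact pow_mem h3 m

/-- If A normalises an abelian subgroup V of coprime order, then V is the internal direct product of its A-fixed points and its commutator with A: the two meet trivially and generate V. -/
theorem result {G : Type*} [Group G] [Finite G] (A V : Subgroup G) [IsMulCommutative V]
    (hAV : A ≤ Subgroup.normalizer (V : Set G)) (hcop : (Nat.card A).Coprime (Nat.card V)) :
    (V ⊓ Subgroup.centralizer (A : Set G)) ⊓ ⁅V, A⁆ = ⊥ ∧ (V ⊓ Subgroup.centralizer (A : Set G)) ⊔ ⁅V, A⁆ = V := by
  exact main A V hAV hcop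

end Cfsg.Agent.S0055
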