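import Cfsg.Statements.S1377
-- import your own Cfsg.Agent.* helpers here
import Cfsg.Agent.Lib.Helper24.BG14F
import Cfsg.Agent.Lib.Helper66.BG146Count
import Cfsg.Agent.S1416
import Cfsg.Agent.S1417
import Cfsg.Agent.S1418
import Cfsg.Agent.S1378
import Cfsg.Agent.S1432

set_option autoImplicit false
open Cfsg

namespace Cfsg.Agent.S1377

/-- Let G be a minimal simple group of odd order and M a maximal subgroup. For x ≠ 1 in M_σ let R(x) = 1 if C_G(x) ≤ M and otherwise R(x) = C_{N_F}(x) for the unique maximal subgroup N containing C_G(x). Then the union over G-conjugates of the cosets x R(x) has cardinality (#M_σ − 1) times the index of M. -/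
theorem result {G : Type*} [Group G] [Finite G] (hG : Cfsg.IsMinSimpleOddOrder G)
    (M : Subgroup G) (hM : IsCoatom M) :
    Set.ncard (Cfsg.tildeOf M ((Cfsg.sigmaCore M : Set G) \ {1})) = (Nat.card (Cfsg.sigmaCore M) - 1) * M.index := by
  have T : Cfsg.Agent.Lib.Helper24.BG14.Texts G :=
    ⟨fun M hM p _ A hA => (Cfsg.Agent.S1416.result hG M hM p A hA).1,
      fun M hM p _ hp A hA => Cfsg.Agent.S1417.result hG M hM p hp A hA,
      fun M hM E hE p _ hp A hA => Cfsg.Agent.S1418.result hG M hM E hE p hp A hA,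
      (Cfsg.Agent.S1378.result hG).2,
      fun M hM x hx hx1 x' hx' hx'1 hσ => Cfsg.Agent.S1432.result hG M hM x hx hx1 x' hx' hx'1 hσ⟩
  have hcount : Cfsg.Agent.Lib.Helper24.BG14.CountLemma G :=
    fun M S R h1 h2 h3 h4 h5 h6 => Cfsg.Agent.Lib.Helper66.BG146.card_tilde M S R h1 h2 h3 h4 h5 h6
  exact Cfsg.Agent.Lib.Helper24.BG14.S1377_of hG T hcount M hM

end Cfsg.Agent.S1377
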