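import Cfsg.Statements.S1446
-- import your own Cfsg.Agent.* helpers here
import Cfsg.Agent.Lib.Helper98.FW.Derived

set_option autoImplicit false
open Cfsg

namespace Cfsg.Agent.S1446

/-- Let X be a finite group with subgroups K, R, M such that: K and R are nontrivial, K ∩ R = 1, R normalizes K, no non-identity element of R centralizes a non-identity element of K, K ⊔ R is solvable of odd order; M is nilpotent and nontrivial, normalized by K and by R, with order coprime to that of K ⊔ R, M ∩ C(K) = 1, and M ∩ C(x) = M ∩ C(R) for all non-identity x ∈ R. Then R has prime order p, #M = #(M ∩ C(R)) ^ p, and if M ∩ C(R) is cyclic then [K, K] centralizes M. -/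
theorem result {X : Type*} [Group X] [Finite X] (K R M : Subgroup X) (hK1 : K ≠ ⊥) (hR1 : R ≠ ⊥) (hKR : K ⊓ R = ⊥)
    (hRK : R ≤ Subgroup.normalizer (K : Set X)) (hfrob : ∀ r ∈ R, r ≠ 1 → K ⊓ Subgroup.centralizer ({r} : Set X) = ⊥)
    (hsolv : Group.IsSolvable ↥(K ⊔ R)) (hodd : Odd (Nat.card ↥(K ⊔ R)))
    (hM1 : M ≠ ⊥) (hMn : Group.IsNilpotent M) (hKM : K ≤ Subgroup.normalizer (M : Set X)) (hRM : R ≤ Subgroup.normalizer (M : Set X))
    (hcop : (Nat.card ↥(K ⊔ R)).Coprime (Nat.card M)) (hCK : M ⊓ Subgroup.centralizer (K : Set X) = ⊥)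
    (hpr : ∀ x ∈ R, x ≠ 1 → M ⊓ Subgroup.centralizer ({x} : Set X) = M ⊓ Subgroup.centralizer (R : Set X)) :
    (Nat.card R).Prime ∧ Nat.card M = Nat.card ↥(M ⊓ Subgroup.centralizer (R : Set X)) ^ Nat.card R ∧
      (IsCyclic ↥(M ⊓ Subgroup.centralizer (R : Set X)) → ⁅K, K⁆ ≤ Subgroup.centralizer (M : Set X)) := by
  classical
  have hfpf : ∀ e ∈ R, e ≠ 1 → ∀ u ∈ K, e * u = u * e → u = 1 := by
    intro e he he1 u hu heu
    have h1 : u ∈ K ⊓ Subgroup.centralizer ({e} : Set X) :=
      ⟨hu, Subgroup.mem_centralizer_singleton_iff.2 heu.symm⟩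
    rw [hfrob e he he1, Subgroup.mem_bot] at h1
    exact h1
  have hsolvM : Group.IsSolvable M := inferInstance
  have hbot : ∀ E : Subgroup X, M ⊓ Subgroup.centralizer ((K ⊔ E : Subgroup X) : Set X) = ⊥ := by
    intro E
    rw [eq_bot_iff, ← hCK]
    exact inf_le_inf_left _ (Subgroup.centralizer_le (by
      intro x hx
      exact (le_sup_left : K ≤ K ⊔ E) hx))
  have hb : Nat.card M = Nat.card ↥(M ⊓ Subgroup.centralizer (R : Set X)) ^ Nat.card R := by
    have h1 := Cfsg.Agent.Lib.Helper98.FW.fw_formula' K R hR1 hRK hfpf M (sup_le hKM hRM) hsolvM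
      hcop.symm
    rw [hbot R, hCK] at h1
    simpa using h1
  have hM2 : Nat.card M ≠ 1 := fun h => hM1 (Subgroup.card_eq_one.mp h)
  refine ⟨?_, hb, ?_⟩
  · have hR2 : Nat.card R ≠ 1 := fun h => hR1 (Subgroup.card_eq_one.mp h)
    obtain ⟨p, hp, hpd⟩ := Nat.exists_prime_and_dvd hR2
    have := Fact.mk hp
    obtain ⟨x, hx⟩ := exists_prime_orderOf_dvd_card' (G := R) p hpd
    have hx' : orderOf (x : X) = p := by rw [Subgroup.orderOf_coe, hx]
    have hx1 : (x : X) ≠ 1 := by
      intro h0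
      rw [h0, orderOf_one] at hx'
      exact hp.one_lt.ne hx'
    have hle : Subgroup.zpowers (x : X) ≤ R := by
      rw [Subgroup.zpowers_le]
      exact x.2
    have hne : Subgroup.zpowers (x : X) ≠ ⊥ := by
      intro h
      rw [Subgroup.zpowers_eq_bot] at h
      exact hx1 h
    have hsup : K ⊔ Subgroup.zpowers (x : X) ≤ K ⊔ R := sup_le_sup_left hle K
    have h1 := Cfsg.Agent.Lib.Helper98.FW.fw_formula' K (Subgroup.zpowers (x : X)) hne
      (hle.trans hRK) (fun e he => hfpf e (hle he)) M (hsup.trans (sup_le hKM hRM)) hsolvM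
      (Nat.Coprime.coprime_dvd_right (Subgroup.card_dvd_of_le hsup) hcop.symm)
    have hcz : Subgroup.centralizer ((Subgroup.zpowers (x : X) : Subgroup X) : Set X)
        = Subgroup.centralizer {(x : X)} := by
      rw [Subgroup.zpowers_eq_closure, Subgroup.centralizer_closure]
    rw [hbot, hCK, hcz, hpr x x.2 hx1, Nat.card_zpowers, hx'] at h1
    have h2 : Nat.card M = Nat.card ↥(M ⊓ Subgroup.centralizer (R : Set X)) ^ p := by
      simpa using h1
    have h3 : 2 ≤ Nat.card ↥(M ⊓ Subgroup.centralizer (R : Set X)) := by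
      by_contra hlt
      have h4 : Nat.card ↥(M ⊓ Subgroup.centralizer (R : Set X)) = 1 := by
        have := Nat.card_pos (α := ↥(M ⊓ Subgroup.centralizer (R : Set X)))
        omega
      rw [h4, one_pow] at h2
      exact hM2 h2
    have h5 : p = Nat.card R := Nat.pow_right_injective h3 (h2.symm.trans hb)
    rw [← h5]
    exact hp
  · intro hcyc
    exact Cfsg.Agent.Lib.Helper98.FW.fw_derived' K R hR1 hRK hfpf M (sup_le hKM hRM) hsolvM
      hcop.symm hcyc

end Cfsg.Agent.S1446
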