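import Cfsg.Statements.S2007
import Cfsg.Agent.Lib.Helper40.PComp
import Cfsg.Agent.Lib.Helper40.RelSylow

set_option autoImplicit false
open Cfsg

namespace Cfsg.Agent.S2007

open Cfsg.Agent.Lib.Helper40

/-- Let p be a prime, G a finite group with Sylow p-subgroup S, and T a normal subgroup of S containing C_S(T). If N_G(T)/C_G(T) is a p-group (every element of N_G(T) of order prime to p centralizes T), then N_G(T) has a normal p-complement. -/
theorem result {G : Type*} [Group G] [Finite G] {p : ℕ} [Fact p.Prime] (S : Sylow p G) (T : Subgroup G) (hTS : T ≤ (S : Subgroup G)) (hTn : (S : Subgroup G) ≤ Subgroup.normalizer ((T : Subgroup G) : Set G)) (hC : (S : Subgroup G) ⊓ Subgroup.centralizer ((T : Subgroup G) : Set G) ≤ T) (hN : ∀ g ∈ Subgroup.normalizer ((T : Subgroup G) : Set G), (orderOf g).Coprime p → g ∈ Subgroup.centralizer ((T : Subgroup G) : Set G)) : Cfsg.HasNormalPComplement p ↥(Subgroup.normalizer ((T : Subgroup G) : Set G)) := by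
  classical
  set N := Subgroup.normalizer ((T : Subgroup G) : Set G) with hNdef
  set C := Subgroup.centralizer ((T : Subgroup G) : Set G) with hCdef
  have hCN : C ≤ N := Subgroup.centralizer_le_normalizer _
  have hNC : N ≤ Subgroup.normalizer (C : Set G) := by
    intro n hn
    rw [mem_normalizer_iff_cj_eq, hCdef, cj_centralizer, cj_eq_of_mem_normalizer hn]
  have hSN : RelSylow p (S : Subgroup G) N := relSylow_of_sylow S hTn
  have hZ : RelSylow p ((S : Subgroup G) ⊓ C) C := hSN.inf_normal hCN hNC
  let Z : Sylow p C := hZ.toSylow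
  have hZc : Subgroup.normalizer ((Z : Subgroup C) : Set C) ≤
      Subgroup.centralizer ((Z : Subgroup C) : Set C) := by
    intro c _
    rw [Subgroup.mem_centralizer_iff]
    intro z hz
    have hz' : (z : G) ∈ (S : Subgroup G) ⊓ C := hz
    have hzT : (z : G) ∈ T := hC hz'
    have := (Subgroup.mem_centralizer_iff.1 c.2) z hzT
    exact Subtype.ext this
  have hCcomp : HasNormalPComplement p C :=
    ⟨Z, (MonoidHom.transferSylow Z hZc).ker, inferInstance,
      MonoidHom.ker_transferSylow_isComplement' Z hZc⟩
  obtain ⟨K, hKn, hK1, hK2, hK3⟩ := HasNormalPComplement.exists_normal hCcomp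
  let K' : Subgroup N := (K.map C.subtype).subgroupOf N
  have hmem : ∀ x : N, x ∈ K' ↔ (orderOf x).Coprime p := by
    intro x
    constructor
    · rintro ⟨c, hc, hcx⟩
      have h1 := (hK3 c).1 hc
      have h2 : orderOf (c : G) = orderOf c := Subgroup.orderOf_coe c
      have h3 : orderOf (x : G) = orderOf x := Subgroup.orderOf_coe x
      have h4 : (c : G) = (x : G) := hcx
      rw [← h3, ← h4, h2]; exact h1
    · intro hx
      have h3 : orderOf (x : G) = orderOf x := Subgroup.orderOf_coe x
      have hxC : (x : G) ∈ C := hN x x.2 (by rw [h3]; exact hx)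
      refine ⟨⟨x, hxC⟩, (hK3 _).2 ?_, rfl⟩
      have h2 : orderOf ((⟨x, hxC⟩ : C) : G) = orderOf (⟨x, hxC⟩ : C) := Subgroup.orderOf_coe _
      rw [← h2, h3]; exact hx
  have hK'n : K'.Normal := by
    constructor
    intro x hx n
    rw [hmem] at hx ⊢
    have : orderOf (n * x * n⁻¹) = orderOf x :=
      orderOf_injective (MulAut.conj n).toMonoidHom (MulAut.conj n).injective x
    rw [this]; exact hx
  have hle : K.map C.subtype ≤ N := (Subgroup.map_subtype_le _).trans hCN
  have hcard : Nat.card K' = Nat.card K := by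
    rw [Nat.card_congr (Subgroup.subgroupOfEquivOfLe hle).toEquiv,
      Subgroup.card_map_of_injective C.subtype_injective]
  exact hasNormalPComplement_of_coprime_mem K' (by rw [hcard]; exact hK1)
    (fun g hg => (hmem g).2 hg)

end Cfsg.Agent.S2007
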