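import Cfsg.Statements.S0854
import Mathlib
import Cfsg.Agent.Lib.Helper19.GramRigid
import Cfsg.Agent.Lib.Helper5.Clifford

set_option autoImplicit false
open Cfsg

namespace Cfsg.Agent.S0854

open Cfsg.Agent.Lib.Helper19 Cfsg.Agent.Lib.Helper20 Cfsg.Agent.Lib.Helper5
open scoped ComplexConjugate

theorem norm_ind {G : Type*} [Group G] [Fintype G] (H : Subgroup G) [hN : H.Normal]
    (ϑ : H → ℂ) (hϑ : Cfsg.IsIrrCharacter H ϑ) (T : Subgroup G)
    (hT : ∀ g : G, g ∈ T ↔ ∀ n : H, ϑ ⟨g * n * g⁻¹, hN.conj_mem (n : G) n.2 g⟩ = ϑ n) :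
    classInner (indFun H ϑ) (indFun H ϑ) = (Nat.card H : ℂ)⁻¹ * (Nat.card T : ℂ) := by
  classical
  haveI : Fintype H := Fintype.ofFinite H
  rw [frobenius_reciprocity H ϑ _ (indFun_isClassFunction H ϑ), indFun_restrict_normal hN ϑ,
    classInner_smul_right, classInner_sum_right]
  have h1 : ∀ x : G, classInner ϑ (cjF hN ϑ x) = if x ∈ T then 1 else 0 := by
    intro x
    rw [classInner_irr hϑ (isIrrCharacter_cjF hN hϑ x)]
    have : ϑ = cjF hN ϑ x ↔ x ∈ T := by
      rw [hT x]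
      constructor
      · intro h n
        exact (congrFun h n).symm
      · intro h
        funext n
        exact (h n).symm
    by_cases hx : x ∈ T
    · rw [if_pos hx, if_pos (this.mpr hx)]
    · rw [if_neg hx, if_neg (fun h => hx (this.mp h))]
  simp only [h1]
  rw [Finset.sum_ite, Finset.sum_const_zero, add_zero, Finset.sum_const, nsmul_eq_mul, mul_one]
  congr 1
  · simp
  · congr 1
    rw [Nat.card_eq_fintype_card, Fintype.card_subtype]


/-- Let H be a normal subgroup of the finite group G, ϑ an irreducible character of H, and T the inertia group of ϑ (the elements g with ϑ(g n g⁻¹) = ϑ(n) for all n in H). If χ is an irreducible character of G whose restriction to H has nonzero inner product with ϑ, then χ is induced from some irreducible character ψ of T, and the restrictions of ψ and of χ to H have the same inner product with ϑ. -/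
theorem result {G : Type*} [Group G] [Fintype G] (H : Subgroup G) [hN : H.Normal] [Fintype H] (ϑ : H → ℂ) (hϑ : Cfsg.IsIrrCharacter H ϑ) (T : Subgroup G) [Fintype T] (hT : ∀ g : G, g ∈ T ↔ ∀ n : H, ϑ ⟨g * n * g⁻¹, hN.conj_mem (n : G) n.2 g⟩ = ϑ n) (hHT : H ≤ T) (χ : G → ℂ) (hχ : Cfsg.IsIrrCharacter G χ) (hcon : Cfsg.classInner (fun n : H => χ n) ϑ ≠ 0) : ∃ ψ : T → ℂ, Cfsg.IsIrrCharacter T ψ ∧ Cfsg.indFun T ψ = χ ∧ Cfsg.classInner (fun n : H => ψ ⟨(n : G), hHT n.2⟩) ϑ = Cfsg.classInner (fun n : H => χ n) ϑ := by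
  classical
  haveI := finite_irrCharacter (G := T)
  haveI := Fintype.ofFinite (IrrCharacter T)
  have hχc := isCharacter_of_isIrrCharacter hχ
  have hχcl := isClassFunction_of_isCharacter hχc
  set H' : Subgroup T := H.subgroupOf T with hH'
  haveI hH'n : H'.Normal := Subgroup.Normal.subgroupOf hN T
  let e : H' ≃* H := Subgroup.subgroupOfEquivOfLe hHT
  set ϑ' : H' → ℂ := fun x => ϑ ⟨((x : T) : G), Subgroup.mem_subgroupOf.mp x.2⟩ with hϑ'def
  have hϑ'e : ϑ' = ϑ ∘ e := by
    funext x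
    rfl
  have hϑ' : IsIrrCharacter H' ϑ' := by
    rw [hϑ'e]; exact isIrrCharacter_comp_equiv e hϑ
  have hinv' : ∀ (t : T) (x : H'), ϑ' ⟨t * x * t⁻¹, hH'n.conj_mem (x : T) x.2 t⟩ = ϑ' x := by
    intro t x
    exact (hT t).mp t.2 ⟨((x : T) : G), Subgroup.mem_subgroupOf.mp x.2⟩
  have hindc : IsCharacter T (indFun H' ϑ') :=
    isCharacter_indFun H' ϑ' (isCharacter_of_isIrrCharacter hϑ')
  have hf : ∀ ψ : IrrCharacter T, ∃ n : ℕ, classInner (indFun H' ϑ') (ψ : T → ℂ) = n :=
    fun ψ => isCharacter_classInner_nat hindc ψ.2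
  choose f hf using hf
  have hexp : indFun H' ϑ' = ∑ ψ : IrrCharacter T, (f ψ : ℂ) • (ψ : T → ℂ) := by
    conv_lhs => rw [eq_sum_classInner_smul (indFun_isClassFunction H' ϑ')]
    simp only [hf]
  have hexpG : indFun H ϑ = ∑ ψ : IrrCharacter T, (f ψ : ℂ) • indFun T (ψ : T → ℂ) := by
    rw [← indFun_trans H T hHT ϑ]
    show indFun T (indFun H' ϑ') = _
    rw [hexp, indFun_sum]
    simp only [indFun_smul]
  have n1 : ((∑ ψ : IrrCharacter T, (f ψ) ^ 2 : ℕ) : ℂ) = (H'.index : ℂ) := by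
    rw [← classInner_indFun_self_of_invariant H' ϑ' hϑ' hinv']
    conv_rhs => rw [hexp, classInner_sum_left]
    push_cast
    apply Finset.sum_congr rfl
    intro β _
    rw [classInner_smul_left, ← hexp, ← classInner_conj_symm, hf]
    simp [pow_two]
  have hidx : (H'.index : ℂ) = (Nat.card H : ℂ)⁻¹ * (Nat.card T : ℂ) := by
    rw [Cfsg.Agent.Lib.Helper19.index_eq_div H', Nat.card_congr e.toEquiv]
  have hnorm : classInner (∑ ψ : IrrCharacter T, (f ψ : ℂ) • indFun T (ψ : T → ℂ))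
      (∑ ψ : IrrCharacter T, (f ψ : ℂ) • indFun T (ψ : T → ℂ))
      = ((∑ ψ : IrrCharacter T, (f ψ) ^ 2 : ℕ) : ℂ) := by
    rw [← hexpG, norm_ind H ϑ hϑ T hT, n1, hidx]
  have hF0 : ∀ ψ : IrrCharacter T, indFun T (ψ : T → ℂ) ≠ 0 := by
    intro ψ h0
    have h1 := congrFun h0 1
    rw [indFun_apply_one, Pi.zero_apply] at h1
    rcases mul_eq_zero.mp h1 with h2 | h2
    · have : T.index ≠ 0 := Subgroup.index_ne_zero_of_finite
      exact this (by exact_mod_cast h2)
    · exact irr_one_ne_zero ψ.2 h2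
  obtain ⟨hirr, horth⟩ := irr_of_norm_eq f (fun ψ : IrrCharacter T => indFun T (ψ : T → ℂ))
    (fun ψ => isCharacter_indFun T _ (isCharacter_of_isIrrCharacter ψ.2)) hF0 hnorm
  -- the constituent
  have hc1 : classInner (indFun H ϑ) χ = conj (classInner (fun n : H => χ n) ϑ) := by
    rw [frobenius_reciprocity H ϑ χ hχcl, classInner_conj_symm]
  have hc2 : classInner (indFun H ϑ) χ ≠ 0 := by
    rw [hc1]; exact (map_ne_zero _).mpr hcon
  have hc3 := hc2
  rw [hexpG, classInner_sum_left] at hc3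
  obtain ⟨ψ, _, hψ⟩ := Finset.exists_ne_zero_of_sum_ne_zero hc3
  rw [classInner_smul_left] at hψ
  have hψf : f ψ ≠ 0 := by
    intro h
    apply hψ
    rw [h]; simp
  have hψ2 : classInner (indFun T (ψ : T → ℂ)) χ ≠ 0 := right_ne_zero_of_mul hψ
  have hψχ : indFun T (ψ : T → ℂ) = χ := by
    by_contra hne
    exact hψ2 (classInner_irr_ne (hirr ψ hψf) hχ hne)
  refine ⟨ψ, ψ.2, hψχ, ?_⟩
  -- multiplicities
  have hm1 : classInner (indFun H ϑ) χ = (f ψ : ℂ) := by
    rw [hexpG, classInner_sum_left, Finset.sum_eq_single ψ]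
    · rw [classInner_smul_left, hψχ, classInner_irr_self hχ, mul_one]
    · intro γ _ hγ
      rw [classInner_smul_left]
      by_cases hγf : f γ = 0
      · rw [hγf]; simp
      · rw [← hψχ, horth γ ψ hγf hψf (Ne.symm hγ), mul_zero]
    · intro h; exact absurd (Finset.mem_univ _) h
  have hm2 : classInner (fun n : H => χ n) ϑ = (f ψ : ℂ) := by
    have := congrArg conj hc1
    rw [Complex.conj_conj, hm1] at this
    rw [← this]; simp
  rw [hm2]
  have hm3 : classInner ϑ' (fun x : H' => (ψ : T → ℂ) x) = (f ψ : ℂ) := by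
    rw [← frobenius_reciprocity H' ϑ' _
      (isClassFunction_of_isCharacter (isCharacter_of_isIrrCharacter ψ.2)), hf]
  have hm4 : classInner ϑ' (fun x : H' => (ψ : T → ℂ) x)
      = classInner ϑ (fun n : H => (ψ : T → ℂ) ⟨(n : G), hHT n.2⟩) := by
    rw [hϑ'e]
    have : (fun x : H' => (ψ : T → ℂ) x) = (fun n : H => (ψ : T → ℂ) ⟨(n : G), hHT n.2⟩) ∘ e := by
      funext x
      rfl
    rw [this, classInner_comp_equiv]
  rw [← classInner_conj_symm, ← hm4, hm3]
  simp

end Cfsg.Agent.S0854
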