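import Cfsg.Statements.S0857
import Cfsg.Agent.Lib.Helper19.GoingDown2

set_option autoImplicit false
open Cfsg

namespace Cfsg.Agent.S0857

/-- Let L < K be normal subgroups of the finite group G with no normal subgroup of G strictly between them and with K / L abelian (the commutator subgroup of K lies in L). Let ϑ be an irreducible character of K invariant under conjugation by G. Then the restriction of ϑ to L is irreducible; or it equals e times an irreducible character of L with e ^ 2 equal to the index of L in K; or it is the sum of a family of pairwise distinct irreducible characters of L indexed by a set whose size is the index of L in K. -/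
theorem result {G : Type*} [Group G] [Fintype G] (K L : Subgroup G) [hK : K.Normal] [L.Normal] (hLK : L < K) (hchief : ∀ M : Subgroup G, M.Normal → L ≤ M → M ≤ K → M = L ∨ M = K) (hab : ⁅K, K⁆ ≤ L) (ϑ : K → ℂ) (hϑ : Cfsg.IsIrrCharacter K ϑ) (hinv : ∀ (g : G) (n : K), ϑ ⟨g * n * g⁻¹, hK.conj_mem (n : G) n.2 g⟩ = ϑ n) : Cfsg.IsIrrCharacter L (fun x : L => ϑ ⟨(x : G), hLK.le x.2⟩) ∨ (∃ (φ : L → ℂ) (e : ℕ), Cfsg.IsIrrCharacter L φ ∧ (fun x : L => ϑ ⟨(x : G), hLK.le x.2⟩) = (e : ℂ) • φ ∧ e ^ 2 = L.relIndex K) ∨ (∃ F : Finset (L → ℂ), (∀ φ ∈ F, Cfsg.IsIrrCharacter L φ) ∧ F.card = L.relIndex K ∧ (fun x : L => ϑ ⟨(x : G), hLK.le x.2⟩) = ∑ φ ∈ F, φ) := by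
  classical
  haveI : Fintype K := Fintype.ofFinite K
  haveI : Fintype (L.subgroupOf K) := Fintype.ofFinite _
  have hab' : commutator K ≤ L.subgroupOf K := by
    intro x hx
    rw [Subgroup.mem_subgroupOf]
    apply hab
    rw [← Subgroup.map_subtype_commutator]
    exact ⟨x, hx, rfl⟩
  let A : Set (MulAut K) := Set.range (fun g : G => (MulAut.conjNormal g : MulAut K))
  have h1 : ∀ α ∈ A, ∀ x ∈ L.subgroupOf K, α x ∈ L.subgroupOf K := by
    rintro _ ⟨g, rfl⟩ x hx
    rw [Subgroup.mem_subgroupOf] at hx ⊢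
    show g * (x : G) * g⁻¹ ∈ L
    exact Subgroup.Normal.conj_mem inferInstance _ hx g
  have h2 : ∀ α ∈ A, ∀ x, ϑ (α x) = ϑ x := by
    rintro _ ⟨g, rfl⟩ x
    exact hinv g x
  have h3 : ∀ X : Subgroup K, L.subgroupOf K ≤ X → (∀ α ∈ A, ∀ x ∈ X, α x ∈ X) →
      X = L.subgroupOf K ∨ X = ⊤ := by
    intro X hMX hX
    have hXn : (X.map K.subtype).Normal := by
      constructor
      rintro _ ⟨x, hx, rfl⟩ g
      exact ⟨MulAut.conjNormal g x, hX _ ⟨g, rfl⟩ x hx, rfl⟩
    have hLX : L ≤ X.map K.subtype := by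
      intro l hl
      exact ⟨⟨l, hLK.le hl⟩, hMX (Subgroup.mem_subgroupOf.mpr hl), rfl⟩
    have hXK : X.map K.subtype ≤ K := by
      rintro _ ⟨x, -, rfl⟩
      exact x.2
    have hXeq : X = (X.map K.subtype).subgroupOf K :=
      (Subgroup.comap_map_eq_self_of_injective K.subtype_injective X).symm
    rcases hchief _ hXn hLX hXK with h | h
    · left; rw [hXeq, h]
    · right; rw [hXeq, h, Subgroup.subgroupOf_self]
  let e : L.subgroupOf K ≃* L := Subgroup.subgroupOfEquivOfLe hLK.le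
  have hres : (fun x : L => ϑ ⟨(x : G), hLK.le x.2⟩) =
      (fun m : L.subgroupOf K => ϑ m) ∘ e.symm := rfl
  rcases Cfsg.Agent.Lib.Helper19.going_down_internal (L.subgroupOf K) hab' A h1 hϑ h2 h3 with
    h | ⟨φ, k, hφ, hk, hk2⟩ | ⟨F, hF, hFc, hFs⟩
  · left
    rw [hres]
    exact Cfsg.Agent.Lib.Helper5.isIrrCharacter_comp_equiv e.symm h
  · right; left
    refine ⟨φ ∘ e.symm, k, Cfsg.Agent.Lib.Helper5.isIrrCharacter_comp_equiv e.symm hφ, ?_, hk2⟩
    rw [hres, hk]
    rfl
  · right; right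
    have hinj : Function.Injective (fun φ : L.subgroupOf K → ℂ => φ ∘ e.symm) := by
      intro a b hab2
      funext m
      have := congrFun hab2 (e m)
      simpa using this
    refine ⟨F.image (fun φ => φ ∘ e.symm), ?_, ?_, ?_⟩
    · intro ψ hψ
      rw [Finset.mem_image] at hψ
      obtain ⟨φ, hφ, rfl⟩ := hψ
      exact Cfsg.Agent.Lib.Helper5.isIrrCharacter_comp_equiv e.symm (hF φ hφ)
    · rw [Finset.card_image_of_injective _ hinj, hFc]
      rfl
    · rw [hres, hFs, Finset.sum_image (fun a _ b _ h => hinj h)]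
      funext x
      simp

end Cfsg.Agent.S0857
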