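import Cfsg.Statements.S0858
import Cfsg.Agent.Lib.Helper19.SubTransfer
import Cfsg.Agent.Lib.Helper5.Inertia
import Cfsg.Agent.S0857
import Cfsg.Agent.S0854

set_option autoImplicit false
open Cfsg

namespace Cfsg.Agent.S0858


open Cfsg.Agent.Lib.Helper20 Cfsg.Agent.Lib.Helper19 Cfsg.Agent.Lib.Helper5

/-- the hypothesis on chief factors -/
def ChiefHyp (G : Type*) [Group G] (N : Subgroup G) : Prop :=
  ∀ (H K L : Subgroup G), N ≤ L → L < K → K ≤ H → (∀ h ∈ H, ∀ k ∈ K, h * k * h⁻¹ ∈ K) →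
    (∀ h ∈ H, ∀ l ∈ L, h * l * h⁻¹ ∈ L) →
    (∀ M : Subgroup G, L ≤ M → M ≤ K → (∀ h ∈ H, ∀ m ∈ M, h * m * h⁻¹ ∈ M) → M = L ∨ M = K) →
    ¬ IsSquare (L.relIndex K)

theorem ChiefHyp.subgroup {G : Type*} [Group G] {N : Subgroup G} (h : ChiefHyp G N)
    (T : Subgroup G) (hNT : N ≤ T) : ChiefHyp T (N.subgroupOf T) := by
  intro H' K' L' hNL hLK hKH hK hL hmin
  have hinj := T.subtype_injective
  rw [← Subgroup.relIndex_map_map_of_injective L' K' hinj]
  apply h (H'.map T.subtype) (K'.map T.subtype) (L'.map T.subtype)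
  · exact le_map_subtype_of_subgroupOf_le T L' N hNT hNL
  · exact (Subgroup.map_lt_map_iff_of_injective hinj).mpr hLK
  · exact Subgroup.map_mono hKH
  · rintro _ ⟨a, ha, rfl⟩ _ ⟨k, hk, rfl⟩
    exact ⟨a * k * a⁻¹, hK a ha k hk, by simp⟩
  · rintro _ ⟨a, ha, rfl⟩ _ ⟨k, hk, rfl⟩
    exact ⟨a * k * a⁻¹, hL a ha k hk, by simp⟩
  · intro M hLM hMK hM
    have hMr : M ≤ T.subtype.range := by
      rw [Subgroup.range_subtype]
      exact hMK.trans (map_subtype_le T K')
    have hMeq : (M.comap T.subtype).map T.subtype = M := Subgroup.map_comap_eq_self hMr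
    have h1 : L' ≤ M.comap T.subtype := by
      intro x hx
      exact hLM ⟨x, hx, rfl⟩
    have h2 : M.comap T.subtype ≤ K' := by
      intro x hx
      obtain ⟨y, hy, hyx⟩ := hMK hx
      rw [← hinj hyx]; exact hy
    have h3 : ∀ a ∈ H', ∀ m ∈ M.comap T.subtype, a * m * a⁻¹ ∈ M.comap T.subtype := by
      intro a ha m hm
      have := hM (a : G) ⟨a, ha, rfl⟩ (m : G) hm
      exact this
    rcases hmin _ h1 h2 h3 with h4 | h4
    · left; rw [← hMeq, h4]
    · right; rw [← hMeq, h4]

theorem solvable_subgroup {G : Type*} [Group G] (N : Subgroup G) [N.Normal]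
    (hs : Group.IsSolvable (G ⧸ N)) (T : Subgroup G) :
    Group.IsSolvable (T ⧸ N.subgroupOf T) := by
  let f : T ⧸ N.subgroupOf T →* G ⧸ N :=
    QuotientGroup.map (N.subgroupOf T) N T.subtype (le_refl _)
  have hf : Function.Injective f := by
    rw [injective_iff_map_eq_one]
    intro a ha
    induction a using QuotientGroup.induction_on with
    | H x =>
      have h1 : ((x : G) : G ⧸ N) = 1 := ha
      rw [QuotientGroup.eq_one_iff] at h1 ⊢
      exact Subgroup.mem_subgroupOf.mpr h1
  exact Group.isSolvable_of_isSolvable_injective hf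

theorem comm_sup_lt {G : Type*} [Group G] (N : Subgroup G) [N.Normal]
    (hs : Group.IsSolvable (G ⧸ N)) (K : Subgroup G) (hNK : N < K) : ⁅K, K⁆ ⊔ N < K := by
  refine lt_of_le_of_ne (sup_le (Subgroup.commutator_le_self K) hNK.le) ?_
  intro heq
  have hne : K.map (QuotientGroup.mk' N) ≠ ⊥ := by
    intro h
    apply not_le_of_gt hNK
    intro k hk
    have h1 : (QuotientGroup.mk' N) k ∈ K.map (QuotientGroup.mk' N) := ⟨k, hk, rfl⟩
    rw [h, Subgroup.mem_bot] at h1
    exact (QuotientGroup.eq_one_iff k).mp h1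
  have h1 := Group.IsSolvable.commutator_lt_of_ne_bot hne
  have h2 : K.map (QuotientGroup.mk' N) =
      ⁅K.map (QuotientGroup.mk' N), K.map (QuotientGroup.mk' N)⁆ := by
    conv_lhs => rw [← heq]
    rw [Subgroup.map_sup, Subgroup.map_commutator]
    have : N.map (QuotientGroup.mk' N) = ⊥ := by
      rw [← le_bot_iff, Subgroup.map_le_iff_le_comap]
      intro n hn
      rw [Subgroup.mem_comap, Subgroup.mem_bot]
      exact (QuotientGroup.eq_one_iff n).mpr hn
    rw [this, sup_bot_eq]
  exact absurd h2.symm h1.ne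

theorem inner_sum_irr {L : Type*} [Group L] [Fintype L] (F : Finset (L → ℂ))
    (hF : ∀ φ ∈ F, Cfsg.IsIrrCharacter L φ) (φ₁ : L → ℂ) (h1 : φ₁ ∈ F) :
    Cfsg.classInner (∑ φ ∈ F, φ) φ₁ = 1 := by
  classical
  rw [classInner_sum_left]
  have : ∀ φ ∈ F, Cfsg.classInner φ φ₁ = if φ = φ₁ then 1 else 0 := fun φ hφ =>
    classInner_irr (hF φ hφ) (hF φ₁ h1)
  rw [Finset.sum_congr rfl this, Finset.sum_ite_eq' F φ₁, if_pos h1]

theorem main : ∀ (n : ℕ) (G : Type*) [Group G] [Fintype G] (N : Subgroup G) [N.Normal],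
    Nat.card G = n → Group.IsSolvable (G ⧸ N) → ChiefHyp G N → ∀ χ : G → ℂ,
    Cfsg.IsIrrCharacter G χ → ∃ (H : Subgroup G) (hNH : N ≤ H) (ψ : H → ℂ),
      Cfsg.IsIrrCharacter H ψ ∧ Cfsg.indFun H ψ = χ ∧
      Cfsg.IsIrrCharacter N (fun n : N => ψ ⟨(n : G), hNH n.2⟩) := by
  intro n
  induction n using Nat.strong_induction_on with
  | _ n ih =>
    intro G _ _ N _ hn hsolv hchief χ hχ
    classical
    have hχc := isCharacter_of_isIrrCharacter hχ
    have hχcl := isClassFunction_of_isCharacter hχc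
    let KK : Set (Subgroup G) :=
      {K | K.Normal ∧ N ≤ K ∧ Cfsg.IsIrrCharacter K (fun x : K => χ x)}
    have htop : ⊤ ∈ KK := ⟨inferInstance, le_top, isIrrCharacter_top_restrict hχ⟩
    obtain ⟨K, hKmin⟩ := (Set.toFinite KK).exists_minimal ⟨⊤, htop⟩
    obtain ⟨hKn, hNK, hKirr⟩ := hKmin.prop
    by_cases hKN : K = N
    · refine ⟨⊤, le_top, fun x => χ x, isIrrCharacter_top_restrict hχ,
        indFun_top_restrict hχcl, ?_⟩
      rw [hKN] at hKirr
      exact hKirr
    · have hlt : N < K := lt_of_le_of_ne hNK (Ne.symm hKN)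
      have hD := comm_sup_lt N hsolv K hlt
      let LL : Set (Subgroup G) := {L | L.Normal ∧ ⁅K, K⁆ ⊔ N ≤ L ∧ L < K}
      have hDmem : ⁅K, K⁆ ⊔ N ∈ LL := ⟨inferInstance, le_rfl, hD⟩
      obtain ⟨L, hLmax⟩ := (Set.toFinite LL).exists_maximal ⟨_, hDmem⟩
      obtain ⟨hLn, hDL, hLK⟩ := hLmax.prop
      have hNL : N ≤ L := le_sup_right.trans hDL
      have hab : ⁅K, K⁆ ≤ L := le_sup_left.trans hDL
      have hch : ∀ M : Subgroup G, M.Normal → L ≤ M → M ≤ K → M = L ∨ M = K := by
        intro M hMn hLM hMK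
        by_cases hMK' : M = K
        · right; exact hMK'
        · left
          have : M ∈ LL := ⟨hMn, hDL.trans hLM, lt_of_le_of_ne hMK hMK'⟩
          exact le_antisymm (hLmax.le_of_ge this hLM) hLM
      have hinv : ∀ (g : G) (x : K), (fun x : K => χ x) ⟨g * x * g⁻¹, hKn.conj_mem (x : G) x.2 g⟩
          = (fun x : K => χ x) x := fun g x => hχcl x g
      rcases Cfsg.Agent.S0857.result K L hLK hch hab (fun x : K => χ x) hKirr hinv with
        h | ⟨φ, e, hφ, he, he2⟩ | ⟨F, hF, hFc, hFs⟩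
      · exfalso
        have : L ∈ KK := ⟨hLn, hNL, h⟩
        exact absurd (hKmin.le_of_le this hLK.le) (not_le_of_gt hLK)
      · exfalso
        refine hchief ⊤ K L hNL hLK le_top (fun h _ k hk => hKn.conj_mem k hk h)
          (fun h _ k hk => hLn.conj_mem k hk h) ?_ ⟨e, by rw [← he2]; ring⟩
        intro M hLM hMK hM
        exact hch M ⟨fun m hm g => hM g (Subgroup.mem_top g) m hm⟩ hLM hMK
      · have hFs' : (fun x : L => χ x) = ∑ φ ∈ F, φ := hFs
        have hcard : 1 < F.card := by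
          rw [hFc]
          have h1 : L.relIndex K ≠ 1 := fun h => not_le_of_gt hLK (Subgroup.relIndex_eq_one.mp h)
          have h0 : L.relIndex K ≠ 0 := (L.subgroupOf K).index_ne_zero_of_finite
          omega
        obtain ⟨φ₁, h1, φ₂, h2, hne⟩ := Finset.one_lt_card.mp hcard
        haveI : Fintype L := Fintype.ofFinite L
        have hc1 : Cfsg.classInner (fun x : L => χ x) φ₁ = 1 := by
          rw [hFs']; exact inner_sum_irr F hF φ₁ h1
        have hc2 : Cfsg.classInner (fun x : L => χ x) φ₂ = 1 := by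
          rw [hFs']; exact inner_sum_irr F hF φ₂ h2
        set T := inertia hLn φ₁ with hTdef
        haveI : Fintype T := Fintype.ofFinite T
        have hLT : L ≤ T :=
          le_inertia hLn (isClassFunction_of_isCharacter (isCharacter_of_isIrrCharacter (hF φ₁ h1)))
        have hTtop : T ≠ ⊤ := by
          intro htop'
          have hinv' : ∀ g : G, cjF hLn φ₁ g = φ₁ := by
            intro g
            rw [← mem_inertia, ← hTdef, htop']; exact Subgroup.mem_top g
          have h3 := clifford_invariant hLn hχ (hF φ₁ h1) (by rw [hc1]; exact one_ne_zero) hinv'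
          rw [h3, classInner_smul_left, classInner_irr_ne (hF φ₁ h1) (hF φ₂ h2) hne,
            mul_zero] at hc2
          exact zero_ne_one hc2
        obtain ⟨ψ, hψ, hψind, -⟩ := Cfsg.Agent.S0854.result L φ₁ (hF φ₁ h1) T
          (fun g => mem_inertia' hLn φ₁ g) hLT χ hχ (by rw [hc1]; exact one_ne_zero)
        have hNT : N ≤ T := hNL.trans hLT
        have hltc : Nat.card T < n := by
          rw [← hn]
          exact lt_of_le_of_ne (Subgroup.card_le_card_group T)
            (fun h => hTtop (Subgroup.eq_top_of_card_eq T h))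
        obtain ⟨H', hNH', η', hη', hind, hres⟩ := ih (Nat.card T) hltc T (N.subgroupOf T) rfl
          (solvable_subgroup N hsolv T) (hchief.subgroup T hNT) ψ hψ
        refine ⟨H'.map T.subtype, le_map_subtype_of_subgroupOf_le T H' N hNT hNH',
          liftFun T H' η', isIrrCharacter_liftFun T H' hη', ?_, ?_⟩
        · rw [indFun_liftFun, hind, hψind]
        · rw [liftFun_restrict T H' η' N hNT hNH']
          exact isIrrCharacter_comp_equiv _ hres


/-- Let N be a normal subgroup of the finite group G with G / N solvable, and suppose that for every subgroup H containing N and all subgroups L < K between N and H that are normal in H with no subgroup normal in H strictly between them, the index of L in K is not a perfect square. Then every irreducible character χ of G is induced from an irreducible character ψ of some subgroup H containing N such that the restriction of ψ to N is irreducible. -/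
theorem result {G : Type*} [Group G] [Fintype G] (N : Subgroup G) [N.Normal] (hsolv : Group.IsSolvable (G ⧸ N)) (hchief : ∀ (H K L : Subgroup G), N ≤ L → L < K → K ≤ H → (∀ h ∈ H, ∀ k ∈ K, h * k * h⁻¹ ∈ K) → (∀ h ∈ H, ∀ l ∈ L, h * l * h⁻¹ ∈ L) → (∀ M : Subgroup G, L ≤ M → M ≤ K → (∀ h ∈ H, ∀ m ∈ M, h * m * h⁻¹ ∈ M) → M = L ∨ M = K) → ¬ IsSquare (L.relIndex K)) (χ : G → ℂ) (hχ : Cfsg.IsIrrCharacter G χ) : ∃ (H : Subgroup G) (hNH : N ≤ H) (ψ : H → ℂ), Cfsg.IsIrrCharacter H ψ ∧ Cfsg.indFun H ψ = χ ∧ Cfsg.IsIrrCharacter N (fun n : N => ψ ⟨(n : G), hNH n.2⟩) := by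
  exact main (Nat.card G) G N rfl hsolv hchief χ hχ

end Cfsg.Agent.S0858
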