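import Cfsg.Statements.S0598
-- import your own Cfsg.Agent.* helpers here
import Cfsg.Agent.Lib.Helper13.Thompson

set_option autoImplicit false
open Cfsg

namespace Cfsg.Agent.S0598

open scoped commutatorElement
open Subgroup

section
variable {G : Type*} [Group G]

theorem centralizer_sup_eq (X Y : Subgroup G) :
    centralizer ((X ⊔ Y : Subgroup G) : Set G) = centralizer (X : Set G) ⊓ centralizer (Y : Set G) := by
  apply le_antisymm
  · exact le_inf (centralizer_le (by exact_mod_cast (le_sup_left : X ≤ X ⊔ Y)))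
      (centralizer_le (by exact_mod_cast (le_sup_right : Y ≤ X ⊔ Y)))
  · rw [le_centralizer_iff]
    apply sup_le
    · rw [le_centralizer_iff]
      exact inf_le_left
    · rw [le_centralizer_iff]
      exact inf_le_right

/-- the fixed points of `X` on `V` -/
def cv (V X : Subgroup G) : Subgroup G := V ⊓ centralizer (X : Set G)

theorem mem_cv {V X : Subgroup G} {x : G} : x ∈ cv V X ↔ x ∈ V ∧ ∀ a ∈ X, a * x = x * a := by
  unfold cv
  rw [Subgroup.mem_inf, Subgroup.mem_centralizer_iff]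
  rfl

theorem cv_anti (V : Subgroup G) {X Y : Subgroup G} (h : X ≤ Y) : cv V Y ≤ cv V X :=
  inf_le_inf le_rfl (centralizer_le (by exact_mod_cast h))

theorem cv_sup (V X Y : Subgroup G) : cv V (X ⊔ Y) = cv V X ⊓ cv V Y := by
  unfold cv
  rw [centralizer_sup_eq, inf_inf_distrib_left]

/-- the set of commutators `[u, a]`, `u ∈ T`, `a ∈ A` -/
def cs (A : Subgroup G) (T : Set G) : Set G := {g | ∃ u ∈ T, ∃ a ∈ A, ⁅u, a⁆ = g}

def cw (A : Subgroup G) (T : Set G) : Subgroup G := closure (cs A T)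

def cb (A : Subgroup G) (T : Set G) : Subgroup G := A ⊓ centralizer (cw A T : Set G)

theorem mem_cb {A : Subgroup G} {T : Set G} {c : G} :
    c ∈ cb A T ↔ c ∈ A ∧ ∀ u ∈ T, ∀ a ∈ A, ⁅u, a⁆ * c = c * ⁅u, a⁆ := by
  unfold cb cw
  rw [Subgroup.mem_inf, centralizer_closure, Subgroup.mem_centralizer_iff]
  constructor
  · rintro ⟨h1, h2⟩
    exact ⟨h1, fun u hu a ha => h2 _ ⟨u, hu, a, ha, rfl⟩⟩
  · rintro ⟨h1, h2⟩
    refine ⟨h1, ?_⟩
    rintro _ ⟨u, hu, a, ha, rfl⟩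
    exact h2 u hu a ha

theorem cw_insert (A : Subgroup G) (u : G) (T : Set G) :
    cw A (insert u T) = cw A {u} ⊔ cw A T := by
  unfold cw
  rw [← Subgroup.closure_union]
  congr 1
  ext g
  simp only [cs, Set.mem_insert_iff, Set.mem_union, Set.mem_singleton_iff]
  constructor
  · rintro ⟨v, rfl | hv, a, ha, rfl⟩
    · exact Or.inl ⟨v, rfl, a, ha, rfl⟩
    · exact Or.inr ⟨v, hv, a, ha, rfl⟩
  · rintro (⟨v, rfl, a, ha, rfl⟩ | ⟨v, hv, a, ha, rfl⟩)
    · exact ⟨v, Or.inl rfl, a, ha, rfl⟩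
    · exact ⟨v, Or.inr hv, a, ha, rfl⟩

theorem cb_insert (A : Subgroup G) (u : G) (T : Set G) :
    cb A (insert u T) = cb A {u} ⊓ cb A T := by
  unfold cb
  rw [cw_insert, centralizer_sup_eq, inf_inf_distrib_left]

theorem cb_le (A : Subgroup G) (T : Set G) : cb A T ≤ A := inf_le_left

variable {V A : Subgroup G}

theorem comm_mem_V (hAV : A ≤ normalizer (V : Set G)) {u a : G} (hu : u ∈ V) (ha : a ∈ A) :
    ⁅u, a⁆ ∈ V :=
  (le_normalizer_iff_commutator_le_left.mp hAV) (commutator_mem_commutator hu ha)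

theorem conj_mem_V (hAV : A ≤ normalizer (V : Set G)) {u a : G} (hu : u ∈ V) (ha : a ∈ A) :
    a * u * a⁻¹ ∈ V :=
  (mem_normalizer_iff.mp (hAV ha) u).mp hu

theorem cw_le_V (hAV : A ≤ normalizer (V : Set G)) {T : Set G} (hT : T ⊆ V) : cw A T ≤ V := by
  unfold cw
  rw [closure_le]
  rintro _ ⟨u, hu, a, ha, rfl⟩
  exact comm_mem_V hAV (hT hu) ha

theorem cw_le_cv (hAV : A ≤ normalizer (V : Set G)) {T : Set G} (hT : T ⊆ V) :
    cw A T ≤ cv V (cb A T) := by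
  apply le_inf (cw_le_V hAV hT)
  rw [le_centralizer_iff]
  exact inf_le_right

theorem conj_conj_comm (hab : ⁅A, A⁆ ≤ centralizer (V : Set G)) {a c v : G} (ha : a ∈ A)
    (hc : c ∈ A) (hv : v ∈ V) : a * (c * v * c⁻¹) * a⁻¹ = c * (a * v * a⁻¹) * c⁻¹ := by
  have hk : ⁅a⁻¹, c⁻¹⁆ ∈ ⁅A, A⁆ := commutator_mem_commutator (A.inv_mem ha) (A.inv_mem hc)
  have h := mem_centralizer_iff.mp (hab hk) v hv
  rw [commutatorElement_def] at h
  calc a * (c * v * c⁻¹) * a⁻¹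
      = c * a * ((a⁻¹ * c⁻¹ * a⁻¹⁻¹ * c⁻¹⁻¹) * v) * (a⁻¹ * c⁻¹ * a⁻¹⁻¹ * c⁻¹⁻¹)⁻¹ * a⁻¹ * c⁻¹ := by
        group
    _ = c * a * (v * (a⁻¹ * c⁻¹ * a⁻¹⁻¹ * c⁻¹⁻¹)) * (a⁻¹ * c⁻¹ * a⁻¹⁻¹ * c⁻¹⁻¹)⁻¹ * a⁻¹ * c⁻¹ := by
        rw [h]
    _ = c * (a * v * a⁻¹) * c⁻¹ := by group

open scoped IsMulCommutative in
theorem key_iff [IsMulCommutative V] (hAV : A ≤ normalizer (V : Set G))
    (hab : ⁅A, A⁆ ≤ centralizer (V : Set G)) {a c u : G} (ha : a ∈ A) (hc : c ∈ A) (hu : u ∈ V) :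
    a * ⁅u, c⁆ = ⁅u, c⁆ * a ↔ ⁅u, a⁆ * c = c * ⁅u, a⁆ := by
  let x : V := ⟨u, hu⟩
  let xa : V := ⟨a * u * a⁻¹, conj_mem_V hAV hu ha⟩
  let xc : V := ⟨c * u * c⁻¹, conj_mem_V hAV hu hc⟩
  let xac : V := ⟨a * (c * u * c⁻¹) * a⁻¹, conj_mem_V hAV (conj_mem_V hAV hu hc) ha⟩
  have h1 : a * ⁅u, c⁆ = ⁅u, c⁆ * a ↔ xa / xac = x / xc := by
    rw [Subtype.ext_iff]
    change _ ↔ (a * u * a⁻¹) / (a * (c * u * c⁻¹) * a⁻¹) = u / (c * u * c⁻¹)
    rw [← mul_inv_eq_iff_eq_mul, commutatorElement_def]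
    have e1 : a * (u * c * u⁻¹ * c⁻¹) * a⁻¹ = (a * u * a⁻¹) / (a * (c * u * c⁻¹) * a⁻¹) := by
      rw [div_eq_mul_inv]; group
    have e2 : u * c * u⁻¹ * c⁻¹ = u / (c * u * c⁻¹) := by
      rw [div_eq_mul_inv]; group
    rw [e1, e2]
  have h2 : ⁅u, a⁆ * c = c * ⁅u, a⁆ ↔ xc / xac = x / xa := by
    rw [Subtype.ext_iff]
    change _ ↔ (c * u * c⁻¹) / (a * (c * u * c⁻¹) * a⁻¹) = u / (a * u * a⁻¹)
    rw [conj_conj_comm hab ha hc hu, eq_comm, ← mul_inv_eq_iff_eq_mul, commutatorElement_def]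
    have e1 : c * (u * a * u⁻¹ * a⁻¹) * c⁻¹ = (c * u * c⁻¹) / (c * (a * u * a⁻¹) * c⁻¹) := by
      rw [div_eq_mul_inv]; group
    have e2 : u * a * u⁻¹ * a⁻¹ = u / (a * u * a⁻¹) := by
      rw [div_eq_mul_inv]; group
    rw [e1, e2]
  rw [h1, h2, div_eq_div_iff_mul_eq_mul, div_eq_div_iff_mul_eq_mul, mul_comm xa xc]

theorem comm_mem_cv_iff [IsMulCommutative V] (hAV : A ≤ normalizer (V : Set G))
    (hab : ⁅A, A⁆ ≤ centralizer (V : Set G)) {c u : G} (hc : c ∈ A) (hu : u ∈ V) :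
    ⁅u, c⁆ ∈ cv V A ↔ c ∈ cb A {u} := by
  rw [mem_cv, mem_cb]
  constructor
  · rintro ⟨-, h⟩
    refine ⟨hc, ?_⟩
    rintro _ rfl a ha
    exact (key_iff hAV hab ha hc hu).mp (h a ha)
  · rintro ⟨-, h⟩
    refine ⟨comm_mem_V hAV hu hc, fun a ha => ?_⟩
    exact (key_iff hAV hab ha hc hu).mpr (h u rfl a ha)

theorem conj_mem_cv_iff {a x : G} (ha : a ∈ A) : a * x * a⁻¹ ∈ cv V A ↔ x ∈ cv V A := by
  constructor
  · intro h
    have h1 := (mem_cv.mp h).2 a⁻¹ (A.inv_mem ha)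
    have h2 : a * x * a⁻¹ = x := by
      symm
      calc x = a⁻¹ * (a * x * a⁻¹) * a := by group
        _ = (a * x * a⁻¹) * a⁻¹ * a := by rw [h1]
        _ = a * x * a⁻¹ := by group
    rwa [h2] at h
  · intro h
    have h1 := (mem_cv.mp h).2 a ha
    have h2 : a * x * a⁻¹ = x := by rw [h1]; group
    rwa [h2]


theorem comm_inv_mul_comm (u a a' : G) : ⁅u, a⁆⁻¹ * ⁅u, a'⁆ = a * ⁅u, a⁻¹ * a'⁆ * a⁻¹ := by
  simp only [commutatorElement_def]
  group

theorem relIndex_le [Finite G] [IsMulCommutative V] (hAV : A ≤ normalizer (V : Set G))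
    (hab : ⁅A, A⁆ ≤ centralizer (V : Set G)) {u : G} (hu : u ∈ V) :
    (cb A {u}).relIndex A ≤ (cv V A).relIndex (cw A {u} ⊔ cv V A) := by
  have hmem : ∀ a : A, ⁅u, (a : G)⁆ ∈ cw A {u} ⊔ cv V A := fun a =>
    (le_sup_left : cw A {u} ≤ cw A {u} ⊔ cv V A) (subset_closure ⟨u, rfl, a, a.2, rfl⟩)
  have hiff : ∀ a a' : A, (a⁻¹ * a' ∈ (cb A {u}).subgroupOf A) ↔
      ((⟨⁅u, (a : G)⁆, hmem a⟩ : ↥(cw A {u} ⊔ cv V A))⁻¹ * ⟨⁅u, (a' : G)⁆, hmem a'⟩ ∈
        (cv V A).subgroupOf (cw A {u} ⊔ cv V A)) := by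
    intro a a'
    rw [mem_subgroupOf, mem_subgroupOf]
    change (a : G)⁻¹ * (a' : G) ∈ cb A {u} ↔ ⁅u, (a : G)⁆⁻¹ * ⁅u, (a' : G)⁆ ∈ cv V A
    rw [comm_inv_mul_comm, conj_mem_cv_iff a.2,
      comm_mem_cv_iff hAV hab (A.mul_mem (A.inv_mem a.2) a'.2) hu]
  let ψ : ↥A ⧸ (cb A {u}).subgroupOf A →
      ↥(cw A {u} ⊔ cv V A) ⧸ (cv V A).subgroupOf (cw A {u} ⊔ cv V A) :=
    Quotient.map' (fun a => ⟨⁅u, (a : G)⁆, hmem a⟩) (by
      intro a a' h
      rw [QuotientGroup.leftRel_apply] at h ⊢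
      exact (hiff a a').mp h)
  have hψ : Function.Injective ψ := by
    intro x y
    refine Quotient.inductionOn₂' x y ?_
    intro a a' h
    have h' := Quotient.eq''.mp h
    apply Quotient.eq''.mpr
    rw [QuotientGroup.leftRel_apply] at h' ⊢
    exact (hiff a a').mpr h'
  exact Nat.card_le_card_of_injective ψ hψ

theorem card_mul_relIndex' [Finite G] {H K : Subgroup G} (h : H ≤ K) :
    Nat.card H * H.relIndex K = Nat.card K := by
  rw [← relIndex_bot_left, ← relIndex_bot_left, relIndex_mul_relIndex _ _ _ bot_le h]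

/-- the product `|X| |C_V(X)|` -/
noncomputable def ff (V X : Subgroup G) : ℕ := Nat.card X * Nat.card (cv V X)

theorem single [Finite G] [IsMulCommutative V] (hAV : A ≤ normalizer (V : Set G))
    (hab : ⁅A, A⁆ ≤ centralizer (V : Set G)) (hmax : ∀ B : Subgroup G, B ≤ A → ff V B ≤ ff V A)
    {u : G} (hu : u ∈ V) :
    ff V (cb A {u}) = ff V A ∧ cv V (cb A {u}) = cw A {u} ⊔ cv V A := by
  have hT : ({u} : Set G) ⊆ V := by
    rintro _ rfl
    exact hu
  have hD : cw A {u} ⊔ cv V A ≤ cv V (cb A {u}) :=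
    sup_le (cw_le_cv hAV hT) (cv_anti V (cb_le A _))
  have h1 := relIndex_le hAV hab hu
  have h2 := card_mul_relIndex' (cb_le A {u})
  have h3 := card_mul_relIndex' (le_sup_right : cv V A ≤ cw A {u} ⊔ cv V A)
  have h4 : ff V A ≤ Nat.card (cb A {u}) * Nat.card (cw A {u} ⊔ cv V A : Subgroup G) := by
    unfold ff
    rw [← h2, ← h3]
    calc Nat.card (cb A {u}) * (cb A {u}).relIndex A * Nat.card (cv V A)
        = Nat.card (cb A {u}) * (Nat.card (cv V A) * (cb A {u}).relIndex A) := by ring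
      _ ≤ _ := Nat.mul_le_mul_left _ (Nat.mul_le_mul_left _ h1)
  have h5 : Nat.card (cb A {u}) * Nat.card (cw A {u} ⊔ cv V A : Subgroup G) ≤ ff V (cb A {u}) :=
    Nat.mul_le_mul_left _ (card_le_of_le hD)
  have h6 := hmax _ (cb_le A {u})
  have h7 : ff V (cb A {u}) = ff V A := le_antisymm h6 (h4.trans h5)
  refine ⟨h7, ?_⟩
  symm
  apply eq_of_le_of_card_ge hD
  have h8 : Nat.card (cb A {u}) * Nat.card (cv V (cb A {u})) ≤
      Nat.card (cb A {u}) * Nat.card (cw A {u} ⊔ cv V A : Subgroup G) := by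
    have : ff V (cb A {u}) ≤ _ := h7.le.trans h4
    exact this
  exact Nat.le_of_mul_le_mul_left h8 Nat.card_pos

theorem inter [Finite G] (hmax : ∀ B : Subgroup G, B ≤ A → ff V B ≤ ff V A)
    {X Y : Subgroup G} (hX : X ≤ A) (hY : Y ≤ A) (hfX : ff V X = ff V A) (hfY : ff V Y = ff V A) :
    ff V (X ⊓ Y) = ff V A ∧ cv V (X ⊓ Y) = cv V X ⊔ cv V Y := by
  have hle : cv V X ⊔ cv V Y ≤ cv V (X ⊓ Y) :=
    sup_le (cv_anti V inf_le_left) (cv_anti V inf_le_right)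
  have h1 := hmax _ (sup_le hX hY)
  have h2 := hmax _ (inf_le_left.trans hX : X ⊓ Y ≤ A)
  have h3 := Cfsg.Agent.Lib.Helper13.card_mul_card_le X Y
  have h4 := Cfsg.Agent.Lib.Helper13.card_mul_card_le (cv V X) (cv V Y)
  have h5 := card_le_of_le hle
  unfold ff at *
  rw [cv_sup] at h1
  set m := Nat.card A * Nat.card (cv V A) with hm
  set x := Nat.card X
  set y := Nat.card Y
  set cx := Nat.card (cv V X)
  set cy := Nat.card (cv V Y)
  set s := Nat.card (X ⊔ Y : Subgroup G)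
  set i := Nat.card (X ⊓ Y : Subgroup G) with hi
  set cs' := Nat.card (cv V X ⊓ cv V Y : Subgroup G) with hcs
  set cj := Nat.card (cv V X ⊔ cv V Y : Subgroup G)
  set ci := Nat.card (cv V (X ⊓ Y))
  have hmpos : 0 < m := Nat.mul_pos Nat.card_pos Nat.card_pos
  have hipos : 0 < i := Nat.card_pos
  have hspos : 0 < s := Nat.card_pos
  have hcspos : 0 < cs' := Nat.card_pos
  have e1 : m * m = (x * y) * (cx * cy) := by
    calc m * m = (x * cx) * (y * cy) := by rw [hfX, hfY]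
      _ = _ := by ring
  have e2 : (x * y) * (cx * cy) ≤ (s * i) * (cj * cs') := Nat.mul_le_mul h3 h4
  have e3 : (s * i) * (cj * cs') ≤ (s * i) * (ci * cs') :=
    Nat.mul_le_mul_left _ (Nat.mul_le_mul_right _ h5)
  have e4 : (s * i) * (ci * cs') = (s * cs') * (i * ci) := by ring
  have e5 : (s * cs') * (i * ci) ≤ m * (i * ci) := Nat.mul_le_mul_right _ h1
  have e6 : m * m ≤ m * (i * ci) := by
    calc m * m = _ := e1
      _ ≤ _ := e2
      _ ≤ _ := e3
      _ = _ := e4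
      _ ≤ _ := e5
  have e7 : m ≤ i * ci := Nat.le_of_mul_le_mul_left e6 hmpos
  have e8 : i * ci = m := le_antisymm h2 e7
  refine ⟨e8, ?_⟩
  symm
  apply eq_of_le_of_card_ge hle
  change ci ≤ cj
  have e9 : (s * i) * (ci * cs') ≤ (s * i) * (cj * cs') := by
    calc (s * i) * (ci * cs') = (s * cs') * (i * ci) := e4
      _ ≤ m * (i * ci) := e5
      _ = m * m := by rw [e8]
      _ = _ := e1
      _ ≤ _ := e2
  have e10 := Nat.le_of_mul_le_mul_left e9 (Nat.mul_pos hspos hipos)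
  exact Nat.le_of_mul_le_mul_right e10 hcspos

theorem main [Finite G] [IsMulCommutative V] (hAV : A ≤ normalizer (V : Set G))
    (hab : ⁅A, A⁆ ≤ centralizer (V : Set G)) (hmax : ∀ B : Subgroup G, B ≤ A → ff V B ≤ ff V A)
    (T : Set G) : T ⊆ V → ff V (cb A T) = ff V A ∧ cv V (cb A T) = cw A T ⊔ cv V A := by
  induction T, Set.toFinite T using Set.Finite.induction_on with
  | empty =>
    intro _
    have h1 : cw A (∅ : Set G) = ⊥ := by
      unfold cw
      rw [closure_eq_bot_iff]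
      rintro _ ⟨u, hu, -⟩
      exact absurd hu (Set.notMem_empty u)
    have h2 : cb A (∅ : Set G) = A := by
      unfold cb
      rw [h1, inf_eq_left, le_centralizer_iff]
      exact bot_le
    rw [h2, h1]
    simp
  | @insert u T _ _ ih =>
    intro hT
    have hu : u ∈ V := hT (Set.mem_insert u T)
    have hT' : T ⊆ V := (Set.subset_insert u T).trans hT
    obtain ⟨i1, i2⟩ := ih hT'
    obtain ⟨s1, s2⟩ := single hAV hab hmax hu
    obtain ⟨r1, r2⟩ := inter hmax (cb_le A {u}) (cb_le A T) s1 i1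
    rw [cb_insert, cw_insert]
    refine ⟨r1, ?_⟩
    rw [r2, s2, i2]
    apply le_antisymm
    · refine sup_le (sup_le ?_ ?_) (sup_le ?_ ?_)
      · exact le_sup_left.trans le_sup_left
      · exact le_sup_right
      · exact le_sup_right.trans le_sup_left
      · exact le_sup_right
    · refine sup_le (sup_le ?_ ?_) ?_
      · exact le_sup_left.trans le_sup_left
      · exact le_sup_left.trans le_sup_right
      · exact le_sup_right.trans le_sup_left

end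

/-- Thompson's replacement dichotomy: for A acting with abelian image on an elementary abelian p-group V and U ≤ V, either some subgroup of A increases the product of its order with the order of its fixed points, or C_A([U,A]) preserves that product and has fixed points exactly [U,A]C_V(A). -/
theorem result {G : Type*} [Group G] [Finite G] {p : ℕ} [Fact p.Prime] (V A : Subgroup G) (hV : Cfsg.IsElementaryAbelian p V) (hAV : A ≤ Subgroup.normalizer (V : Set G)) (hab : ⁅A, A⁆ ≤ Subgroup.centralizer (V : Set G)) (U : Subgroup G) (hU : U ≤ V) : ∃ B : Subgroup G, B ≤ A ∧ ((Nat.card A * Nat.card ↥(V ⊓ Subgroup.centralizer (A : Set G)) < Nat.card B * Nat.card ↥(V ⊓ Subgroup.centralizer (B : Set G))) ∨ (B = A ⊓ Subgroup.centralizer ((⁅U, A⁆ : Subgroup G) : Set G) ∧ (V ⊓ Subgroup.centralizer (B : Set G)) = ⁅U, A⁆ ⊔ (V ⊓ Subgroup.centralizer (A : Set G)) ∧ Nat.card A * Nat.card ↥(V ⊓ Subgroup.centralizer (A : Set G))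 = Nat.card B * Nat.card ↥(V ⊓ Subgroup.centralizer (B : Set G)))) := by
  classical
  have hVc := hV.1
  by_cases h : ∃ B : Subgroup G, B ≤ A ∧ ff V A < ff V B
  · obtain ⟨B, hB, hlt⟩ := h
    exact ⟨B, hB, Or.inl hlt⟩
  · push Not at h
    obtain ⟨h1, h2⟩ := main hAV hab h (U : Set G) (by exact_mod_cast hU)
    exact ⟨cb A (U : Set G), cb_le A _, Or.inr ⟨rfl, h2, h1.symm⟩⟩

end Cfsg.Agent.S0598
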