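import Cfsg.Statements.S0599
-- import your own Cfsg.Agent.* helpers here
import Cfsg.Agent.Lib.Helper13.PAction
import Cfsg.Agent.Lib.Helper13.Thompson
import Cfsg.Agent.S0598

set_option autoImplicit false
open Cfsg

namespace Cfsg.Agent.S0599

open scoped commutatorElement in
open scoped Pointwise in
theorem third {G : Type*} [Group G] [Finite G] {p : ℕ} [Fact p.Prime] (V A : Subgroup G)
    (hV : Cfsg.IsElementaryAbelian p V) (hAV : A ≤ Subgroup.normalizer (V : Set G))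
    (hAp : ∀ a ∈ A, a ^ p ∈ Subgroup.centralizer (V : Set G)) (U : Subgroup G) (hU : U ≤ V)
    (hVeq : V = ⁅U, A⁆ ⊔ (V ⊓ Subgroup.centralizer (A : Set G))) : ⁅V, A⁆ = ⊥ := by
  have hVc := hV.1
  apply Cfsg.Agent.Lib.Helper13.eq_bot_of_le_commutator_of_pAction V A ⁅V, A⁆
    (Cfsg.Agent.Lib.Helper13.isEA_isPGroup hV) hAV
    (fun a ha => ⟨1, by rw [pow_one]; exact hAp a ha⟩)
    (Subgroup.le_normalizer_iff_commutator_le_left.mp hAV)
  rw [Subgroup.commutator_le]
  intro v hv a ha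
  have hUA : ⁅U, A⁆ ≤ ⁅V, A⁆ := Subgroup.commutator_mono hU le_rfl
  have hUAV : ⁅U, A⁆ ≤ V := hUA.trans (Subgroup.le_normalizer_iff_commutator_le_left.mp hAV)
  have hnorm : ⁅U, A⁆ ≤ Subgroup.normalizer
      ((V ⊓ Subgroup.centralizer (A : Set G) : Subgroup G) : Set G) := by
    rw [Subgroup.le_normalizer_iff]
    intro x hx y hy
    have : x * y = y * x := setLike_mul_comm (hUAV hx) hy.1
    rw [this]
    simpa using hy
  have hv' : v ∈ ((⁅U, A⁆ ⊔ (V ⊓ Subgroup.centralizer (A : Set G)) : Subgroup G) : Set G) := by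
    rw [← hVeq]
    exact hv
  rw [Subgroup.coe_mul_of_left_le_normalizer_right _ _ hnorm, Set.mem_mul] at hv'
  obtain ⟨x, hx, y, hy, rfl⟩ := hv'
  have hya : a * y = y * a := Subgroup.mem_centralizer_iff.mp hy.2 a ha
  have : ⁅x * y, a⁆ = ⁅x, a⁆ := by
    rw [commutatorElement_def, commutatorElement_def]
    calc x * y * a * (x * y)⁻¹ * a⁻¹ = x * (y * a) * y⁻¹ * x⁻¹ * a⁻¹ := by group
      _ = x * (a * y) * y⁻¹ * x⁻¹ * a⁻¹ := by rw [hya]
      _ = x * a * x⁻¹ * a⁻¹ := by group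
  rw [this]
  exact Subgroup.commutator_mem_commutator (hUA hx) ha

/-- The Timmesfeld replacement Theorem: replacing a best offender A by C_A([U, A]) gives a best offender with fixed points [U, A]C_V(A), still nontrivial on V if A was. -/
theorem result {G : Type*} [Group G] [Finite G] {p : ℕ} [Fact p.Prime] (V A : Subgroup G) (hV : Cfsg.IsElementaryAbelian p V) (hAV : A ≤ Subgroup.normalizer (V : Set G)) (hA : Cfsg.IsBestOffenderOn p V A) (U : Subgroup G) (hU : U ≤ V) : Cfsg.IsBestOffenderOn p V (A ⊓ Subgroup.centralizer ((⁅U, A⁆ : Subgroup G) : Set G)) ∧ V ⊓ Subgroup.centralizer ((A ⊓ Subgroup.centralizer ((⁅U, A⁆ : Subgroup G) : Set G) : Subgroup G) : Set G) = ⁅U, A⁆ ⊔ (V ⊓ Subgroup.centralizer (A : Set G)) ∧ (⁅V, A⁆ ≠ ⊥ → ⁅V, A ⊓ Subgroup.centralizer ((⁅U, A⁆ : Subgroup G) : Set G)⁆ ≠ ⊥) := by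
  obtain ⟨hmax, hab, hAp⟩ := hA
  obtain ⟨B, hBA, hB⟩ := Cfsg.Agent.S0598.result V A hV hAV hab U hU
  rcases hB with hB | ⟨rfl, hcv, hcard⟩
  · exact absurd (hmax B hBA) (not_le.mpr hB)
  · refine ⟨⟨fun B' hB' => ?_, ?_, ?_⟩, hcv, ?_⟩
    · rw [← hcard]
      exact hmax B' (hB'.trans hBA)
    · exact (Subgroup.commutator_mono hBA hBA).trans hab
    · exact fun a ha => hAp a (hBA ha)
    · intro hne hbot
      apply hne
      apply third V A hV hAV hAp U hU
      rw [← hcv]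
      rw [Subgroup.commutator_eq_bot_iff_le_centralizer] at hbot
      exact (inf_of_le_left hbot).symm

end Cfsg.Agent.S0599
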