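import Cfsg.Statements.S0606
-- import your own Cfsg.Agent.* helpers here
import Cfsg.Agent.Lib.Helper13.Thompson

set_option autoImplicit false
open Cfsg

namespace Cfsg.Agent.S0606

/-- Elementary abelian p-subgroups of maximal order are best offenders on any normal elementary abelian p-subgroup. -/
theorem result {G : Type*} [Group G] [Finite G] {p : ℕ} [Fact p.Prime] (V : Subgroup G) [V.Normal] (hV : Cfsg.IsElementaryAbelian p V) (A : Subgroup G) (hA : A ∈ Cfsg.maxElementaryAbelianSubgroups p G) : Cfsg.IsBestOffenderOn p V A := by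
  have hAc := hA.1.1
  refine ⟨fun B hBA => ?_, ?_, ?_⟩
  · have hB : Cfsg.IsElementaryAbelian p B := Cfsg.Agent.Lib.Helper13.isEA_mono hA.1 hBA
    have hC : Cfsg.IsElementaryAbelian p (V ⊓ Subgroup.centralizer (B : Set G)) :=
      Cfsg.Agent.Lib.Helper13.isEA_mono hV inf_le_left
    have hsup := Cfsg.Agent.Lib.Helper13.isEA_sup hB hC inf_le_right
    have h1 := hA.2 _ hsup
    have h2 := Cfsg.Agent.Lib.Helper13.card_mul_card_le B (V ⊓ Subgroup.centralizer (B : Set G))
    have h3 : B ⊓ (V ⊓ Subgroup.centralizer (B : Set G)) ≤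
        V ⊓ Subgroup.centralizer (A : Set G) := by
      intro x hx
      refine ⟨hx.2.1, ?_⟩
      apply Subgroup.mem_centralizer_iff.mpr
      intro a ha
      exact setLike_mul_comm ha (hBA hx.1)
    have h4 := Subgroup.card_le_of_le h3
    exact h2.trans (Nat.mul_le_mul h1 h4)
  · have : ⁅A, A⁆ = ⊥ := by
      rw [Subgroup.commutator_eq_bot_iff_le_centralizer]
      intro x hx
      rw [Subgroup.mem_centralizer_iff]
      intro a ha
      exact setLike_mul_comm ha hx
    rw [this]
    exact bot_le
  · intro a ha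
    rw [hA.1.2 a ha]
    exact Subgroup.one_mem _

end Cfsg.Agent.S0606
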