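import Cfsg.Statements.S0607
import Cfsg.Agent.Lib.Helper14.Thompson
import Cfsg.Agent.Lib.Helper14.Sup
import Cfsg.Agent.S0598
import Cfsg.Agent.S0599
import Cfsg.Agent.S0606

set_option autoImplicit false
open Cfsg

namespace Cfsg.Agent.S0607

open Cfsg.Agent.Lib.Helper14
open scoped commutatorElement

/-- The replacement Theorem for the Thompson subgroup: from A of maximal order among elementary abelian p-subgroups one obtains A₀ = [V, A] C_A([V, A]) of the same kind, quadratic on V and nontrivial on V when A is. -/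
theorem result {G : Type*} [Group G] [Finite G] {p : ℕ} [Fact p.Prime] (V : Subgroup G) [V.Normal] (hV : Cfsg.IsElementaryAbelian p V) (A : Subgroup G) (hA : A ∈ Cfsg.maxElementaryAbelianSubgroups p G) : (⁅V, A⁆ ⊔ (A ⊓ Subgroup.centralizer ((⁅V, A⁆ : Subgroup G) : Set G))) ∈ Cfsg.maxElementaryAbelianSubgroups p G ∧ ⁅⁅V, ⁅V, A⁆ ⊔ (A ⊓ Subgroup.centralizer ((⁅V, A⁆ : Subgroup G) : Set G))⁆, ⁅V, A⁆ ⊔ (A ⊓ Subgroup.centralizer ((⁅V, A⁆ : Subgroup G) : Set G))⁆ = ⊥ ∧ (⁅V, A⁆ ≠ ⊥ → ⁅V, ⁅V, A⁆ ⊔ (A ⊓ Subgroup.centralizer ((⁅V, A⁆ : Subgroup G) : Set G))⁆ ≠ ⊥) := by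
  set W := ⁅V, A⁆ with hW
  set As := A ⊓ Subgroup.centralizer ((W : Subgroup G) : Set G) with hAs
  have hAV : A ≤ Subgroup.normalizer (V : Set G) := by
    rw [Subgroup.normalizer_eq_top]; exact le_top
  have hbest : Cfsg.IsBestOffenderOn p V A := Cfsg.Agent.S0606.result V hV A hA
  obtain ⟨-, hCV, hnt⟩ := Cfsg.Agent.S0599.result V A hV hAV hbest V le_rfl
  have hWV : W ≤ V := Subgroup.commutator_le_left V A
  have hWel : Cfsg.IsElementaryAbelian p W := IsElementaryAbelian.mono hV hWV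
  have hAsA : As ≤ A := inf_le_left
  have hAsel : Cfsg.IsElementaryAbelian p As := IsElementaryAbelian.mono hA.1 hAsA
  have hcomm : ∀ w ∈ W, ∀ a ∈ As, w * a = a * w := by
    intro w hw a ha
    exact (Subgroup.mem_centralizer_iff.mp ha.2) w hw
  have hel : Cfsg.IsElementaryAbelian p (W ⊔ As) := IsElementaryAbelian.sup hWel hAsel hcomm
  -- C_V(A) ≤ A
  have hCVA : V ⊓ Subgroup.centralizer (A : Set G) ≤ A := by
    apply le_of_mem_maxElementaryAbelianSubgroups hA (IsElementaryAbelian.mono hV inf_le_left)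
    intro a ha b hb
    exact (Subgroup.mem_centralizer_iff.mp hb.2) a ha
  have hVcW : V ≤ Subgroup.centralizer ((W : Subgroup G) : Set G) := by
    intro v hv
    rw [Subgroup.mem_centralizer_iff]
    intro w hw
    exact IsElementaryAbelian.comm hV (hWV hw) hv
  have hCVAs : V ⊓ Subgroup.centralizer (A : Set G) ≤ As :=
    le_inf hCVA (inf_le_left.trans hVcW)
  -- the equality of the products
  have hprod : Nat.card A * Nat.card ↥(V ⊓ Subgroup.centralizer (A : Set G)) =
      Nat.card As * Nat.card ↥(V ⊓ Subgroup.centralizer (As : Set G)) := by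
    obtain ⟨B, hBA, hB⟩ := Cfsg.Agent.S0598.result V A hV hAV hbest.2.1 V le_rfl
    rcases hB with hB | ⟨hB1, -, hB3⟩
    · exact absurd (hbest.1 B hBA) (not_le.mpr hB)
    · rw [hB3, hB1]
  have hsup : As ⊔ (V ⊓ Subgroup.centralizer (As : Set G)) = W ⊔ As := by
    rw [hCV]
    apply le_antisymm
    · exact sup_le le_sup_right (sup_le le_sup_left (hCVAs.trans le_sup_right))
    · exact sup_le (le_sup_left.trans le_sup_right) le_sup_left
  have hinf : As ⊓ (V ⊓ Subgroup.centralizer (As : Set G)) ≤ V ⊓ Subgroup.centralizer (A : Set G) := by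
    intro x hx
    refine Subgroup.mem_inf.mpr ⟨hx.2.1, ?_⟩
    rw [Subgroup.mem_centralizer_iff]
    intro a ha
    exact IsElementaryAbelian.comm hA.1 ha (hAsA hx.1)
  have hcard : Nat.card A ≤ Nat.card ↥(W ⊔ As) := by
    have h1 := card_mul_card_le_card_sup_mul_card_inf As (V ⊓ Subgroup.centralizer (As : Set G))
    rw [hsup, ← hprod] at h1
    have h2 : Nat.card ↥(As ⊓ (V ⊓ Subgroup.centralizer (As : Set G))) ≤
        Nat.card ↥(V ⊓ Subgroup.centralizer (A : Set G)) := Subgroup.card_le_of_le hinf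
    have h3 := h1.trans (Nat.mul_le_mul_left _ h2)
    exact Nat.le_of_mul_le_mul_right h3 Nat.card_pos
  have hVA0 : ⁅V, W ⊔ As⁆ ≤ W := by
    rw [Subgroup.commutator_le]
    intro v hv g hg
    obtain ⟨w, hw, a, ha, rfl⟩ := (mem_sup_of_commute hcomm).mp hg
    have hvw : v * w = w * v := IsElementaryAbelian.comm hV hv (hWV hw)
    have : ⁅v, w * a⁆ = w * ⁅v, a⁆ * w⁻¹ := by
      rw [commutatorElement_def, commutatorElement_def]
      calc v * (w * a) * v⁻¹ * (w * a)⁻¹ = (v * w) * a * v⁻¹ * a⁻¹ * w⁻¹ := by group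
        _ = (w * v) * a * v⁻¹ * a⁻¹ * w⁻¹ := by rw [hvw]
        _ = w * (v * a * v⁻¹ * a⁻¹) * w⁻¹ := by group
    rw [this]
    exact W.mul_mem (W.mul_mem hw (Subgroup.commutator_mem_commutator hv (hAsA ha))) (W.inv_mem hw)
  refine ⟨⟨hel, fun B hB => (hA.2 B hB).trans hcard⟩, ?_, ?_⟩
  · rw [eq_bot_iff]
    refine (Subgroup.commutator_mono hVA0 le_rfl).trans ?_
    rw [le_bot_iff, Subgroup.commutator_eq_bot_iff_le_centralizer, Subgroup.le_centralizer_iff]
    apply sup_le
    · intro w hw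
      rw [Subgroup.mem_centralizer_iff]
      intro w' hw'
      exact IsElementaryAbelian.comm hWel hw' hw
    · exact inf_le_right
  · intro hne hbot
    apply hnt hne
    rw [eq_bot_iff, ← hbot]
    exact Subgroup.commutator_mono le_rfl le_sup_right

end Cfsg.Agent.S0607
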