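import Cfsg.Statements.S0623
import Cfsg.Agent.Lib.Helper14.StableClosure
import Cfsg.Agent.Lib.Helper14.Cores
import Cfsg.Agent.Lib.Helper14.Conj

set_option autoImplicit false
open Cfsg

namespace Cfsg.Agent.S0623

open Cfsg.Agent.Lib.Helper14
open scoped commutatorElement

theorem commutator_sup_centralizer_le {H : Type*} [Group H] (U V A : Subgroup H) [V.Normal]
    (hUV : U ≤ V) : ⁅U, A ⊔ Subgroup.centralizer (V : Set H)⁆ ≤ ⁅U, A⁆ := by
  rw [Subgroup.commutator_le]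
  intro u hu g hg
  rw [Subgroup.mem_sup_of_normal_right] at hg
  obtain ⟨α, hα, c, hc, rfl⟩ := hg
  have hcu : u⁻¹ * c = c * u⁻¹ := (Subgroup.mem_centralizer_iff.mp hc) u⁻¹ (V.inv_mem (hUV hu))
  have : ⁅u, α * c⁆ = ⁅u, α⁆ := by
    rw [commutatorElement_def, commutatorElement_def]
    calc u * (α * c) * u⁻¹ * (α * c)⁻¹ = u * α * (c * u⁻¹) * c⁻¹ * α⁻¹ := by group
      _ = u * α * (u⁻¹ * c) * c⁻¹ * α⁻¹ := by rw [hcu]
      _ = u * α * u⁻¹ * α⁻¹ := by group
  rw [this]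
  exact Subgroup.commutator_mem_commutator hu hα

theorem quadratic_of_mul_centralizer {H : Type*} [Group H] (V : Subgroup H) [V.Normal] {a s c : H}
    (ha : ⁅⁅V, Subgroup.zpowers a⁆, Subgroup.zpowers a⁆ = ⊥)
    (hc : c ∈ Subgroup.centralizer (V : Set H)) (has : a = s * c) :
    ⁅⁅V, Subgroup.zpowers s⁆, Subgroup.zpowers s⁆ = ⊥ := by
  set A := Subgroup.zpowers a
  set C := Subgroup.centralizer (V : Set H)
  have hs : Subgroup.zpowers s ≤ A ⊔ C := by
    rw [Subgroup.zpowers_le]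
    have : s = a * c⁻¹ := by rw [has]; group
    rw [this]
    exact Subgroup.mul_mem_sup (Subgroup.mem_zpowers a) (C.inv_mem hc)
  rw [eq_bot_iff]
  calc ⁅⁅V, Subgroup.zpowers s⁆, Subgroup.zpowers s⁆ ≤ ⁅⁅V, A ⊔ C⁆, A ⊔ C⁆ :=
        Subgroup.commutator_mono (Subgroup.commutator_mono le_rfl hs) hs
    _ ≤ ⁅⁅V, A⁆, A ⊔ C⁆ :=
        Subgroup.commutator_mono (commutator_sup_centralizer_le V V A le_rfl) le_rfl
    _ ≤ ⁅⁅V, A⁆, A⁆ := commutator_sup_centralizer_le _ V A (Subgroup.commutator_le_left V A)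
    _ = ⊥ := ha

/-- No element of a finite p-group acts quadratically and nontrivially on the stable normal closure W(S). -/
theorem result {S : Type*} [Group S] [Finite S] {p : ℕ} [Fact p.Prime] (hS : IsPGroup p S) (x : S) (hq : ⁅⁅Cfsg.stableNormalClosure p S, Subgroup.zpowers x⁆, Subgroup.zpowers x⁆ = ⊥) : ⁅Cfsg.stableNormalClosure p S, Subgroup.zpowers x⁆ = ⊥ := by
  set W := Cfsg.stableNormalClosure p S with hW
  set Q : Set S := {y | ⁅⁅W, Subgroup.zpowers y⁆, Subgroup.zpowers y⁆ = ⊥} with hQ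
  have hmem : W ⊓ Subgroup.centralizer Q ∈ {W : Subgroup S | Cfsg.omegaOne p (Subgroup.center S) ≤ W ∧
      ∀ (H : Type _) [Group H] (τ : S →* H), Cfsg.IsStableEmbedding p τ → (W.map τ).Normal} := by
    refine ⟨le_inf (omegaOne_center_le_stableNormalClosure p S)
      ((omegaOne_le p _).trans (Subgroup.center_le_centralizer _)), ?_⟩
    intro H _ τ hτ
    have hfin : Finite H := hτ.2.1
    have hV : (W.map τ).Normal := IsStableEmbedding.stableNormalClosure_map_normal hτ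
    obtain ⟨P, hP⟩ := hτ.2.2.1
    have hst : Cfsg.IsPStableOn p (W.map τ) := hτ.2.2.2.2.2 (W.map τ)
      (Subgroup.map_mono (stableNormalClosure_le_omegaCenterThompson p S))
    constructor
    rintro _ ⟨w, hw, rfl⟩ h
    obtain ⟨hw1, hw2⟩ := Subgroup.mem_inf.mp hw
    obtain ⟨w₁, hw₁, hw₁eq⟩ := hV.conj_mem (τ w) (Subgroup.mem_map_of_mem τ hw1) h
    refine ⟨w₁, Subgroup.mem_inf.mpr ⟨hw₁, ?_⟩, hw₁eq⟩
    rw [Subgroup.mem_centralizer_iff]
    intro y hy
    apply hτ.1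
    rw [map_mul, map_mul, hw₁eq]
    -- a := h⁻¹ τ(y) h is quadratic on V
    have hyq : ⁅⁅W.map τ, Subgroup.zpowers (τ y)⁆, Subgroup.zpowers (τ y)⁆ = ⊥ := by
      have := congrArg (Subgroup.map τ) (show ⁅⁅W, Subgroup.zpowers y⁆, Subgroup.zpowers y⁆ = ⊥ from hy)
      rwa [Subgroup.map_commutator, Subgroup.map_commutator, MonoidHom.map_zpowers,
        Subgroup.map_bot] at this
    have haq : ⁅⁅W.map τ, Subgroup.zpowers (h⁻¹ * τ y * h)⁆, Subgroup.zpowers (h⁻¹ * τ y * h)⁆ = ⊥ := by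
      have := congrArg (Subgroup.map (MulAut.conj h⁻¹).toMonoidHom) hyq
      rw [Subgroup.map_commutator, Subgroup.map_commutator, MonoidHom.map_zpowers,
        Subgroup.map_bot] at this
      have hVc : (W.map τ).map (MulAut.conj h⁻¹).toMonoidHom = W.map τ :=
        map_conj_of_normal _ _
      rw [hVc] at this
      simpa using this
    obtain ⟨s, hs, c, hc, hsc⟩ := exists_mul_of_mk_mem_pCore _ P (hst _ haq)
    have hsq := quadratic_of_mul_centralizer (W.map τ) haq hc hsc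
    have hs' : s ∈ τ.range := by rw [← hP]; exact hs
    obtain ⟨y', rfl⟩ := hs'
    have hy'Q : y' ∈ Q := by
      have h1 : (⁅⁅W, Subgroup.zpowers y'⁆, Subgroup.zpowers y'⁆).map τ = ⊥ := by
        rw [Subgroup.map_commutator, Subgroup.map_commutator, MonoidHom.map_zpowers]
        exact hsq
      exact (Subgroup.map_eq_bot_iff_of_injective _ hτ.1).mp h1
    have h1 : y' * w = w * y' := (Subgroup.mem_centralizer_iff.mp hw2) y' hy'Q
    have h2 : τ w * c = c * τ w := (Subgroup.mem_centralizer_iff.mp hc) (τ w) (Subgroup.mem_map_of_mem τ hw1)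
    have h3 : (h⁻¹ * τ y * h) * τ w = τ w * (h⁻¹ * τ y * h) := by
      rw [hsc, mul_assoc, ← h2, ← mul_assoc, ← map_mul, h1, map_mul, mul_assoc]
    calc τ y * (h * τ w * h⁻¹) = h * ((h⁻¹ * τ y * h) * τ w) * h⁻¹ := by group
      _ = h * (τ w * (h⁻¹ * τ y * h)) * h⁻¹ := by rw [h3]
      _ = h * τ w * h⁻¹ * τ y := by group
  have hle : W ≤ W ⊓ Subgroup.centralizer Q := sInf_le hmem
  have hxQ : x ∈ Q := hq
  rw [Subgroup.commutator_eq_bot_iff_le_centralizer]
  intro w hw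
  have hwc := (Subgroup.mem_inf.mp (hle hw)).2
  rw [Subgroup.mem_centralizer_iff] at hwc ⊢
  rintro _ ⟨i, rfl⟩
  exact ((show Commute x w from hwc x hxQ).zpow_left i)

end Cfsg.Agent.S0623
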