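import Cfsg.Statements.S5274
import Cfsg.Agent.Lib.Helper86.FusionSeries
import Cfsg.Agent.Lib.Helper87.StronglyClosed
import Cfsg.Agent.Lib.Helper87.FusionMk

set_option autoImplicit false
open Cfsg

namespace Cfsg.Agent.S5274

open Cfsg.FusionSystem Cfsg.Agent.Lib.Helper87

variable {Ω : Type*} [Group Ω] {S : Subgroup Ω}

theorem mem_ZS_iff (z : Ω) : z ∈ S ⊓ Subgroup.centralizer (S : Set Ω) ↔ z ∈ S ∧ ∀ s ∈ S, s * z = z * s := by
  rw [Subgroup.mem_inf, Subgroup.mem_centralizer_iff]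
  rfl

theorem fullyNormalized_of_central [Finite S] (F : FusionSystem S) {C : Subgroup Ω}
    (hC : C ≤ S ⊓ Subgroup.centralizer (S : Set Ω)) : F.IsFullyNormalized C := by
  refine ⟨hC.trans inf_le_left, fun Q _ => ?_⟩
  have : normalizerIn S C = S := by
    apply le_antisymm inf_le_left
    intro g hg
    refine ⟨hg, ?_⟩
    change g ∈ Subgroup.normalizer (C : Set Ω)
    rw [Subgroup.mem_normalizer_iff]
    intro h
    constructor
    · intro hh
      have := ((mem_ZS_iff h).1 (hC hh)).2 g hg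
      rw [this, mul_inv_cancel_right]
      exact hh
    · intro hh
      have := ((mem_ZS_iff _).1 (hC hh)).2 g⁻¹ (S.inv_mem hg)
      have e : h = g * h * g⁻¹ := by
        have e2 : g⁻¹ * (g * h * g⁻¹) = h * g⁻¹ := by group
        rw [e2] at this
        exact mul_right_cancel this
      rw [e]
      exact hh
  rw [this]
  exact card_le_of_le' le_rfl inf_le_left

/-- A subgroup `F`-isomorphic to a central subgroup of `S` is centralized by its normalizer in `S`. -/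
theorem conj_trivial [Finite S] {p : ℕ} [Fact p.Prime] (hS : IsPGroup p S) {F : FusionSystem S}
    (hF : F.IsSaturated p) {D C : Subgroup Ω} {f₀ : Ω → Ω} (h : Iso F D C f₀)
    (hC : C ≤ S ⊓ Subgroup.centralizer (S : Set Ω)) {g : Ω} (hg : g ∈ S)
    (hgD : ∀ d ∈ D, g * d * g⁻¹ ∈ D) : ∀ d ∈ D, g * d * g⁻¹ = d := by
  have hfa := fullyNormalized_fullyAutomized hS hF (fullyNormalized_of_central F hC)
  obtain ⟨f, hf, hA⟩ := exists_iso_conj_into hfa h (autInducedBy S D)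
    (autInducedBy_le_autGroup F h.le) (isPGroup_autInducedBy hS D)
  have : Finite D := finite_of_le h.le
  have hgN : g ∈ Subgroup.normalizer (D : Set Ω) :=
    Cfsg.Agent.Lib.Helper86.mem_normalizer_of_forall_conj_mem hgD
  intro d hd
  obtain ⟨k, hk, hk'⟩ := hA _ (conjToAut S D ⟨g, hg, hgN⟩).2
  have h1 := hk' ⟨d, hd⟩
  rw [conjToAut_apply] at h1
  have h2 : f d ∈ C := hf.map_mem hd
  have h3 := ((mem_ZS_iff _).1 (hC h2)).2 k hk
  change f (g * d * g⁻¹) = k * f d * k⁻¹ at h1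
  rw [h3, mul_inv_cancel_right] at h1
  exact hf.mor.inj (hgD d hd) hd h1

/-- From `IsConjElt x z` get a function-form map on `zpowers x`. -/
theorem mor_of_conjElt {F : FusionSystem S} {x z : Ω} (h : F.IsConjElt x z) :
    ∃ f, Mor F (Subgroup.zpowers x) f ∧ f x = z := by
  obtain ⟨φ, hφ, e⟩ := h
  exact ⟨ext φ, Mor.of_hom hφ, by rw [ext_apply φ (Subgroup.mem_zpowers x), e]⟩

theorem map_closure_mem {F : FusionSystem S} {P : Subgroup Ω} {f : Ω → Ω} (hf : Mor F P f)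
    (A : Set Ω) (hA : P = Subgroup.closure A) (Z : Subgroup Ω) (h : ∀ a ∈ A, f a ∈ Z) :
    ∀ d ∈ P, f d ∈ Z := by
  subst hA
  intro d hd
  induction hd using Subgroup.closure_induction with
  | mem a ha => exact h a ha
  | one => rw [hf.map_one]; exact Z.one_mem
  | mul a b ha hb iha ihb => rw [hf.map_mul ha hb]; exact Z.mul_mem iha ihb
  | inv a ha iha => rw [hf.map_inv ha]; exact Z.inv_mem iha

theorem step [Finite S] (hS : IsPGroup 2 ↥S) (F : FusionSystem S) (hF : F.IsSaturated 2)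
    (h : ∀ x ∈ S, ∃ z ∈ S ⊓ Subgroup.centralizer (S : Set Ω), F.IsConjElt x z) (k : ℕ)
    (hk : ∀ w ∈ S, w ^ (2 ^ k) = 1 → w ∈ S ⊓ Subgroup.centralizer (S : Set Ω))
    {x y : Ω} (hx : x ∈ S) (hy : y ∈ S) (hx2 : x ^ (2 ^ (k + 1)) = 1) (hy2 : y ^ (2 ^ (k + 1)) = 1) :
    x * y = y * x := by
  have : Fact (Nat.Prime 2) := ⟨Nat.prime_two⟩
  obtain ⟨Z, hZ⟩ : ∃ Z : Subgroup Ω, Z = S ⊓ Subgroup.centralizer (S : Set Ω) := ⟨_, rfl⟩
  have hZm : ∀ z, z ∈ Z ↔ z ∈ S ∧ ∀ s ∈ S, s * z = z * s := by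
    intro z; rw [hZ]; exact mem_ZS_iff z
  rw [← hZ] at hk h
  have hxx : x ^ 2 ∈ Z := hk _ (S.pow_mem hx 2) (by rw [← pow_mul, ← pow_succ']; exact hx2)
  have hyy : y ^ 2 ∈ Z := hk _ (S.pow_mem hy 2) (by rw [← pow_mul, ← pow_succ']; exact hy2)
  have ht : x * y ∈ S := S.mul_mem hx hy
  obtain ⟨c, hc, hconj⟩ := h _ ht
  obtain ⟨f, hf, hfc⟩ := mor_of_conjElt hconj
  have himg : img (Subgroup.zpowers (x * y)) f ≤ Z := by
    intro u hu
    obtain ⟨v, hv, rfl⟩ := (hf.mem_img u).1 hu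
    refine map_closure_mem hf {x * y} (Subgroup.zpowers_eq_closure _) Z ?_ v hv
    intro a ha
    rw [Set.mem_singleton_iff.1 ha, hfc]
    exact hc
  have hrec : F.IsReceptive (img (Subgroup.zpowers (x * y)) f) :=
    fullyNormalized_receptive hS hF (fullyNormalized_of_central F (hZ ▸ himg))
  obtain ⟨f', hf', hag, -⟩ := receptive_extend_centralizer hrec hf.iso_img
  obtain ⟨D, hD⟩ : ∃ D : Subgroup Ω, D = Subgroup.closure {x * y, x ^ 2, y ^ 2} := ⟨_, rfl⟩
  have hZcent : Z ≤ centralizerIn S (Subgroup.zpowers (x * y)) := by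
    intro z hz
    rw [mem_centralizerIn_iff]
    refine ⟨((hZm z).1 hz).1, fun u hu => ((hZm z).1 hz).2 u (hf.le hu)⟩
  have hDle : D ≤ Subgroup.zpowers (x * y) ⊔ centralizerIn S (Subgroup.zpowers (x * y)) := by
    rw [hD, Subgroup.closure_le]
    intro u hu
    rcases hu with rfl | rfl | rfl
    · exact (le_sup_left : Subgroup.zpowers (x * y) ≤ _) (Subgroup.mem_zpowers _)
    · exact (le_sup_right : centralizerIn S (Subgroup.zpowers (x * y)) ≤ _) (hZcent hxx)
    · exact (le_sup_right : centralizerIn S (Subgroup.zpowers (x * y)) ≤ _) (hZcent hyy)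
  have hfD : Mor F D f' := hf'.mono hDle
  have htD : x * y ∈ D := by rw [hD]; exact Subgroup.subset_closure (by simp)
  have hxD : x ^ 2 ∈ D := by rw [hD]; exact Subgroup.subset_closure (by simp)
  have hyD : y ^ 2 ∈ D := by rw [hD]; exact Subgroup.subset_closure (by simp)
  have hpw : ∀ w ∈ D, w ^ (2 ^ k) = 1 → f' w ∈ Z := by
    intro w hw hw1
    refine hk _ (hfD.mem hw) ?_
    rw [← hfD.map_pow hw, hw1, hfD.map_one]
  have hCZ : img D f' ≤ Z := by
    intro u hu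
    obtain ⟨v, hv, rfl⟩ := (hfD.mem_img u).1 hu
    refine map_closure_mem hfD _ hD Z ?_ v hv
    intro a ha
    rcases ha with rfl | rfl | rfl
    · rw [hag _ (Subgroup.mem_zpowers _), hfc]; exact hc
    · exact hpw _ hxD (by rw [← pow_mul, ← pow_succ']; exact hx2)
    · exact hpw _ hyD (by rw [← pow_mul, ← pow_succ']; exact hy2)
  have hnorm : ∀ d ∈ D, x * d * x⁻¹ ∈ D := by
    have : D ≤ D.comap (MulAut.conj x).toMonoidHom := by
      conv_lhs => rw [hD]
      rw [Subgroup.closure_le]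
      intro u hu
      change x * u * x⁻¹ ∈ D
      rcases hu with rfl | rfl | rfl
      · have e : x * (x * y) * x⁻¹ = x ^ 2 * y ^ 2 * (x * y)⁻¹ := by
          rw [pow_two, pow_two]; group
        rw [e]
        exact D.mul_mem (D.mul_mem hxD hyD) (D.inv_mem htD)
      · have e : x * x ^ 2 * x⁻¹ = x ^ 2 := by group
        rw [e]; exact hxD
      · rw [((hZm _).1 hyy).2 x hx, mul_inv_cancel_right]; exact hyD
    exact fun d hd => this hd
  have := conj_trivial hS hF hfD.iso_img (hZ ▸ hCZ) hx hnorm _ htD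
  have e2 : x * (x * y) * x⁻¹ * x = x * y * x := by rw [this]
  rw [inv_mul_cancel_right] at e2
  exact (mul_left_cancel (by rw [← mul_assoc, ← mul_assoc] at *; exact e2.symm : x * (y * x) = x * (x * y))).symm

theorem main [Finite S] (hS : IsPGroup 2 ↥S) (F : FusionSystem S) (hF : F.IsSaturated 2)
    (h : ∀ x ∈ S, ∃ z ∈ S ⊓ Subgroup.centralizer (S : Set Ω), F.IsConjElt x z) (k : ℕ) :
    ∀ w ∈ S, w ^ (2 ^ k) = 1 → w ∈ S ⊓ Subgroup.centralizer (S : Set Ω) := by
  have : Fact (Nat.Prime 2) := ⟨Nat.prime_two⟩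
  induction k with
  | zero =>
    intro w _ hw1
    rw [pow_zero, pow_one] at hw1
    rw [hw1]; exact Subgroup.one_mem _
  | succ k ih =>
    have hcomm := fun {x y : Ω} => step hS F hF h k ih (x := x) (y := y)
    let E : Subgroup Ω :=
      { carrier := {w | w ∈ S ∧ w ^ (2 ^ (k + 1)) = 1}
        one_mem' := ⟨S.one_mem, one_pow _⟩
        mul_mem' := by
          rintro a b ⟨ha, ha1⟩ ⟨hb, hb1⟩
          refine ⟨S.mul_mem ha hb, ?_⟩
          rw [(show Commute a b from hcomm ha hb ha1 hb1).mul_pow, ha1, hb1, one_mul]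
        inv_mem' := by
          rintro a ⟨ha, ha1⟩
          exact ⟨S.inv_mem ha, by rw [inv_pow, ha1, inv_one]⟩ }
    have hEm : ∀ w, w ∈ E ↔ w ∈ S ∧ w ^ (2 ^ (k + 1)) = 1 := fun w => Iff.rfl
    have hab : IsMulCommutative E :=
      ⟨⟨fun a b => Subtype.ext (hcomm a.2.1 b.2.1 a.2.2 b.2.2)⟩⟩
    have hsc : F.StronglyClosed E := by
      rw [stronglyClosed_iff]
      refine ⟨fun w hw => hw.1, fun R f hf x hx hxE => ?_⟩
      rw [hEm]
      refine ⟨hf.mem hx, ?_⟩
      rw [← hf.map_pow hx, hxE.2, hf.map_one]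
    have hn := Cfsg.Agent.Lib.Helper86.isNormal_of_abelian_stronglyClosed hS F hF hab hsc
    rw [isNormal_iff] at hn
    intro v hv hv1
    rw [mem_ZS_iff]
    refine ⟨hv, fun a ha => ?_⟩
    obtain ⟨c, hc, hconj⟩ := h a ha
    obtain ⟨f, hf, hfc⟩ := mor_of_conjElt hconj
    obtain ⟨f', hf', hag, -⟩ := hn.2 _ f hf
    have haP : a ∈ Subgroup.zpowers a ⊔ E := (le_sup_left : Subgroup.zpowers a ≤ _) (Subgroup.mem_zpowers a)
    have hvP : v ∈ Subgroup.zpowers a ⊔ E := (le_sup_right : E ≤ _) ((hEm v).2 ⟨hv, hv1⟩)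
    have e1 := hf'.map_conj haP hvP
    rw [hag a (Subgroup.mem_zpowers a), hfc] at e1
    have e2 := ((mem_ZS_iff c).1 hc).2 _ (hf'.mem hvP)
    rw [← e2, mul_inv_cancel_right] at e1
    have e3 := hf'.inj (Subgroup.mul_mem _ (Subgroup.mul_mem _ haP hvP) (Subgroup.inv_mem _ haP)) hvP e1
    calc a * v = a * v * a⁻¹ * a := by group
      _ = v * a := by rw [e3]

theorem result {Ω : Type*} [Group Ω] {S : Subgroup Ω} [Finite S] (hS : IsPGroup 2 ↥S) (F : Cfsg.FusionSystem S) (hF : F.IsSaturated 2) (h : ∀ x ∈ S, ∃ z ∈ S ⊓ Subgroup.centralizer (S : Set Ω), F.IsConjElt x z) : IsMulCommutative ↥S := by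
  refine ⟨⟨fun a b => ?_⟩⟩
  obtain ⟨k, hk⟩ := hS b
  have hb : (b : Ω) ^ (2 ^ k) = 1 := by
    have := congrArg Subtype.val hk
    simpa using this
  have := main hS F hF h k b b.2 hb
  exact Subtype.ext (((mem_ZS_iff _).1 this).2 a a.2)

end Cfsg.Agent.S5274
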