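import Cfsg.Statements.S0765
-- import your own Cfsg.Agent.* helpers here
import Cfsg.Agent.Lib.Helper17.Symp

set_option autoImplicit false
open Cfsg

namespace Cfsg.Agent.S0765

open Cfsg.Agent.Lib.Helper17 Matrix in
theorem aux {F : Type*} [Field F] (m : ℕ) : ∀ (j k : ℕ), k + j = m →
    ∀ g : Matrix.symplecticGroup (Fin m) F,
      (∀ i : Fin m, (i : ℕ) < k →
        (g : Matrix (Fin m ⊕ Fin m) (Fin m ⊕ Fin m) F) *ᵥ (Pi.single (Sum.inl i) 1) = Pi.single (Sum.inl i) 1 ∧
        (g : Matrix (Fin m ⊕ Fin m) (Fin m ⊕ Fin m) F) *ᵥ (Pi.single (Sum.inr i) 1) = Pi.single (Sum.inr i) 1) →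
      g ∈ Subgroup.closure (transvSet m (⊤ : Submodule F (Fin m ⊕ Fin m → F))) := by
  intro j
  induction j with
  | zero =>
    intro k hk g hg
    have : g = 1 := by
      apply Subtype.ext
      rw [Submonoid.coe_one]
      apply Matrix.ext_of_mulVec_single
      intro i
      rw [Matrix.one_mulVec]
      rcases i with i | i
      · exact (hg i (by have := i.2; omega)).1
      · exact (hg i (by have := i.2; omega)).2
    rw [this]
    exact one_mem _
  | succ j ih =>
    intro k hk g hg
    have hkm : k < m := by omega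
    let i0 : Fin m := ⟨k, hkm⟩
    let W : Submodule F (Fin m ⊕ Fin m → F) :=
      { carrier := {x | ∀ i : Fin m, (i : ℕ) < k → x (Sum.inl i) = 0 ∧ x (Sum.inr i) = 0}
        add_mem' := by
          intro a b ha hb i hi
          simp [ha i hi, hb i hi]
        zero_mem' := by
          intro i _
          simp
        smul_mem' := by
          intro c a ha i hi
          simp [ha i hi] }
    have hWmem : ∀ x, x ∈ W ↔ ∀ i : Fin m, (i : ℕ) < k → x (Sum.inl i) = 0 ∧ x (Sum.inr i) = 0 := fun x => Iff.rfl
    have hsingl : ∀ i : Fin m, k ≤ (i : ℕ) → (Pi.single (Sum.inl i) 1 : Fin m ⊕ Fin m → F) ∈ W := by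
      intro i hi
      rw [hWmem]
      intro i' hi'
      have : i' ≠ i := by
        intro h; rw [h] at hi'; omega
      simp [Pi.single_apply, this]
    have hsingr : ∀ i : Fin m, k ≤ (i : ℕ) → (Pi.single (Sum.inr i) 1 : Fin m ⊕ Fin m → F) ∈ W := by
      intro i hi
      rw [hWmem]
      intro i' hi'
      have : i' ≠ i := by
        intro h; rw [h] at hi'; omega
      simp [Pi.single_apply, this]
    have hW : ∀ u ∈ W, u ≠ 0 → ∃ a ∈ W, Cfsg.sympForm m F u a ≠ 0 := by
      intro u hu hu0
      by_contra hcon
      push Not at hcon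
      apply hu0
      funext i
      rcases i with i | i
      · by_cases hi : (i : ℕ) < k
        · exact (hu i hi).1
        · have := hcon _ (hsingr i (by omega))
          rw [sympForm_single_inr_right] at this
          simpa using this
      · by_cases hi : (i : ℕ) < k
        · exact (hu i hi).2
        · have := hcon _ (hsingl i (by omega))
          rw [sympForm_single_inl_right] at this
          simpa using this
    have hgW : ∀ x ∈ W, (g : Matrix (Fin m ⊕ Fin m) (Fin m ⊕ Fin m) F) *ᵥ x ∈ W := by
      intro x hx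
      rw [hWmem]
      intro i hi
      constructor
      · have h1 := sp_sympForm m g x (Pi.single (Sum.inr i) 1)
        rw [(hg i hi).2, sympForm_single_inr_right, sympForm_single_inr_right, (hx i hi).1] at h1
        simpa using h1
      · have h1 := sp_sympForm m g x (Pi.single (Sum.inl i) 1)
        rw [(hg i hi).1, sympForm_single_inl_right, sympForm_single_inl_right, (hx i hi).2] at h1
        simpa using h1
    have hpair : Cfsg.sympForm m F (Pi.single (Sum.inr i0) 1) (Pi.single (Sum.inl i0) 1) = 1 := by
      rw [sympForm_single_inl_right]; simp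
    have hpair' : Cfsg.sympForm m F ((g : Matrix (Fin m ⊕ Fin m) (Fin m ⊕ Fin m) F) *ᵥ (Pi.single (Sum.inr i0) 1))
        ((g : Matrix (Fin m ⊕ Fin m) (Fin m ⊕ Fin m) F) *ᵥ (Pi.single (Sum.inl i0) 1)) = 1 := by
      rw [sp_sympForm, hpair]
    obtain ⟨t, ht, ht1, ht2⟩ := exists_closure_transv_pair m hW (hsingr i0 le_rfl) (hsingl i0 le_rfl)
      (hgW _ (hsingr i0 le_rfl)) (hgW _ (hsingl i0 le_rfl)) hpair hpair'
    have htop : t ∈ Subgroup.closure (transvSet m (⊤ : Submodule F (Fin m ⊕ Fin m → F))) :=
      Subgroup.closure_mono (transvSet_mono m le_top) ht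
    have hfix : ∀ x, (t : Matrix (Fin m ⊕ Fin m) (Fin m ⊕ Fin m) F) *ᵥ x =
        (g : Matrix (Fin m ⊕ Fin m) (Fin m ⊕ Fin m) F) *ᵥ x →
        ((t⁻¹ * g : Matrix.symplecticGroup (Fin m) F) : Matrix (Fin m ⊕ Fin m) (Fin m ⊕ Fin m) F) *ᵥ x = x := by
      intro x hx
      rw [sp_coe_mul_mulVec, ← hx, sp_inv_mulVec]
    have hmem : t⁻¹ * g ∈ Subgroup.closure (transvSet m (⊤ : Submodule F (Fin m ⊕ Fin m → F))) := by
      apply ih (k + 1) (by omega)
      intro i hi
      by_cases hik : (i : ℕ) < k
      · constructor
        · apply hfix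
          rw [(hg i hik).1]
          apply closure_transvSet_fix m ht
          intro w hw
          rw [sympForm_swap, sympForm_single_inl_right, (hw i hik).2, neg_zero]
        · apply hfix
          rw [(hg i hik).2]
          apply closure_transvSet_fix m ht
          intro w hw
          rw [sympForm_swap, sympForm_single_inr_right, (hw i hik).1, neg_zero, neg_zero]
      · have : i = i0 := Fin.ext (by simp only [i0]; omega)
        rw [this]
        exact ⟨hfix _ ht2, hfix _ ht1⟩
    have : g = t * (t⁻¹ * g) := by group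
    rw [this]
    exact mul_mem htop hmem

/-- Generation of the symplectic group by symplectic transvections: the subgroup of Sp_2m(F) generated by all matrices of maps x ↦ x + c f(x, w) w is the whole group. -/
theorem result {F : Type*} [Field F] (m : ℕ) : Subgroup.closure {A : Matrix.symplecticGroup (Fin m) F | ∃ (w : Fin m ⊕ Fin m → F) (c : F), (A : Matrix (Fin m ⊕ Fin m) (Fin m ⊕ Fin m) F) = Cfsg.sympTransvection m w c} = ⊤ := by
  rw [← Cfsg.Agent.Lib.Helper17.transvSet_top, eq_top_iff]
  intro g _
  exact aux m m 0 (by omega) g (fun i hi => absurd hi (Nat.not_lt_zero _))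

end Cfsg.Agent.S0765
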