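import Cfsg.Statements.S0781
-- import your own Cfsg.Agent.* helpers here
import Cfsg.Agent.Lib.Helper17.UnitSiegel
import Cfsg.Agent.S0779

set_option autoImplicit false
open Cfsg

namespace Cfsg.Agent.S0781

open Cfsg.Agent.Lib.Helper17 Matrix

/-- In SU_n(q) with n ≥ 4, or n = 3 and q > 2, every element whose matrix is a unitary transvection x ↦ x + c h(x, v) v (v isotropic) is a commutator ⁅B, C⁆ of two elements of SU_n(q). -/
theorem result {F : Type*} [Field F] [Fintype F] {q : ℕ} (hF : Fintype.card F = q ^ 2) (n : ℕ) (hn : 4 ≤ n ∨ (n = 3 ∧ 3 ≤ q)) (A : ↥(Cfsg.SU n F q)) (v : Fin n → F) (c : F) (hv0 : Cfsg.hermForm n F q v v = 0) (hA : ((A : Matrix.SpecialLinearGroup (Fin n) F) : Matrix (Fin n) (Fin n) F) = Cfsg.unitaryTransvection n q v c) : A ∈ commutatorSet ↥(Cfsg.SU n F q) := by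
  classical
  have hn3 : 3 ≤ n := by rcases hn with h | h <;> omega
  have hq2 := two_le_of_card_sq hF
  have hq0 : q ≠ 0 := by omega
  by_cases htriv : v = 0 ∨ c = 0
  · have hA1 : A = 1 := by
      apply Subtype.ext
      apply Subtype.ext
      rw [hA]
      rcases htriv with h | h
      · simp [Cfsg.unitaryTransvection, h]
      · simp [Cfsg.unitaryTransvection, h]
    rw [hA1]
    exact one_mem_commutatorSet _
  push Not at htriv
  obtain ⟨hv, hc⟩ := htriv
  have hiso : ∀ x y : Fin n → F, Cfsg.hermForm n F q ((Cfsg.unitaryTransvection n q v c).mulVec x)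
      ((Cfsg.unitaryTransvection n q v c).mulVec y) = Cfsg.hermForm n F q x y := by
    intro x y
    rw [← hA]
    exact A.2 x y
  have hc1 : c ^ (q - 1) = -1 := ((Cfsg.Agent.S0779.result hF n v hv hv0 c).mp hiso).resolve_left hc
  have hcq : c ^ q = -c := by
    have : c ^ q = c ^ (q - 1) * c := by rw [← pow_succ, Nat.sub_add_cancel (by omega)]
    rw [this, hc1]
    ring
  obtain ⟨z, hzz, hzv⟩ := exists_unit_perp hF n hn3 v hv hv0
  obtain ⟨e, he⟩ := exists_trace_ne_zero hF
  obtain ⟨a, haq⟩ : ∃ a : F, a - a ^ q = c := by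
    refine ⟨c * e / (e + e ^ q), ?_⟩
    have h1 : (e + e ^ q) ^ q = e + e ^ q := by
      rw [add_pow_q hF, pow_q_pow_q hF, add_comm]
    rw [div_pow, mul_pow, hcq, h1]
    field_simp
    ring
  obtain ⟨b, hb⟩ := exists_trace_eq hF (-(a ^ (q + 1))) (by
    rw [neg_pow_q hF, ← pow_mul, mul_comm, pow_mul, pow_succ, pow_q_pow_q hF, pow_succ]
    ring)
  obtain ⟨b', hb'⟩ := exists_trace_eq hF (-1) (by rw [neg_pow_q hF, one_pow])
  have hyv : Cfsg.hermForm n F q (a • z) v = 0 := by rw [hermForm_smul_left, hzv, mul_zero]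
  have hyy : Cfsg.hermForm n F q (a • z) (a • z) = a ^ (q + 1) := by
    rw [hermForm_smul_left, hermForm_smul_right, hzz, pow_succ]
    ring
  let B := siegSU hF v (a • z) b hv0 hyv (by rw [hyy, hb]; ring)
  let C := siegSU hF v z b' hv0 hzv (by rw [hzz, hb']; ring)
  have hvz : Cfsg.hermForm n F q v z = 0 := by
    rw [← hermForm_conj hF, hzv, zero_pow hq0]
  have hBC : B * C = A * C * B := by
    apply Subtype.ext
    apply Subtype.ext
    rw [Matrix.ext_iff_mulVec]
    intro x
    change (siegMat q v (a • z) b * siegMat q v z b') *ᵥ x =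
      (((A : Matrix.SpecialLinearGroup (Fin n) F) : Matrix (Fin n) (Fin n) F) * siegMat q v z b' *
        siegMat q v (a • z) b) *ᵥ x
    rw [hA, ← Matrix.mulVec_mulVec, ← Matrix.mulVec_mulVec, ← Matrix.mulVec_mulVec, unitaryTransvection_mulVec,
      siegMat_mulVec v z b' hv0, siegMat_mulVec v (a • z) b hv0, siegMat_mulVec v (a • z) b hv0,
      siegMat_mulVec v z b' hv0]
    simp only [hermForm_add_left, hermForm_smul_left, hermForm_smul_right, hv0, hzv, hvz, hzz, hyv]
    funext i
    simp only [Pi.add_apply, Pi.smul_apply, smul_eq_mul]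
    linear_combination (Cfsg.hermForm n F q x v * v i) * haq
  rw [mem_commutatorSet_iff]
  refine ⟨B, C, ?_⟩
  rw [commutatorElement_def, hBC]
  group

end Cfsg.Agent.S0781
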