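import Cfsg.Statements.S1355
import Cfsg.Agent.Lib.Helper3.BG152C
import Cfsg.Agent.Lib.Helper28.BG16a
import Cfsg.Agent.Lib.Helper14.BG12A
import Cfsg.Agent.Lib.Helper74.NilAux
import Cfsg.Agent.S1415
import Cfsg.Agent.S1437
import Cfsg.Agent.S1351
import Cfsg.Agent.S1352

set_option autoImplicit false
open Cfsg

namespace Cfsg.Agent.S1355


open Cfsg.Agent.Lib.Helper30 Cfsg.Agent.Lib.Helper28.BG12

theorem isNilpotent_map_mk_of_le {G : Type*} [Group G] {M X : Subgroup G} (hXM : X ≤ M)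
    (hX : Group.IsNilpotent X) (h : ⁅M, M⁆ ≤ Cfsg.fittingHallOf M ⊔ X) :
    Group.IsNilpotent ↥((commutator ↥M).map (QuotientGroup.mk' (Cfsg.fittingHall ↥M))) := by
  have hX' : Group.IsNilpotent (X.subgroupOf M) :=
    (Group.isNilpotent_congr (Subgroup.subgroupOfEquivOfLe hXM)).mpr hX
  have h1 : commutator ↥M ≤ Cfsg.fittingHall ↥M ⊔ X.subgroupOf M := by
    rw [← Subgroup.map_le_map_iff_of_injective M.subtype_injective, Subgroup.map_sup,
      Subgroup.map_subgroupOf_eq_of_le hXM, Subgroup.map_subtype_commutator]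
    exact h
  have h2 : (commutator ↥M).map (QuotientGroup.mk' (Cfsg.fittingHall ↥M)) ≤
      (X.subgroupOf M).map (QuotientGroup.mk' (Cfsg.fittingHall ↥M)) := by
    refine (Subgroup.map_mono h1).trans ?_
    rw [Subgroup.map_sup]
    refine sup_le ?_ le_rfl
    rw [Subgroup.map_le_iff_le_comap]
    intro a ha
    rw [Subgroup.mem_comap]
    have : QuotientGroup.mk' (Cfsg.fittingHall ↥M) a = 1 := by
      rw [QuotientGroup.mk'_apply, QuotientGroup.eq_one_iff]
      exact ha
    rw [this]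
    exact one_mem _
  have h3 : Group.IsNilpotent ((X.subgroupOf M).map (QuotientGroup.mk' (Cfsg.fittingHall ↥M))) :=
    Group.nilpotent_of_surjective ((QuotientGroup.mk' (Cfsg.fittingHall ↥M)).subgroupMap (X.subgroupOf M))
      (MonoidHom.subgroupMap_surjective _ _)
  exact Cfsg.Agent.Lib.Helper74.isNilpotent_of_le h2 h3

/-- Let G be a minimal simple group of odd order and M a maximal subgroup. Then the largest normal nilpotent Hall subgroup M_F of M is nontrivial and contained in M_σ, M_σ is contained in the derived subgroup M', M' is proper in M, and the image of M' in M/M_F is nilpotent. -/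
theorem result {G : Type*} [Group G] [Finite G] (hG : Cfsg.IsMinSimpleOddOrder G)
    (M : Subgroup G) (hM : IsCoatom M) :
    Cfsg.fittingHallOf M ≠ ⊥ ∧ Cfsg.fittingHallOf M ≤ Cfsg.sigmaCore M ∧ Cfsg.sigmaCore M ≤ ⁅M, M⁆ ∧ ⁅M, M⁆ < M ∧
      Group.IsNilpotent ↥((commutator ↥M).map (QuotientGroup.mk' (Cfsg.fittingHall ↥M))) := by
  have hFS := Cfsg.Agent.Lib.Helper98.BG152.fittingHallOf_le_sigmaCore hG hM
  have hSM' := Cfsg.Agent.Lib.Helper14.BG12.sigmaCore_le_commutator hG hM
  have hMsol : Group.IsSolvable M := solvable_of_ne_top hG hM.1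
  have hM'lt : ⁅M, M⁆ < M := commutator_lt_of_solvable hMsol (coatom_ne_bot hG hM)
  have hSn := le_normalizer_sigmaCore M
  by_cases hne : Cfsg.fittingHallOf M = Cfsg.sigmaCore M
  · refine ⟨by rw [hne]; exact sigmaCore_ne_bot hG hM, hFS, hSM', hM'lt, ?_⟩
    obtain ⟨E, hE, -⟩ := exists_compl_ge hG hM (X := ⊥) bot_le (by
      intro q hq hqd
      rw [Subgroup.card_bot] at hqd
      exact absurd (Nat.dvd_one.mp hqd) hq.one_lt.ne')
    have hE' := (Cfsg.Agent.S1415.result hG M hM E hE).1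
    have hEM : E ≤ M := hE.1
    have hME : M ≤ Cfsg.sigmaCore M ⊔ E := by
      intro m hm
      obtain ⟨a, ha, b, hb, rfl⟩ := hE.2.2.2 m hm
      exact mul_mem (Subgroup.mem_sup_right ha) (Subgroup.mem_sup_left hb)
    apply isNilpotent_map_mk_of_le ((Subgroup.commutator_le_self E).trans hEM) hE'
    rw [hne]
    set C := Cfsg.sigmaCore M ⊔ ⁅E, E⁆ with hC
    have hEE : E ≤ Subgroup.normalizer ((⁅E, E⁆ : Subgroup G) : Set G) := by
      intro e he
      apply mem_normalizer_of_cj_eq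
      have h1 : cj e E = E := cj_eq_of_mem_normalizer (Subgroup.le_normalizer he)
      have h2 : cj e ⁅E, E⁆ = ⁅cj e E, cj e E⁆ := Subgroup.map_commutator _ _ _
      rw [h2, h1]
    have hEC : E ≤ Subgroup.normalizer (C : Set G) := le_normalizer_sup (hEM.trans hSn) hEE
    have hSC : Cfsg.sigmaCore M ≤ Subgroup.normalizer (C : Set G) :=
      le_sup_left.trans Subgroup.le_normalizer
    have hXS : ∀ X : Subgroup G, X ≤ M → ⁅X, Cfsg.sigmaCore M⁆ ≤ C := by
      intro X hX
      rw [Subgroup.commutator_comm]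
      exact (commutator_le_of_le_normalizer (hX.trans hSn)).trans le_sup_left
    have h1 : ⁅E, M⁆ ≤ C := by
      refine (Subgroup.commutator_mono le_rfl hME).trans ?_
      exact Cfsg.Agent.Lib.Helper3.BG117.commutator_sup_le (hXS E hEM) le_sup_right hSC hEC
    refine (Subgroup.commutator_mono le_rfl hME).trans ?_
    refine Cfsg.Agent.Lib.Helper3.BG117.commutator_sup_le (hXS M le_rfl) ?_ hSC hEC
    rw [Subgroup.commutator_comm]
    exact h1
  · obtain ⟨⟨K, hK⟩, hKc⟩ := Cfsg.Agent.S1351.result hG M hM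
    obtain ⟨⟨U, hKU⟩, -⟩ := Cfsg.Agent.S1352.result hG M hM K (hKc K hK) hK
    obtain ⟨-, hSeq, -, hqp, hqd, -, Q, hQF, -, hQp, hQidx, hD⟩ :=
      Cfsg.Agent.S1437.result hG M hM K U hKU hne
    set q := Nat.card ↥(Cfsg.sigmaCore M ⊓ Subgroup.centralizer (K : Set G)) with hq
    have := Fact.mk hqp
    refine ⟨ne_bot_of_dvd_card hqp hqd, hFS, hSM', hM'lt, ?_⟩
    have hSsol : Group.IsSolvable (Cfsg.sigmaCore M) := isSolvable_of_le (sigmaCore_le M) hMsol
    obtain ⟨D, hDh⟩ := Cfsg.Agent.Lib.Helper66.exists_isPiHallOf ({q}ᶜ : Set ℕ) (Cfsg.sigmaCore M) hSsol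
    have hQh : Cfsg.IsPiHallOf (({q}ᶜ : Set ℕ)ᶜ) Q (Cfsg.sigmaCore M) := by
      refine ⟨hQF.trans hFS, ?_, ?_⟩
      · intro p hp hpd
        rw [compl_compl, Set.mem_singleton_iff]
        exact prime_dvd_card_isPGroup hQp hp hpd
      · intro p hp hpq
        rw [compl_compl, Set.mem_singleton_iff] at hpq
        rw [hpq]
        exact hQidx
    have hQD : Cfsg.IsComplIn Q D (Cfsg.sigmaCore M) := isComplIn_of_hall_compl hDh hQh
    apply isNilpotent_map_mk_of_le (hDh.1.trans (sigmaCore_le M)) (hD D hQD).1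
    rw [← hSeq]
    intro m hm
    obtain ⟨a, ha, b, hb, rfl⟩ := hQD.2.2.2 m hm
    exact mul_mem (Subgroup.mem_sup_left (hQF ha)) (Subgroup.mem_sup_right hb)

end Cfsg.Agent.S1355
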