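import Cfsg.Statements.S1438
-- import your own Cfsg.Agent.* helpers here
import Cfsg.Agent.Lib.Helper13.BG153Main
import Cfsg.Agent.S1351
import Cfsg.Agent.S1352
import Cfsg.Agent.S1374
import Cfsg.Agent.S1417
import Cfsg.Agent.S1418
import Cfsg.Agent.S1419
import Cfsg.Agent.S1430
import Cfsg.Agent.S1431
import Cfsg.Agent.S1432
import Cfsg.Agent.S1437

set_option autoImplicit false
open Cfsg

namespace Cfsg.Agent.S1438

/-- Let G be a minimal simple group of odd order, M a maximal subgroup and H a nontrivial subgroup of M_σ whose order is coprime to its index in M_σ. Then M ∩ C_G(H) is generated by M_σ ∩ C_G(H) together with a cyclic subgroup X all of whose prime divisors lie in τ₂(M); and if x ∈ H and gxg⁻¹ ∈ H then nxn⁻¹ = gxg⁻¹ for some n ∈ M ∩ N_G(H). -/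
theorem result {G : Type*} [Group G] [Finite G] (hG : Cfsg.IsMinSimpleOddOrder G)
    (M : Subgroup G) (hM : IsCoatom M) (H : Subgroup G) (hH : H ≤ Cfsg.sigmaCore M) (hH1 : H ≠ ⊥)
    (hHall : (Nat.card H).Coprime (H.relIndex (Cfsg.sigmaCore M))) :
    (∃ X : Subgroup G, IsCyclic X ∧ (∀ p : ℕ, p.Prime → p ∣ Nat.card X → p ∈ Cfsg.tau2 M) ∧
        M ⊓ Subgroup.centralizer (H : Set G) = (Cfsg.sigmaCore M ⊓ Subgroup.centralizer (H : Set G)) ⊔ X) ∧
      ∀ x ∈ H, ∀ g : G, g * x * g⁻¹ ∈ H → ∃ n ∈ M ⊓ Subgroup.normalizer (H : Set G), n * x * n⁻¹ = g * x * g⁻¹ := by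
  have h17 : Cfsg.Agent.Lib.Helper28.BG12.T1417 G :=
    fun M hM p _ hp A hA => Cfsg.Agent.S1417.result hG M hM p hp A hA
  have h18 : Cfsg.Agent.Lib.Helper28.BG12.T1418 G :=
    fun M hM E hE p _ hp A hA => Cfsg.Agent.S1418.result hG M hM E hE p hp A hA
  have h19 : Cfsg.Agent.Lib.Helper28.BG12.T1419 G :=
    fun M hM E hE p _ hp hS A hA => Cfsg.Agent.S1419.result hG M hM E hE p hp hS A hA
  have h30 : Cfsg.Agent.Lib.Helper13.BG153.T30 G :=
    fun M hM K hK hK1 => (Cfsg.Agent.S1430.result hG M hM K hK hK1).1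
  have h31 : Cfsg.Agent.Lib.Helper13.BG153.T31 G :=
    fun M hM K hK hK1 p hp hpd S =>
      ((Cfsg.Agent.S1431.result hG M hM K hK hK1).2.2.1 p hp hpd S).2.2
  have h32 : Cfsg.Agent.Lib.Helper13.BG153.T32 G := by
    intro M hM x hx hx1 x' hx' hx'1 hσ
    rcases Cfsg.Agent.S1432.result hG M hM x hx hx1 x' hx' hx'1 hσ with h | h
    · exact Or.inl h.1
    · exact Or.inr h.1
  have h74 : Cfsg.Agent.Lib.Helper13.BG153.T74 G := by
    intro M hM x hx hx1 g hg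
    obtain ⟨-, R, -, hR, hu⟩ := Cfsg.Agent.S1374.result hG M hM x hx hx1
    obtain ⟨r, ⟨hrR, hr⟩, -⟩ := hu g hg
    exact ⟨r, hR.2.1 hrR, hr⟩
  have h37 : Cfsg.Agent.Lib.Helper13.BG153.T37 G := by
    intro M hM hnil
    obtain ⟨⟨K, hK⟩, hKc⟩ := Cfsg.Agent.S1351.result hG M hM
    obtain ⟨⟨U, hU⟩, -⟩ := Cfsg.Agent.S1352.result hG M hM K (hKc K hK) hK
    have hne : Cfsg.fittingHallOf M ≠ Cfsg.sigmaCore M := by
      intro h
      apply hnil
      rw [← h]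
      have h1 := Cfsg.Agent.S1474.fittingHall_nilpotent M
      exact (Group.isNilpotent_congr
        ((Cfsg.fittingHall M).equivMapOfInjective M.subtype M.subtype_injective)).mp h1
    obtain ⟨-, -, -, hq, -, hqβ, Q, hQF, hMQ, hQ, hQi, hD⟩ :=
      Cfsg.Agent.S1437.result hG M hM K U hU hne
    have : Fact (Nat.card ↥(Cfsg.sigmaCore M ⊓ Subgroup.centralizer (K : Set G))).Prime := ⟨hq⟩
    have hQM : Q ≤ M := hQF.trans (Subgroup.map_subtype_le _)
    refine ⟨_, Q, hq, ?_, hMQ, hQ, hQi, fun D hDc => (hD D hDc).1⟩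
    exact Cfsg.Agent.Lib.Helper28.BG12.isPGroup_le_sigmaCore hG hM
      (Cfsg.Agent.Lib.Helper68.mem_sigma_of_mem_alpha hG (Cfsg.Agent.Lib.Helper28.BG12.ut hG) hM
        hqβ.1) hQM hQ
  exact ⟨Cfsg.Agent.Lib.Helper13.BG153.part_a hG h17 h18 h19 h30 h31 h32 hM hH hH1 hHall,
    Cfsg.Agent.Lib.Helper13.BG153.part_b hG h74 h37 hM hH hHall⟩

end Cfsg.Agent.S1438
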