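import Cfsg.Statements.S1356
import Cfsg.Agent.Lib.Helper26.BG16B
import Cfsg.Agent.S1351
import Cfsg.Agent.S1352
import Cfsg.Agent.S1420
import Cfsg.Agent.S1426
import Cfsg.Agent.S1430
import Cfsg.Agent.S1437
import Cfsg.Agent.S1438
import Cfsg.Agent.S1439

set_option autoImplicit false
open Cfsg

namespace Cfsg.Agent.S1356

/-- Let G be a minimal simple group of odd order and M a maximal subgroup. Then the second derived subgroup M'' lies in the Fitting subgroup F(M), F(M) is generated by M_F together with C_M(M_F), and if κ(M) is nonempty then F(M) ≤ M'. -/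
theorem result {G : Type*} [Group G] [Finite G] (hG : Cfsg.IsMinSimpleOddOrder G)
    (M : Subgroup G) (hM : IsCoatom M) :
    ⁅⁅M, M⁆, ⁅M, M⁆⁆ ≤ Cfsg.fittingOf M ∧
      Cfsg.fittingOf M = (M ⊓ Subgroup.centralizer (Cfsg.fittingHallOf M : Set G)) ⊔ Cfsg.fittingHallOf M ∧
      ((Cfsg.kappa M).Nonempty → Cfsg.fittingOf M ≤ ⁅M, M⁆) := by
  refine Cfsg.Agent.Lib.Helper26.BG16.S1356_of hG M hM ?_ ?_ ?_ ?_ ?_ ?_ ?_ ?_
  · intro E hE
    exact (Cfsg.Agent.S1420.result hG M hM E hE).2.1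
  · intro E hE
    exact (Cfsg.Agent.S1426.result hG M hM E hE).2.1
  · obtain ⟨⟨K, hK⟩, hcyc⟩ := Cfsg.Agent.S1351.result hG M hM
    obtain ⟨U, hKU⟩ := (Cfsg.Agent.S1352.result hG M hM K (hcyc K hK) hK).1
    exact ⟨K, U, hKU⟩
  · intro K U hKU hne
    obtain ⟨h1, h2, h3, h4, -, -, Q, h5, h6, h7, h8, -⟩ :=
      Cfsg.Agent.S1437.result hG M hM K U hKU hne
    exact ⟨h1, h2, h3, h4, Q, h5, h6, h7, h8⟩
  · intro K hK hK1
    exact (Cfsg.Agent.S1430.result hG M hM K hK hK1).1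
  · intro K hK hK1
    obtain ⟨U, -, h1, h2, h3⟩ := (Cfsg.Agent.S1430.result hG M hM K hK hK1).2.1
    exact ⟨U, h1, h2, h3⟩
  · intro H hH hH1 hc
    exact (Cfsg.Agent.S1438.result hG M hM H hH hH1 hc).1
  · exact (Cfsg.Agent.S1439.result hG M hM).2

end Cfsg.Agent.S1356
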