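import Cfsg.Statements.S1357
import Cfsg.Agent.Lib.Helper3.BG152C
import Cfsg.Agent.Lib.Helper28.BG16a
import Cfsg.Agent.Lib.Helper14.BG12A
import Cfsg.Agent.Lib.Helper31.CN
import Cfsg.Agent.Lib.Helper74.Fitting
import Cfsg.Agent.S1437
import Cfsg.Agent.S1423

set_option autoImplicit false
open Cfsg

namespace Cfsg.Agent.S1357

open Cfsg.Agent.Lib.Helper30 Cfsg.Agent.Lib.Helper28.BG12

/-- Let G be a minimal simple group of odd order and M a maximal subgroup with standard factorisation M = K U M_σ. If M_F ≠ M_σ then U = 1, the Fitting subgroup F(M) meets its conjugates by elements outside its normalizer trivially, and K has prime order. -/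
theorem result {G : Type*} [Group G] [Finite G] (hG : Cfsg.IsMinSimpleOddOrder G)
    (M : Subgroup G) (hM : IsCoatom M) (K U : Subgroup G) (hKU : Cfsg.IsSigmaDecomposition M K U) (hne : Cfsg.fittingHallOf M ≠ Cfsg.sigmaCore M) :
    U = ⊥ ∧ Cfsg.IsTISubset (Cfsg.fittingOf M : Set G) ∧ (Nat.card K).Prime := by
  obtain ⟨hU, -, hKp, hqp, -, hqβ, Q, hQF, hMQ, hQp, hQidx, -⟩ :=
    Cfsg.Agent.S1437.result hG M hM K U hKU hne
  refine ⟨hU, ?_, hKp⟩
  set q := Nat.card ↥(Cfsg.sigmaCore M ⊓ Subgroup.centralizer (K : Set G)) with hq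
  have := Fact.mk hqp
  have hqσ : q ∈ Cfsg.sigma M :=
    (sigmaCore_hall hG hM).2.1 q hqp (Subgroup.card_dvd_of_le inf_le_left)
  have hQS : Q ≤ Cfsg.sigmaCore M :=
    hQF.trans (Cfsg.Agent.Lib.Helper98.BG152.fittingHallOf_le_sigmaCore hG hM)
  have hQM : Q ≤ M := hQS.trans (sigmaCore_le M)
  have hQsyl : IsSylowIn q Q (Cfsg.sigmaCore M) := ⟨hQS, hQp, hQidx⟩
  obtain ⟨P', hP'⟩ := hQsyl.exists_sylow
  have h23 := Cfsg.Agent.S1423.result hG M hM q hqσ
    (Cfsg.sigmaCore M ⊓ Subgroup.centralizer (K : Set G)) (inf_le_left.trans (sigmaCore_le M)) rfl P'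
    (Or.inl hqβ)
  have hQU : Cfsg.InUniqueMaximal Q := hP' ▸ h23.2.1
  have hFnil : Group.IsNilpotent (Cfsg.fittingOf M) :=
    (Group.isNilpotent_congr ((Cfsg.fittingSubgroup M).equivMapOfInjective M.subtype
      M.subtype_injective)).mp (Cfsg.Agent.Lib.Helper74.fittingSubgroup_isNilpotent M)
  have hQFit : Q ≤ Cfsg.fittingOf M := by
    refine hQF.trans (Subgroup.map_mono (sSup_le_sSup ?_))
    intro N hN
    exact ⟨hN.1, hN.2.1⟩
  have hFM : Cfsg.fittingOf M ≤ M := Subgroup.map_subtype_le _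
  have hMF : M ≤ Subgroup.normalizer (Cfsg.fittingOf M : Set G) :=
    Cfsg.Agent.Lib.Helper28.le_normalizer_map_subtype
      (Subgroup.sSup_normal _ (fun _ h => h.1))
  intro g hg x hx hgx
  by_contra hx1
  have hgM : g ∉ M := fun h => hg (hMF h)
  have hgM' : g⁻¹ ∉ M := fun h => hgM (by simpa using M.inv_mem h)
  -- a power of prime order
  have ho : orderOf x ≠ 1 := fun h => hx1 (orderOf_eq_one_iff.mp h)
  obtain ⟨l, hl, hld⟩ := Nat.exists_prime_and_dvd ho
  have := Fact.mk hl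
  set y := x ^ (orderOf x / l) with hy
  have hyo : orderOf y = l := orderOf_pow_orderOf_div (orderOf_pos x).ne' hld
  have hyF : y ∈ Cfsg.fittingOf M := Subgroup.pow_mem _ hx _
  have hgyF : g * y * g⁻¹ ∈ Cfsg.fittingOf M := by
    have : g * y * g⁻¹ = (g * x * g⁻¹) ^ (orderOf x / l) := by rw [hy, conj_pow]
    rw [this]
    exact Subgroup.pow_mem _ hgx _
  have hy1 : y ≠ 1 := by
    intro h0
    rw [h0, orderOf_one] at hyo
    exact hl.one_lt.ne hyo
  have hYc : Nat.card (Subgroup.zpowers y) = l := by rw [Nat.card_zpowers, hyo]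
  have hY1 : Subgroup.zpowers y ≠ ⊥ := by rwa [Ne, Subgroup.zpowers_eq_bot]
  have hYp : IsPGroup l (Subgroup.zpowers y) := IsPGroup.of_card (n := 1) (by rw [hYc, pow_one])
  by_cases hlq : l = q
  · -- `l = q`
    have hYc' : Nat.card (Subgroup.zpowers y) = q := hYc.trans hlq
    have hYp' : IsPGroup q (Subgroup.zpowers y) := IsPGroup.of_card (n := 1) (by rw [hYc', pow_one])
    have hYM : Subgroup.zpowers y ≤ M := by rw [Subgroup.zpowers_le]; exact hFM hyF
    have h23' := Cfsg.Agent.S1423.result hG M hM q hqσ (Subgroup.zpowers y) hYM hYc' P' (Or.inl hqβ)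
    have hYg : Subgroup.zpowers y ≤ cj g⁻¹ M := by
      rw [Subgroup.zpowers_le, mem_cj]
      simpa using hFM hgyF
    have h1 := Cfsg.Agent.Lib.Helper14.BG12.cj_eq_of_le_cj hG hM hqσ hYp' hY1 hYM h23'.1.1 hYg
    exact hgM' (mem_of_cj_eq hG hM h1)
  · -- `l ≠ q`
    have hcop : ∀ z ∈ Q, ∀ w : G, orderOf w = l → (orderOf w).Coprime (orderOf z) := by
      intro z hz w hw
      obtain ⟨k, hk⟩ := IsPGroup.iff_orderOf.mp hQp ⟨z, hz⟩
      rw [Subgroup.orderOf_mk] at hk
      rw [hw, hk]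
      exact Nat.Coprime.pow_right k ((Nat.coprime_primes hl hqp).mpr hlq)
    set C := Subgroup.normalizer ((Subgroup.zpowers y : Subgroup G) : Set G) with hC
    have hCtop : C ≠ ⊤ := normalizer_ne_top hG hY1 (Cfsg.Agent.Lib.Helper68.isPGroup_ne_top hG hYp)
    have hcen : ∀ z : G, y * z = z * y → z ∈ C := by
      intro z hz
      apply centralizer_le_normalizer' (Subgroup.zpowers y)
      rw [Cfsg.Agent.Lib.Helper3.BG152.centralizer_zpowers_eq, Subgroup.mem_centralizer_singleton_iff]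
      exact hz.symm
    have hQC : Q ≤ C := fun z hz =>
      hcen z (Cfsg.Agent.Lib.Helper31.commute_of_mem_nilpotent _ hFnil hyF (hQFit hz)
        (hcop z hz y hyo))
    have hQgC : cj g⁻¹ Q ≤ C := by
      rintro _ ⟨z, hz, rfl⟩
      apply hcen
      change y * (g⁻¹ * z * g⁻¹⁻¹) = g⁻¹ * z * g⁻¹⁻¹ * y
      have hgo : orderOf (g * y * g⁻¹) = l := by
        rw [← MulAut.conj_apply, MulEquiv.orderOf_eq, hyo]
      have h2 := Cfsg.Agent.Lib.Helper31.commute_of_mem_nilpotent _ hFnil hgyF (hQFit hz)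
        (hcop z hz _ hgo)
      calc y * (g⁻¹ * z * g⁻¹⁻¹) = g⁻¹ * ((g * y * g⁻¹) * z) * g := by group
        _ = g⁻¹ * (z * (g * y * g⁻¹)) * g := by rw [h2]
        _ = g⁻¹ * z * g⁻¹⁻¹ * y := by group
    have hCM : C ≤ M := Cfsg.Agent.Lib.Helper2.uniq_le hQU hM hQM hQC hCtop
    have h3 : Q ≤ cj g M := by
      have := cj_le_iff.mp (hQgC.trans hCM)
      rwa [inv_inv] at this
    have h4 := Cfsg.Agent.Lib.Helper2.uniq_eq hQU hM hQM (isCoatom_cj hM g) h3
    exact hgM (mem_of_cj_eq hG hM h4)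

end Cfsg.Agent.S1357
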