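import Cfsg.Statements.S1435
import Cfsg.Agent.Lib.Helper31.BG1435.MAIN
import Cfsg.Agent.S1354
import Cfsg.Agent.S1367
import Cfsg.Agent.S1368
import Cfsg.Agent.S1369
import Cfsg.Agent.S1372
import Cfsg.Agent.S1378
import Cfsg.Agent.S1415
import Cfsg.Agent.S1417
import Cfsg.Agent.S1418
import Cfsg.Agent.S1420
import Cfsg.Agent.S1423
import Cfsg.Agent.S1429
import Cfsg.Agent.S1430
import Cfsg.Agent.S1431
import Cfsg.Agent.S1432

set_option autoImplicit false
open Cfsg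

namespace Cfsg.Agent.S1435
/-- Let G be a minimal simple group of odd order, M a maximal subgroup with standard factorisation M = K U M_σ, K ≠ 1, U ≠ 1, K* = M_σ ∩ C_G(K), M* a maximal subgroup with K = M*_σ ∩ C_G(K*) and K* a Hall κ(M*)-subgroup of M*, r a prime dividing the order of U, R a Sylow r-subgroup of U, and H a maximal subgroup containing N_G(R). Then κ(H) is empty, U ≤ H_σ, M ∩ H = U ⊔ K, H ∩ N_G(U) ⊄ M, K ≤ F(H ∩ M*), and H ∩ M* is a complement to H_σ in H. -/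
theorem result {G : Type*} [Group G] [Finite G] (hG : Cfsg.IsMinSimpleOddOrder G)
    (M : Subgroup G) (hM : IsCoatom M) (K U : Subgroup G) (hKU : Cfsg.IsSigmaDecomposition M K U) (hK1 : K ≠ ⊥) (hU1 : U ≠ ⊥) (Mstar : Subgroup G) (hMstar : IsCoatom Mstar)
    (hKst : K = Cfsg.sigmaCore Mstar ⊓ Subgroup.centralizer ((Cfsg.sigmaCore M ⊓ Subgroup.centralizer (K : Set G)) : Set G))
    (hKstH : Cfsg.IsPiHallOf (Cfsg.kappa Mstar) (Cfsg.sigmaCore M ⊓ Subgroup.centralizer (K : Set G)) Mstar)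
    (r : ℕ) [Fact r.Prime] (hr : r ∣ Nat.card U) (R : Sylow r U) (H : Subgroup G) (hH : IsCoatom H)
    (hNR : Subgroup.normalizer (((R : Subgroup U).map U.subtype : Subgroup G) : Set G) ≤ H) :
    Cfsg.kappa H = ∅ ∧ U ≤ Cfsg.sigmaCore H ∧ M ⊓ H = U ⊔ K ∧ ¬ H ⊓ Subgroup.normalizer (U : Set G) ≤ M ∧
      K ≤ Cfsg.fittingOf (H ⊓ Mstar) ∧ Cfsg.IsComplIn (H ⊓ Mstar) (Cfsg.sigmaCore H) H := by
  have T : Cfsg.Agent.Lib.Helper31.BG1435.Tx G :=
    { t15 := fun M hM E hE => Cfsg.Agent.S1415.result hG M hM E hE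
      t17 := fun M hM p _ hp A hA => Cfsg.Agent.S1417.result hG M hM p hp A hA
      t18 := fun M hM E hE p _ hp A hA => Cfsg.Agent.S1418.result hG M hM E hE p hp A hA
      t20 := fun M hM E hE => Cfsg.Agent.S1420.result hG M hM E hE
      t23 := fun M hM p _ hp X hXM hX P h => Cfsg.Agent.S1423.result hG M hM p hp X hXM hX P h
      t29 := fun M hM hP1 p _ hpM hp S => Cfsg.Agent.S1429.result hG M hM hP1 p hpM hp S
      t30 := fun M hM K hK hK1 => Cfsg.Agent.S1430.result hG M hM K hK hK1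
      t31 := fun M hM K hK hK1 => Cfsg.Agent.S1431.result hG M hM K hK hK1
      t32 := fun M hM x hx hx1 x' hx' hx'1 hσ =>
        Cfsg.Agent.S1432.result hG M hM x hx hx1 x' hx' hx'1 hσ
      t54 := fun M hM K hKc hK => Cfsg.Agent.S1354.result hG M hM K hKc hK
      t67 := fun M hM K U hKU hK1 Ms hMs hKst hKstH =>
        Cfsg.Agent.S1367.result hG M hM K U hKU hK1 Ms hMs hKst hKstH
      t68 := fun M hM K U hKU hK1 Ms hMs hKst hKstH =>
        Cfsg.Agent.S1368.result hG M hM K U hKU hK1 Ms hMs hKst hKstH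
      t69 := fun M hM K U hKU hK1 Ms hMs hKst hKstH =>
        Cfsg.Agent.S1369.result hG M hM K U hKU hK1 Ms hMs hKst hKstH
      t72 := fun M hM K U hKU hK1 hU1 => Cfsg.Agent.S1372.result hG M hM K U hKU hK1 hU1
      t78 := Cfsg.Agent.S1378.result hG }
  exact Cfsg.Agent.Lib.Helper31.BG1435.S1435_of hG T M hM K U hKU hK1 hU1 Mstar hMstar hKst hKstH
    r hr R H hH hNR

end Cfsg.Agent.S1435
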