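import Cfsg.Statements.S1363
import Cfsg.Agent.Lib.Helper28.BG16b
import Cfsg.Agent.S1415
import Cfsg.Agent.S1430
import Cfsg.Agent.S1366
import Cfsg.Agent.S1435

set_option autoImplicit false
open Cfsg

namespace Cfsg.Agent.S1363



/-- Let G be a minimal simple group of odd order and M a maximal subgroup with standard factorisation M = K U M_σ and K ≠ 1. Then U is abelian and the normalizer of U in G is not contained in M. -/
theorem result {G : Type*} [Group G] [Finite G] (hG : Cfsg.IsMinSimpleOddOrder G)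
    (M : Subgroup G) (hM : IsCoatom M) (K U : Subgroup G) (hKU : Cfsg.IsSigmaDecomposition M K U) (hK1 : K ≠ ⊥) :
    IsMulCommutative U ∧ ¬ Subgroup.normalizer (U : Set G) ≤ M := by
  have hab := (Cfsg.Agent.Lib.Helper28.BG12.decomp_good hG
    (fun M hM E hE => Cfsg.Agent.S1415.result hG M hM E hE)
    (fun M hM K hK hK1 => Cfsg.Agent.S1430.result hG M hM K hK hK1) hM hKU hK1).1
  refine ⟨⟨⟨fun a b => Subtype.ext (hab a a.2 b b.2)⟩⟩, ?_⟩
  by_cases hU1 : U = ⊥
  · subst hU1
    intro h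
    apply hM.1
    rw [eq_top_iff]
    refine le_trans ?_ h
    intro x _
    rw [Subgroup.mem_normalizer_iff]
    intro y
    simp [Subgroup.mem_bot]
  · obtain ⟨Mstar, ⟨hMs, hKst, hKstH⟩, -⟩ := Cfsg.Agent.S1366.result hG M hM K U hKU hK1
    have hcard : Nat.card U ≠ 1 := fun h => hU1 ((Subgroup.card_eq_one (H := U)).mp h)
    haveI hpp : Fact (Nat.card U).minFac.Prime := ⟨Nat.minFac_prime hcard⟩
    obtain ⟨R⟩ : Nonempty (Sylow (Nat.card U).minFac U) := inferInstance
    have hR1 : (R : Subgroup U) ≠ ⊥ := R.ne_bot_of_dvd_card (Nat.minFac_dvd _)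
    have hR1' : (R : Subgroup U).map U.subtype ≠ ⊥ := by
      intro h
      exact hR1 ((Subgroup.map_eq_bot_iff_of_injective _ U.subtype_injective).mp h)
    have hRp : IsPGroup (Nat.card U).minFac ((R : Subgroup U).map U.subtype) := R.2.map _
    obtain ⟨H, hH, hNH⟩ := Cfsg.Agent.Lib.Helper2.exists_coatom_ge
      (Cfsg.Agent.Lib.Helper30.normalizer_ne_top hG hR1' (Cfsg.Agent.Lib.Helper68.isPGroup_ne_top hG hRp))
    have h35 := Cfsg.Agent.S1435.result hG M hM K U hKU hK1 hU1 Mstar hMs hKst hKstH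
      (Nat.card U).minFac (Nat.minFac_dvd _) R H hH hNH
    exact fun h => h35.2.2.2.1 (inf_le_right.trans h)

end Cfsg.Agent.S1363
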