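import Cfsg.Statements.S1375
-- import your own Cfsg.Agent.* helpers here
import Cfsg.Agent.Lib.Helper24.BG14D
import Cfsg.Agent.S1416
import Cfsg.Agent.S1417
import Cfsg.Agent.S1418
import Cfsg.Agent.S1378
import Cfsg.Agent.S1432
import Cfsg.Agent.S1352

set_option autoImplicit false
open Cfsg

namespace Cfsg.Agent.S1375

/-- Let G be a minimal simple group of odd order, M a maximal subgroup, x ≠ 1 in M_σ with C_G(x) not contained in M. Then exactly one maximal subgroup N contains C_G(x); for it N_σ = N_F, C_{N_σ}(x) is a normal subgroup of C_G(x) complementing C_M(x), M ∩ N is a complement to N_σ in N, and for every standard factorisation N = K' U' N_σ one has U' ≠ 1 and x ∈ A(N) with x ∉ N_σ. -/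
theorem result {G : Type*} [Group G] [Finite G] (hG : Cfsg.IsMinSimpleOddOrder G)
    (M : Subgroup G) (hM : IsCoatom M) (x : G) (hx : x ∈ Cfsg.sigmaCore M) (hx1 : x ≠ 1) (hxM : ¬ Subgroup.centralizer ({x} : Set G) ≤ M) :
    ∃ N : Subgroup G, (IsCoatom N ∧ Subgroup.centralizer ({x} : Set G) ≤ N) ∧ (∀ L : Subgroup G, IsCoatom L → Subgroup.centralizer ({x} : Set G) ≤ L → L = N) ∧
        Cfsg.sigmaCore N = Cfsg.fittingHallOf N ∧
        Subgroup.centralizer ({x} : Set G) ≤ Subgroup.normalizer ((Cfsg.sigmaCore N ⊓ Subgroup.centralizer ({x} : Set G) : Subgroup G) : Set G) ∧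
        Cfsg.IsComplIn (M ⊓ Subgroup.centralizer ({x} : Set G)) (Cfsg.sigmaCore N ⊓ Subgroup.centralizer ({x} : Set G)) (Subgroup.centralizer ({x} : Set G)) ∧
        Cfsg.IsComplIn (M ⊓ N) (Cfsg.sigmaCore N) N ∧
        ∀ K' U' : Subgroup G, Cfsg.IsSigmaDecomposition N K' U' → U' ≠ ⊥ ∧ x ∈ Cfsg.sigmaA N U' ∧ x ∉ Cfsg.sigmaCore N := by
  have h16 : Cfsg.Agent.Lib.Helper28.BG12.T1416 G := fun M hM p _ A hA =>
    (Cfsg.Agent.S1416.result hG M hM p A hA).1
  have h17 : Cfsg.Agent.Lib.Helper28.BG12.T1417 G := fun M hM p _ hp A hA =>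
    Cfsg.Agent.S1417.result hG M hM p hp A hA
  have h18 : Cfsg.Agent.Lib.Helper28.BG12.T1418 G := fun M hM E hE p _ hp A hA =>
    Cfsg.Agent.S1418.result hG M hM E hE p hp A hA
  have h78 : Cfsg.Agent.Lib.Helper24.BG14.T1378 G := (Cfsg.Agent.S1378.result hG).2
  have h32 : Cfsg.Agent.Lib.Helper24.BG14.T1432 G := fun M hM x hx hx1 x' hx' hx'1 hσ =>
    Cfsg.Agent.S1432.result hG M hM x hx hx1 x' hx' hx'1 hσ
  have h52 : Cfsg.Agent.Lib.Helper24.BG14.T1352 G := fun M hM K U hd =>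
    (Cfsg.Agent.S1352.result hG M hM K hd.cyclic hd.hall).2 U hd
  exact Cfsg.Agent.Lib.Helper24.BG14.S1375_of hG h16 h17 h18 h78 h32 h52 M hM x hx hx1 hxM

end Cfsg.Agent.S1375
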