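import Cfsg.Statements.S0932
import Cfsg.Agent.Lib.Helper20.CharColumn
import Cfsg.Agent.Lib.Helper19.IndFun2

set_option autoImplicit false
open Cfsg

namespace Cfsg.Agent.S0932

/-- Let H be a subgroup of the finite group G and ξ a character of H. For every g ∈ G, the sum of ξ h / ξ 1 over the elements h ∈ H that are conjugate in G to g equals the central character at g of the character of G induced from ξ (class size times value divided by degree). -/
theorem result {G : Type*} [Group G] [Fintype G] (H : Subgroup G) (ξ : H → ℂ) (hξ : Cfsg.IsCharacter H ξ) (g : G) : Cfsg.inducedCentralChar H ξ g = Cfsg.centralChar (Cfsg.indFun H ξ) g := by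
  classical
  have : Fintype H := Fintype.ofFinite H
  have hG : (Nat.card G : ℂ) ≠ 0 := by exact_mod_cast Nat.card_pos.ne'
  have hH : (Nat.card H : ℂ) ≠ 0 := by exact_mod_cast Nat.card_pos.ne'
  -- the indicator function of the class of g
  set δ : G → ℂ := fun x => if IsConj g x then (1 : ℂ) else 0 with hδdef
  have hδ : IsClassFunction G δ := by
    intro x c
    have : IsConj g (c * x * c⁻¹) ↔ IsConj g x := by
      constructor
      · intro h1; exact h1.trans (isConj_iff.2 ⟨c, rfl⟩ : IsConj x (c * x * c⁻¹)).symm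
      · intro h1; exact h1.trans (isConj_iff.2 ⟨c, rfl⟩ : IsConj x (c * x * c⁻¹))
    simp only [hδdef, this]
  have hconj : ∀ x, (starRingEnd ℂ) (δ x) = δ x := by
    intro x; simp only [hδdef]; split_ifs <;> simp
  have hfr := Cfsg.Agent.Lib.Helper19.frobenius_reciprocity H ξ δ hδ
  have h1 : ((Subgroup.centralizer ({g} : Set G)).index : ℂ) * indFun H ξ g =
      (Nat.card G : ℂ) * classInner (indFun H ξ) δ := by
    rw [classInner, ← mul_assoc, mul_inv_cancel₀ hG, one_mul,
      ← Cfsg.Agent.Lib.Helper20.sum_isConj_mul (Cfsg.Agent.Lib.Helper19.indFun_isClassFunction H ξ) g]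
    apply Finset.sum_congr rfl
    intro x _
    rw [hconj, mul_comm]
  have h2 : classInner ξ (fun h : H => δ h) =
      (Nat.card H : ℂ)⁻¹ * ∑ h : H, (if IsConj g (h : G) then ξ h else 0) := by
    rw [classInner]
    congr 1
    apply Finset.sum_congr rfl
    intro x _
    rw [hconj]
    simp only [hδdef]
    split_ifs <;> simp
  have h3 : indFun H ξ 1 = (Nat.card H : ℂ)⁻¹ * ((Nat.card G : ℂ) * ξ 1) := by
    rw [Cfsg.Agent.Lib.Helper19.indFun_apply]
    congr 1
    have : ∀ x : G, extendByZero H ξ (x⁻¹ * 1 * x) = ξ 1 := by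
      intro x
      have e : x⁻¹ * 1 * x = ((1 : H) : G) := by simp
      rw [e, Cfsg.Agent.Lib.Helper19.extendByZero_coe]
    simp only [this]
    rw [Finset.sum_const, Finset.card_univ, nsmul_eq_mul, Nat.card_eq_fintype_card]
  have h4 : inducedCentralChar H ξ g = (∑ h : H, (if IsConj g (h : G) then ξ h else 0)) / ξ 1 := by
    rw [inducedCentralChar, finsum_mem_eq_finite_toFinset_sum _ (Set.toFinite _), Finset.sum_div]
    rw [← Finset.sum_filter_add_sum_filter_not Finset.univ (fun h : H => IsConj g (h : G))
      (fun h : H => (if IsConj g (h : G) then ξ h else 0) / ξ 1)]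
    have e2 : ∑ h ∈ Finset.univ.filter (fun h : H => ¬ IsConj g (h : G)),
        (if IsConj g (h : G) then ξ h else 0) / ξ 1 = 0 := by
      apply Finset.sum_eq_zero
      intro h hh
      rw [Finset.mem_filter] at hh
      rw [if_neg hh.2, zero_div]
    rw [e2, add_zero]
    apply Finset.sum_congr
    · ext h; simp
    · intro h hh
      rw [Finset.mem_filter] at hh
      rw [if_pos hh.2]
  rw [h4, centralChar, h1, hfr, h2, h3]
  by_cases h0 : ξ 1 = 0
  · simp [h0]
  · field_simp

end Cfsg.Agent.S0932
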