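import Cfsg.Statements.S4435
import Cfsg.Agent.Lib.Helper20.FongReynolds3
open Cfsg.Agent.Lib.Helper20 Cfsg.Agent.Lib.Helper81 Cfsg.Agent.Lib.Helper21

set_option autoImplicit false
open Cfsg

namespace Cfsg.Agent.S4435

/-- Let N be a normal subgroup of the finite group G, b a block of N (relative to a maximal ideal M of the algebraic integers containing p), and T the stabilizer of b in G (the elements g such that conjugating any member of b by g gives a member of b); N ≤ T. Say that a block of T (or of G) covers b when some member has a constituent in b on restriction to N. Then: (i) every block B′ of T covering b induces a block B of G, B covers b, every ψ ∈ B′ induces to an irreducible character of G, and B consists exactly of the characters induced from members of B′; (ii) distinct blocks of T covering b induce distinct blocks of G; (iii) every block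 of G covering b is induced by some block of T covering b. -/
theorem result {G : Type*} [Group G] [Fintype G] (p : ℕ) [Fact p.Prime] (M : Ideal Cfsg.AlgInt) (hM : Cfsg.IsPModular p M) (N : Subgroup G) [hN : N.Normal] [Fintype N] (b : Set (Cfsg.IrrCharacter N)) (hb : Cfsg.IsPBlock M b) (T : Subgroup G) [Fintype T] (hT : ∀ g : G, g ∈ T ↔ ∀ θ ∈ b, ∀ θ' : Cfsg.IrrCharacter N, (∀ n : N, (θ' : N → ℂ) n = (θ : N → ℂ) ⟨g * n * g⁻¹, hN.conj_mem n n.2 g⟩) → θ' ∈ b) (hNT : N ≤ T) : (∀ B' : Set (Cfsg.IrrCharacter T), Cfsg.IsPBlock M B' → (∃ ψ ∈ B', ∃ θ ∈ b, Cfsg.classInner (fun n : N => (ψ : T → ℂ) ⟨(n : G), hNT n.2⟩) (θ : N → ℂ) ≠ 0) → ∃ B : Set (Cfsg.IrrCharacter G), Cfsg.IsInducedBlock M T B' B ∧ (∃ χ ∈ B, ∃ θ ∈ b, Cfsg.classInner (fun n : N => (χ : G → ℂ) n) (θ : N → ℂ) ≠ 0) ∧ (∀ ψ ∈ B', Cfsg.IsIrrCharacter G (Cfsg.indFun T (ψ : T → ℂ))) ∧ ∀ χ : Cfsg.IrrCharacter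 G, χ ∈ B ↔ ∃ ψ ∈ B', (χ : G → ℂ) = Cfsg.indFun T (ψ : T → ℂ)) ∧ (∀ B'₁ B'₂ : Set (Cfsg.IrrCharacter T), Cfsg.IsPBlock M B'₁ → Cfsg.IsPBlock M B'₂ → (∃ ψ ∈ B'₁, ∃ θ ∈ b, Cfsg.classInner (fun n : N => (ψ : T → ℂ) ⟨(n : G), hNT n.2⟩) (θ : N → ℂ) ≠ 0) → (∃ ψ ∈ B'₂, ∃ θ ∈ b, Cfsg.classInner (fun n : N => (ψ : T → ℂ) ⟨(n : G), hNT n.2⟩) (θ : N → ℂ) ≠ 0) → ∀ B : Set (Cfsg.IrrCharacter G), Cfsg.IsInducedBlock M T B'₁ B → Cfsg.IsInducedBlock M T B'₂ B → B'₁ = B'₂) ∧ (∀ B : Set (Cfsg.IrrCharacter G), Cfsg.IsPBlock M B → (∃ χ ∈ B, ∃ θ ∈ b, Cfsg.classInner (fun n : N => (χ : G → ℂ) n) (θ : N → ℂ) ≠ 0) → ∃ B' : Set (Cfsg.IrrCharacter T), Cfsg.IsPBlock M B' ∧ (∃ ψ ∈ B', ∃ θ ∈ b, Cfsg.classInner (fun n : N => (ψ : T → ℂ) ⟨(n : G), hNT n.2⟩) (θ : N → ℂ) ≠ 0) ∧ Cfsg.IsInducedBlock M T B' B) := by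
  classical
  have hT' := stab_iff hN hT
  have hfr := frData hM hN hb hT' hNT
  have hER := ext0_blockCoeff_memLocalRing (G := G) hM hb
  refine ⟨?_, ?_, ?_⟩
  · rintro B' hB' ⟨ψ₀, hψ₀, hcov⟩
    have hov : omega (ψ₀ : T → ℂ) (fun t : T => ext0 N (blockCoeff b) t) = 1 :=
      (over_iff hNT hfr ψ₀.2).2 hcov
    have hirr := hfr.isIrrCharacter_indFun ψ₀.2 hov
    have eB' := isPBlock_eq_blockOf hM hB' hψ₀
    refine ⟨blockOf M (indFun T (ψ₀ : T → ℂ)), ?_, ?_, ?_, ?_⟩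
    · rw [eB']
      exact Cfsg.Agent.S0933.result p M hM T ψ₀ hirr
    · refine ⟨⟨_, hirr⟩, mem_blockOf_self hM ⟨_, hirr⟩, ?_⟩
      exact (sum_ne_zero_iff hNT b hirr).1
        (hfr.sum_ne_zero_of_sameBlock hM hER ψ₀.2 hov hirr (sameBlock_refl hM _))
    · intro ψ hψ
      exact hfr.isIrrCharacter_indFun ψ.2
        (hfr.over_of_sameBlock hM hER ψ₀.2 hov ψ.2 (isPBlock_sameBlock hM hB' hψ₀ hψ))
    · intro χ
      rw [eB']
      exact hfr.mem_blockOf_indFun_iff hM hER hov χ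
  · rintro B'₁ B'₂ hB'₁ hB'₂ ⟨ψ₁, hψ₁, hcov₁⟩ ⟨ψ₂, hψ₂, hcov₂⟩ B hind₁ hind₂
    have hov₁ : omega (ψ₁ : T → ℂ) (fun t : T => ext0 N (blockCoeff b) t) = 1 :=
      (over_iff hNT hfr ψ₁.2).2 hcov₁
    have hov₂ : omega (ψ₂ : T → ℂ) (fun t : T => ext0 N (blockCoeff b) t) = 1 :=
      (over_iff hNT hfr ψ₂.2).2 hcov₂
    have e₁ := eq_blockOf_indFun_of_induced hM hind₁ hψ₁
    have e₂ := eq_blockOf_indFun_of_induced hM hind₂ hψ₂
    have hirr₂ := hfr.isIrrCharacter_indFun ψ₂.2 hov₂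
    have h1 : (⟨_, hirr₂⟩ : IrrCharacter G) ∈ blockOf M (indFun T (ψ₁ : T → ℂ)) := by
      rw [← e₁, e₂]
      exact mem_blockOf_self hM ⟨_, hirr₂⟩
    have h2 : SameBlock M (indFun T (ψ₁ : T → ℂ)) (indFun T (ψ₂ : T → ℂ)) := h1
    have h3 := hfr.sameBlock_of_indFun hM hER ψ₁.2 hov₁ ψ₂.2 hov₂ h2
    have h4 : ψ₂ ∈ blockOf M (ψ₁ : T → ℂ) := h3
    rw [isPBlock_eq_blockOf hM hB'₁ hψ₁, isPBlock_eq_blockOf hM hB'₂ hψ₂]
    exact (blockOf_eq_of_mem hM h4).symm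
  · rintro B hB ⟨χ, hχ, hcov⟩
    obtain ⟨μ, hμ, e⟩ := hfr.exists_of_sum_ne_zero χ.2 ((sum_ne_zero_iff hNT b χ.2).2 hcov)
    refine ⟨blockOf M (μ : T → ℂ), ⟨μ, rfl⟩, ⟨μ, mem_blockOf_self hM μ, (over_iff hNT hfr μ.2).1 hμ⟩, ?_⟩
    rw [isPBlock_eq_blockOf hM hB hχ, e]
    exact Cfsg.Agent.S0933.result p M hM T μ (hfr.isIrrCharacter_indFun μ.2 hμ)

end Cfsg.Agent.S4435
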