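import Cfsg.Statements.S4436
import Cfsg.Agent.Lib.Helper20.FongReynolds3
import Cfsg.Agent.Lib.Helper81.Heights
import Cfsg.Agent.Lib.Helper21.DefectCard
open Cfsg.Agent.Lib.Helper20 Cfsg.Agent.Lib.Helper81 Cfsg.Agent.Lib.Helper21

set_option autoImplicit false
open Cfsg

namespace Cfsg.Agent.S4436

/-- Let N be a normal subgroup of the finite group G, b a block of N (relative to a maximal ideal M of the algebraic integers containing p), T the stabilizer of b in G, N ≤ T, and B′ a block of T covering b (some member of B′ has a constituent in b on restriction to N) that induces the block B of G. Then every defect group of B′ is a defect group of B, and for every ψ ∈ B′ the induced character ψ^G is an irreducible character of G lying in B with the same height as ψ. -/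
theorem result {G : Type*} [Group G] [Fintype G] (p : ℕ) [Fact p.Prime] (M : Ideal Cfsg.AlgInt) (hM : Cfsg.IsPModular p M) (N : Subgroup G) [hN : N.Normal] [Fintype N] (b : Set (Cfsg.IrrCharacter N)) (hb : Cfsg.IsPBlock M b) (T : Subgroup G) [Fintype T] (hT : ∀ g : G, g ∈ T ↔ ∀ θ ∈ b, ∀ θ' : Cfsg.IrrCharacter N, (∀ n : N, (θ' : N → ℂ) n = (θ : N → ℂ) ⟨g * n * g⁻¹, hN.conj_mem n n.2 g⟩) → θ' ∈ b) (hNT : N ≤ T) (B' : Set (Cfsg.IrrCharacter T)) (hB' : Cfsg.IsPBlock M B') (hcov : (∃ ψ ∈ B', ∃ θ ∈ b, Cfsg.classInner (fun n : N => (ψ : T → ℂ) ⟨(n : G), hNT n.2⟩) (θ : N → ℂ) ≠ 0)) (B : Set (Cfsg.IrrCharacter G)) (hind : Cfsg.IsInducedBlock M T B' B) : (∀ D : Subgroup T, Cfsg.IsDefectGroup p M B' D → Cfsg.IsDefectGroup p M B (D.map T.subtype)) ∧ ∀ ψ ∈ B', ∃ χ ∈ B, (χ : G → ℂ) = Cfsg.indFun T (ψ : T → ℂ) ∧ Cfsg.blockHeight p B (χ : G → ℂ) = Cfsg.blockHeight p B' (ψ : T → ℂ) := by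
  classical
  have hT' := stab_iff hN hT
  have hfr := frData hM hN hb hT' hNT
  have hER := ext0_blockCoeff_memLocalRing (G := G) hM hb
  obtain ⟨ψ₀, hψ₀, hcov₀⟩ := hcov
  have hov : omega (ψ₀ : T → ℂ) (fun t : T => ext0 N (blockCoeff b) t) = 1 :=
    (over_iff hNT hfr ψ₀.2).2 hcov₀
  have eB := eq_blockOf_indFun_of_induced hM hind hψ₀
  have eB' := isPBlock_eq_blockOf hM hB' hψ₀
  have hmem : ∀ χ : IrrCharacter G, χ ∈ B ↔ ∃ ψ ∈ B', (χ : G → ℂ) = indFun T (ψ : T → ℂ) := by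
    intro χ
    rw [eB, eB']
    exact hfr.mem_blockOf_indFun_iff hM hER hov χ
  have hirr : ∀ ψ ∈ B', IsIrrCharacter G (indFun T (ψ : T → ℂ)) := fun ψ hψ =>
    hfr.isIrrCharacter_indFun ψ.2
      (hfr.over_of_sameBlock hM hER ψ₀.2 hov ψ.2 (isPBlock_sameBlock hM hB' hψ₀ hψ))
  have hi : T.index ≠ 0 := Subgroup.index_ne_zero_of_finite
  have hnu : ∀ (χ : IrrCharacter G) (ψ : IrrCharacter T), (χ : G → ℂ) = indFun T (ψ : T → ℂ) →
      nuDeg p χ = T.index.factorization p + nuDeg p ψ := by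
    intro χ ψ e
    have h1 : charDegree (χ : G → ℂ) = T.index * charDegree (ψ : T → ℂ) := by
      have h2 := irr_one_eq χ
      rw [e, Cfsg.Agent.Lib.Helper19.indFun_apply_one, irr_one_eq ψ, ← e] at h2
      exact_mod_cast h2.symm
    rw [nuDeg, h1, Nat.factorization_mul hi (charDegree_ne_zero ψ)]
    rfl
  have hmin : minDeg p B = T.index.factorization p + minDeg p B' := by
    apply le_antisymm
    · obtain ⟨ψ₁, hψ₁, h1⟩ := exists_minDeg (p := p) (isPBlock_nonempty hM hB')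
      have h2 : (⟨_, hirr ψ₁ hψ₁⟩ : IrrCharacter G) ∈ B := (hmem _).2 ⟨ψ₁, hψ₁, rfl⟩
      have h3 := minDeg_le (p := p) h2
      rw [hnu _ ψ₁ rfl, h1] at h3
      exact h3
    · obtain ⟨χ₁, hχ₁, h1⟩ := exists_minDeg (p := p) (isPBlock_nonempty hM hind.2.1)
      obtain ⟨ψ₁, hψ₁, e⟩ := (hmem χ₁).1 hχ₁
      rw [← h1, hnu χ₁ ψ₁ e]
      exact Nat.add_le_add_left (minDeg_le hψ₁) _
  refine ⟨?_, ?_⟩
  · intro D hD
    obtain ⟨E', hE', hle⟩ := defectGroup_le_of_induced hM hind D hD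
    have c1 := card_defectGroup hM B' hB' D hD
    have c2 := card_defectGroup hM B hind.2.1 E' hE'
    have d1 := blockDefect_add (p := p) (isPBlock_nonempty hM hB')
    have d2 := blockDefect_add (p := p) (isPBlock_nonempty hM hind.2.1)
    have d3 : (Nat.card G).factorization p = (Nat.card T).factorization p
        + T.index.factorization p := by
      rw [← T.card_mul_index, Nat.factorization_mul Nat.card_pos.ne' hi]
      rfl
    have d4 : blockDefect p B = blockDefect p B' := by omega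
    have c3 : Nat.card (D.map T.subtype) = Nat.card D :=
      Subgroup.card_map_of_injective (Subgroup.subtype_injective _)
    have e : D.map T.subtype = E' := by
      apply Subgroup.eq_of_le_of_card_ge hle
      rw [c2, c3, c1, d4]
    rw [e]
    exact hE'
  · intro ψ hψ
    have h2 : (⟨_, hirr ψ hψ⟩ : IrrCharacter G) ∈ B := (hmem _).2 ⟨ψ, hψ, rfl⟩
    refine ⟨⟨_, hirr ψ hψ⟩, h2, rfl, ?_⟩
    have a1 := blockHeight_add (p := p) h2
    have a2 := blockHeight_add (p := p) hψ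
    have a3 := hnu ⟨_, hirr ψ hψ⟩ ψ rfl
    omega

end Cfsg.Agent.S4436
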