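import Cfsg.Statements.S0887
import Cfsg.Agent.Lib.Helper79.DegreeRatio
import Cfsg.Agent.Lib.Helper5.Inertia
import Cfsg.Agent.S0854

set_option autoImplicit false
open Cfsg

namespace Cfsg.Agent.S0887

/-- Let N be a normal subgroup of the finite group G, χ an irreducible character of G and ϑ an irreducible character of N having nonzero inner product with the restriction of χ. If χ 1 = c and ϑ 1 = d as natural numbers, then d divides c and c / d divides the index of N. -/
theorem result {G : Type*} [Group G] [Fintype G] (N : Subgroup G) [N.Normal] [Fintype N] (χ : G → ℂ) (hχ : Cfsg.IsIrrCharacter G χ) (ϑ : N → ℂ) (hϑ : Cfsg.IsIrrCharacter N ϑ) (hcon : Cfsg.classInner (fun n : N => χ n) ϑ ≠ 0) (c d : ℕ) (hc : χ 1 = c) (hd : ϑ 1 = d) : d ∣ c ∧ c / d ∣ N.index := by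
  classical
  have hN : N.Normal := inferInstance
  let T := Lib.Helper5.inertia hN ϑ
  have hNT : N ≤ T := Lib.Helper5.le_inertia hN
    (Lib.Helper20.isClassFunction_of_isCharacter (Lib.Helper20.isCharacter_of_isIrrCharacter hϑ))
  have := Fintype.ofFinite T
  obtain ⟨ψ, hψ, hind, hin⟩ := Cfsg.Agent.S0854.result N ϑ hϑ T (Lib.Helper5.mem_inertia' hN ϑ)
    hNT χ hχ hcon
  let N' : Subgroup T := N.subgroupOf T
  have := Fintype.ofFinite N'
  let ϑ' : N' → ℂ := fun x => ϑ ⟨((x : T) : G), x.2⟩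
  have hϑ' : Cfsg.IsIrrCharacter N' ϑ' :=
    Lib.Helper82.isIrr_comp_surj hϑ (Subgroup.subgroupOfEquivOfLe hNT).toMonoidHom
      (Subgroup.subgroupOfEquivOfLe hNT).surjective
  have hinv' : ∀ (t : T) (x : N'), ϑ' ⟨t * x * t⁻¹,
      (inferInstance : N'.Normal).conj_mem (x : T) x.2 t⟩ = ϑ' x :=
    fun t x => (Lib.Helper5.mem_inertia' hN ϑ t).mp t.2 ⟨((x : T) : G), x.2⟩
  have hcon' : Cfsg.classInner (fun x : N' => ψ x) ϑ' ≠ 0 := by
    have h0 := Lib.Helper5.classInner_comp_equiv (Subgroup.subgroupOfEquivOfLe hNT)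
      (fun n : N => ψ ⟨(n : G), hNT n.2⟩) ϑ
    rw [hin] at h0
    intro hz
    apply hcon
    rw [← h0]
    exact hz
  obtain ⟨e, he0, hψN, -⟩ := Lib.Helper79.restrict_eq_smul_of_invariant N' hψ hϑ' hcon' hinv'
  have hdvd := Lib.Helper79.dvd_index_of_restrict_eq_smul N' hψ hϑ' e
    (fun n => congrFun hψN n) he0
  have h1 : χ 1 = T.index * ψ 1 := by rw [← hind, Lib.Helper19.indFun_apply_one]
  have h2 : ψ 1 = e * ϑ 1 := congrFun hψN 1
  have h3 : c = T.index * e * d := by
    rw [h2, hc, hd] at h1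
    have : (c : ℂ) = ((T.index * e * d : ℕ) : ℂ) := by rw [h1]; push_cast; ring
    exact_mod_cast this
  have hd0 : 0 < d := by
    rcases Nat.eq_zero_or_pos d with h0 | h0
    · exfalso
      apply Lib.Helper79.IsIrrCharacter.one_ne_zero hϑ
      rw [hd, h0]; simp
    · exact h0
  constructor
  · exact ⟨T.index * e, by rw [h3]; ring⟩
  · rw [h3, Nat.mul_div_cancel _ hd0, ← Subgroup.relIndex_mul_index hNT, mul_comm]
    exact Nat.mul_dvd_mul hdvd (dvd_refl _)

end Cfsg.Agent.S0887
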