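import Cfsg.Statements.S0916
import Cfsg.Agent.Lib.Helper20.SylowIn
open Cfsg.Agent.Lib.Helper20

set_option autoImplicit false
open Cfsg

namespace Cfsg.Agent.S0916

/-- Let P be a p-subgroup of the finite group G, C its centralizer and N its normalizer. Say that a conjugacy class (of G, or of N) has defect group P when P is a Sylow p-subgroup of the centralizer (in G, respectively in N) of some element of the class. Then: (i) if the class of g in G has defect group P, the elements of that class lying in C form a single N-class, again with defect group P; (ii) every N-class with defect group P arises this way from exactly one G-class with defect group P. -/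
theorem result {G : Type*} [Group G] [Finite G] (p : ℕ) [Fact p.Prime] (P : Subgroup G) (hP : IsPGroup p P) : (∀ g : G, (∃ S : Sylow p (Subgroup.centralizer ({g} : Set G)), (S : Subgroup (Subgroup.centralizer ({g} : Set G))).map (Subgroup.centralizer ({g} : Set G)).subtype = P) → (∃ c : G, IsConj g c ∧ c ∈ Subgroup.centralizer (P : Set G)) ∧ (∀ c₁ c₂ : G, IsConj g c₁ → IsConj g c₂ → c₁ ∈ Subgroup.centralizer (P : Set G) → c₂ ∈ Subgroup.centralizer (P : Set G) → ∃ n ∈ Subgroup.normalizer (P : Set G), n * c₁ * n⁻¹ = c₂)) ∧ (∀ c : G, c ∈ Subgroup.centralizer (P : Set G) → (∃ S : Sylow p (Subgroup.centralizer ({c} : Set G) ⊓ Subgroup.normalizer (P : Set G) : Subgroup G), (S : Subgroup ↥(Subgroup.centralizer ({c} : Set G) ⊓ Subgroup.normalizer (P : Set G))).map (Subgroup.centralizer ({c} : Set G) ⊓ Subgroup.normalizer (P : Set G)).subtype = P) → ∃ S : Sylow p (Subgroup.centralizer ({c} : Set G)), (S : Subgroup (Subgroup.centralizer ({c} : Set G))).map (Subgroup.centralizer ({c} : Set G)).subtype = P) := by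
  have hsyl : ∀ (K Q : Subgroup G), (∃ S : Sylow p K, (S : Subgroup K).map K.subtype = Q) ↔
      SylowIn p K Q := fun _ _ => Iff.rfl
  -- a conjugate of g centralizing P has P as a Sylow subgroup of its centralizer
  have key : ∀ g : G, SylowIn p (Subgroup.centralizer ({g} : Set G)) P → ∀ c : G, IsConj g c →
      c ∈ Subgroup.centralizer (P : Set G) → SylowIn p (Subgroup.centralizer ({c} : Set G)) P := by
    intro g hg c hgc hc
    obtain ⟨a, rfl⟩ := isConj_iff.1 hgc
    have h1 := hg.map_conj a
    rw [← centralizer_singleton_conj] at h1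
    refine h1.of_card_eq hP ?_ (card_map_conj P a).symm
    intro u hu
    rw [Subgroup.mem_centralizer_singleton_iff]
    exact Subgroup.mem_centralizer_iff.1 hc u hu
  refine ⟨?_, ?_⟩
  · intro g hg
    rw [hsyl] at hg
    refine ⟨⟨g, IsConj.refl g, ?_⟩, ?_⟩
    · rw [Subgroup.mem_centralizer_iff]
      intro u hu
      exact Subgroup.mem_centralizer_singleton_iff.1 (hg.le hu)
    · intro c₁ c₂ h1 h2 hc1 hc2
      have s1 := key g hg c₁ h1 hc1
      have s2 := key g hg c₂ h2 hc2
      obtain ⟨b, rfl⟩ := isConj_iff.1 (h1.symm.trans h2)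
      have s3 := s1.map_conj b
      rw [← centralizer_singleton_conj] at s3
      obtain ⟨k, hk, hkP⟩ := s3.exists_conj s2
      refine ⟨k * b, ?_, ?_⟩
      · rw [Subgroup.mem_normalizer_iff]
        intro x
        have e : ∀ y, y ∈ P ↔ b⁻¹ * (k⁻¹ * y * k) * b ∈ P := by
          intro y
          conv_lhs => rw [← hkP]
          rw [mem_map_conj, mem_map_conj]
        rw [e (k * b * x * (k * b)⁻¹)]
        have : b⁻¹ * (k⁻¹ * (k * b * x * (k * b)⁻¹) * k) * b = x := by group
        rw [this]
      · rw [Subgroup.mem_centralizer_singleton_iff] at hk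
        have : k * b * c₁ * (k * b)⁻¹ = k * (b * c₁ * b⁻¹) * k⁻¹ := by group
        rw [this, hk]; group
  · intro c hc hS
    rw [hsyl] at hS ⊢
    have hPc : P ≤ Subgroup.centralizer ({c} : Set G) := by
      intro u hu
      rw [Subgroup.mem_centralizer_singleton_iff]
      exact Subgroup.mem_centralizer_iff.1 hc u hu
    obtain ⟨Q, hQ, hPQ⟩ := exists_sylowIn_ge hP hPc
    suffices h : P = Q by rw [h]; exact hQ
    by_contra hne
    have : Group.IsNilpotent Q := hQ.isPGroup.isNilpotent
    have hnc := Group.normalizerCondition_of_isNilpotent (G := Q)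
    have hlt : P.subgroupOf Q < ⊤ := by
      rw [lt_top_iff_ne_top]
      intro h
      rw [Subgroup.subgroupOf_eq_top] at h
      exact hne (le_antisymm hPQ h)
    have h2 := hnc _ hlt
    obtain ⟨x, hx, hxP⟩ := SetLike.exists_of_lt h2
    set R : Subgroup G := (Subgroup.normalizer ((P.subgroupOf Q : Subgroup Q) : Set Q)).map Q.subtype
      with hR
    have hRQ : R ≤ Q := Subgroup.map_subtype_le _
    have hRp : IsPGroup p R := hQ.isPGroup.to_le hRQ
    have hPR : P ≤ R := by
      intro u hu
      refine ⟨⟨u, hPQ hu⟩, ?_, rfl⟩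
      apply Subgroup.le_normalizer
      rw [Subgroup.mem_subgroupOf]
      exact hu
    have hRN : R ≤ Subgroup.centralizer ({c} : Set G) ⊓ Subgroup.normalizer (P : Set G) := by
      refine le_inf (hRQ.trans hQ.le) ?_
      rintro _ ⟨y, hy, rfl⟩
      rw [SetLike.mem_coe, Subgroup.mem_normalizer_iff] at hy
      rw [Subgroup.mem_normalizer_iff]
      intro z
      constructor
      · intro hz
        have := (hy ⟨z, hPQ hz⟩).1 (by rw [Subgroup.mem_subgroupOf]; exact hz)
        rw [Subgroup.mem_subgroupOf] at this
        exact this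
      · intro hz
        have hzQ : z ∈ Q := by
          have h3 : (y : G)⁻¹ * ((y : G) * z * (y : G)⁻¹) * (y : G) ∈ Q :=
            Q.mul_mem (Q.mul_mem (Q.inv_mem y.2) (hPQ hz)) y.2
          have h4 : (y : G)⁻¹ * ((y : G) * z * (y : G)⁻¹) * (y : G) = z := by group
          rwa [h4] at h3
        have := (hy ⟨z, hzQ⟩).2 (by rw [Subgroup.mem_subgroupOf]; exact hz)
        rw [Subgroup.mem_subgroupOf] at this
        exact this
    have hRP := hS.eq_of_le hRp hPR hRN
    apply hxP
    rw [Subgroup.mem_subgroupOf, ← hRP]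
    exact ⟨x, hx, rfl⟩

end Cfsg.Agent.S0916
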