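import Cfsg.Statements.S0160
import Cfsg.Agent.Lib.Helper4.CharConj
import Cfsg.Agent.Lib.Helper4.CharIntegral
import Cfsg.Agent.S0145

set_option autoImplicit false
open Cfsg

namespace Cfsg.Agent.S0160

open Cfsg.Agent.Lib.Helper4 in
theorem sum_card_centralizer_fiber {G : Type*} [Group G] [Fintype G] [DecidableEq (ConjClasses G)]
    (C : ConjClasses G) :
    ∑ g ∈ Finset.univ.filter (fun g : G => ConjClasses.mk g = C),
      (Nat.card (Subgroup.centralizer ({g} : Set G)) : ℂ) = (Nat.card G : ℂ) := by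
  classical
  set F := Finset.univ.filter (fun g : G => ConjClasses.mk g = C) with hF
  obtain ⟨g₀, hg₀⟩ := ConjClasses.mk_surjective C
  have hFne : (F.card : ℂ) ≠ 0 := by
    have : 0 < F.card := Finset.card_pos.mpr ⟨g₀, by simp [hF, hg₀]⟩
    exact_mod_cast this.ne'
  have key : ∀ g ∈ F, (Nat.card (Subgroup.centralizer ({g} : Set G)) : ℂ) =
      (Nat.card G : ℂ) / (F.card : ℂ) := by
    intro g hg
    have hgC : ConjClasses.mk g = C := (Finset.mem_filter.mp hg).2
    have h1 : F.card = (Subgroup.centralizer ({g} : Set G)).index := by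
      rw [← card_isConj_eq_index, Nat.card_eq_fintype_card, Fintype.card_subtype]
      congr 1
      ext x
      simp only [hF, Finset.mem_filter, Finset.mem_univ, true_and]
      rw [← hgC, ConjClasses.mk_eq_mk_iff_isConj]
      exact isConj_comm
    have h2 := (Subgroup.centralizer ({g} : Set G)).card_mul_index
    rw [← h1] at h2
    rw [eq_div_iff hFne]
    exact_mod_cast h2
  rw [Finset.sum_congr rfl key, Finset.sum_const, nsmul_eq_mul]
  field_simp


/-- A finite group has as many real-valued irreducible complex characters as conjugacy classes closed under taking inverses. -/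
theorem result {G : Type*} [Group G] [Finite G] : Nat.card {χ : Cfsg.IrrCharacter G // ∀ g : G, ((χ : G → ℂ) g).im = 0} = Nat.card {C : ConjClasses G // ∀ g : G, ConjClasses.mk g = C → IsConj g g⁻¹} := by
  classical
  have := Fintype.ofFinite G
  have := Cfsg.Agent.Lib.Helper4.finite_irrCharacter (G := G)
  have := Fintype.ofFinite (Cfsg.IrrCharacter G)
  have hne : (Nat.card G : ℂ) ≠ 0 := Cfsg.Agent.Lib.Helper4.card_ne_zero'
  -- rows
  have hrow : ∀ χ : Cfsg.IrrCharacter G, ∑ g : G, (χ : G → ℂ) g * (χ : G → ℂ) g =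
      (Nat.card G : ℂ) * (if ∀ g : G, ((χ : G → ℂ) g).im = 0 then 1 else 0) := by
    intro χ
    have h1 := Cfsg.Agent.Lib.Helper4.classInner_irr χ.2 (Cfsg.Agent.Lib.Helper4.irrConj χ).2
    rw [Cfsg.classInner] at h1
    simp only [Cfsg.Agent.Lib.Helper4.irrConj_apply, Complex.conj_conj] at h1
    have h2 : ((χ : G → ℂ) = (Cfsg.Agent.Lib.Helper4.irrConj χ : G → ℂ)) ↔
        ∀ g : G, ((χ : G → ℂ) g).im = 0 := by
      rw [← Cfsg.Agent.Lib.Helper4.irrConj_eq_self_iff]
      constructor
      · intro h; exact Subtype.ext h.symm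
      · intro h; exact (congrArg Subtype.val h).symm
    simp only [h2] at h1
    rw [← h1, ← mul_assoc, mul_inv_cancel₀ hne, one_mul]
  -- columns
  have hcol : ∀ g : G, ∑ χ : Cfsg.IrrCharacter G, (χ : G → ℂ) g * (χ : G → ℂ) g =
      if IsConj g g⁻¹ then (Nat.card (Subgroup.centralizer ({g} : Set G)) : ℂ) else 0 := by
    intro g
    have h1 := Cfsg.Agent.S0145.result g g⁻¹
    simp only [finsum_eq_sum_of_fintype] at h1
    have h2 : ∀ χ : Cfsg.IrrCharacter G, (χ : G → ℂ) g * (starRingEnd ℂ) ((χ : G → ℂ) g⁻¹) =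
        (χ : G → ℂ) g * (χ : G → ℂ) g := by
      intro χ
      rw [Cfsg.Agent.Lib.Helper4.char_apply_inv (Cfsg.Agent.Lib.Helper4.isCharacter_of_irr χ.2),
        Complex.conj_conj]
    simp only [h2] at h1
    split_ifs with h
    · exact h1.1 h
    · exact h1.2 h
  have hreal : ∀ g : G, IsConj g g⁻¹ ↔
      ∀ x : G, ConjClasses.mk x = ConjClasses.mk g → IsConj x x⁻¹ := by
    intro g
    constructor
    · intro h x hx
      have hxg : IsConj x g := ConjClasses.mk_eq_mk_iff_isConj.mp hx
      have hinv : IsConj g⁻¹ x⁻¹ := by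
        obtain ⟨c, hc⟩ := isConj_iff.mp hxg.symm
        exact isConj_iff.mpr ⟨c, by rw [← hc]; group⟩
      exact (hxg.trans h).trans hinv
    · intro h
      exact h g rfl
  have hdouble : ∑ χ : Cfsg.IrrCharacter G, ∑ g : G, (χ : G → ℂ) g * (χ : G → ℂ) g =
      ∑ g : G, ∑ χ : Cfsg.IrrCharacter G, (χ : G → ℂ) g * (χ : G → ℂ) g := Finset.sum_comm
  simp only [hrow, hcol] at hdouble
  rw [← Finset.mul_sum, Finset.sum_boole] at hdouble
  have hrhs : ∑ g : G, (if IsConj g g⁻¹ then
      (Nat.card (Subgroup.centralizer ({g} : Set G)) : ℂ) else 0) =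
      (Nat.card G : ℂ) * ((Finset.univ.filter (fun C : ConjClasses G =>
        ∀ g : G, ConjClasses.mk g = C → IsConj g g⁻¹)).card : ℂ) := by
    rw [← Finset.sum_fiberwise Finset.univ (fun g : G => ConjClasses.mk g)]
    rw [← Finset.sum_boole, Finset.mul_sum]
    refine Finset.sum_congr rfl fun C _ => ?_
    split_ifs with hC
    · rw [mul_one, ← sum_card_centralizer_fiber C]
      refine Finset.sum_congr rfl fun g hg => ?_
      have hgC : ConjClasses.mk g = C := (Finset.mem_filter.mp hg).2
      rw [if_pos (hC g hgC)]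
    · rw [mul_zero]
      refine Finset.sum_eq_zero fun g hg => ?_
      have hgC : ConjClasses.mk g = C := (Finset.mem_filter.mp hg).2
      rw [if_neg]
      intro h
      apply hC
      rw [← hgC]
      exact (hreal g).mp h
  rw [hrhs] at hdouble
  have hfinal := mul_left_cancel₀ hne hdouble
  rw [Nat.card_eq_fintype_card, Nat.card_eq_fintype_card, Fintype.card_subtype,
    Fintype.card_subtype]
  exact_mod_cast hfinal

end Cfsg.Agent.S0160
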