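import Cfsg.Statements.S3863
import Cfsg.Agent.Lib.Helper83.OddReal
import Cfsg.Agent.Lib.Helper83.TwoClass

set_option autoImplicit false
open Cfsg
open Cfsg.Agent.Lib.Helper83

namespace Cfsg.Agent.S3863

/-- Let x be an element of the finite group G that is conjugate to its inverse. Then some 2-element conjugates x to its inverse; if the conjugacy class of x has odd size then x ^ 2 = 1; and x lies in, and is conjugate to its inverse inside, every normal subgroup of odd index. -/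
theorem result {G : Type*} [Group G] [Finite G] (x : G) (hx : IsConj x x⁻¹) : (∃ t : G, (∃ j : ℕ, orderOf t = 2 ^ j) ∧ t * x * t⁻¹ = x⁻¹) ∧ (Odd (Subgroup.centralizer ({x} : Set G)).index → x ^ 2 = 1) ∧ ∀ (N : Subgroup G) [N.Normal], Odd N.index → ∃ hxN : x ∈ N, IsConj (⟨x, hxN⟩ : N) (⟨x, hxN⟩ : N)⁻¹ := by
  classical
  refine ⟨?_, ?_, ?_⟩
  · obtain ⟨c, hc⟩ := isConj_iff.mp hx
    have hpos : orderOf c ≠ 0 := (orderOf_pos c).ne'
    obtain ⟨k, m, ⟨l, hl⟩, hkm⟩ := Nat.exists_eq_two_pow_mul_odd hpos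
    refine ⟨c ^ m, ⟨k, ?_⟩, ?_⟩
    · have hm0 : m ≠ 0 := by omega
      rw [orderOf_pow_of_dvd hm0 ⟨2 ^ k, by rw [hkm, mul_comm]⟩, hkm]
      exact Nat.mul_div_cancel _ (Nat.pos_of_ne_zero hm0)
    · rw [hl]
      exact semiconj_odd_pow hc l
  · intro hodd
    rw [← card_class_eq_index x] at hodd
    have := Fintype.ofFinite {g // IsConj x g}
    let f : Function.End {g // IsConj x g} := fun y => ⟨y.1⁻¹, by
      have h1 : IsConj x⁻¹ y.1⁻¹ := by
        obtain ⟨c, hc⟩ := isConj_iff.mp y.2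
        exact isConj_iff.mpr ⟨c, by rw [← hc]; group⟩
      exact hx.trans h1⟩
    have hf : f ^ 2 ^ 1 = 1 := by
      funext y
      apply Subtype.ext
      show ((y.1)⁻¹)⁻¹ = y.1
      rw [inv_inv]
    have : Fact (Nat.Prime 2) := ⟨Nat.prime_two⟩
    have h1 := Equiv.Perm.card_fixedPoints_modEq hf
    rw [Nat.card_eq_fintype_card] at hodd
    have h2 : Fintype.card (Function.fixedPoints f) ≠ 0 := by
      intro h0
      rw [h0] at h1
      have := Nat.odd_iff.mp hodd
      have h3 : Fintype.card {g // IsConj x g} % 2 = 0 % 2 := h1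
      omega
    obtain ⟨⟨y, hy⟩⟩ := Fintype.card_pos_iff.mp (Nat.pos_of_ne_zero h2)
    have h3 : y.1⁻¹ = y.1 := congrArg Subtype.val hy
    obtain ⟨c, hc⟩ := isConj_iff.mp y.2
    have h4 : y.1 ^ 2 = 1 := by
      rw [pow_two]
      nth_rewrite 1 [← h3]
      exact inv_mul_cancel _
    rw [← hc, conj_pow] at h4
    have h5 : x ^ 2 = c⁻¹ * (c * x ^ 2 * c⁻¹) * c := by group
    rw [h5, h4]
    group
  · intro N _ hodd
    exact real_mem_of_odd_index N hodd hx

end Cfsg.Agent.S3863
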