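import Cfsg.Statements.S1025
import Cfsg.Agent.Lib.Helper22.ChevBChkG2
import Cfsg.Agent.Lib.Helper22.ChevAddChkG2
import Cfsg.Agent.Lib.Helper22.ChevCFChkG2
import Cfsg.Agent.Lib.Helper22.ChevBChkB2
import Cfsg.Agent.Lib.Helper22.ChevAddChkB2
import Cfsg.Agent.Lib.Helper22.ChevCFChkB2
import Cfsg.Agent.Lib.Helper22.ChevBChkD4
import Cfsg.Agent.Lib.Helper22.ChevAddChkD4
import Cfsg.Agent.Lib.Helper22.ChevCFChkD4
import Cfsg.Agent.Lib.Helper22.ChevBChkF4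
import Cfsg.Agent.Lib.Helper22.ChevAddChkF4
import Cfsg.Agent.Lib.Helper22.ChevCFChkF4
import Cfsg.Agent.Lib.Helper22.ChevBChkE6
import Cfsg.Agent.Lib.Helper22.ChevAddChkE6
import Cfsg.Agent.Lib.Helper22.ChevCFChkE6
import Cfsg.Agent.Lib.Helper22.ChevBChkE7
import Cfsg.Agent.Lib.Helper22.ChevAddChkE7
import Cfsg.Agent.Lib.Helper22.ChevCFChkE7
import Cfsg.Agent.Lib.Helper22.ChevBChkE8
import Cfsg.Agent.Lib.Helper22.ChevAddChkE8
import Cfsg.Agent.Lib.Helper22.ChevCFChkE8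
import Cfsg.Agent.Lib.Helper22.ChevCF3

set_option autoImplicit false
open Cfsg

namespace Cfsg.Agent.S1025

/-- Chevalley's commutator formula: for roots `s ≠ ±r`, `x_s(u) x_r(t) = x_r(t) x_s(u) · ∏_{i,j>0} x_{ir+js}(C_{ijrs} (-t)^i u^j)`, the product (in order of increasing `i + j`) and the constants being those of `commWord`. -/
theorem result {F : Type*} [Field F] (D : Cfsg.Lie.ChevalleyDatum) (hD : D ∈ [Cfsg.Lie.chevG2, Cfsg.Lie.chevB2, Cfsg.Lie.chevD4, Cfsg.Lie.chevF4, Cfsg.Lie.chevE6, Cfsg.Lie.chevE7, Cfsg.Lie.chevE8]) (r s : ℕ) (hr : r < D.nroots) (hs : s < D.nroots)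
    (hrs : s ≠ r) (hneg : s ≠ D.neg r) (t u : F) :
    D.x F s u * D.x F r t = D.x F r t * D.x F s u * D.wordMat F (D.commWord F r s t u) := by
  simp only [List.mem_cons, List.not_mem_nil, or_false] at hD
  rcases hD with rfl | rfl | rfl | rfl | rfl | rfl | rfl
  · exact Lib.Helper22.PValid.s1025 Lib.Helper22.pvG2 Lib.Helper22.hszG2 Lib.Helper22.addchkG2 Lib.Helper22.bchkG2 (fun _ _ => rfl) Lib.Helper22.cfchkG2 hr hs hrs hneg t u
  · exact Lib.Helper22.PValid.s1025 Lib.Helper22.pvB2 Lib.Helper22.hszB2 Lib.Helper22.addchkB2 Lib.Helper22.bchkB2 (fun _ _ => rfl) Lib.Helper22.cfchkB2 hr hs hrs hneg t u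
  · exact Lib.Helper22.PValid.s1025 Lib.Helper22.pvD4 Lib.Helper22.hszD4 Lib.Helper22.addchkD4 Lib.Helper22.bchkD4 (Lib.Helper22.ct1_eq Lib.Helper22.tbD4 rfl) Lib.Helper22.cfchkD4 hr hs hrs hneg t u
  · exact Lib.Helper22.PValid.s1025 Lib.Helper22.pvF4 Lib.Helper22.hszF4 Lib.Helper22.addchkF4 Lib.Helper22.bchkF4 (fun _ _ => rfl) Lib.Helper22.cfchkF4 hr hs hrs hneg t u
  · exact Lib.Helper22.PValid.s1025 Lib.Helper22.pvE6 Lib.Helper22.hszE6 Lib.Helper22.addchkE6 Lib.Helper22.bchkE6 (Lib.Helper22.ct1_eq Lib.Helper22.tbE6 rfl) Lib.Helper22.cfchkE6 hr hs hrs hneg t u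
  · exact Lib.Helper22.PValid.s1025 Lib.Helper22.pvE7 Lib.Helper22.hszE7 Lib.Helper22.addchkE7 Lib.Helper22.bchkE7 (Lib.Helper22.ct1_eq Lib.Helper22.tbE7 rfl) Lib.Helper22.cfchkE7 hr hs hrs hneg t u
  · exact Lib.Helper22.PValid.s1025 Lib.Helper22.pvE8 Lib.Helper22.hszE8 Lib.Helper22.addchkE8 Lib.Helper22.bchkE8 (Lib.Helper22.ct1_eq Lib.Helper22.tbE8 rfl) Lib.Helper22.cfchkE8 hr hs hrs hneg t u

end Cfsg.Agent.S1025
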