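import Cfsg.Statements.S0928
import Cfsg.Agent.Lib.Helper78.DefectZero
-- import your own Cfsg.Agent.* helpers here

set_option autoImplicit false
open Cfsg
open Cfsg Cfsg.Agent.Lib.Helper81 Cfsg.Agent.Lib.Helper20

namespace Cfsg.Agent.S0928

section count
variable {G : Type*} [Group G]

open Classical in
noncomputable def twistFun (z : G) (s : G) : G := if z * s = s * z then z * s else z * s * z⁻¹

theorem twistFun_iter (z : G) (k : ℕ) (s : G) :
    (twistFun z)^[k] s = by classical exact if z * s = s * z then z ^ k * s else z ^ k * s * (z ^ k)⁻¹ := by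
  classical
  induction k with
  | zero => simp
  | succ k ih =>
    rw [Function.iterate_succ_apply', ih]
    by_cases h : z * s = s * z
    · rw [if_pos h, if_pos h]
      have h2 : z * (z ^ k * s) = (z ^ k * s) * z := by
        rw [mul_assoc, ← h, ← mul_assoc, ← mul_assoc, ← pow_succ, ← pow_succ']
      rw [twistFun, if_pos h2, pow_succ', mul_assoc]
    · rw [if_neg h, if_neg h]
      have h2 : ¬ z * (z ^ k * s * (z ^ k)⁻¹) = (z ^ k * s * (z ^ k)⁻¹) * z := by
        intro h3
        apply h
        have hc : Commute z (z ^ k) := (Commute.refl z).pow_right k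
        have h4 : z ^ k * (z * s) * (z ^ k)⁻¹ = z ^ k * (s * z) * (z ^ k)⁻¹ := by
          calc z ^ k * (z * s) * (z ^ k)⁻¹ = z * (z ^ k * s * (z ^ k)⁻¹) := by
                rw [← mul_assoc, ← hc.eq]; simp only [mul_assoc]
            _ = (z ^ k * s * (z ^ k)⁻¹) * z := h3
            _ = z ^ k * (s * z) * (z ^ k)⁻¹ := by
                rw [mul_assoc _ _ z, (hc.inv_right).eq.symm]; simp only [mul_assoc]
        exact mul_left_cancel (mul_right_cancel h4)
      rw [twistFun, if_neg h2, pow_succ']
      simp only [mul_assoc, mul_inv_rev]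

theorem dvd_card_pairs [Finite G] (p : ℕ) [Fact p.Prime] (z g : G) (hz : orderOf z = p)
    (hzg : z * g = g * z) : p ∣ Nat.card {s : G // s ^ p = 1 ∧ (s⁻¹ * g) ^ p = 1} := by
  classical
  have := Fintype.ofFinite G
  have hzp : z ^ p = 1 := by rw [← hz]; exact pow_orderOf_eq_one z
  have hz1 : z ≠ 1 := by
    intro h
    rw [h, orderOf_one] at hz
    exact (Fact.out : p.Prime).one_lt.ne hz
  have hmaps : ∀ s : G, (s ^ p = 1 ∧ (s⁻¹ * g) ^ p = 1) →
      ((twistFun z s) ^ p = 1 ∧ ((twistFun z s)⁻¹ * g) ^ p = 1) := by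
    intro s ⟨h1, h2⟩
    by_cases h : z * s = s * z
    · rw [twistFun, if_pos h]
      constructor
      · rw [(show Commute z s from h).mul_pow, hzp, h1, one_mul]
      · have hc : Commute z⁻¹ (s⁻¹ * g) :=
          ((show Commute z s from h).inv_right.mul_right (show Commute z g from hzg)).inv_left
        have : (z * s)⁻¹ * g = z⁻¹ * (s⁻¹ * g) := by
          rw [mul_inv_rev, ((show Commute z s from h).inv_inv).eq.symm, mul_assoc]
        rw [this, hc.mul_pow, h2, inv_pow, hzp]; simp
    · rw [twistFun, if_neg h]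
      constructor
      · rw [conj_pow, h1]; simp
      · have : (z * s * z⁻¹)⁻¹ * g = z * (s⁻¹ * g) * z⁻¹ := by
          have : z⁻¹ * g = g * z⁻¹ := ((show Commute z g from hzg).inv_left).eq
          simp only [mul_inv_rev, inv_inv, mul_assoc, this]
        rw [this, conj_pow, h2]; simp
  let f : Function.End {s : G // s ^ p = 1 ∧ (s⁻¹ * g) ^ p = 1} :=
    fun s => ⟨twistFun z s.1, hmaps s.1 s.2⟩
  have hiter : ∀ (k : ℕ) (s : {s : G // s ^ p = 1 ∧ (s⁻¹ * g) ^ p = 1}),
      ((f ^ k) s).1 = (twistFun z)^[k] s.1 := by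
    intro k
    induction k with
    | zero => intro s; rfl
    | succ k ih =>
      intro s
      rw [pow_succ', Function.iterate_succ_apply', ← ih s]
      rfl
  have hf : f ^ p ^ 1 = 1 := by
    funext s
    apply Subtype.ext
    rw [pow_one, hiter, twistFun_iter, hzp]
    simp
    rfl
  have h1 := Equiv.Perm.card_fixedPoints_modEq hf
  have h2 : Fintype.card (Function.fixedPoints f) = 0 := by
    rw [Fintype.card_eq_zero_iff]
    constructor
    rintro ⟨s, hs⟩
    have hs' : twistFun z s.1 = s.1 := congrArg Subtype.val hs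
    by_cases h : z * s.1 = s.1 * z
    · rw [twistFun, if_pos h] at hs'
      exact hz1 (mul_eq_right.1 hs')
    · rw [twistFun, if_neg h] at hs'
      exact h (mul_inv_eq_iff_eq_mul.1 hs')
  rw [h2] at h1
  rw [Nat.card_eq_fintype_card]
  exact (Nat.modEq_zero_iff_dvd).1 h1

end count


/-- Let χ be an irreducible character of the finite group G and p a prime. If χ g = 0 for every element g of order p, then the exponent of p in the degree χ(1) equals the exponent of p in the order of G (χ has p-defect zero). -/
theorem result {G : Type*} [Group G] [Finite G] (p : ℕ) [Fact p.Prime] (χ : Cfsg.IrrCharacter G) (hvan : ∀ g : G, orderOf g = p → (χ : G → ℂ) g = 0) : (Cfsg.charDegree (χ : G → ℂ)).factorization p = (Nat.card G).factorization p := by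
  classical
  have := Fintype.ofFinite G
  have hp : p.Prime := Fact.out
  obtain ⟨M, hM⟩ := Cfsg.Agent.Lib.Helper78.exists_isPModular hp
  by_contra hne
  set d := Cfsg.charDegree (χ : G → ℂ) with hd
  have hdpos : 0 < d := Cfsg.Agent.Lib.Helper82.isIrr_charDegree_pos χ.2
  have hχ1 : (χ : G → ℂ) 1 = (d : ℂ) :=
    Cfsg.Agent.Lib.Helper82.isChar_one_eq (Cfsg.Agent.Lib.Helper82.isIrr_isChar χ.2)
  obtain ⟨m, hm⟩ := Cfsg.Agent.Lib.Helper82.isIrr_charDegree_dvd_card χ.2
  rw [← hd] at hm
  have hm0 : m ≠ 0 := by
    rintro rfl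
    rw [mul_zero] at hm
    exact Nat.card_pos.ne' hm
  have hpm : p ∣ m := by
    by_contra hpm
    apply hne
    rw [hm, Nat.factorization_mul hdpos.ne' hm0]
    simp [Nat.factorization_eq_zero_of_not_dvd hpm]
  let T : G → ℂ := fun g => if g ^ p = 1 then 1 else 0
  have hT : IsClassFunction G T := by
    intro g h
    simp only [T, conj_pow]
    congr 1
    simp
  have hd0 : (d : ℂ) ≠ 0 := by exact_mod_cast hdpos.ne'
  have hωT : omega (χ : G → ℂ) T = 1 := by
    rw [omega, Finset.sum_eq_single (1 : G)]
    · simp [T, hχ1, hd0]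
    · intro g _ hg1
      by_cases hg : g ^ p = 1
      · have : orderOf g = p := orderOf_eq_prime hg hg1
        rw [hvan g this]; simp
      · simp [T, hg]
    · intro h; exact absurd (Finset.mem_univ _) h
  have hconv : ∀ g, conv T T g = (Nat.card {s : G // s ^ p = 1 ∧ (s⁻¹ * g) ^ p = 1} : ℂ) := by
    intro g
    rw [Nat.card_eq_fintype_card, Fintype.card_subtype, Finset.card_filter]
    push_cast
    apply Finset.sum_congr rfl
    intro s _
    by_cases h1 : s ^ p = 1 <;> by_cases h2 : (s⁻¹ * g) ^ p = 1 <;> simp [T, h1, h2]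
  have h1 : omega (χ : G → ℂ) (conv T T) = 1 := by
    rw [omega_conv χ.2 T T hT, hωT, one_mul]
  apply not_memLocalIdeal_one hM
  rw [← h1, omega_eq_sum_classes (irr_classFunction χ) (conv_classFunction hT hT)]
  apply memLocalIdeal_sum hM
  intro C _
  set g := Quotient.out C with hg
  by_cases hC : p ∣ Nat.card (Subgroup.centralizer ({g} : Set G))
  · obtain ⟨z, hz⟩ := exists_prime_orderOf_dvd_card' p hC
    have hz' : orderOf (z : G) = p := by rw [Subgroup.orderOf_coe]; exact hz
    have hzg : (z : G) * g = g * (z : G) := by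
      have := z.2
      rw [Subgroup.mem_centralizer_singleton_iff] at this
      exact this
    have := dvd_card_pairs p (z : G) g hz' hzg
    apply memLocalIdeal_mul_right hM _ (centralChar_memLocalRing hM χ g)
    rw [hconv, memLocalIdeal_natCast_iff hM]
    exact this
  · apply memLocalIdeal_mul_left hM
    · rw [hconv]; exact memLocalRing_natCast hM _
    · obtain ⟨k, rfl⟩ := hpm
      have hidx : (Subgroup.centralizer ({g} : Set G)).index * Nat.card (Subgroup.centralizer ({g} : Set G)) = d * (p * k) := by
        rw [← hm, mul_comm]; exact Subgroup.card_mul_index _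
      have hc0 : (Nat.card (Subgroup.centralizer ({g} : Set G)) : ℂ) ≠ 0 := by
        exact_mod_cast Nat.card_pos.ne'
      have hidx' : ((Subgroup.centralizer ({g} : Set G)).index : ℂ) * (Nat.card (Subgroup.centralizer ({g} : Set G)) : ℂ) = d * (p * k) := by
        exact_mod_cast hidx
      have : centralChar (χ : G → ℂ) g = (p : ℂ) * ((k : ℂ) * (χ : G → ℂ) g / (Nat.card (Subgroup.centralizer ({g} : Set G)) : ℂ)) := by
        rw [centralChar, hχ1]
        field_simp
        linear_combination ((χ : G → ℂ) g) * hidx'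
      rw [this]
      apply memLocalIdeal_mul_right hM (memLocalIdeal_p hM)
      apply memLocalRing_div hM
      · apply memLocalRing_mul hM (memLocalRing_natCast hM _)
        exact memLocalRing_of_isIntegral hM (isCharacter_isIntegral (isCharacter_of_isIrrCharacter χ.2) g)
      · exact memLocalRing_natCast hM _
      · rw [memLocalIdeal_natCast_iff hM]; exact hC

end Cfsg.Agent.S0928
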