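import Cfsg.Statements.S1225
import Cfsg.Agent.Lib.Helper26.StronglyEmbedded

set_option autoImplicit false
open Cfsg Cfsg.Agent.Lib.Helper26

namespace Cfsg.Agent.S1225

/-- Let H be a strongly embedded subgroup of the finite group G, u an involution outside H and D = H ∩ uHu⁻¹. Then any two involutions of H are conjugate by an element of D, and any two involutions of G are conjugate in G. -/
theorem result {G : Type*} [Group G] [Finite G] (H : Subgroup G) (hH : Cfsg.IsStronglyEmbedded H) (u : G) (hu : orderOf u = 2) (huH : u ∉ H) (s t : G) (hs : orderOf s = 2) (hsH : s ∈ H) (ht : orderOf t = 2) (htH : t ∈ H) : (∃ d ∈ (H ⊓ H.map (MulAut.conj u).toMonoidHom), d * s * d⁻¹ = t) ∧ ∀ a b : G, orderOf a = 2 → orderOf b = 2 → IsConj a b := by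
  refine ⟨?_, fun a b ha hb => SE_isConj hH ha hb⟩
  have huu : u * u = 1 := invol_mul_self hu
  have huinv : u⁻¹ = u := invol_inv hu
  have ht' : orderOf (u * t * u⁻¹) = 2 := by rw [orderOf_conj_eq, ht]
  have ht'H : u * t * u⁻¹ ∉ H := fun h => huH (SE_mem_of_conj_mem hH ht htH h)
  obtain ⟨v, hvv, hv⟩ := SE_exists_conj hH hs ht' hsH ht'H
  have hvinv : v⁻¹ = v := inv_eq_of_mul_eq_one_left hvv
  have hd : (u⁻¹ * v) * s * (u⁻¹ * v)⁻¹ = t := by
    calc (u⁻¹ * v) * s * (u⁻¹ * v)⁻¹ = u⁻¹ * (v * s * v⁻¹) * u := by simp [mul_assoc]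
      _ = t := by rw [hv]; simp [mul_assoc]
  have hdH : u⁻¹ * v ∈ H := SE_mem_of_conj_mem hH hs hsH (by rw [hd]; exact htH)
  have hvu : (v * u) * t * (v * u)⁻¹ = s := by
    calc (v * u) * t * (v * u)⁻¹ = v * (u * t * u⁻¹) * v⁻¹ := by simp [mul_assoc]
      _ = (v * v) * s * (v * v)⁻¹ := by rw [← hv]; simp [mul_assoc]
      _ = s := by rw [hvv]; simp
  have hvuH : v * u ∈ H := SE_mem_of_conj_mem hH ht htH (by rw [hvu]; exact hsH)
  refine ⟨u⁻¹ * v, Subgroup.mem_inf.mpr ⟨hdH, ⟨v * u, hvuH, ?_⟩⟩, hd⟩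
  simp only [MulEquiv.coe_toMonoidHom, MulAut.conj_apply]
  rw [huinv, mul_assoc, mul_assoc, huu, mul_one]

end Cfsg.Agent.S1225
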