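import Cfsg.Statements.S3761
import Cfsg.Agent.Lib.Helper59.CycSelfCentD
import Cfsg.Agent.Lib.Helper59.TwoGroupCyc
import Cfsg.Agent.Lib.Helper59.TwoGroupRecog

set_option autoImplicit false
open Cfsg

namespace Cfsg.Agent.S3761

open Cfsg.Agent.Lib.Helper59

theorem conj_pow_iter {G : Type*} [Group G] {g u : G} {r : ℤ} (h : g * u * g⁻¹ = u ^ r) (j : ℕ) :
    g ^ j * u * (g ^ j)⁻¹ = u ^ (r ^ j) := by
  induction j with
  | zero => simp
  | succ j ih =>
    calc g ^ (j + 1) * u * (g ^ (j + 1))⁻¹ = g * (g ^ j * u * (g ^ j)⁻¹) * g⁻¹ := by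
          rw [pow_succ']; group
      _ = g * u ^ (r ^ j) * g⁻¹ := by rw [ih]
      _ = u ^ (r ^ (j + 1)) := by rw [← conj_zpow, h, ← zpow_mul, pow_succ']

theorem dvd_of_conj {G : Type*} [Group G] {g u : G} {r : ℤ} (h : g * u * g⁻¹ = u ^ r) (j : ℕ)
    (hj : g ^ j ∈ Subgroup.zpowers u) : (orderOf u : ℤ) ∣ r ^ j - 1 := by
  have h1 := conj_pow_iter h j
  obtain ⟨i, hi⟩ := hj
  simp only at hi
  rw [← hi] at h1
  have h2 : u ^ i * u * (u ^ i)⁻¹ = u := by
    have : Commute (u ^ i) u := (Commute.refl u).zpow_left i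
    rw [this.eq]; group
  rw [h2] at h1
  apply orderOf_dvd_iff_zpow_eq_one.mpr
  rw [zpow_sub, ← h1, zpow_one, mul_inv_cancel]

theorem two_case {G : Type*} [Group G] [Finite G] {u : G} {m : ℕ} (h : CSC 2 G u m)
    (hD : ∀ g : G, g * u ^ 2 ^ m = u ^ 2 ^ m * g → g ∈ Subgroup.zpowers u)
    (g₀ : G) (hg₀ : g₀ ∉ Subgroup.zpowers u) :
    Nat.card G = 2 ^ (m + 2 + 1) ∧ ((∃ k : ℕ, Nonempty (G ≃* DihedralGroup k)) ∨
      (∃ k : ℕ, Nonempty (G ≃* QuaternionGroup k)) ∨ Cfsg.IsQuasiDihedral G) := by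
  have : Fact (Nat.Prime 2) := ⟨Nat.prime_two⟩
  obtain ⟨y, hy⟩ : ∃ y, y = u ^ 2 ^ m := ⟨_, rfl⟩
  rw [← hy] at hD
  have hyU : y ∈ Subgroup.zpowers u := hy ▸ Subgroup.pow_mem _ (Subgroup.mem_zpowers u) _
  have hyy : y ^ 2 = u ^ 2 ^ (m + 1) := by rw [hy, ← pow_mul, ← pow_succ]
  have hy4 : y ^ 2 * y ^ 2 = 1 := by
    rw [hyy, ← pow_two]
    exact h.pow_eq_one_of_mem_w (Subgroup.mem_zpowers _)
  have hyyw : y ^ 2 ∈ Subgroup.zpowers (u ^ 2 ^ (m + 1)) := hyy ▸ Subgroup.mem_zpowers _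
  have hinv : ∀ g : G, g ∉ Subgroup.zpowers u → g * y * g⁻¹ = y⁻¹ := by
    intro g hg
    have h1 : g * y * g⁻¹ ∈ Subgroup.zpowers u := h.hUn.conj_mem y hyU g
    have hcomm : Commute (g * y * g⁻¹) y⁻¹ := by
      obtain ⟨i, hi⟩ := h1
      obtain ⟨j, hj⟩ := hyU
      simp only at hi hj
      rw [← hi, ← hj]
      exact (((Commute.refl u).zpow_left i).zpow_right j).inv_right
    have h2 : (g * y * g⁻¹ * y⁻¹) ^ 2 = 1 := by
      rw [hcomm.mul_pow, conj_pow, ← h.w_central hyyw g]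
      group
    have h3 := h.mem_w (Subgroup.mul_mem _ h1 (Subgroup.inv_mem _ hyU)) h2
    rcases mem_zpowers_of_orderOf_two h.orderOf_w h3 with h4 | h4
    · exfalso
      apply hg
      apply hD
      calc g * y = (g * y * g⁻¹ * y⁻¹) * y * g := by group
        _ = y * g := by rw [h4, one_mul]
    · rw [← hyy] at h4
      calc g * y * g⁻¹ = (g * y * g⁻¹ * y⁻¹) * y := by group
        _ = y ^ 2 * y := by rw [h4]
        _ = (y ^ 2 * y ^ 2) * y⁻¹ := by group
        _ = y⁻¹ := by rw [hy4, one_mul]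
  have hidx : (Subgroup.zpowers u).index = 2 := by
    rw [Subgroup.index_eq_two_iff]
    refine ⟨g₀, fun b => ?_⟩
    by_cases hb : b ∈ Subgroup.zpowers u
    · right
      refine ⟨hb, fun h' => hg₀ ?_⟩
      have : g₀ = b⁻¹ * (b * g₀) := by group
      rw [this]
      exact Subgroup.mul_mem _ (Subgroup.inv_mem _ hb) h'
    · left
      refine ⟨?_, hb⟩
      apply hD
      have h1 : b * g₀ * y * (b * g₀)⁻¹ = y := by
        calc b * g₀ * y * (b * g₀)⁻¹ = b * (g₀ * y * g₀⁻¹) * b⁻¹ := by group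
          _ = (b * y * b⁻¹)⁻¹ := by rw [hinv g₀ hg₀]; group
          _ = y := by rw [hinv b hb, inv_inv]
      calc b * g₀ * y = b * g₀ * y * (b * g₀)⁻¹ * (b * g₀) := by group
        _ = y * (b * g₀) := by rw [h1]
  have hcard : Nat.card G = 2 ^ (m + 2 + 1) := by
    have := (Subgroup.zpowers u).card_mul_index
    rw [Nat.card_zpowers, h.hu, hidx] at this
    rw [← this]; ring
  have hu4 : orderOf u = 4 * 2 ^ m := by rw [h.hu]; ring
  refine ⟨hcard, ?_⟩
  obtain ⟨i, hcase⟩ := cyc_ext_classify u g₀ m hu4 (h.hUn.conj_mem u (Subgroup.mem_zpowers u) g₀)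
    (Subgroup.mul_self_mem_of_index_two hidx g₀) (fun hc => hg₀ (h.hC g₀ hc))
  have hb : u ^ i * g₀ ∉ Subgroup.zpowers u := by
    intro hi
    apply hg₀
    have : g₀ = (u ^ i)⁻¹ * (u ^ i * g₀) := by group
    rw [this]
    exact Subgroup.mul_mem _ (Subgroup.inv_mem _ (Subgroup.zpow_mem _ (Subgroup.mem_zpowers u) i)) hi
  rcases hcase with ⟨hbb, hba⟩ | ⟨hbb, hba⟩ | ⟨hm, hbb, hba⟩ | ⟨hm, hbb, hba⟩
  · left
    exact ⟨_, dihedral_recog (4 * 2 ^ m) (by positivity) u _ hu4 hbb hba hb (by rw [hcard]; ring)⟩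
  · right; left
    exact ⟨_, quaternion_recog (2 * 2 ^ m) (by positivity) u _ (by rw [hu4]; ring) hbb hba hb
      (by rw [hcard]; ring)⟩
  · exfalso
    apply hb
    apply hD
    have h1 : (u ^ i * g₀) * y * (u ^ i * g₀)⁻¹ = y := by
      rw [hy, ← conj_pow, hba, ← pow_mul]
      obtain ⟨m', rfl⟩ : ∃ m', m = m' + 1 := ⟨m - 1, by omega⟩
      have e : (1 + 2 * 2 ^ (m' + 1)) * 2 ^ (m' + 1) = 2 ^ (m' + 1) + 4 * 2 ^ (m' + 1) * 2 ^ m' := by
        ring
      rw [e, pow_add, pow_mul, ← hu4, pow_orderOf_eq_one, one_pow, mul_one]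
    calc u ^ i * g₀ * y = (u ^ i * g₀) * y * (u ^ i * g₀)⁻¹ * (u ^ i * g₀) := by group
      _ = y * (u ^ i * g₀) := by rw [h1]
  · right; right
    refine ⟨m + 2, by omega, hcard, u, u ^ i * g₀, h.hu, ?_, ?_⟩
    · apply orderOf_eq_prime (by rw [pow_two]; exact hbb)
      intro h1
      apply hb
      rw [h1]; exact Subgroup.one_mem _
    · rw [hba]
      congr 2
      change 2 * 2 ^ m = 2 ^ (m + 1)
      ring

/-- Let G be a finite non-abelian p-group with a cyclic normal subgroup U of order p^n such that C_G(U) = U. Then either p = 2 and G is dihedral, generalized quaternion or semidihedral of order 2^(n+1); or, writing U₁ for the subgroup generated by the p-th powers of elements of U and M = C_G(U₁), the subgroup U has index p in M and the subgroup Ω₁(M) generated by the elements of M of order dividing p is elementary abelian of order p² and characteristic in G. -/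
theorem result {G : Type*} [Group G] [Finite G] {p : ℕ} [Fact p.Prime] (hG : IsPGroup p G) (hna : ¬ IsMulCommutative G) (U : Subgroup G) [U.Normal] (hU : IsCyclic U) (n : ℕ) (hUn : Nat.card U = p ^ n) (hC : Subgroup.centralizer (U : Set G) = U) : (p = 2 ∧ Nat.card G = 2 ^ (n + 1) ∧ ((∃ m : ℕ, Nonempty (G ≃* DihedralGroup m)) ∨ (∃ m : ℕ, Nonempty (G ≃* QuaternionGroup m)) ∨ Cfsg.IsQuasiDihedral G)) ∨ (U.relIndex (Subgroup.centralizer (Cfsg.powerClosure p 1 U : Set G)) = p ∧ Cfsg.IsElementaryAbelian p (Cfsg.omegaOne p (Subgroup.centralizer (Cfsg.powerClosure p 1 U : Set G))) ∧ Nat.card ↥(Cfsg.omegaOne p (Subgroup.centralizer (Cfsg.powerClosure p 1 U : Set G))) = p ^ 2 ∧ (Cfsg.omegaOne p (Subgroup.centralizer (Cfsg.powerClosure p 1 U : Set G))).Characteristic) := by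
  have hp : p.Prime := Fact.out
  obtain ⟨⟨u, huU⟩, hgen⟩ := hU.exists_generator
  have hUeq : U = Subgroup.zpowers u := by
    apply le_antisymm
    · intro x hx
      obtain ⟨i, hi⟩ := hgen ⟨x, hx⟩
      refine ⟨i, ?_⟩
      have := congrArg Subtype.val hi
      simpa using this
    · rw [Subgroup.zpowers_le]; exact huU
  subst hUeq
  have hUnorm : (Subgroup.zpowers u).Normal := inferInstance
  have hou : orderOf u = p ^ n := by rw [← hUn, Nat.card_zpowers]
  have hC' : ∀ g : G, g * u = u * g → g ∈ Subgroup.zpowers u := by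
    intro g hg
    rw [← hC, mem_centralizer_zpowers]
    exact hg
  obtain ⟨x₀, hx₀⟩ : ∃ x, x ∉ Subgroup.zpowers u := by
    by_contra hcon
    push Not at hcon
    apply hna
    refine ⟨⟨fun a b => ?_⟩⟩
    obtain ⟨i, rfl⟩ := hcon a
    obtain ⟨j, rfl⟩ := hcon b
    simp only
    rw [← zpow_add, ← zpow_add, add_comm]
  have hn2 : 2 ≤ n := by
    by_contra hcon
    apply hx₀
    apply hC'
    have hn : n = 0 ∨ n = 1 := by omega
    rcases hn with rfl | rfl
    · have : u = 1 := orderOf_eq_one_iff.mp (by simpa using hou)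
      rw [this]; simp
    · have h1 := le_center_of_normal_card_prime hG (Subgroup.zpowers u) (by simpa using hUn)
      exact Subgroup.mem_center_iff.mp (h1 (Subgroup.mem_zpowers u)) x₀
  obtain ⟨m, rfl⟩ : ∃ m, n = m + 2 := ⟨n - 2, by omega⟩
  have h : CSC p G u m := ⟨hG, hou, hUnorm, hC'⟩
  by_cases hp2 : p = 2
  · subst hp2
    by_cases hD : ∀ g : G, g * u ^ 2 ^ m = u ^ 2 ^ m * g → g ∈ Subgroup.zpowers u
    · left
      exact ⟨rfl, two_case h hD x₀ hx₀⟩
    · right
      push Not at hD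
      obtain ⟨x, hxy, hxU⟩ := hD
      obtain ⟨g, hgD, hgU, hgg⟩ := exists_pow_mem_not_mem hG (Subgroup.zpowers u)
        (Subgroup.centralizer ((Subgroup.zpowers (u ^ 2 ^ m) : Subgroup G) : Set G))
        ⟨x, mem_centralizer_zpowers.mpr hxy, hxU⟩
      rw [mem_centralizer_zpowers] at hgD
      obtain ⟨r, hr⟩ := hUnorm.conj_mem u (Subgroup.mem_zpowers u) g
      simp only at hr
      have h1 := dvd_of_conj hr.symm 2 hgg
      rw [hou] at h1
      have h1' : (4 * 2 ^ m : ℤ) ∣ r ^ 2 - 1 := by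
        have e : ((2 ^ (m + 2) : ℕ) : ℤ) = 4 * 2 ^ m := by push_cast; ring
        rwa [e] at h1
      have hm : 1 ≤ m := by
        by_contra hcon
        have : m = 0 := by omega
        subst this
        apply hgU
        apply hC'
        simpa using hgD
      have h4 : (4 : ℤ) ∣ r - 1 := by
        have h5 : g * u ^ 2 ^ m * g⁻¹ = u ^ 2 ^ m := by rw [hgD]; group
        rw [← conj_pow, ← hr, ← zpow_natCast, ← zpow_mul] at h5
        have h6 : u ^ (r * ((2 ^ m : ℕ) : ℤ) - ((2 ^ m : ℕ) : ℤ)) = 1 := by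
          rw [zpow_sub, h5, zpow_natCast, mul_inv_cancel]
        obtain ⟨q, hq⟩ := orderOf_dvd_iff_zpow_eq_one.mpr h6
        rw [hou] at hq
        push_cast at hq
        refine ⟨q, ?_⟩
        have h7 : (r - 1) * 2 ^ m = (4 * q) * 2 ^ m := by
          have : (r - 1) * 2 ^ m = r * 2 ^ m - 2 ^ m := by ring
          rw [this, hq]; ring
        exact mul_right_cancel₀ (by positivity) h7
      have h8 : (2 * 2 ^ m : ℤ) ∣ r - 1 := by
        rcases nt_sq_one m r h1' with h9 | h9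
        · exact h9
        · exfalso
          obtain ⟨m', rfl⟩ : ∃ m', m = m' + 1 := ⟨m - 1, by omega⟩
          have h10 : (4 : ℤ) ∣ r + 1 := by
            refine dvd_trans ⟨2 ^ m', ?_⟩ h9
            ring
          omega
      have hgM : g * u ^ 2 = u ^ 2 * g := by
        have h9 : g * u ^ 2 * g⁻¹ = u ^ 2 := by
          rw [← conj_pow, ← hr, ← zpow_natCast, ← zpow_mul]
          obtain ⟨q, hq⟩ := h8
          have e : r * ((2 : ℕ) : ℤ) = ((2 : ℕ) : ℤ) + ((2 ^ (m + 2) : ℕ) : ℤ) * q := by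
            have : r = 1 + 2 * 2 ^ m * q := by linarith
            rw [this]; push_cast; ring
          rw [e, zpow_add, zpow_mul, zpow_natCast, zpow_natCast, ← hou, pow_orderOf_eq_one, one_zpow,
            mul_one]
        calc g * u ^ 2 = g * u ^ 2 * g⁻¹ * g := by group
          _ = u ^ 2 * g := by rw [h9]
      obtain ⟨t, htU, htp, ht⟩ := h.exists_t (fun _ => hm) hgU hgg hgM
      exact h.caseB (fun _ => hm) htU htp ht
  · right
    obtain ⟨g, -, hgU, hgg⟩ := exists_pow_mem_not_mem hG (Subgroup.zpowers u) ⊤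
      ⟨x₀, Subgroup.mem_top _, hx₀⟩
    obtain ⟨r, hr⟩ := hUnorm.conj_mem u (Subgroup.mem_zpowers u) g
    simp only at hr
    have h1 := dvd_of_conj hr.symm p hgg
    rw [hou] at h1
    push_cast at h1
    have h2 := nt_odd_pow_one p hp hp2 (m + 1) r h1
    have hgM : g * u ^ p = u ^ p * g := by
      have h9 : g * u ^ p * g⁻¹ = u ^ p := by
        rw [← conj_pow, ← hr, ← zpow_natCast, ← zpow_mul]
        obtain ⟨q, hq⟩ := h2
        have e : r * (p : ℤ) = (p : ℤ) + ((p ^ (m + 2) : ℕ) : ℤ) * q := by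
          have : r = 1 + (p : ℤ) ^ (m + 1) * q := by linarith
          rw [this]; push_cast; ring
        rw [e, zpow_add, zpow_mul, zpow_natCast, zpow_natCast, ← hou, pow_orderOf_eq_one, one_zpow,
          mul_one]
      calc g * u ^ p = g * u ^ p * g⁻¹ * g := by group
        _ = u ^ p * g := by rw [h9]
    obtain ⟨t, htU, htp, ht⟩ := h.exists_t (fun h' => absurd h' hp2) hgU hgg hgM
    exact h.caseB (fun h' => absurd h' hp2) htU htp ht

end Cfsg.Agent.S3761
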