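import Cfsg.Statements.S0519
import Cfsg.Agent.S3761
import Cfsg.Agent.Lib.Helper59.FourGroup
import Cfsg.Agent.Lib.Helper31.PGroup

set_option autoImplicit false
open Cfsg

namespace Cfsg.Agent.S0519

open Cfsg.Agent.Lib.Helper59

/-- Let P be a finite p-group in which every abelian normal subgroup is cyclic, but which has a non-cyclic abelian
subgroup. Then p = 2 and P is generalized quaternion, dihedral of order at least 16, or quasi-dihedral. -/
theorem result {P : Type*} [Group P] [Finite P] (p : ℕ) [Fact p.Prime]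
    (hP : IsPGroup p P) (hn : ∀ A : Subgroup P, A.Normal → IsMulCommutative A → IsCyclic A)
    (hm : ∃ B : Subgroup P, IsMulCommutative B ∧ ¬ IsCyclic B) :
    p = 2 ∧ ((∃ n : ℕ, Nonempty (P ≃* QuaternionGroup n)) ∨ (∃ n : ℕ, 8 ≤ n ∧ Nonempty (P ≃* DihedralGroup n)) ∨
      Cfsg.IsQuasiDihedral P) := by
  have hp : p.Prime := Fact.out
  obtain ⟨B, hBc, hBn⟩ := hm
  have hna : ¬ IsMulCommutative P := by
    intro hc
    apply hBn
    have h1 : IsCyclic (⊤ : Subgroup P) := hn ⊤ inferInstance
      ⟨⟨fun x y => Subtype.ext (hc.is_comm.comm x.1 y.1)⟩⟩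
    exact Subgroup.isCyclic_of_le (H' := ⊤) le_top
  obtain ⟨A, hAn, hAc, hCA⟩ := Cfsg.Agent.Lib.Helper31.exists_normal_abelian_self_centralizing hP
  have hAcyc := hn A hAn hAc
  have hCA' : Subgroup.centralizer (A : Set P) = A := by
    apply le_antisymm hCA
    intro g hg
    rw [Subgroup.mem_centralizer_iff]
    intro h hh
    exact congrArg Subtype.val (hAc.is_comm.comm ⟨h, hh⟩ ⟨g, hg⟩)
  obtain ⟨n, hn'⟩ := (hP.to_subgroup A).exists_card_eq
  rcases Cfsg.Agent.S3761.result hP hna A hAcyc n hn' hCA' with
    ⟨rfl, hcard, hcase⟩ | ⟨-, ⟨hEc, hEe⟩, hEcard, hEchar⟩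
  · refine ⟨rfl, ?_⟩
    rcases hcase with ⟨k, ⟨e⟩⟩ | h | h
    · right; left
      refine ⟨k, ?_, ⟨e⟩⟩
      have hk : 2 ^ (n + 1) = 2 * k := by
        rw [← hcard, Nat.card_congr e.toEquiv, DihedralGroup.nat_card]
      have hk' : k = 2 ^ n := by
        rw [pow_succ] at hk; omega
      by_contra hlt
      have hn3 : n < 3 := by
        by_contra hcon
        have : 2 ^ 3 ≤ 2 ^ n := Nat.pow_le_pow_right (by norm_num) (by omega)
        omega
      have hn012 : n = 0 ∨ n = 1 ∨ n = 2 := by omega
      rcases hn012 with rfl | rfl | rfl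
      · apply hna
        have hc : IsCyclic P := isCyclic_of_prime_card (p := 2) (by simpa using hcard)
        obtain ⟨t, ht⟩ := hc.exists_generator
        refine ⟨⟨fun x y => ?_⟩⟩
        obtain ⟨i, rfl⟩ := ht x
        obtain ⟨j, rfl⟩ := ht y
        rw [← zpow_add, ← zpow_add, add_comm]
      · exact hna (IsPGroup.isMulCommutative_of_card_eq_prime_sq (p := 2) hcard)
      · have hk4 : k = 4 := by simpa using hk'
        subst hk4
        have hoz : orderOf (e.symm (DihedralGroup.r 2)) = 2 := by
          rw [MulEquiv.orderOf_eq]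
          apply orderOf_eq_prime <;> decide
        have hot : orderOf (e.symm (DihedralGroup.sr 0)) = 2 := by
          rw [MulEquiv.orderOf_eq]
          exact DihedralGroup.orderOf_sr 0
        have hzc : e.symm (DihedralGroup.r 2) ∈ Subgroup.center P := by
          rw [Subgroup.mem_center_iff]
          intro g
          apply e.injective
          rw [map_mul, map_mul, MulEquiv.apply_symm_apply]
          have : ∀ x : DihedralGroup 4, x * DihedralGroup.r 2 = DihedralGroup.r 2 * x := by decide
          exact this _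
        have hne : e.symm (DihedralGroup.sr 0) ≠ e.symm (DihedralGroup.r 2) := by
          intro h
          have := e.symm.injective h
          exact absurd this (by decide)
        obtain ⟨h4, hc, -, hnc⟩ := four_group _ _ hoz hzc hot hne
        apply hnc
        apply hn _ _ hc
        apply Subgroup.normal_of_index_eq_two
        have := Subgroup.card_mul_index
          (Subgroup.zpowers (e.symm (DihedralGroup.r 2)) ⊔ Subgroup.zpowers (e.symm (DihedralGroup.sr 0)))
        rw [h4, hcard] at this
        omega
    · exact Or.inl h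
    · exact Or.inr (Or.inr h)
  · exfalso
    have hcyc := hn _ (Subgroup.normal_of_characteristic _) hEc
    obtain ⟨g, hg⟩ := hcyc.exists_generator
    have h1 := orderOf_eq_card_of_forall_mem_zpowers hg
    have h2 : g ^ p = 1 := Subtype.ext (by simpa using hEe g.1 g.2)
    have h3 := orderOf_dvd_of_pow_eq_one h2
    rw [h1, hEcard] at h3
    have h4 := Nat.le_of_dvd hp.pos h3
    have := hp.one_lt
    nlinarith

end Cfsg.Agent.S0519
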