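import Cfsg.Statements.S0112
import Cfsg.Agent.Lib.Helper3.MaxClass

set_option autoImplicit false
open Cfsg

namespace Cfsg.Agent.S0112

open scoped commutatorElement
open Cfsg.Agent.Lib.Helper3

universe u

/-- order argument: between `Z` of order `p` and `A` of order `p ^ 2` -/
theorem eq_of_between {X : Type*} [Group X] [Finite X] {p : ℕ} (hp : p.Prime) {Z B A : Subgroup X}
    (hZ : Nat.card Z = p) (hA : Nat.card A = p ^ 2) (hZB : Z ≤ B) (hBA : B ≤ A) {w : X}
    (hw : w ∈ B) (hwZ : w ∉ Z) : B = A := by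
  apply Subgroup.eq_of_le_of_card_ge hBA
  have hd : Nat.card B ∣ p ^ 2 := hA ▸ Subgroup.card_dvd_of_le hBA
  obtain ⟨j, hj, hjB⟩ := (Nat.dvd_prime_pow hp).mp hd
  have hlt : Nat.card Z < Nat.card B := by
    apply lt_of_le_of_ne (Nat.le_of_dvd Nat.card_pos (Subgroup.card_dvd_of_le hZB))
    intro heq
    have := Subgroup.eq_of_le_of_card_ge hZB heq.ge
    exact hwZ (this ▸ hw)
  rw [hZ, hjB] at hlt
  have hj2 : j = 2 := by
    interval_cases j
    · simp at hlt; have := hp.pos; omega
    · simp at hlt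
    · rfl
  rw [hA, hjB, hj2]

theorem main {p : ℕ} [Fact p.Prime] (n : ℕ) :
    ∀ (X : Type u) [Group X] [Finite X], Nat.card X = p ^ n → ∀ A : Subgroup X,
      Nat.card A = p ^ 2 → Subgroup.centralizer (A : Set X) = A →
      Group.nilpotencyClass X = n - 1 := by
  induction n using Nat.strong_induction_on with
  | _ n ih =>
  intro X _ _ hX A hA hC
  have hpr : p.Prime := Fact.out
  have hPG : IsPGroup p X := IsPGroup.of_card hX
  have hnil : Group.IsNilpotent X := hPG.isNilpotent
  have hn2 : 2 ≤ n := by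
    have : p ^ 2 ∣ p ^ n := by
      rw [← hA, ← hX]; exact Subgroup.card_subgroup_dvd_card A
    exact (Nat.pow_dvd_pow_iff_le_right hpr.one_lt).mp this
  have hnt : Nontrivial X := by
    rw [← Finite.one_lt_card_iff_nontrivial, hX]
    exact Nat.one_lt_pow (by omega) hpr.one_lt
  rcases Nat.eq_or_lt_of_le hn2 with hn | hn3
  · subst hn
    have hcm : IsMulCommutative X := IsPGroup.isMulCommutative_of_card_eq_prime_sq hX
    have h1 := Group.IsNilpotent.nilpotencyClass_le_one_iff.mpr hcm
    have h0 : Group.nilpotencyClass X ≠ 0 := by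
      intro h0
      rw [Group.nilpotencyClass_zero_iff_subsingleton] at h0
      exact false_of_nontrivial_of_subsingleton X
    omega
  -- n ≥ 3
  have hZA : Subgroup.center X ≤ A := hC ▸ Subgroup.center_le_centralizer _
  have hAcomm : ∀ a ∈ A, ∀ b ∈ A, a * b = b * a := by
    intro a ha b hb
    have : b ∈ Subgroup.centralizer (A : Set X) := hC.symm ▸ hb
    exact Subgroup.mem_centralizer_iff.mp this a ha
  have hAtop : A ≠ ⊤ := by
    intro h
    rw [h, Subgroup.card_top, hX] at hA
    have := Nat.pow_right_injective hpr.two_le hA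
    omega
  have hZne : Subgroup.center X ≠ A := by
    intro h
    have : Subgroup.centralizer (A : Set X) = ⊤ := by
      rw [Subgroup.centralizer_eq_top_iff_subset, ← h]
    exact hAtop (hC ▸ this)
  have hZcard : Nat.card (Subgroup.center X) = p := by
    obtain ⟨k, hk0, hk⟩ := IsPGroup.card_center_eq_prime_pow hX (by omega)
    have hd : p ^ k ∣ p ^ 2 := by rw [← hk, ← hA]; exact Subgroup.card_dvd_of_le hZA
    have hk2 : k ≤ 2 := (Nat.pow_dvd_pow_iff_le_right hpr.one_lt).mp hd
    have hkne : k ≠ 2 := by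
      rintro rfl
      exact hZne (Subgroup.eq_of_le_of_card_ge hZA (by rw [hA, hk]))
    have : k = 1 := by omega
    rw [hk, this, pow_one]
  obtain ⟨-, hq⟩ := card_quotient_of_card hpr (Subgroup.center X) hX (by rw [hZcard, pow_one])
  set Z := Subgroup.center X with hZdef
  let Cb : Subgroup (X ⧸ Z) := Subgroup.centralizer ((A.map (QuotientGroup.mk' Z) : Subgroup (X ⧸ Z)) : Set (X ⧸ Z))
  let N : Subgroup X := Cb.comap (QuotientGroup.mk' Z)
  have hmemN : ∀ x : X, x ∈ N ↔ ∀ b ∈ A, ⁅x, b⁆ ∈ Z := by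
    intro x
    show QuotientGroup.mk' Z x ∈ Cb ↔ _
    rw [Subgroup.mem_centralizer_iff]
    constructor
    · intro h b hb
      have h1 := h (QuotientGroup.mk' Z b) ⟨b, hb, rfl⟩
      rw [← QuotientGroup.eq_one_iff]
      show QuotientGroup.mk' Z ⁅x, b⁆ = 1
      rw [map_commutatorElement, commutatorElement_eq_one_iff_mul_comm]
      exact h1.symm
    · rintro h _ ⟨b, hb, rfl⟩
      have h1 := h b hb
      rw [← QuotientGroup.eq_one_iff] at h1
      have h2 : QuotientGroup.mk' Z ⁅x, b⁆ = 1 := h1
      rw [map_commutatorElement, commutatorElement_eq_one_iff_mul_comm] at h2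
      exact h2.symm
  have hAN : A ≤ N := by
    intro x hx
    rw [hmemN]
    intro b hb
    rw [commutatorElement_eq_one_iff_mul_comm.mpr (hAcomm x hx b hb)]
    exact Z.one_mem
  -- an element of A outside Z
  obtain ⟨a, haA, haZ⟩ : ∃ a ∈ A, a ∉ Z := by
    by_contra hcon
    push Not at hcon
    exact hZne (le_antisymm hZA hcon)
  -- upper bound
  let ψ : N →* Z :=
    { toFun := fun x => ⟨⁅(x : X), a⁆, (hmemN x).mp x.2 a haA⟩
      map_one' := Subtype.ext (commutatorElement_one_left a)
      map_mul' := by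
        intro x y
        apply Subtype.ext
        show ⁅(x : X) * (y : X), a⁆ = ⁅(x : X), a⁆ * ⁅(y : X), a⁆
        have hy : ⁅(y : X), a⁆ ∈ Z := (hmemN y).mp y.2 a haA
        rw [commutatorElement_mul_left_eq_conj_mul, Subgroup.mem_center_iff.mp hy (x : X), mul_assoc ⁅(y : X), a⁆,
          mul_inv_cancel, mul_one]
        exact (Subgroup.mem_center_iff.mp hy _).symm }
  have hker : ∀ x : N, x ∈ ψ.ker → (x : X) ∈ A := by
    intro x hx
    have hxa : ⁅(x : X), a⁆ = 1 := congrArg Subtype.val (MonoidHom.mem_ker.mp hx)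
    rw [commutatorElement_eq_one_iff_mul_comm] at hxa
    have hB : A ⊓ Subgroup.centralizer {(x : X)} = A := by
      apply eq_of_between hpr hZcard hA (le_inf hZA (Subgroup.center_le_centralizer _)) inf_le_left
        (w := a) _ haZ
      refine Subgroup.mem_inf.mpr ⟨haA, ?_⟩
      rw [Subgroup.mem_centralizer_singleton_iff]
      exact hxa.symm
    rw [← hC, Subgroup.mem_centralizer_iff]
    intro b hb
    have : b ∈ A ⊓ Subgroup.centralizer {(x : X)} := hB.symm ▸ hb
    have h2 := Subgroup.mem_centralizer_singleton_iff.mp this.2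
    exact h2
  have hNle : Nat.card N ≤ p ^ 3 := by
    have h1 := ψ.ker.card_mul_index
    rw [Subgroup.index_ker] at h1
    have h2 : Nat.card ψ.ker ≤ p ^ 2 := by
      rw [← hA]
      exact Nat.card_le_card_of_injective (fun x : ψ.ker => (⟨(x : N), hker x x.2⟩ : A))
        (fun x y hxy => Subtype.ext (Subtype.ext (congrArg (fun t : A => (t : X)) hxy)))
    have h3 : Nat.card ψ.range ≤ p := by
      rw [← hZcard]
      exact Nat.card_le_card_of_injective _ Subtype.val_injective
    calc Nat.card N = Nat.card ψ.ker * Nat.card ψ.range := h1.symm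
      _ ≤ p ^ 2 * p := Nat.mul_le_mul h2 h3
      _ = p ^ 3 := by ring
  -- lower bound
  have hNne : ∃ x ∈ N, x ∉ A := by
    by_cases h : ∀ x, (∀ y, ⁅x, y⁆ ∈ Z) → x ∈ A
    · have hqnt : Nontrivial (X ⧸ Z) := by
        rw [← Finite.one_lt_card_iff_nontrivial, hq]
        exact Nat.one_lt_pow (by omega) hpr.one_lt
      have hqp : IsPGroup p (X ⧸ Z) := hPG.to_quotient Z
      have := hqp.center_nontrivial
      obtain ⟨⟨wb, hwb⟩, hwb1⟩ := exists_ne (1 : Subgroup.center (X ⧸ Z))
      obtain ⟨w, rfl⟩ := QuotientGroup.mk'_surjective Z wb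
      have hw2 : ∀ y, ⁅w, y⁆ ∈ Z := by
        intro y
        rw [← QuotientGroup.eq_one_iff]
        show QuotientGroup.mk' Z ⁅w, y⁆ = 1
        rw [map_commutatorElement, commutatorElement_eq_one_iff_mul_comm]
        exact (Subgroup.mem_center_iff.mp hwb _).symm
      have hwZ : w ∉ Z := fun hw => hwb1 (Subtype.ext ((QuotientGroup.eq_one_iff w).mpr hw))
      have hwA := h w hw2
      have hZU : Z ≤ Subgroup.upperCentralSeriesStep Z := by
        intro z hz y
        rw [commutatorElement_eq_one_iff_mul_comm.mpr (Subgroup.mem_center_iff.mp hz y).symm]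
        exact Z.one_mem
      have hB : A ⊓ Subgroup.upperCentralSeriesStep Z = A :=
        eq_of_between hpr hZcard hA (le_inf hZA hZU) inf_le_left (w := w)
          (Subgroup.mem_inf.mpr ⟨hwA, hw2⟩) hwZ
      obtain ⟨x, hx⟩ : ∃ x, x ∉ A := by
        by_contra hcon
        push Not at hcon
        exact hAtop (eq_top_iff.mpr fun x _ => hcon x)
      refine ⟨x, (hmemN x).mpr ?_, hx⟩
      intro b hb
      have hb2 : b ∈ A ⊓ Subgroup.upperCentralSeriesStep Z := hB.symm ▸ hb
      have h3 : ⁅b, x⁆ ∈ Z := (Subgroup.mem_inf.mp hb2).2 x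
      rw [← commutatorElement_inv]
      exact Z.inv_mem h3
    · push Not at h
      obtain ⟨x, hx1, hx2⟩ := h
      exact ⟨x, (hmemN x).mpr (fun b _ => hx1 b), hx2⟩
  have hNcard : Nat.card N = p ^ 3 := by
    obtain ⟨j, hj⟩ := IsPGroup.iff_card.mp (hPG.to_subgroup N)
    have hlt : Nat.card A < Nat.card N := by
      apply lt_of_le_of_ne (Nat.le_of_dvd Nat.card_pos (Subgroup.card_dvd_of_le hAN))
      intro heq
      have hAN' := Subgroup.eq_of_le_of_card_ge hAN heq.ge
      obtain ⟨x, hx1, hx2⟩ := hNne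
      exact hx2 (hAN' ▸ hx1)
    rw [hA, hj] at hlt
    rw [hj] at hNle
    have h1 : 2 < j := (Nat.pow_lt_pow_iff_right hpr.one_lt).mp hlt
    have h2 : j ≤ 3 := (Nat.pow_le_pow_iff_right hpr.one_lt).mp hNle
    have : j = 3 := by omega
    rw [hj, this]
  have hCbcard : Nat.card Cb = p ^ 2 := by
    have hidx : N.index = Cb.index := Subgroup.index_comap_of_surjective Cb (QuotientGroup.mk'_surjective Z)
    have h1 := N.card_mul_index
    have h2 := Cb.card_mul_index
    rw [hNcard, hX, hidx] at h1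
    rw [hq] at h2
    have hpos : 0 < Cb.index := Nat.pos_of_ne_zero Subgroup.index_ne_zero_of_finite
    have hp0 : 0 < p := hpr.pos
    apply Nat.eq_of_mul_eq_mul_right (Nat.mul_pos hpos hp0)
    calc Nat.card Cb * (Cb.index * p) = (Nat.card Cb * Cb.index) * p := by ring
      _ = p ^ (n - 1) * p := by rw [h2]
      _ = p ^ n := by rw [← pow_succ]; congr 1; omega
      _ = p ^ 3 * Cb.index := h1.symm
      _ = p ^ 2 * (Cb.index * p) := by ring
  have hCbC : Subgroup.centralizer (Cb : Set (X ⧸ Z)) = Cb := by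
    apply le_antisymm
    · apply Subgroup.centralizer_le
      exact Subgroup.map_le_iff_le_comap.mpr hAN
    · have hcm : IsMulCommutative Cb := IsPGroup.isMulCommutative_of_card_eq_prime_sq hCbcard
      intro x hx
      rw [Subgroup.mem_centralizer_iff]
      intro y hy
      exact congrArg Subtype.val (hcm.is_comm.comm ⟨y, hy⟩ ⟨x, hx⟩)
  have hfin := ih (n - 1) (by omega) (X ⧸ Z) hq Cb hCbcard hCbC
  rw [Group.nilpotencyClass_quotient_center] at hfin
  omega

/-- A p-group with a self-centralizing subgroup of order p^2 is of maximal class. -/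
theorem result {X : Type*} [Group X] [Finite X] {p : ℕ} [Fact p.Prime] (n : ℕ) (hX : Nat.card X = p ^ n) (A : Subgroup X) (hA : Nat.card A = p ^ 2) (hC : Subgroup.centralizer (A : Set X) = A) : Group.nilpotencyClass X = n - 1 := by
  exact main n X hX A hA hC

end Cfsg.Agent.S0112
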