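import Cfsg.Statements.S0126
import Cfsg.Agent.Lib.Helper3.NormalSeries
import Cfsg.Agent.Lib.Helper3.ClassTwo

set_option autoImplicit false
open Cfsg

namespace Cfsg.Agent.S0126

open scoped commutatorElement
open Cfsg.Agent.Lib.Helper3

universe u

theorem of_W {R : Type u} [Group R] [Finite R] {p : ℕ} [Fact p.Prime] (hR : IsPGroup p R)
    (W : Subgroup R) (hWn : W.Normal) (hexp : ∀ w ∈ W, w ^ p = 1) (hdvd : p ^ 2 ∣ Nat.card W) :
    ∃ A : Subgroup R, A.Normal ∧ Cfsg.IsElementaryAbelian p A ∧ Nat.card A = p ^ 2 := by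
  obtain ⟨A, hAW, hAn, hAc⟩ := exists_normal_le_card_eq 2 R hR W hWn hdvd
  exact ⟨A, hAn, ⟨IsPGroup.isMulCommutative_of_card_eq_prime_sq hAc, fun a ha => hexp a (hAW ha)⟩, hAc⟩

theorem cyclic_case {R : Type u} [Group R] [Finite R] {p : ℕ} [Fact p.Prime] (hR : IsPGroup p R)
    (hnc : ¬ IsCyclic R) (z : R) (hzc : z ∈ Subgroup.center R) (hzo : orderOf z = p)
    [hn : (Subgroup.zpowers z).Normal] (hcyc : IsCyclic (R ⧸ Subgroup.zpowers z)) :
    ∃ A : Subgroup R, A.Normal ∧ Cfsg.IsElementaryAbelian p A ∧ Nat.card A = p ^ 2 := by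
  have hpr : p.Prime := Fact.out
  have hZ1c : Subgroup.zpowers z ≤ Subgroup.center R := by rw [Subgroup.zpowers_le]; exact hzc
  have hZ1card : Nat.card (Subgroup.zpowers z) = p := by rw [Nat.card_zpowers, hzo]
  have hcomm : IsMulCommutative R :=
    (QuotientGroup.mk' (Subgroup.zpowers z)).isMulCommutative_of_isCyclic_of_ker_le_center
      (by rw [QuotientGroup.ker_mk']; exact hZ1c)
  let W : Subgroup R :=
    { carrier := {x | x ^ p = 1}
      one_mem' := one_pow p
      mul_mem' := by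
        intro x y hx hy
        have hc : Commute x y := hcomm.is_comm.comm x y
        show (x * y) ^ p = 1
        rw [hc.mul_pow, hx, hy, one_mul]
      inv_mem' := by
        intro x hx
        show (x⁻¹) ^ p = 1
        rw [inv_pow, hx, inv_one] }
  have hWn : W.Normal := by
    constructor
    intro x hx g
    show (g * x * g⁻¹) ^ p = 1
    rw [conj_pow, hx, mul_one, mul_inv_cancel]
  apply of_W hR W hWn (fun w hw => hw)
  obtain ⟨j, hj⟩ := IsPGroup.iff_card.mp (hR.to_subgroup W)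
  rw [hj]
  apply pow_dvd_pow
  by_contra hj2
  apply hnc
  have hZ1W : Subgroup.zpowers z ≤ W := by
    rw [Subgroup.zpowers_le]
    show z ^ p = 1
    rw [← hzo, pow_orderOf_eq_one]
  have hWZ : Subgroup.zpowers z = W := by
    apply Subgroup.eq_of_le_of_card_ge hZ1W
    rw [hj, hZ1card]
    calc p ^ j ≤ p ^ 1 := Nat.pow_le_pow_right hpr.pos (by omega)
      _ = p := pow_one p
  obtain ⟨gb, hgb⟩ := hcyc.exists_generator
  obtain ⟨g, rfl⟩ := QuotientGroup.mk'_surjective _ gb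
  have hdec : ∀ x : R, ∃ i : ℤ, (g ^ i)⁻¹ * x ∈ Subgroup.zpowers z := by
    intro x
    obtain ⟨i, hi⟩ := Subgroup.mem_zpowers_iff.mp (hgb (QuotientGroup.mk' _ x))
    refine ⟨i, ?_⟩
    rw [← QuotientGroup.eq_one_iff]
    show QuotientGroup.mk' _ ((g ^ i)⁻¹ * x) = 1
    rw [map_mul, map_inv, map_zpow, hi, inv_mul_cancel]
  by_cases hg1 : g = 1
  · refine ⟨z, fun x => ?_⟩
    obtain ⟨i, hi⟩ := hdec x
    rw [hg1, one_zpow, inv_one, one_mul] at hi
    exact hi
  · refine ⟨g, fun x => ?_⟩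
    obtain ⟨k, hk⟩ := (IsPGroup.iff_orderOf.mp hR) g
    have hk0 : k ≠ 0 := by
      rintro rfl
      rw [pow_zero, orderOf_eq_one_iff] at hk
      exact hg1 hk
    have hg1W : g ^ (p ^ (k - 1)) ∈ W := by
      show (g ^ (p ^ (k - 1))) ^ p = 1
      rw [← pow_mul, ← pow_succ, Nat.sub_add_cancel (Nat.pos_of_ne_zero hk0), ← hk, pow_orderOf_eq_one]
    have hg1ne : g ^ (p ^ (k - 1)) ≠ 1 := by
      apply pow_ne_one_of_lt_orderOf (pow_ne_zero _ hpr.ne_zero)
      rw [hk]
      exact Nat.pow_lt_pow_right hpr.one_lt (by omega)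
    rw [← hWZ] at hg1W
    have hzmem : (⟨z, Subgroup.mem_zpowers z⟩ : Subgroup.zpowers z) ∈
        Subgroup.zpowers (⟨g ^ (p ^ (k - 1)), hg1W⟩ : Subgroup.zpowers z) :=
      mem_zpowers_of_prime_card hZ1card (fun h => hg1ne (congrArg Subtype.val h))
    obtain ⟨i, hi⟩ := Subgroup.mem_zpowers_iff.mp hzmem
    have hi' : (g ^ (p ^ (k - 1))) ^ i = z := congrArg Subtype.val hi
    have hzg : Subgroup.zpowers z ≤ Subgroup.zpowers g := by
      rw [Subgroup.zpowers_le, ← hi']
      exact Subgroup.zpow_mem _ (Subgroup.pow_mem _ (Subgroup.mem_zpowers g) _) _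
    obtain ⟨l, hl⟩ := hdec x
    have : x = g ^ l * ((g ^ l)⁻¹ * x) := by group
    show x ∈ Subgroup.zpowers g
    rw [this]
    exact Subgroup.mul_mem _ (Subgroup.zpow_mem _ (Subgroup.mem_zpowers g) l) (hzg hl)

theorem noncyclic_case {R : Type u} [Group R] [Finite R] {p : ℕ} [Fact p.Prime] (hp : p ≠ 2)
    (hR : IsPGroup p R) (z : R) (hzc : z ∈ Subgroup.center R) (hzo : orderOf z = p)
    [hn : (Subgroup.zpowers z).Normal] (Bb : Subgroup (R ⧸ Subgroup.zpowers z)) (hBn : Bb.Normal)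
    (hBe : Cfsg.IsElementaryAbelian p Bb) (hBc : Nat.card Bb = p ^ 2) :
    ∃ A : Subgroup R, A.Normal ∧ Cfsg.IsElementaryAbelian p A ∧ Nat.card A = p ^ 2 := by
  have hpr : p.Prime := Fact.out
  have hZ1c : Subgroup.zpowers z ≤ Subgroup.center R := by rw [Subgroup.zpowers_le]; exact hzc
  have hZ1card : Nat.card (Subgroup.zpowers z) = p := by rw [Nat.card_zpowers, hzo]
  have hZ1p : ∀ w ∈ Subgroup.zpowers z, w ^ p = 1 := by
    intro w hw
    have : (⟨w, hw⟩ : Subgroup.zpowers z) ^ Nat.card (Subgroup.zpowers z) = 1 := pow_card_eq_one'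
    rw [hZ1card] at this
    exact congrArg Subtype.val this
  let B : Subgroup R := Bb.comap (QuotientGroup.mk' (Subgroup.zpowers z))
  have hBnorm : B.Normal := hBn.comap _
  have hBcard : Nat.card B = p ^ 3 := by
    rw [card_comap_mk', hBc, hZ1card]; ring
  have hBpow : ∀ x ∈ B, x ^ p ∈ Subgroup.zpowers z := by
    intro x hx
    rw [← QuotientGroup.eq_one_iff]
    show QuotientGroup.mk' _ (x ^ p) = 1
    rw [map_pow]
    exact hBe.2 _ hx
  have hBcomm : ∀ x ∈ B, ∀ y ∈ B, ⁅x, y⁆ ∈ Subgroup.zpowers z := by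
    intro x hx y hy
    rw [← QuotientGroup.eq_one_iff]
    show QuotientGroup.mk' _ ⁅x, y⁆ = 1
    rw [map_commutatorElement, commutatorElement_eq_one_iff_mul_comm]
    exact congrArg Subtype.val (hBe.1.is_comm.comm ⟨_, hx⟩ ⟨_, hy⟩)
  have hmul : ∀ x ∈ B, ∀ y ∈ B, (x * y) ^ p = x ^ p * y ^ p := by
    intro x hx y hy
    have hc := hBcomm y⁻¹ (B.inv_mem hy) x⁻¹ (B.inv_mem hx)
    have hcc := Subgroup.mem_center_iff.mp (hZ1c hc)
    rw [mul_pow_of_central (mul_eq_mul_mul_commutator x y) (hcc x).symm (hcc y).symm p]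
    have hlt : 2 < p := lt_of_le_of_ne hpr.two_le (Ne.symm hp)
    obtain ⟨k, hk⟩ := hpr.dvd_choose_self (by norm_num : (2 : ℕ) ≠ 0) hlt
    rw [hk, pow_mul, hZ1p _ hc, one_pow, mul_one]
  let φ : B →* Subgroup.zpowers z :=
    { toFun := fun x => ⟨(x : R) ^ p, hBpow x x.2⟩
      map_one' := Subtype.ext (one_pow p)
      map_mul' := fun x y => Subtype.ext (hmul x x.2 y y.2) }
  have hWn : (φ.ker.map B.subtype).Normal := by
    constructor
    rintro _ ⟨x, hx, rfl⟩ g
    refine ⟨⟨g * x * g⁻¹, hBnorm.conj_mem _ x.2 g⟩, ?_, rfl⟩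
    have hx1 : (x : R) ^ p = 1 := congrArg Subtype.val (MonoidHom.mem_ker.mp hx)
    rw [SetLike.mem_coe, MonoidHom.mem_ker]
    apply Subtype.ext
    show (g * (x : R) * g⁻¹) ^ p = 1
    rw [conj_pow, hx1, mul_one, mul_inv_cancel]
  apply of_W hR (φ.ker.map B.subtype) hWn
  · rintro _ ⟨x, hx, rfl⟩
    exact congrArg Subtype.val (MonoidHom.mem_ker.mp hx)
  · rw [Subgroup.card_map_of_injective B.subtype_injective]
    have h1 := φ.ker.card_mul_index
    rw [Subgroup.index_ker, hBcard] at h1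
    have h2 : Nat.card φ.range ∣ p := hZ1card ▸ Subgroup.card_subgroup_dvd_card φ.range
    rcases (Nat.dvd_prime hpr).mp h2 with h3 | h3
    · rw [h3, mul_one] at h1
      rw [h1]
      exact pow_dvd_pow p (by norm_num)
    · rw [h3] at h1
      have : Nat.card φ.ker = p ^ 2 := by
        apply Nat.eq_of_mul_eq_mul_right hpr.pos
        rw [h1]; ring
      rw [this]

theorem main {p : ℕ} [Fact p.Prime] (hp : p ≠ 2) (m : ℕ) :
    ∀ (R : Type u) [Group R] [Finite R], Nat.card R = m → IsPGroup p R → ¬ IsCyclic R →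
      ∃ A : Subgroup R, A.Normal ∧ Cfsg.IsElementaryAbelian p A ∧ Nat.card A = p ^ 2 := by
  induction m using Nat.strong_induction_on with
  | _ m ih =>
  intro R _ _ hm hR hnc
  have hpr : p.Prime := Fact.out
  have hnt : Nontrivial R := by
    by_contra h
    rw [not_nontrivial_iff_subsingleton] at h
    exact hnc inferInstance
  obtain ⟨z, -, hzc, hzo⟩ := exists_central_order_p hR ⊤ top_ne_bot
  have hZ1c : Subgroup.zpowers z ≤ Subgroup.center R := by rw [Subgroup.zpowers_le]; exact hzc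
  have hZ1n : (Subgroup.zpowers z).Normal := normal_of_le_center' hZ1c
  by_cases hcyc : IsCyclic (R ⧸ Subgroup.zpowers z)
  · exact cyclic_case hR hnc z hzc hzo hcyc
  · have hlt : Nat.card (R ⧸ Subgroup.zpowers z) < m := by
      have h := Subgroup.card_eq_card_quotient_mul_card_subgroup (Subgroup.zpowers z)
      rw [Nat.card_zpowers, hzo, hm] at h
      have hpos : 0 < Nat.card (R ⧸ Subgroup.zpowers z) := Nat.card_pos
      have := hpr.one_lt
      nlinarith
    obtain ⟨Bb, hBn, hBe, hBc⟩ := ih _ hlt (R ⧸ Subgroup.zpowers z) rfl (hR.to_quotient _) hcyc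
    exact noncyclic_case hp hR z hzc hzo Bb hBn hBe hBc

/-- For odd p, every non-cyclic p-group contains a normal elementary abelian subgroup of order p^2. -/
theorem result {R : Type*} [Group R] [Finite R] {p : ℕ} [Fact p.Prime] (hp : p ≠ 2) (hR : IsPGroup p R) (hnc : ¬ IsCyclic R) : ∃ A : Subgroup R, A.Normal ∧ Cfsg.IsElementaryAbelian p A ∧ Nat.card A = p ^ 2 := by
  exact main hp _ R rfl hR hnc

end Cfsg.Agent.S0126
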