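import Cfsg.Statements.S3977
import Mathlib
-- import your own Cfsg.Agent.* helpers here

set_option autoImplicit false
open Cfsg

namespace Cfsg.Agent.S3977

universe u

/-- power formulas in class two -/
theorem pow_mul_comm_central {G : Type*} [Group G] {x y c : G} (hc : ∀ g : G, Commute c g)
    (hyx : y * x = c * (x * y)) (n : ℕ) : y ^ n * x = c ^ n * (x * y ^ n) := by
  induction n with
  | zero => simp
  | succ n ih =>
    calc y ^ (n + 1) * x = y ^ n * (y * x) := by rw [pow_succ, mul_assoc]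
      _ = y ^ n * (c * (x * y)) := by rw [hyx]
      _ = c * (y ^ n * x) * y := by
          rw [← mul_assoc (y ^ n) c, ← (hc (y ^ n)).eq]; simp only [mul_assoc]
      _ = c * (c ^ n * (x * y ^ n)) * y := by rw [ih]
      _ = c ^ (n + 1) * (x * y ^ (n + 1)) := by
          rw [pow_succ' c, pow_succ y]; simp only [mul_assoc]

theorem mul_pow_central {G : Type*} [Group G] {x y c : G} (hc : ∀ g : G, Commute c g)
    (hyx : y * x = c * (x * y)) (n : ℕ) : (x * y) ^ n = c ^ (n.choose 2) * (x ^ n * y ^ n) := by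
  induction n with
  | zero => simp
  | succ n ih =>
    have h1 : (n + 1).choose 2 = n + n.choose 2 := by
      rw [Nat.choose_succ_succ' n 1, Nat.choose_one_right]
    calc (x * y) ^ (n + 1) = (x * y) ^ n * (x * y) := pow_succ _ _
      _ = c ^ (n.choose 2) * (x ^ n * y ^ n) * (x * y) := by rw [ih]
      _ = c ^ (n.choose 2) * (x ^ n * (y ^ n * x) * y) := by simp only [mul_assoc]
      _ = c ^ (n.choose 2) * (x ^ n * (c ^ n * (x * y ^ n)) * y) := by
          rw [pow_mul_comm_central hc hyx]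
      _ = c ^ (n.choose 2) * (c ^ n * (x ^ n * (x * y ^ n)) * y) := by
          rw [← mul_assoc (x ^ n) (c ^ n), ← ((hc (x ^ n)).pow_left n).eq, mul_assoc (c ^ n)]
      _ = c ^ ((n + 1).choose 2) * (x ^ (n + 1) * y ^ (n + 1)) := by
          rw [h1, add_comm, pow_add, pow_succ x, pow_succ y]; simp only [mul_assoc]

/-- A `p`-group with only one subgroup of index `p` is cyclic. -/
theorem isCyclic_of_unique_maximal {G : Type*} [Group G] [Finite G] {p k : ℕ} [Fact p.Prime]
    (hG : Nat.card G = p ^ (k + 1))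
    (huniq : ∀ H K : Subgroup G, Nat.card H = p ^ k → Nat.card K = p ^ k → H = K) : IsCyclic G := by
  have hp : p.Prime := Fact.out
  obtain ⟨H, hH⟩ := Sylow.exists_subgroup_card_pow_prime (G := G) p (n := k)
    (by rw [hG]; exact pow_dvd_pow p (Nat.le_succ k))
  have hHtop : H ≠ ⊤ := by
    rintro rfl
    rw [Subgroup.card_top, hG] at hH
    exact absurd (Nat.pow_right_injective hp.two_le hH) (by omega)
  obtain ⟨x, hx⟩ : ∃ x, x ∉ H := by
    by_contra hcon
    push Not at hcon
    exact hHtop (eq_top_iff.mpr fun x _ => hcon x)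
  have hdvd : Nat.card (Subgroup.zpowers x) ∣ p ^ (k + 1) := by
    rw [← hG]; exact Subgroup.card_subgroup_dvd_card _
  obtain ⟨j, hj, hj'⟩ := (Nat.dvd_prime_pow hp).mp hdvd
  rcases Nat.lt_or_ge j (k + 1) with hlt | hge
  · exfalso
    obtain ⟨K, hK, hle⟩ := Sylow.exists_subgroup_card_pow_prime_le p (m := k)
      (by rw [hG]; exact pow_dvd_pow p (Nat.le_succ k)) (Subgroup.zpowers x) hj' (Nat.lt_succ_iff.mp hlt)
    rw [huniq K H hK hH] at hle
    exact hx (hle (Subgroup.mem_zpowers x))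
  · have hj1 : j = k + 1 := le_antisymm hj hge
    apply isCyclic_of_orderOf_eq_card x
    rw [← Nat.card_zpowers, hj', hj1, hG]

/-- the structural part: two distinct cyclic maximal subgroups give a power endomorphism -/
theorem power_hom {G : Type*} [Group G] [Finite G] {p k : ℕ} [Fact p.Prime]
    (hG : Nat.card G = p ^ (k + 1)) (M1 M2 : Subgroup G) (hM1 : Nat.card M1 = p ^ k)
    (hM2 : Nat.card M2 = p ^ k) (hne : M1 ≠ M2) (hc1 : IsCyclic M1) (hc2 : IsCyclic M2)
    (e : ℕ) (he : p ∣ e.choose 2) :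
    (∀ x y : G, (x * y) ^ e = x ^ e * y ^ e) ∧ (∀ y : G, y ^ p ∈ M1 ⊓ M2) ∧
      (∀ d ∈ M1 ⊓ M2, ∀ g : G, Commute d g) := by
  have hp : p.Prime := Fact.out
  have hidx : ∀ M : Subgroup G, Nat.card M = p ^ k → M.index = p := by
    intro M hM
    have h1 := M.card_mul_index
    rw [hM, hG, pow_succ] at h1
    exact Nat.eq_of_mul_eq_mul_left (pow_pos hp.pos k) h1
  have hnorm : ∀ M : Subgroup G, Nat.card M = p ^ k → M.Normal := by
    intro M hM
    apply Subgroup.normal_of_index_eq_minFac_card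
    rw [hidx M hM, hG, Nat.pow_minFac (Nat.succ_ne_zero k), hp.minFac_eq]
  have hn1 := hnorm M1 hM1
  have hn2 := hnorm M2 hM2
  have hsup : M1 ⊔ M2 = ⊤ := by
    have hlt : M1 < M1 ⊔ M2 := by
      refine lt_of_le_of_ne le_sup_left ?_
      intro h
      have h2 : M2 ≤ M1 := by rw [h]; exact le_sup_right
      exact hne (Subgroup.eq_of_le_of_card_ge h2 (by rw [hM1, hM2])).symm
    have hdvd : Nat.card (M1 ⊔ M2 : Subgroup G) ∣ p ^ (k + 1) := by
      rw [← hG]; exact Subgroup.card_subgroup_dvd_card _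
    obtain ⟨j, hj, hj'⟩ := (Nat.dvd_prime_pow hp).mp hdvd
    have hcardlt : Nat.card M1 < Nat.card (M1 ⊔ M2 : Subgroup G) := by
      refine lt_of_le_of_ne (Subgroup.card_le_of_le hlt.le) ?_
      intro h
      exact hlt.ne (Subgroup.eq_of_le_of_card_ge hlt.le h.ge)
    rw [hM1, hj'] at hcardlt
    have hkj : k < j := (Nat.pow_lt_pow_iff_right hp.one_lt).mp hcardlt
    have : j = k + 1 := by omega
    apply Subgroup.eq_top_of_card_eq
    rw [hj', this, hG]
  have hcen : ∀ d ∈ M1 ⊓ M2, ∀ g : G, Commute d g := by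
    intro d hd g
    have hle : M1 ⊔ M2 ≤ Subgroup.centralizer ({d} : Set G) := by
      rw [sup_le_iff]
      constructor
      · intro u hu
        rw [Subgroup.mem_centralizer_singleton_iff]
        have := (IsCyclic.commGroup (α := M1)).mul_comm ⟨u, hu⟩ ⟨d, hd.1⟩
        exact congrArg Subtype.val this
      · intro u hu
        rw [Subgroup.mem_centralizer_singleton_iff]
        have := (IsCyclic.commGroup (α := M2)).mul_comm ⟨u, hu⟩ ⟨d, hd.2⟩
        exact congrArg Subtype.val this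
    rw [hsup] at hle
    have := Subgroup.mem_centralizer_singleton_iff.mp (hle (Subgroup.mem_top g))
    exact this.symm
  have hpow : ∀ y : G, y ^ p ∈ M1 ⊓ M2 := by
    intro y
    constructor
    · have := M1.pow_index_mem y
      rwa [hidx M1 hM1] at this
    · have := M2.pow_index_mem y
      rwa [hidx M2 hM2] at this
  have hcomm : ∀ (M : Subgroup G), Nat.card M = p ^ k → ∀ x y : G, y * x * y⁻¹ * x⁻¹ ∈ M := by
    intro M hM x y
    have := hnorm M hM
    have hcard : Nat.card (G ⧸ M) = p := by rw [← Subgroup.index_eq_card, hidx M hM]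
    have hcyc : IsCyclic (G ⧸ M) := isCyclic_of_prime_card hcard
    rw [← QuotientGroup.eq_one_iff]
    have h1 := (IsCyclic.commGroup (α := G ⧸ M)).mul_comm (y : G ⧸ M) (x : G ⧸ M)
    simp only [QuotientGroup.mk_mul, QuotientGroup.mk_inv]
    rw [h1]; simp
  refine ⟨?_, hpow, hcen⟩
  intro x y
  set c := y * x * y⁻¹ * x⁻¹ with hc
  have hcD : c ∈ M1 ⊓ M2 := ⟨hcomm M1 hM1 x y, hcomm M2 hM2 x y⟩
  have hcc := hcen c hcD
  have hyx : y * x = c * (x * y) := by rw [hc]; group
  have hcp : c ^ p = 1 := by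
    have h1 := pow_mul_comm_central hcc hyx p
    have h2 := (hcen _ (hpow y) x).eq
    rw [h2] at h1
    exact (mul_eq_right.mp h1.symm)
  rw [mul_pow_central hcc hyx e]
  obtain ⟨t, ht⟩ := he
  rw [ht, pow_mul, hcp, one_pow, one_mul]

theorem main (p s : ℕ) [Fact p.Prime] (hs : 1 ≤ s) (h2 : p ≠ 2 ∨ 2 ≤ s) :
    ∀ (m : ℕ) (G : Type u) [Group G] [Finite G], Nat.card G = p ^ m → s < m →
      (∀ H K : Subgroup G, Nat.card H = p ^ s → Nat.card K = p ^ s → H = K) → IsCyclic G := by
  have hp : p.Prime := Fact.out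
  intro m
  induction m using Nat.strong_induction_on with
  | _ m IH =>
  intro G _ _ hG hsm huniq
  by_contra hnc
  obtain ⟨k, rfl⟩ : ∃ k, m = k + 1 := ⟨m - 1, by omega⟩
  have hex : ∃ M1 M2 : Subgroup G, Nat.card M1 = p ^ k ∧ Nat.card M2 = p ^ k ∧ M1 ≠ M2 := by
    by_contra hcon
    push Not at hcon
    exact hnc (isCyclic_of_unique_maximal hG (fun H K hH hK => hcon H K hH hK))
  obtain ⟨M1, M2, hM1, hM2, hne⟩ := hex
  have hks : s < k := by
    rcases Nat.lt_or_ge s k with h | h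
    · exact h
    · have : k = s := by omega
      subst this
      exact absurd (huniq M1 M2 hM1 hM2) hne
  have hcyc : ∀ M : Subgroup G, Nat.card M = p ^ k → IsCyclic M := by
    intro M hM
    apply IH k (Nat.lt_succ_self k) M hM hks
    intro H K hH hK
    have := huniq (H.map M.subtype) (K.map M.subtype)
      (by rw [Subgroup.card_map_of_injective M.subtype_injective]; exact hH)
      (by rw [Subgroup.card_map_of_injective M.subtype_injective]; exact hK)
    exact Subgroup.map_injective M.subtype_injective this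
  have hc1 := hcyc M1 hM1
  have hc2 := hcyc M2 hM2
  -- elements of small order lie in M1
  have hsmall : ∀ (s0 : ℕ), s0 ≤ s → ∀ x : G, x ^ (p ^ s0) = 1 → x ∈ M1 := by
    intro s0 hs0 x hx
    have hdvd : Nat.card (Subgroup.zpowers x) ∣ p ^ s0 := by
      rw [Nat.card_zpowers]; exact orderOf_dvd_of_pow_eq_one hx
    obtain ⟨j, hj, hj'⟩ := (Nat.dvd_prime_pow hp).mp hdvd
    obtain ⟨K, hK, hle⟩ := Sylow.exists_subgroup_card_pow_prime_le p (m := s)
      (by rw [hG]; exact pow_dvd_pow p hsm.le) (Subgroup.zpowers x) hj' (hj.trans hs0)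
    obtain ⟨K', hK'⟩ := Sylow.exists_subgroup_card_pow_prime (G := M1) p (n := s)
      (by rw [hM1]; exact pow_dvd_pow p hks.le)
    have h1 := huniq K (K'.map M1.subtype) hK
      (by rw [Subgroup.card_map_of_injective M1.subtype_injective]; exact hK')
    have h2 : x ∈ K'.map M1.subtype := h1 ▸ hle (Subgroup.mem_zpowers x)
    exact Subgroup.map_subtype_le K' h2
  have hD : Nat.card (M1 ⊓ M2 : Subgroup G) ∣ p ^ (k - 1) := by
    have hdvd : Nat.card (M1 ⊓ M2 : Subgroup G) ∣ p ^ k := by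
      rw [← hM1]; exact Subgroup.card_dvd_of_le inf_le_left
    obtain ⟨j, hj, hj'⟩ := (Nat.dvd_prime_pow hp).mp hdvd
    have hjk : j ≠ k := by
      rintro rfl
      have h1 : M1 ⊓ M2 = M1 := Subgroup.eq_of_le_of_card_ge inf_le_left (by rw [hj', hM1])
      have h2 : M1 ≤ M2 := inf_eq_left.mp h1
      exact hne (Subgroup.eq_of_le_of_card_ge h2 (by rw [hM1, hM2]))
    rw [hj']
    exact pow_dvd_pow p (by omega)
  -- general counting for an exponent e = p ^ s0
  have hcount : ∀ s0 : ℕ, 1 ≤ s0 → s0 ≤ s → p ∣ (p ^ s0).choose 2 →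
      ∃ φ : G →* G, (∀ x, φ x = x ^ (p ^ s0)) ∧ Nat.card φ.ker ≤ p ^ s0 ∧ φ.range ≤ M1 ⊓ M2 ∧
        Nat.card φ.ker * Nat.card φ.range = p ^ (k + 1) := by
    intro s0 h1s0 hs0 hch
    obtain ⟨hmul, hpow, -⟩ := power_hom hG M1 M2 hM1 hM2 hne hc1 hc2 (p ^ s0) hch
    let φ : G →* G :=
      { toFun := fun x => x ^ (p ^ s0)
        map_one' := one_pow _
        map_mul' := hmul }
    refine ⟨φ, fun x => rfl, ?_, ?_, ?_⟩
    · classical
      have : Fintype M1 := Fintype.ofFinite _
      have h1 := IsCyclic.card_pow_eq_one_le (α := M1) (n := p ^ s0) (pow_pos hp.pos s0)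
      have h2 : Nat.card φ.ker ≤ Nat.card {y : M1 // y ^ (p ^ s0) = 1} := by
        apply Nat.card_le_card_of_injective
          (fun x : φ.ker => (⟨⟨x.1, hsmall s0 hs0 x.1 x.2⟩, Subtype.ext x.2⟩ :
            {y : M1 // y ^ (p ^ s0) = 1}))
        intro x y hxy
        apply Subtype.ext
        exact congrArg (fun z : {y : M1 // y ^ (p ^ s0) = 1} => (z.1.1 : G)) hxy
      rw [Nat.card_eq_fintype_card (α := {y : M1 // y ^ (p ^ s0) = 1}), Fintype.card_subtype] at h2
      exact h2.trans h1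
    · rintro _ ⟨x, rfl⟩
      change x ^ (p ^ s0) ∈ M1 ⊓ M2
      obtain ⟨t, rfl⟩ : ∃ t, s0 = t + 1 := ⟨s0 - 1, by omega⟩
      rw [pow_succ', pow_mul]
      exact Subgroup.pow_mem _ (hpow x) _
    · rw [← Subgroup.index_ker, Subgroup.card_mul_index, hG]
  have hkpos : 1 ≤ k := by omega
  have hpk : p ^ (k + 1) = p * p * p ^ (k - 1) := by
    rw [← pow_two, ← pow_add]; congr 1; omega
  by_cases hp2 : p = 2
  · subst hp2
    have hs2 : 2 ≤ s := h2.resolve_left (by simp)
    obtain ⟨φ, hφ, hker, hran, hprod⟩ := hcount 2 (by norm_num) hs2 (by decide)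
    have hr1 : Nat.card φ.range ≤ Nat.card (M1 ⊓ M2 : Subgroup G) := Subgroup.card_le_of_le hran
    have hr2 : Nat.card (M1 ⊓ M2 : Subgroup G) ≤ 2 ^ (k - 1) :=
      Nat.le_of_dvd (pow_pos (by norm_num) _) hD
    have hr3 : Nat.card (M1 ⊓ M2 : Subgroup G) ≤ Nat.card φ.range := by
      by_contra hlt
      push Not at hlt
      have : Nat.card φ.ker * Nat.card φ.range < 2 ^ 2 * 2 ^ (k - 1) := by
        calc Nat.card φ.ker * Nat.card φ.range ≤ 2 ^ 2 * Nat.card φ.range :=
              Nat.mul_le_mul_right _ hker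
          _ < 2 ^ 2 * 2 ^ (k - 1) := by
              apply Nat.mul_lt_mul_of_pos_left (lt_of_lt_of_le hlt hr2) (by norm_num)
      rw [hprod, hpk] at this
      omega
    have hreq : φ.range = M1 ⊓ M2 := Subgroup.eq_of_le_of_card_ge hran hr3
    have hDcard : 2 ∣ Nat.card (M1 ⊓ M2 : Subgroup G) := by
      have h4 : 2 ^ (k + 1) ≤ 2 ^ 2 * Nat.card (M1 ⊓ M2 : Subgroup G) := by
        rw [← hprod]
        exact Nat.mul_le_mul hker hr1
      obtain ⟨j, hj, hj'⟩ := (Nat.dvd_prime_pow Nat.prime_two).mp hD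
      rw [hj'] at h4 ⊢
      have hj0 : j ≠ 0 := by
        rintro rfl
        have : 2 ^ 3 ≤ 2 ^ (k + 1) := Nat.pow_le_pow_right (by norm_num) (by omega)
        omega
      exact dvd_pow_self 2 hj0
    obtain ⟨d0, hd0⟩ := exists_prime_orderOf_dvd_card' (G := (M1 ⊓ M2 : Subgroup G)) 2 hDcard
    obtain ⟨-, hpow, -⟩ := power_hom hG M1 M2 hM1 hM2 hne hc1 hc2 (2 ^ 2) (by decide)
    have hsurj : Function.Surjective (fun d : (M1 ⊓ M2 : Subgroup G) => d ^ 2) := by
      intro d
      have hd : (d : G) ∈ φ.range := hreq.ge d.2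
      obtain ⟨x, hx⟩ := hd
      refine ⟨⟨x ^ 2, hpow x⟩, ?_⟩
      apply Subtype.ext
      change (x ^ 2) ^ 2 = (d : G)
      rw [← hx, hφ, ← pow_mul]
      norm_num
    have hinj := Finite.injective_iff_surjective.mpr hsurj
    have h1 : d0 = 1 := by
      apply hinj
      change d0 ^ 2 = 1 ^ 2
      rw [one_pow, ← hd0, pow_orderOf_eq_one]
    rw [h1, orderOf_one] at hd0
    omega
  · have h2p : 2 < p := lt_of_le_of_ne hp.two_le (Ne.symm hp2)
    obtain ⟨φ, hφ, hker, hran, hprod⟩ := hcount 1 le_rfl hs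
      (by rw [pow_one]; exact hp.dvd_choose_self (by norm_num) h2p)
    have hr1 : Nat.card φ.range ≤ Nat.card (M1 ⊓ M2 : Subgroup G) := Subgroup.card_le_of_le hran
    have hr2 : Nat.card (M1 ⊓ M2 : Subgroup G) ≤ p ^ (k - 1) :=
      Nat.le_of_dvd (pow_pos hp.pos _) hD
    have : p ^ (k + 1) ≤ p ^ 1 * p ^ (k - 1) := by
      rw [← hprod]
      exact Nat.mul_le_mul hker (hr1.trans hr2)
    rw [hpk, pow_one] at this
    have hpos : 0 < p ^ (k - 1) := pow_pos hp.pos _
    have h3 : p * p ^ (k - 1) < p * p * p ^ (k - 1) := by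
      have : 1 < p := hp.one_lt
      nlinarith [Nat.mul_pos hp.pos hpos]
    omega

/-- Let `p` be a prime and `G` a group of order `p ^ m` which has exactly one subgroup of order `p ^ s`, where `1 ≤ s < m`, and where `s ≥ 2` if `p = 2`. Then `G` is cyclic. (For `p = 2` and `s = 1` the generalized quaternion groups also occur; that case is the classical criterion for a unique involution.) -/
theorem result {G : Type*} [Group G] [Finite G] (p m s : ℕ) (hp : p.Prime) (hG : Nat.card G = p ^ m) (hs : 1 ≤ s) (hsm : s < m) (h2 : p ≠ 2 ∨ 2 ≤ s) (huniq : ∀ H K : Subgroup G, Nat.card H = p ^ s → Nat.card K = p ^ s → H = K) : IsCyclic G := by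
  have : Fact p.Prime := ⟨hp⟩
  exact main p s hs h2 m G hG hsm huniq

end Cfsg.Agent.S3977
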