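import Cfsg.Statements.S0604
-- import your own Cfsg.Agent.* helpers here
import Cfsg.Agent.Lib.Helper13.Thompson

set_option autoImplicit false
open Cfsg

namespace Cfsg.Agent.S0604

open scoped Pointwise in
theorem exists_max_le_sylow {G : Type*} [Group G] [Finite G] {p : ℕ} [Fact p.Prime]
    (S : Sylow p G) : ∃ A : Subgroup G, A ∈ Cfsg.maxElementaryAbelianSubgroups p G ∧ A ≤ S := by
  obtain ⟨A₀, hA₀⟩ := Cfsg.Agent.Lib.Helper13.exists_maxElementaryAbelian (G := G) p
  obtain ⟨S₀, hS₀⟩ := (Cfsg.Agent.Lib.Helper13.isEA_isPGroup hA₀.1).exists_le_sylow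
  obtain ⟨g, hg⟩ := MulAction.exists_smul_eq G S₀ S
  refine ⟨A₀.map (MulAut.conj g).toMonoidHom, ⟨Cfsg.Agent.Lib.Helper13.isEA_map hA₀.1 _,
    fun B hB => ?_⟩, ?_⟩
  · rw [Subgroup.card_map_of_injective (MulAut.conj g).injective]
    exact hA₀.2 B hB
  · rintro _ ⟨a, ha, rfl⟩
    have h1 : MulAut.conj g • a ∈ MulAut.conj g • (S₀ : Subgroup G) :=
      Subgroup.smul_mem_pointwise_smul a _ _ (hS₀ ha)
    rw [← Sylow.coe_subgroup_smul, hg] at h1
    exact h1

/-- The Thompson subgroup of G is the join of the Thompson subgroups of its Sylow p-subgroups. -/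
theorem result {G : Type*} [Group G] [Finite G] {p : ℕ} [Fact p.Prime] : Cfsg.thompsonSubgroup p G = ⨆ S : Sylow p G, Cfsg.thompsonSubgroupOf p (S : Subgroup G) := by
  apply le_antisymm
  · apply sSup_le
    intro A hA
    obtain ⟨S, hAS⟩ := (Cfsg.Agent.Lib.Helper13.isEA_isPGroup hA.1).exists_le_sylow
    have h1 := Cfsg.Agent.Lib.Helper13.le_thompsonSubgroup
      (Cfsg.Agent.Lib.Helper13.subgroupOf_mem_max hA hAS)
    have h2 := Subgroup.map_mono (f := (S : Subgroup G).subtype) h1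
    rw [Subgroup.subgroupOf_map_subtype, inf_of_le_left hAS] at h2
    exact h2.trans (le_iSup (fun S : Sylow p G => Cfsg.thompsonSubgroupOf p (S : Subgroup G)) S)
  · apply iSup_le
    intro S
    obtain ⟨A₀, hA₀, hA₀S⟩ := exists_max_le_sylow S
    rw [Cfsg.thompsonSubgroupOf, Subgroup.map_le_iff_le_comap]
    apply sSup_le
    intro A hA
    rw [← Subgroup.map_le_iff_le_comap]
    exact Cfsg.Agent.Lib.Helper13.le_thompsonSubgroup
      (Cfsg.Agent.Lib.Helper13.map_subtype_mem_max hA₀ hA₀S hA)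

end Cfsg.Agent.S0604
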