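import Cfsg.Statements.S2824
import Cfsg.Agent.Lib.Helper53.PRed2

set_option autoImplicit false
open Cfsg

namespace Cfsg.Agent.S2824

open Cfsg.Agent.Lib.Helper53

/-- the common part: for `K ≥ T` with `K C(Y) = L C(Y)`, `K₁ = N_K(T₀)` -/
theorem aux {H : Type*} [Group H] [Finite H] {p : ℕ} [Fact p.Prime] {T K Y T₀ : Subgroup H}
    (hT : IsSyl p T ⊤) (hTK : T ≤ K) (hY : IsPRed p Y K)
    (hT₀ : T₀ = T ⊓ Subgroup.centralizer (Y : Set H)) :
    T ≤ K ⊓ Subgroup.normalizer (T₀ : Set H) ∧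
    (K ⊓ Subgroup.normalizer (T₀ : Set H)) ⊔ Subgroup.centralizer (Y : Set H)
      = K ⊔ Subgroup.centralizer (Y : Set H) ∧
    IsPRed p (omegaOne p (T₀ ⊓ Subgroup.centralizer (T₀ : Set H)))
      (K ⊓ Subgroup.normalizer (T₀ : Set H)) ∧
    largestPReducedOf p (K ⊓ Subgroup.normalizer (T₀ : Set H))
      = omegaOne p (T₀ ⊓ Subgroup.centralizer (T₀ : Set H)) := by
  set C := Subgroup.centralizer (Y : Set H) with hC
  set K₁ := K ⊓ Subgroup.normalizer (T₀ : Set H) with hK₁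
  have hTK' : IsSyl p T K := hT.of_le hTK le_top
  have hKC : K ≤ Subgroup.normalizer (C : Set H) :=
    hY.le_normalizer.trans (normalizer_le_normalizer_centralizer Y)
  have hKKC : K ≤ Subgroup.normalizer ((K ⊓ C : Subgroup H) : Set H) :=
    le_normalizer_inf Subgroup.le_normalizer hKC
  have hS : IsSyl p T₀ (K ⊓ C) := by
    have := hTK'.inf_normal inf_le_left hKKC
    rwa [← inf_assoc, inf_eq_left.2 hTK, ← hT₀] at this
  have hfr := frattini_sup hS inf_le_left hKKC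
  have hTK₁ : T ≤ K₁ := by
    refine le_inf hTK ?_
    rw [hT₀]
    exact le_normalizer_inf Subgroup.le_normalizer (hTK.trans hKC)
  have hsup : K₁ ⊔ C = K ⊔ C := by
    apply le_antisymm (sup_le_sup_right inf_le_left _)
    apply sup_le _ le_sup_right
    conv_lhs => rw [← hfr]
    exact sup_le (inf_le_right.trans le_sup_right) le_sup_left
  have hYK₁ : IsPRed p Y K₁ :=
    hY.of_sup_eq ((hY.le_pCoreOf.trans (pCoreOf_le_isSyl hTK')).trans hTK₁) hsup
  have hTK₁' : IsSyl p T K₁ := hT.of_le hTK₁ le_top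
  obtain ⟨hX, hYX⟩ := isPRed_omega hTK₁' hYK₁ hT₀ inf_le_right
  refine ⟨hTK₁, hsup, hX, le_antisymm ?_ hX.le_largest⟩
  have hYs := isPRed_largest p K₁
  set Ys := largestPReducedOf p K₁ with hYsdef
  have hT₀T : T₀ ≤ T := by rw [hT₀]; exact inf_le_left
  have h1 : T₀ ≤ pCoreOf p K₁ :=
    le_pCoreOf (hT₀T.trans hTK₁) inf_le_right (hT.isPGroup.to_le hT₀T)
  have h2 : Ys ≤ Subgroup.centralizer (T₀ : Set H) := by
    rw [Subgroup.le_centralizer_iff]
    exact h1.trans hYs.pCoreOf_le_centralizer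
  have h3 : Ys ≤ T₀ := by
    rw [hT₀]
    refine le_inf (hYs.le_pCoreOf.trans (pCoreOf_le_isSyl hTK₁')) ?_
    exact (elemAb_iff.1 hYs.elemAb).1.trans (Subgroup.centralizer_le hYK₁.le_largest)
  exact le_omegaOne (le_inf h3 h2) hYs.elemAb.2

/-- Let H be a finite group, p a prime, T a Sylow p-subgroup, L and M subgroups of characteristic p containing T, Y_L the largest p-reduced normal subgroup of L and T₀ = C_T(Y_L). If M·C_H(Y_L) = L·C_H(Y_L), then L* := N_M(T₀) has Y_{L*} = Y_L and L·C_H(Y_L) = L*·C_H(Y_L). -/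
theorem result {H : Type*} [Group H] [Finite H] {p : ℕ} [Fact p.Prime] (T : Sylow p H) (L M : Subgroup H) (hTL : (T : Subgroup H) ≤ L) (hTM : (T : Subgroup H) ≤ M) (hL : Subgroup.centralizer (Cfsg.pCore p ↥L : Set ↥L) ≤ Cfsg.pCore p ↥L) (hM : Subgroup.centralizer (Cfsg.pCore p ↥M : Set ↥M) ≤ Cfsg.pCore p ↥M) (T₀ : Subgroup H) (hT₀ : T₀ = (T : Subgroup H) ⊓ Subgroup.centralizer (((Cfsg.largestPReducedOf p L) : Subgroup H) : Set H)) (hfac : M ⊔ Subgroup.centralizer (((Cfsg.largestPReducedOf p L) : Subgroup H) : Set H) = L ⊔ Subgroup.centralizer (((Cfsg.largestPReducedOf p L) : Subgroup H) : Set H)) (Ls : Subgroup H) (hLs : Ls = M ⊓ Subgroup.normalizer ((T₀ : Subgroup H) : Set H)) : (Cfsg.largestPReducedOf p Ls) = (Cfsg.largestPReducedOf p L) ∧ L ⊔ Subgroup.centralizer (((Cfsg.largestPReducedOf p L) : Subgroup H) : Set H) = Ls ⊔ Subgroup.centralizer (((Cfsg.largestPReducedOf p L) : Subgroup H) : Set H) := by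
  subst hLs
  have hT := isSyl_top_of_sylow T
  have hY := isPRed_largest p L
  set Y := Cfsg.largestPReducedOf p L with hYdef
  have hTL' : IsSyl p (T : Subgroup H) L := hT.of_le hTL le_top
  have hYT : Y ≤ (T : Subgroup H) := hY.le_pCoreOf.trans (pCoreOf_le_isSyl hTL')
  have hYM : IsPRed p Y M := hY.of_sup_eq (hYT.trans hTM) hfac
  obtain ⟨-, hM2, -, hM4⟩ := aux hT hTM hYM hT₀
  obtain ⟨hL1, -, hL3, -⟩ := aux hT hTL hY hT₀
  have hYX := (isPRed_omega (hT.of_le hL1 le_top)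
    (hY.of_sup_eq (hYT.trans hL1) (aux hT hTL hY hT₀).2.1) hT₀ inf_le_right).2
  have hXY : omegaOne p (T₀ ⊓ Subgroup.centralizer (T₀ : Set H)) ≤ Y :=
    (le_iSup_cj _ L).trans
      (isPRed_closure hTL' hL1 inf_le_left (Cfsg.Agent.Lib.Helper53.charP_iff.1 hL) hL3).le_largest
  refine ⟨?_, ?_⟩
  · rw [hM4]
    exact le_antisymm hXY hYX
  · rw [hM2, hfac]

end Cfsg.Agent.S2824
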