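import Cfsg.Statements.S0640
import Cfsg.Agent.Lib.Helper3.AutOrbit
import Cfsg.Agent.Lib.Helper3.Metacyclic
import Cfsg.Agent.Lib.Helper90.SmallExp

set_option autoImplicit false
open Cfsg

namespace Cfsg.Agent.S0640

/-- For odd p, a prime q ≠ p dividing the order of the automorphism group of a p-group of rank at most 2 divides p² - 1 and is less than p. -/
theorem result {R : Type*} [Group R] [Finite R] {p : ℕ} [Fact p.Prime] (hp : p ≠ 2) (hR : IsPGroup p R) (hrk : Cfsg.PRankLE p 2 R) (q : ℕ) (hq : q.Prime) (hqp : q ≠ p) (hdvd : q ∣ Nat.card (MulAut R)) : q ∣ p ^ 2 - 1 ∧ q < p := by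
  have hpp : p.Prime := Fact.out
  have : Fact q.Prime := ⟨hq⟩
  obtain ⟨α, hα⟩ := exists_prime_orderOf_dvd_card' q hdvd
  have hαq : α ^ q = 1 := by rw [← hα]; exact pow_orderOf_eq_one α
  have hα1 : α ≠ 1 := by
    intro h
    rw [h, orderOf_one] at hα
    exact hq.one_lt.ne hα
  have hcop : (orderOf α).Coprime p := by
    rw [hα]
    exact (Nat.coprime_primes hq hpp).mpr hqp
  obtain ⟨D, hDc, hDe, hDf⟩ := Cfsg.Agent.Lib.Helper90.exists_char_small hR
  have hDe' : ∀ x ∈ D, x ^ p = 1 := by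
    intro x hx
    rcases hDe x hx with h | ⟨h, _⟩
    · exact h
    · exact absurd h hp
  have hDfix : ¬ D ≤ Cfsg.Agent.Lib.Helper3.fixSub α := fun h => hα1 (hDf α hcop fun x hx => h hx)
  have hDn : D.Normal := inferInstance
  have hD0 : D ≠ ⊥ := by
    intro h
    apply hDfix
    rw [h]
    exact bot_le
  have hdvd2 : q ∣ p ^ 2 - 1 := by
    set K : Subgroup R := D ⊓ Subgroup.centralizer (D : Set R) with hK
    have hCc : (Subgroup.centralizer (D : Set R)).Characteristic := inferInstance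
    have hKinv : ∀ (β : MulAut R), ∀ x ∈ K, β x ∈ K := fun β x hx =>
      ⟨Cfsg.Agent.Lib.Helper3.char_aut_mem hDc β hx.1,
        Cfsg.Agent.Lib.Helper3.char_aut_mem hCc β hx.2⟩
    have hKc : ∀ a ∈ K, ∀ b ∈ K, a * b = b * a := fun a ha b hb =>
      Subgroup.mem_centralizer_iff.mp hb.2 a ha.1
    have hKcard : Nat.card K ≤ p ^ 2 :=
      hrk K ⟨⟨fun a b => Subtype.ext (hKc a a.2 b b.2)⟩⟩ (fun a ha => hDe' a ha.1)
    by_cases hKfix : K ≤ Cfsg.Agent.Lib.Helper3.fixSub α
    · -- use `D`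
      have hK0 : K ≠ ⊥ := by
        have h1 := Cfsg.Agent.Lib.Helper3.normal_inf_center_ne_bot' hR D hD0
        intro h
        apply h1
        rw [eq_bot_iff, ← h]
        intro x hx
        refine ⟨hx.1, ?_⟩
        show x ∈ Subgroup.centralizer (D : Set R)
        rw [Subgroup.mem_centralizer_iff]
        intro y _
        exact Subgroup.mem_center_iff.mp hx.2 y
      have hKp : p ≤ Nat.card K := by
        have h1 := Cfsg.Agent.Lib.Helper3.card_mul_le_of_lt hR (bot_lt_iff_ne_bot.mpr hK0)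
        rwa [Subgroup.card_bot, mul_one] at h1
      have hDcard : Nat.card D ≤ p ^ 3 := by
        apply Cfsg.Agent.Lib.Helper3.card_le_of_exponent_rank_two hp (hR.to_subgroup D)
        · intro g
          exact Subtype.ext (by simpa using hDe' g g.2)
        · intro E hEc
          rw [← Subgroup.card_map_of_injective D.subtype_injective]
          apply hrk
          · refine ⟨⟨?_⟩⟩
            rintro ⟨_, a, ha, rfl⟩ ⟨_, b, hb, rfl⟩
            exact Subtype.ext (congrArg (Subtype.val : D → R) (hEc a ha b hb))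
          · rintro _ ⟨a, ha, rfl⟩
            exact hDe' a a.2
      apply Cfsg.Agent.Lib.Helper3.dvd_sq_sub_one_of_aut α hqp hαq D (hR.to_subgroup D)
        (fun x hx => Cfsg.Agent.Lib.Helper3.char_aut_mem hDc α hx)
        (fun x hx => Cfsg.Agent.Lib.Helper3.char_aut_mem hDc α.symm hx) hDfix
      have h2 : K ≤ D ⊓ Cfsg.Agent.Lib.Helper3.fixSub α := le_inf inf_le_left hKfix
      calc Nat.card D ≤ p ^ 3 := hDcard
        _ = p ^ 2 * p := by ring
        _ ≤ p ^ 2 * Nat.card K := Nat.mul_le_mul_left _ hKp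
        _ ≤ _ := Nat.mul_le_mul_left _ (Subgroup.card_le_of_le h2)
    · apply Cfsg.Agent.Lib.Helper3.dvd_sq_sub_one_of_aut α hqp hαq K (hR.to_subgroup K)
        (hKinv α) (hKinv α.symm) hKfix
      calc Nat.card K ≤ p ^ 2 := hKcard
        _ ≤ _ := Nat.le_mul_of_pos_right _ Nat.card_pos
  refine ⟨hdvd2, ?_⟩
  have h1 : p ^ 2 - 1 = (p - 1) * (p + 1) := by
    obtain ⟨m, rfl⟩ := Nat.exists_eq_add_of_le hpp.pos
    simp only [Nat.add_sub_cancel_left]
    have : (1 + m) ^ 2 = m * (1 + m + 1) + 1 := by ring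
    rw [this, Nat.add_sub_cancel]
  rw [h1] at hdvd2
  have hp3 : 3 ≤ p := by
    have := hpp.two_le
    omega
  rcases (Nat.Prime.dvd_mul hq).mp hdvd2 with h | h
  · have := Nat.le_of_dvd (by omega) h
    omega
  · have h2 := Nat.le_of_dvd (by omega) h
    have h3 : q ≠ p + 1 := by
      intro h4
      have hodd : Odd p := hpp.odd_of_ne_two hp
      have heven : Even (p + 1) := hodd.add_one
      rw [← h4] at heven
      have := (hq.even_iff).mp heven
      omega
    omega

end Cfsg.Agent.S0640
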