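import Cfsg.Statements.S1382
import Cfsg.Agent.Lib.Helper14.BG16A
import Cfsg.Agent.S1356
import Cfsg.Agent.S1357
import Cfsg.Agent.S1363
import Cfsg.Agent.S1366
import Cfsg.Agent.S1370
import Cfsg.Agent.S1430
import Cfsg.Agent.S1434
import Cfsg.Agent.S1437

set_option autoImplicit false
open Cfsg

namespace Cfsg.Agent.S1382

/-- Let G be a minimal simple group of odd order and M a maximal subgroup with standard factorisation M = K U M_σ. Then M is of Type III or of Type IV if and only if K ≠ 1, U = 1 and M_F ≠ M_σ. -/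
theorem result {G : Type*} [Group G] [Finite G] (hG : Cfsg.IsMinSimpleOddOrder G)
    (M : Subgroup G) (hM : IsCoatom M) (K U : Subgroup G) (hKU : Cfsg.IsSigmaDecomposition M K U) :
    (Cfsg.IsOfTypeIII M ∨ Cfsg.IsOfTypeIV M) ↔ (K ≠ ⊥ ∧ U = ⊥ ∧ Cfsg.fittingHallOf M ≠ Cfsg.sigmaCore M) := by
  constructor
  · intro h
    have h37 : Cfsg.fittingHallOf M ≠ Cfsg.sigmaCore M → U = ⊥ :=
      fun hne => (Cfsg.Agent.S1437.result hG M hM K U hKU hne).1
    have h34 : K ≠ ⊥ → Cfsg.kappa M = Cfsg.tau1 M := by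
      intro hK1
      obtain ⟨Ms, ⟨hMs, h1, h2⟩, -⟩ := Cfsg.Agent.S1366.result hG M hM K U hKU hK1
      exact (Cfsg.Agent.S1434.result hG M hM K U hKU hK1 Ms hMs h1 h2).1
    have h63 : ∀ K' U' : Subgroup G, Cfsg.IsSigmaDecomposition M K' U' → K' ≠ ⊥ →
        ¬ Subgroup.normalizer (U' : Set G) ≤ M :=
      fun K' U' h' hK' => (Cfsg.Agent.S1363.result hG M hM K' U' h' hK').2
    rcases h with ⟨W1, Ut, W2, hP, -, hW1, -, -, hN⟩ | ⟨W1, Ut, W2, hP, -, hW1, -, -, hN⟩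
    · exact Cfsg.Agent.Lib.Helper14.BG16.of_type hG hM hKU hP hW1 hN h37 h34 h63
    · exact Cfsg.Agent.Lib.Helper14.BG16.of_type hG hM hKU hP hW1 hN h37 h34 h63
  · rintro ⟨hK1, hU, hne⟩
    obtain ⟨-, hMs, hKp, hqp, hqF, hqβ, Q, hQF, hMQ, hQq, hQi, hD⟩ :=
      Cfsg.Agent.S1437.result hG M hM K U hKU hne
    have : Fact (Nat.card ↥(Cfsg.sigmaCore M ⊓ Subgroup.centralizer (K : Set G))).Prime := ⟨hqp⟩
    obtain ⟨h56a, h56b, h56c⟩ := Cfsg.Agent.S1356.result hG M hM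
    obtain ⟨h70a, h70b⟩ := Cfsg.Agent.S1370.result hG M hM K U hKU hK1
    have hκ : (Cfsg.kappa M).Nonempty := by
      obtain ⟨p, hp, hpd⟩ := Nat.exists_prime_and_dvd
        (show Nat.card K ≠ 1 from fun h => hK1 (Subgroup.card_eq_one.mp h))
      exact ⟨p, hKU.hall.2.1 p hp hpd⟩
    have hMK : M ≤ K ⊔ Cfsg.sigmaCore M := by
      intro m hm
      obtain ⟨a, ha, b, hb, rfl⟩ := hKU.compl.2.2.2 m hm
      rw [hU, Subgroup.mem_bot] at ha
      rw [ha, one_mul]; exact hb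
    exact Cfsg.Agent.Lib.Helper14.BG16.type_of hG hM hKU.cyclic hKU.hall hK1 hMK hne rfl hMs hKp rfl
      hqF hqβ hQF hMQ hQq hQi (fun D hD' => (hD D hD').1) h56a h56b (h56c hκ)
      (Cfsg.Agent.S1357.result hG M hM K U hKU hne).2.1 h70a h70b
      (Cfsg.Agent.S1430.result hG M hM K hKU.hall hK1).1

end Cfsg.Agent.S1382
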