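import Cfsg.Statements.S1436
-- import your own Cfsg.Agent.* helpers here
import Cfsg.Agent.Lib.Helper24.BG14G
import Cfsg.Agent.Lib.Helper26.BG1436Beta
import Cfsg.Agent.Lib.Helper13.BG1436TAU2
import Cfsg.Agent.S1416
import Cfsg.Agent.S1417
import Cfsg.Agent.S1418
import Cfsg.Agent.S1378
import Cfsg.Agent.S1430
import Cfsg.Agent.S1431
import Cfsg.Agent.S1432

set_option autoImplicit false
open Cfsg

namespace Cfsg.Agent.S1436

/-- Let G be a minimal simple group of odd order, M a maximal subgroup, x ≠ 1 in M_σ with C_G(x) ⊄ M, and N a maximal subgroup containing C_G(x). (a) If some prime of σ(N) divides the order of M, then κ(M) = ∅ and τ₂(M) = ∅. (b) If y ≠ 1 in M_σ has C_G(y) ⊄ M, N' is a maximal subgroup containing C_G(y), and gN'g⁻¹ = N for some g ∈ G, then mN'm⁻¹ = N for some m ∈ M. -/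
theorem result {G : Type*} [Group G] [Finite G] (hG : Cfsg.IsMinSimpleOddOrder G)
    (M : Subgroup G) (hM : IsCoatom M) (x : G) (hx : x ∈ Cfsg.sigmaCore M) (hx1 : x ≠ 1) (hxM : ¬ Subgroup.centralizer ({x} : Set G) ≤ M)
    (N : Subgroup G) (hN : IsCoatom N) (hxN : Subgroup.centralizer ({x} : Set G) ≤ N) :
    ((∃ p ∈ Cfsg.sigma N, p ∣ Nat.card M) → Cfsg.kappa M = ∅ ∧ Cfsg.tau2 M = ∅) ∧
      ∀ (y : G) (N' : Subgroup G) (g : G), y ∈ Cfsg.sigmaCore M → y ≠ 1 → ¬ Subgroup.centralizer ({y} : Set G) ≤ M → IsCoatom N' → Subgroup.centralizer ({y} : Set G) ≤ N' →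
        N'.map (MulAut.conj g).toMonoidHom = N → ∃ m ∈ M, N'.map (MulAut.conj m).toMonoidHom = N := by
  have T : Cfsg.Agent.Lib.Helper24.BG14.Texts G :=
    ⟨fun M hM p _ A hA => (Cfsg.Agent.S1416.result hG M hM p A hA).1,
      fun M hM p _ hp A hA => Cfsg.Agent.S1417.result hG M hM p hp A hA,
      fun M hM E hE p _ hp A hA => Cfsg.Agent.S1418.result hG M hM E hE p hp A hA,
      (Cfsg.Agent.S1378.result hG).2,
      fun M hM x hx hx1 x' hx' hx'1 hσ => Cfsg.Agent.S1432.result hG M hM x hx hx1 x' hx' hx'1 hσ⟩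
  have TZ : Cfsg.Agent.Lib.Helper28.BGZ.TZ G :=
    ⟨T, fun M hM K hK hK1 => Cfsg.Agent.S1430.result hG M hM K hK hK1,
      fun M hM K hK hK1 => Cfsg.Agent.S1431.result hG M hM K hK hK1⟩
  obtain ⟨N₀, hc₀⟩ := Cfsg.Agent.Lib.Helper24.BG14.exists_ctx hG T.h16 T.h17 T.h18 T.h78 T.h32 hM hx
    hx1 hxM
  obtain rfl : N = N₀ := hc₀.uniq N hN hxN
  refine ⟨?_, ?_⟩
  · rintro ⟨p, hp, hpM⟩
    have hκ := hc₀.kappa_empty hG TZ hM hp hpM
    exact ⟨hκ, Cfsg.Agent.Lib.Helper13.BG1436.tau2_empty hG hM hx hx1 hc₀ hκ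
      (fun r hr hrM => Cfsg.Agent.Lib.Helper26.BG1436.mem_beta hG hM hc₀ hr hrM) hp hpM⟩
  · intro y N' g hy hy1 hyM hN' hyN' hg
    obtain ⟨N₁, hc₁⟩ := Cfsg.Agent.Lib.Helper24.BG14.exists_ctx hG T.h16 T.h17 T.h18 T.h78 T.h32 hM
      hy hy1 hyM
    obtain rfl : N' = N₁ := hc₁.uniq N' hN' hyN'
    exact hc₀.part_b hG T.h16 hM hc₁ hg

end Cfsg.Agent.S1436
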