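import Cfsg.Statements.S1467
-- import your own Cfsg.Agent.* helpers here

set_option autoImplicit false
open Cfsg

namespace Cfsg.Agent.S1467

theorem step_anti {G : Type*} [Group G] {X Y : Subgroup G} (h : X ≤ Y) :
    Cfsg.puigStep Y ≤ Cfsg.puigStep X := by
  unfold Cfsg.puigStep
  apply sSup_le_sSup
  intro A hA
  exact ⟨hA.1, h.trans hA.2⟩

theorem seq_succ {G : Type*} [Group G] (n : ℕ) :
    Cfsg.puigSeq G (n + 1) = Cfsg.puigStep (Cfsg.puigSeq G n) := rfl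

theorem seq_one {G : Type*} [Group G] : Cfsg.puigSeq G 1 = ⊤ := by
  rw [seq_succ, eq_top_iff]
  intro g _
  have : Subgroup.zpowers g ≤ Cfsg.puigStep (Cfsg.puigSeq G 0) := by
    unfold Cfsg.puigStep
    apply le_sSup
    refine ⟨inferInstance, ?_⟩
    change (⊥ : Subgroup G) ≤ _
    exact bot_le
  exact this (Subgroup.mem_zpowers g)

theorem alt {G : Type*} [Group G] (n : ℕ) :
    Cfsg.puigSeq G (2 * n) ≤ Cfsg.puigSeq G (2 * n + 2) ∧
      Cfsg.puigSeq G (2 * n + 3) ≤ Cfsg.puigSeq G (2 * n + 1) := by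
  induction n with
  | zero =>
    have h0 : Cfsg.puigSeq G 0 ≤ Cfsg.puigSeq G 2 := by
      change (⊥ : Subgroup G) ≤ _
      exact bot_le
    exact ⟨h0, step_anti h0⟩
  | succ k ih =>
    have h1 : Cfsg.puigSeq G (2 * k + 2) ≤ Cfsg.puigSeq G (2 * k + 4) := step_anti ih.2
    exact ⟨h1, step_anti h1⟩

theorem even_le_odd {G : Type*} [Group G] (k : ℕ) :
    Cfsg.puigSeq G (2 * k) ≤ Cfsg.puigSeq G (2 * k + 1) := by
  induction k with
  | zero =>
    change (⊥ : Subgroup G) ≤ _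
    exact bot_le
  | succ k ih =>
    have h1 : Cfsg.puigSeq G (2 * k + 2) ≤ Cfsg.puigSeq G (2 * k + 1) := step_anti ih
    exact step_anti h1

theorem even_mono {G : Type*} [Group G] : Monotone (fun n => Cfsg.puigSeq G (2 * n)) :=
  monotone_nat_of_le_succ (fun n => (alt n).1)

theorem odd_anti {G : Type*} [Group G] : Antitone (fun n => Cfsg.puigSeq G (2 * n + 1)) :=
  antitone_nat_of_succ_le (fun n => (alt n).2)

theorem even_le_odd' {G : Type*} [Group G] (n m : ℕ) :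
    Cfsg.puigSeq G (2 * n) ≤ Cfsg.puigSeq G (2 * m + 1) :=
  calc Cfsg.puigSeq G (2 * n) ≤ Cfsg.puigSeq G (2 * (max n m)) := even_mono (le_max_left n m)
    _ ≤ Cfsg.puigSeq G (2 * (max n m) + 1) := even_le_odd _
    _ ≤ Cfsg.puigSeq G (2 * m + 1) := odd_anti (le_max_right n m)

theorem stab {G : Type*} [Group G] [Finite G] :
    ∃ k : ℕ, ∀ n : ℕ, k ≤ n → Cfsg.puigSeq G (2 * n) = Cfsg.puigLower G ∧
      Cfsg.puigSeq G (2 * n + 1) = Cfsg.puigSubgroup G := by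
  obtain ⟨k, hk⟩ := WellFoundedGT.monotone_chain_condition
    (⟨fun n => Cfsg.puigSeq G (2 * n), even_mono⟩ : ℕ →o Subgroup G)
  have hk' : ∀ m, k ≤ m → Cfsg.puigSeq G (2 * k) = Cfsg.puigSeq G (2 * m) := hk
  have hodd : ∀ m, k ≤ m → Cfsg.puigSeq G (2 * k + 1) = Cfsg.puigSeq G (2 * m + 1) := by
    intro m hm
    rw [seq_succ, seq_succ, hk' m hm]
  have hL : Cfsg.puigLower G = Cfsg.puigSeq G (2 * k) := by
    unfold Cfsg.puigLower
    apply le_antisymm
    · apply iSup_le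
      intro n
      rcases le_total n k with h | h
      · exact even_mono h
      · exact (hk' n h).ge
    · exact le_iSup (fun n => Cfsg.puigSeq G (2 * n)) k
  have hU : Cfsg.puigSubgroup G = Cfsg.puigSeq G (2 * k + 1) := by
    unfold Cfsg.puigSubgroup
    apply le_antisymm
    · exact iInf_le (fun n => Cfsg.puigSeq G (2 * n + 1)) k
    · apply le_iInf
      intro n
      rcases le_total n k with h | h
      · exact odd_anti h
      · exact (hodd n h).le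
  refine ⟨k, fun n hn => ⟨?_, ?_⟩⟩
  · rw [hL, hk' n hn]
  · rw [hU, hodd n hn]

/-- Let G be a finite group with Puig series L_n(G). Then L_0 = 1, L_1 = G; L_{2n} ≤ L_{2n+2} ≤ L_{2m+3} ≤ L_{2m+1} for all n, m; there is k with L_{2n}(G) = L_*(G) and L_{2n+1}(G) = L(G) for all n ≥ k; L_*(G) ≤ L(G); and applying one Puig step to L_*(G) gives L(G) and to L(G) gives L_*(G). -/
theorem result {G : Type*} [Group G] [Finite G] :
    Cfsg.puigSeq G 0 = ⊥ ∧ Cfsg.puigSeq G 1 = ⊤ ∧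
      (∀ n m : ℕ, Cfsg.puigSeq G (2 * n) ≤ Cfsg.puigSeq G (2 * n + 2) ∧ Cfsg.puigSeq G (2 * n) ≤ Cfsg.puigSeq G (2 * m + 1) ∧
        Cfsg.puigSeq G (2 * m + 3) ≤ Cfsg.puigSeq G (2 * m + 1)) ∧
      (∃ k : ℕ, ∀ n : ℕ, k ≤ n → Cfsg.puigSeq G (2 * n) = Cfsg.puigLower G ∧ Cfsg.puigSeq G (2 * n + 1) = Cfsg.puigSubgroup G) ∧
      Cfsg.puigLower G ≤ Cfsg.puigSubgroup G ∧
      Cfsg.puigStep (Cfsg.puigLower G) = Cfsg.puigSubgroup G ∧ Cfsg.puigStep (Cfsg.puigSubgroup G) = Cfsg.puigLower G := by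
  obtain ⟨k, hk⟩ := stab (G := G)
  refine ⟨rfl, seq_one, fun n m => ⟨(alt n).1, even_le_odd' n m, (alt m).2⟩, ⟨k, hk⟩, ?_, ?_, ?_⟩
  · rw [← (hk k le_rfl).1, ← (hk k le_rfl).2]
    exact even_le_odd k
  · rw [← (hk k le_rfl).1, ← (hk k le_rfl).2]
    rfl
  · rw [← (hk k le_rfl).2, ← (hk (k + 1) (Nat.le_succ k)).1]
    rfl

end Cfsg.Agent.S1467
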