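import Cfsg.Statements.S1466
import Cfsg.Agent.S1467
import Cfsg.Agent.Lib.Helper31.PGroup

set_option autoImplicit false
open Cfsg

namespace Cfsg.Agent.S1466

theorem cent_step_le {R : Type*} [Group R] [Finite R] (p : ℕ) [Fact p.Prime] (hR : IsPGroup p R)
    (X : Subgroup R) :
    Subgroup.centralizer ((Cfsg.puigStep X : Subgroup R) : Set R) ≤ Cfsg.puigStep X := by
  obtain ⟨A, hAn, hAc, hCA⟩ := Cfsg.Agent.Lib.Helper31.exists_normal_abelian_self_centralizing hR
  have hA : A ≤ Cfsg.puigStep X := by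
    unfold Cfsg.puigStep
    apply le_sSup
    refine ⟨hAc, ?_⟩
    rw [Subgroup.normalizer_eq_top]
    exact le_top
  exact (Subgroup.centralizer_le hA).trans (hCA.trans hA)

theorem center_le_cent {R : Type*} [Group R] (X : Subgroup R) :
    Subgroup.center R ≤ Subgroup.centralizer (X : Set R) :=
  Subgroup.center_le_centralizer _

theorem ne_bot_of_cent_le {R : Type*} [Group R] [Nontrivial R] (X : Subgroup R)
    (h : Subgroup.centralizer (X : Set R) ≤ X) : X ≠ ⊥ := by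
  rintro rfl
  have h2 : Subgroup.centralizer (((⊥ : Subgroup R) : Subgroup R) : Set R) = ⊤ := by
    simp
  rw [h2] at h
  exact top_ne_bot (le_bot_iff.mp h)

/-- Let p be a prime and R a nontrivial finite p-group. Then for every i > 0, Z(R) ≤ C_R(L_i(R)) ≤ L_i(R); likewise Z(R) ≤ C_R(L_*(R)) ≤ L_*(R) and Z(R) ≤ C_R(L(R)) ≤ L(R); and L(R) ≠ 1, L_*(R) ≠ 1. -/
theorem result {R : Type*} [Group R] [Finite R] (p : ℕ) [Fact p.Prime] (hR : IsPGroup p R) [Nontrivial R] :
    (∀ i : ℕ, 0 < i → Subgroup.center R ≤ Subgroup.centralizer ((Cfsg.puigSeq R i : Subgroup R) : Set R) ∧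
        Subgroup.centralizer ((Cfsg.puigSeq R i : Subgroup R) : Set R) ≤ Cfsg.puigSeq R i) ∧
      (Subgroup.center R ≤ Subgroup.centralizer ((Cfsg.puigLower R : Subgroup R) : Set R) ∧ Subgroup.centralizer ((Cfsg.puigLower R : Subgroup R) : Set R) ≤ Cfsg.puigLower R) ∧
      (Subgroup.center R ≤ Subgroup.centralizer ((Cfsg.puigSubgroup R : Subgroup R) : Set R) ∧ Subgroup.centralizer ((Cfsg.puigSubgroup R : Subgroup R) : Set R) ≤ Cfsg.puigSubgroup R) ∧
      Cfsg.puigSubgroup R ≠ ⊥ ∧ Cfsg.puigLower R ≠ ⊥ := by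
  obtain ⟨_, _, _, ⟨k, hk⟩, _, _, _⟩ := Cfsg.Agent.S1467.result (G := R)
  have hseq : ∀ i : ℕ, 0 < i →
      Subgroup.centralizer ((Cfsg.puigSeq R i : Subgroup R) : Set R) ≤ Cfsg.puigSeq R i := by
    intro i hi
    obtain ⟨j, rfl⟩ := Nat.exists_eq_succ_of_ne_zero hi.ne'
    exact cent_step_le p hR _
  have hlow : Subgroup.centralizer ((Cfsg.puigLower R : Subgroup R) : Set R) ≤ Cfsg.puigLower R := by
    rw [← (hk (k + 1) (Nat.le_succ k)).1]
    exact hseq _ (by omega)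
  have hup : Subgroup.centralizer ((Cfsg.puigSubgroup R : Subgroup R) : Set R) ≤ Cfsg.puigSubgroup R := by
    rw [← (hk k le_rfl).2]
    exact hseq _ (by omega)
  exact ⟨fun i hi => ⟨center_le_cent _, hseq i hi⟩, ⟨center_le_cent _, hlow⟩, ⟨center_le_cent _, hup⟩,
    ne_bot_of_cent_le _ hup, ne_bot_of_cent_le _ hlow⟩

end Cfsg.Agent.S1466
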