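import Cfsg.Statements.S1465
import Cfsg.Agent.Lib.Helper30.PStable2

set_option autoImplicit false
open Cfsg

namespace Cfsg.Agent.S1465

/-- Let p be an odd prime, G a solvable group of odd order, P a normal p-subgroup of G, and X the subgroup generated by a family of abelian p-subgroups of G each normalized by P. Then the image of X in G/C_G(P) lies in O_p(G/C_G(P)); and if O_{p'}(G) = 1 and O_p(G) ∩ C_G(P) ≤ P then X ≤ O_p(G). -/
theorem result {G : Type*} [Group G] [Finite G] [Group.IsSolvable G] (hodd : Odd (Nat.card G)) (p : ℕ) [Fact p.Prime] (hp : p ≠ 2) (P : Subgroup G) [P.Normal] (hP : IsPGroup p P)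
    (S : Set (Subgroup G)) (hS : ∀ B ∈ S, IsMulCommutative B ∧ IsPGroup p B ∧ P ≤ Subgroup.normalizer (B : Set G)) :
    (sSup S).map (QuotientGroup.mk' (Subgroup.centralizer (P : Set G))) ≤ Cfsg.pCore p (G ⧸ Subgroup.centralizer (P : Set G)) ∧
      (Cfsg.pPrimeCore p G = ⊥ → Cfsg.pCore p G ⊓ Subgroup.centralizer (P : Set G) ≤ P → sSup S ≤ Cfsg.pCore p G) := by
  classical
  have hquad : ∀ B ∈ S, ∀ b ∈ B, Cfsg.Agent.Lib.Helper30.Quad P b := by
    intro B hB b hb u hu
    obtain ⟨hBc, _, hPB⟩ := hS B hB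
    have hc : b * u * b⁻¹ * u⁻¹ ∈ B := by
      have h1 : u * b⁻¹ * u⁻¹ ∈ B := (Subgroup.mem_normalizer_iff.1 (hPB hu) b⁻¹).1 (B.inv_mem hb)
      have : b * u * b⁻¹ * u⁻¹ = b * (u * b⁻¹ * u⁻¹) := by group
      rw [this]
      exact B.mul_mem hb h1
    have hcomm : b * (b * u * b⁻¹ * u⁻¹) = (b * u * b⁻¹ * u⁻¹) * b :=
      congrArg Subtype.val (hBc.is_comm.comm ⟨b, hb⟩ ⟨_, hc⟩)
    rw [hcomm, mul_assoc, mul_inv_cancel, mul_one]
  constructor
  · rw [Subgroup.map_le_iff_le_comap]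
    apply sSup_le
    intro B hB b hb
    exact Cfsg.Agent.Lib.Helper30.pstable_normal hp hodd P hP b (hquad B hB b hb)
  · intro hO hCP
    have hCle : Subgroup.centralizer (P : Set G) ≤ Cfsg.pCore p G :=
      Cfsg.Agent.Lib.Helper30.normal_le_pCore_of_centralizes hO (Subgroup.centralizer (P : Set G)) inferInstance
        (fun c hc t ht => ((Subgroup.mem_centralizer_iff.1 hc) t (hCP ⟨ht.2, ht.1⟩)).symm) _ _
        inferInstance le_rfl le_rfl
    have hC : IsPGroup p (Subgroup.centralizer (P : Set G)) :=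
      (Cfsg.Agent.Lib.Helper14.isPGroup_pCore (p := p) (G := G)).to_le hCle
    apply sSup_le
    intro B hB b hb
    exact Cfsg.Agent.Lib.Helper30.pstable_mem_pCore hp hodd P hP hC b (hquad B hB b hb)

end Cfsg.Agent.S1465
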