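import Cfsg.Statements.S1530
-- import your own Cfsg.Agent.* helpers here
import Cfsg.Agent.Lib.Helper32.Ortho

set_option autoImplicit false
open Cfsg

namespace Cfsg.Agent.S1530

open Cfsg.Agent.Lib.Helper32 Cfsg.Agent.Lib.Helper20

theorem arith (dψ dχ D b n : ℤ) (hdψ : 0 < dψ) (hdχ : 0 < dχ) (hD : 2 * dψ * dχ < D) (hn : 0 ≤ n)
    (h : dψ ^ 2 = b ^ 2 * D - 2 * b * dψ * dχ + dψ ^ 2 * n) (hz : n = 0 → b * D = dχ * dψ) :
    b = 0 := by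
  by_contra hb
  have hbb : 0 ≤ b ^ 2 - b := by
    have : 0 ≤ b * (b - 1) := by
      rcases le_or_gt b 0 with h | h
      · exact mul_nonneg_of_nonpos_of_nonpos h (by omega)
      · exact mul_nonneg h.le (by omega)
    nlinarith
  have hb2 : 0 < b ^ 2 := by positivity
  have hprod : 0 < dψ * dχ := mul_pos hdψ hdχ
  have hpos : 0 < b ^ 2 * D - 2 * b * dψ * dχ := by
    have e : b ^ 2 * D - 2 * b * dψ * dχ = b ^ 2 * (D - 2 * dψ * dχ) + 2 * (dψ * dχ) * (b ^ 2 - b) := by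
      ring
    rw [e]
    have h1 : 0 < b ^ 2 * (D - 2 * dψ * dχ) := mul_pos hb2 (by omega)
    have h2 : 0 ≤ 2 * (dψ * dχ) * (b ^ 2 - b) := mul_nonneg (by positivity) hbb
    omega
  have hd2 : 0 < dψ ^ 2 := by positivity
  have hn0 : n = 0 := by
    by_contra hne
    have : 1 ≤ n := by omega
    have : dψ ^ 2 ≤ dψ ^ 2 * n := by nlinarith
    omega
  have h1 := hz hn0
  rw [hn0] at h
  have h2 : dψ ^ 2 = -(b * (dψ * dχ)) := by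
    have : b ^ 2 * D = b * (dχ * dψ) := by rw [← h1]; ring
    rw [this] at h
    linarith
  have hbneg : b < 0 := by
    by_contra hge
    have : 0 ≤ b * (dψ * dχ) := mul_nonneg (by omega) hprod.le
    omega
  have hDpos : 0 < D := by nlinarith
  have : b * D < 0 := mul_neg_of_neg_of_pos hbneg hDpos
  nlinarith

theorem main {L : Type*} [Group L] [Fintype L] {G : Type*} [Group G] [Fintype G]
    (S₀ : Finset (L → ℂ)) (χ : L → ℂ) (hirr : ∀ ξ ∈ S₀, Cfsg.IsIrrCharacter L ξ)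
    (hχ : Cfsg.IsIrrCharacter L χ) (hχS : χ ∉ S₀) (d : (L → ℂ) → ℕ)
    (hd : ∀ ξ ∈ insert χ S₀, ξ 1 = (d ξ : ℂ)) (τ : (L → ℂ) → (G → ℂ))
    (hτ : Cfsg.IsLinearIsometryOn (Cfsg.zspanOn (↑(insert χ S₀) : Set (L → ℂ)) {1}ᶜ) τ)
    (hτ1 : ∀ α ∈ Cfsg.zspanOn (↑(insert χ S₀) : Set (L → ℂ)) {1}ᶜ, τ α 1 = 0)
    (hcoh : Cfsg.IsCoherent (↑S₀ : Set (L → ℂ)) {1}ᶜ τ) (ψ : L → ℂ) (hψ : ψ ∈ S₀)
    (hdvd : d ψ ∣ d χ) (hlt : 2 * d ψ * d χ < ∑ ξ ∈ S₀, d ξ ^ 2) :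
    Cfsg.IsCoherent (↑(insert χ S₀) : Set (L → ℂ)) {1}ᶜ τ := by
  classical
  obtain ⟨⟨α₀, hα₀, hα₀ne⟩, τ₁, hτ₁, hag⟩ := hcoh
  obtain ⟨m, hm⟩ := hdvd
  set T : Finset (L → ℂ) := insert χ S₀ with hT
  have hST : (↑S₀ : Set (L → ℂ)) ⊆ ↑T := Finset.coe_subset.2 (Finset.subset_insert _ _)
  have hχT : χ ∈ T := Finset.mem_insert_self _ _
  have hψT : ψ ∈ T := Finset.mem_insert_of_mem hψ
  let dz : (L → ℂ) → ℤ := fun ξ => (d ξ : ℤ)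
  have hdz : ∀ ξ ∈ (↑T : Set (L → ℂ)), ξ 1 = dz ξ := fun ξ hξ => by
    rw [hd ξ hξ]; simp [dz]
  have hirrT : ∀ ξ ∈ (↑T : Set (L → ℂ)), Cfsg.IsIrrCharacter L ξ := by
    intro ξ hξ
    rcases Finset.mem_insert.1 hξ with rfl | h
    · exact hχ
    · exact hirr ξ h
  have hirr' : ∀ ξ ∈ (↑S₀ : Set (L → ℂ)), Cfsg.IsIrrCharacter L ξ := fun ξ hξ => hirr ξ hξ
  have hdpos : ∀ ξ ∈ T, 0 < dz ξ := by
    intro ξ hξ
    obtain ⟨n, hn, hn'⟩ := irr_apply_one (hirrT ξ hξ)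
    have : (dz ξ : ℂ) = (n : ℂ) := by rw [← hdz ξ hξ, hn']
    have h2 : dz ξ = (n : ℤ) := by exact_mod_cast this
    rw [h2]; exact_mod_cast hn
  have hmz : dz χ = dz ψ * m := by simp only [dz]; exact_mod_cast hm
  have hτ' : Cfsg.IsLinearIsometryOn ((zspanOnSub (↑T : Set (L → ℂ)) {1}ᶜ : Submodule ℤ (L → ℂ)) :
      Set (L → ℂ)) τ := hτ
  have hτ₁' : Cfsg.IsLinearIsometryOn ((Submodule.span ℤ (↑S₀ : Set (L → ℂ)) :
      Submodule ℤ (L → ℂ)) : Set (L → ℂ)) τ₁ := hτ₁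
  have mS : ∀ ξ ∈ S₀, ξ ∈ Submodule.span ℤ (↑S₀ : Set (L → ℂ)) :=
    fun ξ h => Submodule.subset_span h
  set β : L → ℂ := χ - (m : ℤ) • ψ with hβdef
  have hβ : β ∈ Cfsg.zspanOn (↑T : Set (L → ℂ)) {1}ᶜ := by
    rw [mem_zspanOn_one]
    refine ⟨Submodule.sub_mem _ (Submodule.subset_span hχT)
      (Submodule.smul_mem _ _ (Submodule.subset_span hψT)), ?_⟩
    simp only [hβdef, Pi.sub_apply, Pi.smul_apply, hdz χ hχT, hdz ψ hψT, hmz]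
    simp only [zsmul_eq_mul]
    push_cast; ring
  set B := τ β with hBdef
  have hBg : Cfsg.IsGeneralizedCharacter G B := hτ.2.2.2 _ hβ
  have hB1 : B 1 = 0 := hτ1 _ hβ
  have hχne : ∀ ξ ∈ S₀, χ ≠ ξ := fun ξ hξ h => hχS (h ▸ hξ)
  have hχξ : ∀ ξ ∈ S₀, Cfsg.classInner χ ξ = 0 :=
    fun ξ hξ => classInner_irr_ne hχ (hirr ξ hξ) (hχne ξ hξ)
  have hξχ : ∀ ξ ∈ S₀, Cfsg.classInner ξ χ = 0 :=
    fun ξ hξ => classInner_irr_ne (hirr ξ hξ) hχ (hχne ξ hξ).symm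
  have hBB : Cfsg.classInner B B = ((1 + (m : ℤ) ^ 2 : ℤ) : ℂ) := by
    rw [hBdef, hτ.2.2.1 _ hβ _ hβ, hβdef]
    simp only [classInner_sub_left, classInner_sub_right, classInner_zsmul_left,
      classInner_zsmul_right, classInner_irr_self hχ, classInner_irr_self (hirr ψ hψ),
      hχξ ψ hψ, hξχ ψ hψ]
    push_cast; ring
  have hON : OrthoN S₀ τ₁ := by
    intro i hi j hj
    refine ⟨?_, ?_⟩
    · rintro rfl
      exact (iso_signedIrr hirr' hτ₁ hi).inner_self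
    · intro hij
      exact iso_inner_irr hirr' hτ₁ hi hj hij
  have hcoef : ∀ ξ ∈ S₀, ∃ n : ℤ, Cfsg.classInner B (τ₁ ξ) = n :=
    fun ξ hξ => genChar_inner_int hBg (hτ₁.2.2.2 _ (zspan_of_mem hξ))
  choose! a ha using hcoef
  set b : ℤ := a ψ + m with hb
  let c : (L → ℂ) → ℤ := fun ξ => if ξ = ψ then dz χ else 0
  have K : ∀ ξ ∈ S₀, dz ψ * a ξ = dz ξ * b - c ξ := by
    intro ξ hξ
    by_cases hξψ : ξ = ψ
    · subst hξψ
      simp only [c, if_true, hb, hmz]; ring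
    · simp only [c, if_neg hξψ, sub_zero]
      have g1 : dz ψ • ξ - dz ξ • ψ ∈ Cfsg.zspanOn (↑S₀ : Set (L → ℂ)) {1}ᶜ :=
        gen_mem_zspanOn dz (fun ξ h => hdz ξ (hST h)) hξ hψ
      have e1 : Cfsg.classInner B (τ₁ (dz ψ • ξ - dz ξ • ψ)) = ((m * dz ξ : ℤ) : ℂ) := by
        rw [hag _ g1, hBdef, hτ.2.2.1 _ hβ _ (zspanOn_mono hST _ g1), hβdef]
        simp only [classInner_sub_left, classInner_sub_right, classInner_zsmul_left,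
          classInner_zsmul_right, classInner_irr_self (hirr ψ hψ), hχξ ψ hψ, hχξ ξ hξ,
          classInner_irr_ne (hirr ψ hψ) (hirr ξ hξ) (Ne.symm hξψ)]
        push_cast; ring
      rw [iso_map_sub hτ₁' (Submodule.smul_mem _ _ (mS _ hξ)) (Submodule.smul_mem _ _ (mS _ hψ)),
        iso_map_zsmul hτ₁' (mS _ hξ), iso_map_zsmul hτ₁' (mS _ hψ), classInner_sub_right,
        classInner_zsmul_right, classInner_zsmul_right, ha ξ hξ, ha ψ hψ] at e1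
      have e2 : dz ψ * a ξ - dz ξ * a ψ = m * dz ξ := by exact_mod_cast e1
      rw [hb]; linarith
  set Δ := B - proj S₀ τ₁ B with hΔ
  have hΔg : Cfsg.IsGeneralizedCharacter G Δ :=
    genChar_sub hBg (genChar_proj hBg (fun ξ hξ => hτ₁.2.2.2 _ (zspan_of_mem hξ)))
  obtain ⟨n, hn⟩ := genChar_inner_int hΔg hΔg
  have hn0 : 0 ≤ n := by
    have := classInner_self_re_nonneg Δ
    rw [hn] at this
    simpa using this
  have hnorm : 1 + (m : ℤ) ^ 2 = ∑ ξ ∈ S₀, a ξ ^ 2 + n := by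
    have h1 := hON.pythagoras B
    rw [hBB, ← hΔ, hn] at h1
    have h2 : ∑ ξ ∈ S₀, Cfsg.classInner B (τ₁ ξ) * (starRingEnd ℂ) (Cfsg.classInner B (τ₁ ξ)) =
        ((∑ ξ ∈ S₀, a ξ ^ 2 : ℤ) : ℂ) := by
      push_cast
      apply Finset.sum_congr rfl
      intro ξ hξ
      rw [ha ξ hξ]; simp [sq]
    rw [h2] at h1
    exact_mod_cast h1
  set D : ℤ := ∑ ξ ∈ S₀, dz ξ ^ 2 with hD
  have sum1 : ∑ ξ ∈ S₀, dz ξ * c ξ = dz ψ * dz χ := by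
    simp only [c, mul_ite, mul_zero]
    rw [Finset.sum_ite_eq' S₀ ψ, if_pos hψ]
  have sum2 : ∑ ξ ∈ S₀, c ξ ^ 2 = dz χ ^ 2 := by
    have : ∀ ξ, c ξ ^ 2 = if ξ = ψ then dz χ ^ 2 else 0 := by
      intro ξ; simp only [c]; split_ifs <;> simp
    simp only [this]
    rw [Finset.sum_ite_eq' S₀ ψ, if_pos hψ]
  have hsq : dz ψ ^ 2 * ∑ ξ ∈ S₀, a ξ ^ 2 = b ^ 2 * D - 2 * b * dz ψ * dz χ + dz χ ^ 2 := by
    rw [Finset.mul_sum]
    have : ∀ ξ ∈ S₀, dz ψ ^ 2 * a ξ ^ 2 = b ^ 2 * dz ξ ^ 2 - 2 * b * (dz ξ * c ξ) + c ξ ^ 2 := by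
      intro ξ hξ
      have := K ξ hξ
      calc dz ψ ^ 2 * a ξ ^ 2 = (dz ψ * a ξ) ^ 2 := by ring
        _ = (dz ξ * b - c ξ) ^ 2 := by rw [this]
        _ = _ := by ring
    rw [Finset.sum_congr rfl this, Finset.sum_add_distrib, Finset.sum_sub_distrib,
      ← Finset.mul_sum, ← Finset.mul_sum, sum1, sum2, hD]
    ring
  have hmain : dz ψ ^ 2 = b ^ 2 * D - 2 * b * dz ψ * dz χ + dz ψ ^ 2 * n := by
    have : dz ψ ^ 2 * (1 + (m : ℤ) ^ 2) = dz ψ ^ 2 * (∑ ξ ∈ S₀, a ξ ^ 2 + n) := by rw [hnorm]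
    rw [mul_add, mul_add, hsq] at this
    have h2 : dz ψ ^ 2 * (m : ℤ) ^ 2 = dz χ ^ 2 := by rw [hmz]; ring
    linarith
  have h0 : ∀ α ∈ Cfsg.zspan (↑S₀ : Set (L → ℂ)), α 1 = 0 → τ₁ α 1 = 0 := by
    intro α hα hα1
    have : α ∈ Cfsg.zspanOn (↑S₀ : Set (L → ℂ)) {1}ᶜ := mem_zspanOn_one.2 ⟨hα, hα1⟩
    rw [hag _ this]
    exact hτ1 _ (zspanOn_mono hST _ this)
  have hz : n = 0 → b * D = dz χ * dz ψ := by
    intro hn'
    rw [hn'] at hn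
    have hΔ0 : Δ = 0 := classInner_self_eq_zero (by simpa using hn)
    have hBp : B = proj S₀ τ₁ B := by
      rw [hΔ, sub_eq_zero] at hΔ0; exact hΔ0
    have e1 : ∑ ξ ∈ S₀, (a ξ : ℂ) * τ₁ ξ 1 = 0 := by
      rw [hBp] at hB1
      unfold proj at hB1
      simp only [Finset.sum_apply, Pi.smul_apply, smul_eq_mul] at hB1
      rw [← hB1]
      apply Finset.sum_congr rfl
      intro ξ hξ
      rw [ha ξ hξ]
    have e2 : (∑ ξ ∈ S₀, ((a ξ * dz ξ : ℤ) : ℂ)) * τ₁ ψ 1 = 0 := by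
      have : (dz ψ : ℂ) * ∑ ξ ∈ S₀, (a ξ : ℂ) * τ₁ ξ 1 = 0 := by rw [e1, mul_zero]
      rw [Finset.mul_sum] at this
      rw [Finset.sum_mul, ← this]
      apply Finset.sum_congr rfl
      intro ξ hξ
      have h3 := iso_degree_prop hirr' hτ₁ h0 (χ := ξ) (ψ := ψ) hξ hψ
      rw [hdz ψ hψT, hdz ξ (hST hξ)] at h3
      push_cast
      linear_combination (-(a ξ : ℂ)) * h3
    have e3 : ∑ ξ ∈ S₀, a ξ * dz ξ = 0 := by
      rcases mul_eq_zero.1 e2 with h | h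
      · exact_mod_cast h
      · exact absurd h (iso_signedIrr hirr' hτ₁ hψ).one_ne
    have e4 : dz ψ * ∑ ξ ∈ S₀, a ξ * dz ξ = b * D - dz ψ * dz χ := by
      rw [Finset.mul_sum]
      have : ∀ ξ ∈ S₀, dz ψ * (a ξ * dz ξ) = b * dz ξ ^ 2 - dz ξ * c ξ := by
        intro ξ hξ
        calc dz ψ * (a ξ * dz ξ) = (dz ψ * a ξ) * dz ξ := by ring
          _ = (dz ξ * b - c ξ) * dz ξ := by rw [K ξ hξ]
          _ = _ := by ring
      rw [Finset.sum_congr rfl this, Finset.sum_sub_distrib, ← Finset.mul_sum, sum1]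
    rw [e3, mul_zero] at e4
    linarith
  have hltz : 2 * dz ψ * dz χ < D := by
    simp only [hD, dz]
    exact_mod_cast hlt
  have hb0 : b = 0 := arith (dz ψ) (dz χ) D b n (hdpos ψ hψT) (hdpos χ hχT) hltz hn0 hmain hz
  have hn1 : n = 1 := by
    rw [hb0] at hmain
    have hp := hdpos ψ hψT
    have : dz ψ ^ 2 * (n - 1) = 0 := by linarith
    rcases mul_eq_zero.1 this with h | h
    · exact absurd h (by positivity)
    · omega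
  have haξ : ∀ ξ ∈ S₀, ξ ≠ ψ → a ξ = 0 := by
    intro ξ hξ hne
    have := K ξ hξ
    simp only [c, if_neg hne, hb0, mul_zero, sub_zero] at this
    rcases mul_eq_zero.1 this with h | h
    · exact absurd h (hdpos ψ hψT).ne'
    · exact h
  have haψ : a ψ = -m := by omega
  have hproj : proj S₀ τ₁ B = -((m : ℤ) • τ₁ ψ) := by
    unfold proj
    rw [Finset.sum_eq_single ψ]
    · rw [ha ψ hψ, haψ, Int.cast_smul_eq_zsmul, neg_smul]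
    · intro ξ hξ hne
      rw [ha ξ hξ, haξ ξ hξ hne]; simp
    · intro h; exact absurd hψ h
  have hBΔ : B = Δ - (m : ℤ) • τ₁ ψ := by
    rw [hΔ, hproj]; abel
  have hΔΔ : Cfsg.classInner Δ Δ = 1 := by rw [hn, hn1]; simp
  have hΔξ : ∀ ξ ∈ S₀, Cfsg.classInner Δ (τ₁ ξ) = 0 := fun ξ hξ => hON.inner_sub_proj_mem B hξ
  let f : (L → ℂ) → (G → ℂ) := fun ξ => if ξ = χ then Δ else τ₁ ξ
  have hfχ : f χ = Δ := if_pos rfl
  have hfS : ∀ ξ ∈ S₀, f ξ = τ₁ ξ := fun ξ hξ => if_neg (hχne ξ hξ).symm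
  have hOT : OrthoSet (↑T : Set (L → ℂ)) := orthoSet_of_irr hirrT
  have hf : ∀ ξ ∈ T, ∀ φ ∈ T, Cfsg.classInner (f ξ) (f φ) = Cfsg.classInner ξ φ := by
    intro ξ hξ φ hφ
    rcases Finset.mem_insert.1 hξ with rfl | h1 <;> rcases Finset.mem_insert.1 hφ with rfl | h2
    · rw [hfχ, hΔΔ, classInner_irr_self hχ]
    · rw [hfχ, hfS _ h2, hΔξ _ h2, hχξ _ h2]
    · rw [hfχ, hfS _ h1, classInner_eq_zero_symm (hΔξ _ h1), hξχ _ h1]
    · rw [hfS _ h1, hfS _ h2, hτ₁.2.2.1 _ (zspan_of_mem h1) _ (zspan_of_mem h2)]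
  have hg : ∀ ξ ∈ T, Cfsg.IsGeneralizedCharacter G (f ξ) := by
    intro ξ hξ
    rcases Finset.mem_insert.1 hξ with rfl | h1
    · rw [hfχ]; exact hΔg
    · rw [hfS _ h1]; exact hτ₁.2.2.2 _ (zspan_of_mem h1)
  have hiso := extIso_isometry hOT f hf hg
  have hext : ∀ ξ ∈ T, ∀ φ ∈ T, ∀ k l : ℤ,
      extIso T f (k • ξ - l • φ) = k • f ξ - l • f φ := by
    intro ξ hξ φ hφ k l
    rw [sub_eq_add_neg, ← neg_smul, extIso_add, extIso_zsmul, extIso_zsmul,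
      extIso_mem hOT f hξ, extIso_mem hOT f hφ, neg_smul, ← sub_eq_add_neg]
  refine ⟨⟨α₀, zspanOn_mono hST _ hα₀, hα₀ne⟩, extIso T f, hiso, ?_⟩
  apply agree_of_generators (le_refl _) hτ hiso dz hdz hψT (hdpos ψ hψT).ne'
  intro ξ hξ
  rw [hext ξ hξ ψ hψT, hfS _ hψ]
  rcases Finset.mem_insert.1 hξ with rfl | h1
  · rw [hfχ]
    have e1 : dz ψ • ξ - dz ξ • ψ = dz ψ • β := by
      rw [hβdef, hmz]; module
    rw [e1, iso_map_zsmul hτ' hβ, ← hBdef, hBΔ, hmz]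
    module
  · rw [hfS _ h1]
    have g1 : dz ψ • ξ - dz ξ • ψ ∈ Cfsg.zspanOn (↑S₀ : Set (L → ℂ)) {1}ᶜ :=
      gen_mem_zspanOn dz (fun ξ h => hdz ξ (hST h)) h1 hψ
    rw [← hag _ g1, iso_map_sub hτ₁' (Submodule.smul_mem _ _ (mS _ h1))
      (Submodule.smul_mem _ _ (mS _ hψ)), iso_map_zsmul hτ₁' (mS _ h1),
      iso_map_zsmul hτ₁' (mS _ hψ)]


/-- Let N be a subgroup of the finite group G and S₀ a finite set of irreducible characters of N, χ an irreducible character of N not in S₀, with degrees ξ 1 = d ξ. Let τ be a linear isometry on the integer combinations of S₀ ∪ {χ} vanishing at 1, with values virtual characters of G vanishing at 1, such that (S₀, N minus 1, τ) is coherent. If some ψ ∈ S₀ has d ψ dividing d χ and 2 · d ψ · d χ < Σ_{ξ ∈ S₀} (d ξ)², then (S₀ ∪ {χ}, N minus 1, τ) is coherent. -/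
theorem result {G : Type*} [Group G] [Fintype G] (N : Subgroup G) [Fintype N] (S₀ : Finset (N → ℂ)) (χ : N → ℂ) (hirr : ∀ ξ ∈ S₀, Cfsg.IsIrrCharacter N ξ) (hχ : Cfsg.IsIrrCharacter N χ) (hχS : χ ∉ S₀) (d : (N → ℂ) → ℕ) (hd : ∀ ξ ∈ insert χ S₀, ξ 1 = (d ξ : ℂ)) (τ : (N → ℂ) → (G → ℂ)) (hτ : Cfsg.IsLinearIsometryOn (Cfsg.zspanOn (↑(insert χ S₀) : Set (N → ℂ)) {1}ᶜ) τ) (hτ1 : ∀ α ∈ Cfsg.zspanOn (↑(insert χ S₀) : Set (N → ℂ)) {1}ᶜ, τ α 1 = 0) (hcoh : Cfsg.IsCoherent (↑S₀ : Set (N → ℂ)) {1}ᶜ τ) (ψ : N → ℂ) (hψ : ψ ∈ S₀) (hdvd : d ψ ∣ d χ) (hlt : 2 * d ψ * d χ < ∑ ξ ∈ S₀, d ξ ^ 2) : Cfsg.IsCoherent (↑(insert χ S₀) : Set (N → ℂ)) {1}ᶜ τ := by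
  exact main S₀ χ hirr hχ hχS d hd τ hτ hτ1 hcoh ψ hψ hdvd hlt

end Cfsg.Agent.S1530
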