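import Cfsg.Statements.S4303
import Cfsg.Agent.Lib.Helper75.SylowCoprime

set_option autoImplicit false
universe u
open Cfsg

namespace Cfsg.Agent.S4303

open Subgroup Cfsg.Agent.Lib.Helper75

/-- numbers that factor as in M. Hall's theorem -/
def Good (p : ℕ) (m : ℕ) : Prop :=
  ∃ l : List ℕ, l.prod = m ∧
      ∀ x ∈ l, (IsPrimePow x ∧ x % p = 1) ∨
        ∃ (S : Type u) (_ : Group S) (_ : Finite S), IsSimpleGroup S ∧ x = Nat.card (Sylow p S)

theorem good_one (p : ℕ) : Good.{u} p 1 := ⟨[], rfl, by simp⟩

theorem good_mul {p a b : ℕ} (ha : Good.{u} p a) (hb : Good.{u} p b) : Good.{u} p (a * b) := by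
  obtain ⟨l, hl, hl'⟩ := ha
  obtain ⟨k, hk, hk'⟩ := hb
  refine ⟨l ++ k, by rw [List.prod_append, hl, hk], ?_⟩
  intro x hx
  rcases List.mem_append.1 hx with h | h
  · exact hl' x h
  · exact hk' x h

theorem good_of_primePow {p : ℕ} (hp : 1 < p) (m : ℕ) (hm : m ≠ 0)
    (h : ∀ q ∈ m.primeFactors, q ^ m.factorization q ≡ 1 [MOD p]) : Good.{u} p m := by
  refine ⟨m.primeFactors.toList.map (fun q => q ^ m.factorization q), ?_, ?_⟩
  · rw [Finset.prod_map_toList]
    exact Nat.prod_factorization_pow_eq_self hm
  · intro x hx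
    obtain ⟨q, hq, rfl⟩ := List.mem_map.1 hx
    rw [Finset.mem_toList] at hq
    left
    refine ⟨?_, ?_⟩
    · have hqp : q.Prime := Nat.prime_of_mem_primeFactors hq
      have hpos : 0 < m.factorization q :=
        hqp.factorization_pos_of_dvd hm (Nat.dvd_of_mem_primeFactors hq)
      exact hqp.isPrimePow.pow hpos.ne'
    · have := h q hq
      rw [Nat.ModEq, Nat.mod_eq_of_lt hp] at this
      exact this

theorem card_lt_of_ne_top {G : Type*} [Group G] [Finite G] (K : Subgroup G) (hK : K ≠ ⊤) :
    Nat.card K < Nat.card G := by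
  have h1 := K.card_mul_index
  have h2 : K.index ≠ 1 := fun h => hK (index_eq_one.1 h)
  have h3 : K.index ≠ 0 := K.index_ne_zero_of_finite
  have h4 : 0 < Nat.card K := Nat.card_pos
  have h5 : 2 ≤ K.index := by omega
  nlinarith

theorem card_quotient_lt {G : Type*} [Group G] [Finite G] (N : Subgroup G) [N.Normal] (hN : N ≠ ⊥) :
    Nat.card (G ⧸ N) < Nat.card G := by
  have h1 := N.card_mul_index
  have h2 : Nat.card N ≠ 1 := fun h => hN (card_eq_one.1 h)
  have h4 : 0 < Nat.card N := Nat.card_pos
  have h3 : 0 < N.index := Nat.pos_of_ne_zero N.index_ne_zero_of_finite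
  have h5 : 2 ≤ Nat.card N := by omega
  rw [← index_eq_card]
  nlinarith

/-- the split coprime case -/
theorem good_coprime {G : Type*} [Group G] [Finite G] {p : ℕ} [Fact p.Prime] (P : Sylow p G)
    (N : Subgroup G) [N.Normal] (h : (P : Subgroup G) ⊔ N = ⊤) (hN : ¬ p ∣ Nat.card N) :
    Good.{u} p (Nat.card (Sylow p G)) := by
  have hp : p.Prime := Fact.out
  set NP := normalizer ((P : Subgroup G) : Set G) with hNP
  have htop : NP ⊔ N = ⊤ := by
    rw [eq_top_iff, ← h]
    exact sup_le_sup_right le_normalizer N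
  have h1 : Nat.card (Sylow p G) = NP.relIndex N := by
    rw [card_sylow_eq_index P, index_eq_relIndex_mul_index_sup _ N, htop, index_top, mul_one]
  have h2 : Nat.card (N ⊓ NP : Subgroup G) * NP.relIndex N = Nat.card N := by
    rw [← card_mul_index (NP.subgroupOf N)]
    congr 1
    rw [inf_comm, ← inf_subgroupOf_right]
    exact (Nat.card_congr (subgroupOfEquivOfLe inf_le_right).toEquiv).symm
  have hm0 : NP.relIndex N ≠ 0 := (NP.subgroupOf N).index_ne_zero_of_finite
  have hc0 : Nat.card (N ⊓ NP : Subgroup G) ≠ 0 := Nat.card_pos.ne'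
  rw [h1]
  apply good_of_primePow hp.one_lt _ hm0
  intro q hq
  have hqp : q.Prime := Nat.prime_of_mem_primeFactors hq
  have : Fact q.Prime := ⟨hqp⟩
  have hqN : q ∣ Nat.card N := (Nat.dvd_of_mem_primeFactors hq).trans ⟨_, by rw [← h2, mul_comm]⟩
  have hqne : q ≠ p := fun h => hN (h ▸ hqN)
  have key := coprime_qpart_modEq (q := q) (P : Subgroup G) N P.2 hN
  rw [← h2, Nat.factorization_mul hc0 hm0, Finsupp.add_apply, pow_add] at key
  have hcop : Nat.gcd p (q ^ (Nat.card (N ⊓ NP : Subgroup G)).factorization q) = 1 :=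
    Nat.Coprime.pow_right _ ((Nat.coprime_primes hp hqp).2 hqne.symm)
  apply Nat.ModEq.cancel_left_of_coprime hcop
  rw [mul_one]
  exact key

theorem main (p : ℕ) [Fact p.Prime] (n : ℕ) : ∀ (G : Type u) [Group G] [Finite G], Nat.card G = n →
    Good.{u} p (Nat.card (Sylow p G)) := by
  induction n using Nat.strong_induction_on with
  | _ n ih =>
    intro G _ _ hn
    by_cases hsimple : IsSimpleGroup G
    · exact ⟨[Nat.card (Sylow p G)], by simp, by
        intro x hx
        rw [List.mem_singleton] at hx
        exact Or.inr ⟨G, inferInstance, inferInstance, hsimple, hx⟩⟩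
    by_cases htriv : Subsingleton G
    · have : Nat.card (Sylow p G) = 1 := by
        obtain ⟨P⟩ : Nonempty (Sylow p G) := inferInstance
        rw [card_sylow_eq_index P, index_eq_one]
        exact Subsingleton.elim _ _
      rw [this]
      exact good_one p
    have hnt : Nontrivial G := not_subsingleton_iff_nontrivial.1 htriv
    obtain ⟨N, hN, hbot, htop⟩ : ∃ N : Subgroup G, N.Normal ∧ N ≠ ⊥ ∧ N ≠ ⊤ := by
      by_contra hcon
      push Not at hcon
      apply hsimple
      refine ⟨fun N hN => ?_⟩
      by_cases h : N = ⊥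
      · exact Or.inl h
      · exact Or.inr (hcon N hN h)
    obtain ⟨P⟩ : Nonempty (Sylow p G) := inferInstance
    by_cases h1 : (P : Subgroup G) ⊔ N = ⊤
    · by_cases h2 : normalizer (((P : Subgroup G) ⊓ N : Subgroup G) : Set G) = ⊤
      · by_cases h3 : (P : Subgroup G) ⊓ N = ⊥
        · apply good_coprime P N h1
          intro hdvd
          have h4 := (sylowInf P N).card_eq_multiplicity
          have h5 : Nat.card (sylowInf P N) = 1 := by
            have : ((sylowInf P N : Sylow p N) : Subgroup N) = ⊥ := by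
              rw [coe_sylowInf, h3, bot_subgroupOf]
            exact card_eq_one.2 this
          rw [h5] at h4
          have hp : p.Prime := Fact.out
          have h6 : 0 < (Nat.card N).factorization p :=
            hp.factorization_pos_of_dvd Nat.card_pos.ne' hdvd
          have h7 : 1 < p ^ (Nat.card N).factorization p := Nat.one_lt_pow h6.ne' hp.one_lt
          omega
        · have hQ : ((P : Subgroup G) ⊓ N).Normal := normalizer_eq_top_iff.1 h2
          rw [card_sylow_eq_quotient_mul P ((P : Subgroup G) ⊓ N)]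
          apply good_mul
          · exact ih _ (hn ▸ card_quotient_lt _ h3) _ rfl
          · rw [card_sylow_of_le P _ le_sup_left, sup_eq_left.2 inf_le_left,
              relIndex_eq_one.2 le_normalizer]
            exact good_one p
      · rw [card_sylow_eq_normal_mul P N h1]
        apply good_mul
        · exact ih _ (hn ▸ card_lt_of_ne_top _ htop) _ rfl
        · exact ih _ (hn ▸ card_lt_of_ne_top _ h2) _ rfl
    · rw [card_sylow_eq_quotient_mul P N]
      apply good_mul
      · exact ih _ (hn ▸ card_quotient_lt _ hbot) _ rfl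
      · exact ih _ (hn ▸ card_lt_of_ne_top _ h1) _ rfl

/-- For a finite group `G` and a prime `p`, the number of Sylow `p`-subgroups of `G` is a product of natural numbers each of which is either a prime power congruent to 1 modulo `p` or the number of Sylow `p`-subgroups of some finite simple group. -/
theorem result {G : Type u} [Group G] [Finite G]
    (p : ℕ) [Fact p.Prime] :
    ∃ l : List ℕ, l.prod = Nat.card (Sylow p G) ∧
      ∀ m ∈ l, (IsPrimePow m ∧ m % p = 1) ∨
        ∃ (S : Type u) (_ : Group S) (_ : Finite S), IsSimpleGroup S ∧ m = Nat.card (Sylow p S) := by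
  exact main p _ G rfl

end Cfsg.Agent.S4303
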