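import Cfsg.Statements.S4304
import Cfsg.Agent.S4303
import Cfsg.Agent.Lib.Helper75.SylowCoprime

set_option autoImplicit false
open Cfsg

namespace Cfsg.Agent.S4304

open Subgroup MulAction Cfsg.Agent.Lib.Helper75

section General
variable {S : Type*} [Group S] [Finite S]

theorem card_eq_of_simple_of_normalizer_le_centralizer [IsSimpleGroup S] {q : ℕ} [Fact q.Prime]
    (Q : Sylow q S) (hQ : normalizer (Q : Set S) ≤ centralizer (Q : Set S)) (hQ1 : Nat.card Q ≠ 1) :
    Nat.card S = Nat.card Q := by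
  have hc := MonoidHom.ker_transferSylow_isComplement' Q hQ
  have hcard := hc.card_mul_card
  rcases IsSimpleGroup.eq_bot_or_eq_top_of_normal (MonoidHom.transferSylow Q hQ).ker inferInstance
    with h | h
  · rw [h] at hcard
    simpa using hcard.symm
  · exfalso
    rw [h, card_top] at hcard
    have h0 : 0 < Nat.card S := Nat.card_pos
    have : Nat.card S * Nat.card Q = Nat.card S * 1 := by rw [mul_one]; exact hcard
    exact hQ1 (Nat.eq_of_mul_eq_mul_left h0 this)

theorem relIndex_centralizer_normalizer_dvd (Q : Subgroup S) (hQ : IsCyclic Q) :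
    (centralizer (Q : Set S)).relIndex (normalizer (Q : Set S)) ∣ Nat.totient (Nat.card Q) := by
  have key := card_dvd_of_injective _ (QuotientGroup.kerLift_injective Q.normalizerMonoidHom)
  rw [normalizerMonoidHom_ker, ← index, ← relIndex, hQ.card_mulAut] at key
  exact key

end General

section Jordan
variable {G α : Type*} [Group G] [MulAction G α]

theorem inj_vec3 (a b c : α) (hab : a ≠ b) (hac : a ≠ c) (hbc : b ≠ c) :
    Function.Injective ![a, b, c] := by
  intro i j hij
  fin_cases i <;> fin_cases j <;> first | rfl | (exfalso; simp at hij; first | exact hab hij | exact hac hij | exact hbc hij | exact hab hij.symm | exact hac hij.symm | exact hbc hij.symm)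

theorem exists_of_three_trans (h : IsMultiplyPretransitive G α 3) (a b c d : α)
    (hab : a ≠ b) (hac : a ≠ c) (hbc : b ≠ c) (had : a ≠ d) (hbd : b ≠ d) :
    ∃ g : G, g • a = a ∧ g • b = b ∧ g • c = d := by
  let x : Fin 3 ↪ α := ⟨![a, b, c], inj_vec3 a b c hab hac hbc⟩
  let y : Fin 3 ↪ α := ⟨![a, b, d], inj_vec3 a b d hab had hbd⟩
  obtain ⟨g, hg⟩ := h.exists_smul_eq x y
  refine ⟨g, ?_, ?_, ?_⟩
  · exact congrArg (fun f : Fin 3 ↪ α => f 0) hg
  · exact congrArg (fun f : Fin 3 ↪ α => f 1) hg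
  · exact congrArg (fun f : Fin 3 ↪ α => f 2) hg

theorem jordan_prime_cycle [Fintype α] [DecidableEq α] (hG : IsPreprimitive G α) (y : G)
    (hc : (MulAction.toPerm y : Equiv.Perm α).IsCycle) (p n : ℕ) (hp : p.Prime)
    (hcard : (MulAction.toPerm y : Equiv.Perm α).support.card = p)
    (hn : Nat.card α = p + (n + 1)) : IsMultiplyPreprimitive G α (n + 2) := by
  classical
  set σ : Equiv.Perm α := MulAction.toPerm y with hσ
  apply hG.isMultiplyPreprimitive (s := (σ.supportᶜ : Set α))
  · apply Nat.add_left_cancel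
    rw [Set.ncard_add_ncard_compl, Set.ncard_coe_finset, hcard, hn]
  · have := hp.two_le
    omega
  have hy : y ∈ fixingSubgroup G (σ.supportᶜ : Set α) := by
    rw [mem_fixingSubgroup_iff]
    intro z hz
    have : σ z = z := by
      simpa only [Set.mem_compl_iff, Finset.mem_coe, Equiv.Perm.notMem_support] using hz
    exact this
  have htr : IsPretransitive (fixingSubgroup G (σ.supportᶜ : Set α))
      (SubMulAction.ofFixingSubgroup G (σ.supportᶜ : Set α)) := by
    rw [isPretransitive_iff]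
    rintro ⟨a, ha⟩ ⟨b, hb⟩
    have ha' : σ a ≠ a := by
      rw [SubMulAction.mem_ofFixingSubgroup_iff] at ha
      simpa using ha
    have hb' : σ b ≠ b := by
      rw [SubMulAction.mem_ofFixingSubgroup_iff] at hb
      simpa using hb
    obtain ⟨i, hi⟩ := hc.sameCycle ha' hb'
    refine ⟨⟨y, hy⟩ ^ i, ?_⟩
    rw [← SetLike.coe_eq_coe]
    have : ((σ ^ i : Equiv.Perm α)) a = (y ^ i) • a := by
      rw [hσ, ← MulAction.toPermHom_apply, ← map_zpow]
      rfl
    change (y ^ i) • a = b
    rw [← hi, this]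
  apply IsPreprimitive.of_prime_card
  convert hp
  rw [Nat.card_eq_fintype_card, Fintype.card_subtype, ← hcard]
  apply congr_arg
  ext x
  simp [SubMulAction.mem_ofFixingSubgroup_iff]

end Jordan

instance fact7 : Fact (Nat.Prime 7) := ⟨by norm_num⟩

theorem arith15 (m : ℕ) (h1 : m ∣ 15) (h2 : m ≡ 1 [MOD 7]) (h3 : m ≠ 1) : m = 15 := by
  have h4 : m ≤ 15 := Nat.le_of_dvd (by norm_num) h1
  unfold Nat.ModEq at h2
  interval_cases m <;> omega

section Fifteen
variable {S : Type*} [Group S] [Finite S]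

omit [Finite S] in
theorem fixed_unique (P Q : Sylow 7 S) (h : ∀ x ∈ (P : Subgroup S), x • Q = Q) : Q = P := by
  have h1 : Q ∈ fixedPoints (P : Subgroup S) (Sylow 7 S) := fun x => h x.1 x.2
  rw [P.2.sylow_mem_fixedPoints_iff] at h1
  exact Sylow.ext (P.3 Q.2 h1)

omit [Finite S] in
theorem smul_self_of_mem (P : Sylow 7 S) (x : S) (hx : x ∈ (P : Subgroup S)) : x • P = P :=
  Sylow.smul_eq_iff_mem_normalizer.2 (le_normalizer hx)

variable [IsSimpleGroup S] (h15 : Nat.card (Sylow 7 S) = 15)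
include h15

theorem faithful (g : S) (hg : ∀ Q : Sylow 7 S, g • Q = Q) : g = 1 := by
  rcases IsSimpleGroup.eq_bot_or_eq_top_of_normal (MulAction.toPermHom S (Sylow 7 S)).ker inferInstance
    with h | h
  · have : g ∈ (MulAction.toPermHom S (Sylow 7 S)).ker := by
      rw [MonoidHom.mem_ker]
      exact Equiv.ext fun Q => hg Q
    rw [h, mem_bot] at this
    exact this
  · exfalso
    have hsub : Subsingleton (Sylow 7 S) := by
      refine ⟨fun P Q => ?_⟩
      obtain ⟨x, hx⟩ := MulAction.exists_smul_eq S P Q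
      have : x ∈ (MulAction.toPermHom S (Sylow 7 S)).ker := by rw [h]; trivial
      rw [MonoidHom.mem_ker] at this
      have h2 : x • P = P := by
        have := congrArg (fun σ : Equiv.Perm (Sylow 7 S) => σ P) this
        exact this
      rw [← hx, h2]
    have := Finite.card_le_one_iff_subsingleton.2 hsub
    omega

omit [IsSimpleGroup S] in
theorem primitive : IsPreprimitive S (Sylow 7 S) := by
  have hnt : Nontrivial (Sylow 7 S) := by
    rw [← Finite.one_lt_card_iff_nontrivial]; omega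
  obtain ⟨P⟩ : Nonempty (Sylow 7 S) := inferInstance
  rw [← isCoatom_stabilizer_iff_preprimitive S P, Sylow.stabilizer_eq_normalizer]
  have hidx : (normalizer ((P : Subgroup S) : Set S)).index = 15 := by
    rw [← card_sylow_eq_index P, h15]
  refine ⟨?_, ?_⟩
  · intro h
    have : (normalizer ((P : Subgroup S) : Set S)).index = 1 := index_eq_one.2 h
    omega
  · intro K hK
    have hK' : normalizer ((P : Subgroup S) : Set S) < K := hK
    have h1 := card_sylow_of_le P K (le_normalizer.trans hK'.le)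
    have h2 : Nat.card (Sylow 7 K) ≡ 1 [MOD 7] := card_sylow_modEq_one 7 K
    have h3 := relIndex_mul_index hK'.le
    rw [hidx, ← h1] at h3
    have h4 : Nat.card (Sylow 7 K) ≠ 1 := by
      rw [h1]
      intro h
      exact absurd (relIndex_eq_one.1 h) (not_le_of_gt hK')
    have h5 : Nat.card (Sylow 7 K) ∣ 15 := ⟨_, h3.symm⟩
    have h7 : Nat.card (Sylow 7 K) = 15 := arith15 _ h5 h2 h4
    rw [h7] at h3
    have h8 : K.index = 1 := by omega
    exact index_eq_one.1 h8

end Fifteen

section Fifteen2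
variable {S : Type*} [Group S] [Finite S] [IsSimpleGroup S] (h15 : Nat.card (Sylow 7 S) = 15)
include h15

theorem toPermHom_injective : Function.Injective (MulAction.toPermHom S (Sylow 7 S)) := by
  rw [injective_iff_map_eq_one]
  intro g hg
  apply faithful h15
  intro Q
  exact congrArg (fun σ : Equiv.Perm (Sylow 7 S) => σ Q) hg

open Classical in
theorem dichotomy (y : S) (hy : orderOf y = 7) :
    ((MulAction.toPerm y : Equiv.Perm (Sylow 7 S)).IsCycle ∧
      ∀ [Fintype (Sylow 7 S)], (MulAction.toPerm y : Equiv.Perm (Sylow 7 S)).support.card = 7) ∨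
    (∀ Q Q' : Sylow 7 S, y • Q = Q → y • Q' = Q' → Q = Q') := by
  have : Fintype (Sylow 7 S) := Fintype.ofFinite _
  set σ : Equiv.Perm (Sylow 7 S) := MulAction.toPerm y with hσ
  have ho : orderOf σ = 7 := by
    exact (orderOf_injective (MulAction.toPermHom S (Sylow 7 S)) (toPermHom_injective h15) y).trans hy
  obtain ⟨n, hn⟩ := Equiv.Perm.cycleType_prime_order (σ := σ) (by rw [ho]; norm_num)
  rw [ho] at hn
  have hsum := Equiv.Perm.sum_cycleType σ
  rw [hn, Multiset.sum_replicate, smul_eq_mul] at hsum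
  have hle : σ.support.card ≤ 15 := by
    rw [← h15, Nat.card_eq_fintype_card]
    exact Finset.card_le_univ _
  have hn01 : n = 0 ∨ n = 1 := by omega
  rcases hn01 with rfl | rfl
  · left
    refine ⟨?_, ?_⟩
    · rw [← Equiv.Perm.card_cycleType_eq_one, hn]
      simp
    · intro inst
      have : inst = this := Subsingleton.elim _ _
      subst this
      omega
  · right
    intro Q Q' hQ hQ'
    have hc : σ.supportᶜ.card = 1 := by
      rw [Finset.card_compl, ← Nat.card_eq_fintype_card, h15]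
      omega
    have h1 : Q ∈ σ.supportᶜ := by
      rw [Finset.mem_compl, Equiv.Perm.notMem_support]; exact hQ
    have h2 : Q' ∈ σ.supportᶜ := by
      rw [Finset.mem_compl, Equiv.Perm.notMem_support]; exact hQ'
    exact Finset.card_le_one.1 hc.le Q h1 Q' h2

end Fifteen2

theorem pow7_le (k : ℕ) (h : 7 ^ k ≤ 15) : 7 ^ k ≤ 7 := by
  rcases k with _ | _ | k
  · norm_num
  · norm_num
  · exfalso
    have : 7 ^ 2 ≤ 7 ^ (k + 1 + 1) := Nat.pow_le_pow_right (by norm_num) (by omega)
    omega

section Fifteen3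
variable {S : Type*} [Group S] [Finite S] (h15 : Nat.card (Sylow 7 S) = 15)
include h15

theorem not_three_trans (h3 : IsMultiplyPretransitive S (Sylow 7 S) 3) : False := by
  obtain ⟨P⟩ : Nonempty (Sylow 7 S) := inferInstance
  have hnt : Nontrivial (Sylow 7 S) := by
    rw [← Finite.one_lt_card_iff_nontrivial]; omega
  obtain ⟨Q₁, hQ₁⟩ := exists_ne P
  have hx : ∃ x ∈ (P : Subgroup S), x • Q₁ ≠ Q₁ := by
    by_contra hcon
    push Not at hcon
    exact hQ₁ (fixed_unique P Q₁ hcon)
  obtain ⟨x, hxP, hxQ⟩ := hx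
  obtain ⟨k, hk⟩ := P.2.card_orbit Q₁
  have hle : Nat.card (orbit (P : Subgroup S) Q₁) ≤ 15 := by
    rw [← h15]
    exact Finite.card_subtype_le _
  have hle7 : Nat.card (orbit (P : Subgroup S) Q₁) ≤ 7 := by
    rw [hk] at hle ⊢
    exact pow7_le k hle
  have hex : ∃ Q₃ : Sylow 7 S, Q₃ ∉ insert P (orbit (P : Subgroup S) Q₁) := by
    by_contra hcon
    push Not at hcon
    have huniv : insert P (orbit (P : Subgroup S) Q₁) = Set.univ := Set.eq_univ_iff_forall.2 hcon
    have h1 := Set.ncard_insert_le P (orbit (P : Subgroup S) Q₁)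
    rw [huniv, Set.ncard_univ, h15] at h1
    have h2 : (orbit (P : Subgroup S) Q₁).ncard = Nat.card (orbit (P : Subgroup S) Q₁) := rfl
    omega
  obtain ⟨Q₃, hQ₃⟩ := hex
  rw [Set.mem_insert_iff, not_or] at hQ₃
  obtain ⟨g, hg1, hg2, hg3⟩ := exists_of_three_trans h3 P Q₁ (x • Q₁) Q₃ hQ₁.symm
    (by
      intro h
      apply hQ₁
      have h4 : x⁻¹ • P = Q₁ := by rw [h, inv_smul_smul]
      rw [← h4]
      exact smul_self_of_mem P x⁻¹ (inv_mem hxP))
    (fun h => hxQ h.symm) (fun h => hQ₃.1 h.symm)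
    (fun h => hQ₃.2 (h ▸ mem_orbit_self _))
  apply hQ₃.2
  have hgN : g ∈ normalizer ((P : Subgroup S) : Set S) := Sylow.smul_eq_iff_mem_normalizer.1 hg1
  have hconj : g * x * g⁻¹ ∈ (P : Subgroup S) := (mem_normalizer_iff.1 hgN x).1 hxP
  refine ⟨⟨g * x * g⁻¹, hconj⟩, ?_⟩
  change (g * x * g⁻¹) • Q₁ = Q₃
  rw [← hg3]
  conv_lhs => rw [← hg2]
  simp [mul_smul]

end Fifteen3

section Fifteen4
variable {S : Type*} [Group S] [Finite S] (h15 : Nat.card (Sylow 7 S) = 15)
include h15

open Classical in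
theorem caseA (y : S) (hc : (MulAction.toPerm y : Equiv.Perm (Sylow 7 S)).IsCycle)
    (hcard : ∀ [Fintype (Sylow 7 S)],
      (MulAction.toPerm y : Equiv.Perm (Sylow 7 S)).support.card = 7) : False := by
  have : Fintype (Sylow 7 S) := Fintype.ofFinite _
  have h9 := jordan_prime_cycle (primitive h15) y hc 7 7 (by norm_num) hcard (by rw [h15])
  have h9' : IsMultiplyPretransitive S (Sylow 7 S) 9 := h9.isMultiplyPretransitive
  have h3 : IsMultiplyPretransitive S (Sylow 7 S) 3 :=
    isMultiplyPretransitive_of_le (n := 9) (by norm_num) (by rw [h15]; norm_num)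
  exact not_three_trans h15 h3

end Fifteen4

section CaseB
variable {S : Type*} [Group S] [Finite S] (h15 : Nat.card (Sylow 7 S) = 15)
  (hB : ∀ y : S, orderOf y = 7 → ∀ Q Q' : Sylow 7 S, y • Q = Q → y • Q' = Q' → Q = Q')
include h15 hB

theorem card_sylow7 (P : Sylow 7 S) : Nat.card P = 7 := by
  have hnt : Nontrivial (Sylow 7 S) := by
    rw [← Finite.one_lt_card_iff_nontrivial]; omega
  obtain ⟨Q₁, hQ₁⟩ := exists_ne P
  have hx : ∃ x ∈ (P : Subgroup S), x • Q₁ ≠ Q₁ := by
    by_contra hcon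
    push Not at hcon
    exact hQ₁ (fixed_unique P Q₁ hcon)
  obtain ⟨x, hxP, hxQ⟩ := hx
  have hstab : stabilizer (P : Subgroup S) Q₁ = ⊥ := by
    by_contra hne
    have hp : IsPGroup 7 (stabilizer (P : Subgroup S) Q₁) := P.2.to_subgroup _
    obtain ⟨k, hk⟩ := IsPGroup.iff_card.1 hp
    have hk0 : k ≠ 0 := by
      rintro rfl
      rw [pow_zero] at hk
      exact hne ((stabilizer (P : Subgroup S) Q₁).card_eq_one.1 hk)
    have h7 : 7 ∣ Nat.card (stabilizer (P : Subgroup S) Q₁) := by
      rw [hk]; exact dvd_pow_self 7 hk0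
    obtain ⟨w, hw⟩ := exists_prime_orderOf_dvd_card' 7 h7
    have hw' : orderOf ((w : (P : Subgroup S)) : S) = 7 := by
      rw [Subgroup.orderOf_coe, Subgroup.orderOf_coe, hw]
    have h1 : ((w : (P : Subgroup S)) : S) • Q₁ = Q₁ := w.2
    have h2 : ((w : (P : Subgroup S)) : S) • P = P := smul_self_of_mem P _ (w : (P : Subgroup S)).2
    exact hQ₁ (hB _ hw' _ _ h1 h2)
  have hidx := index_stabilizer (P : Subgroup S) Q₁
  rw [hstab, index_bot] at hidx
  obtain ⟨k, hk⟩ := P.2.card_orbit Q₁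
  have hle : Nat.card (orbit (P : Subgroup S) Q₁) ≤ 15 := by
    rw [← h15]
    exact Finite.card_subtype_le _
  have h2 : (orbit (P : Subgroup S) Q₁).ncard = Nat.card (orbit (P : Subgroup S) Q₁) := rfl
  rw [h2, hk] at hidx
  rw [hk] at hle
  have h7 := pow7_le k hle
  rw [hidx]
  rcases k with _ | k
  · exfalso
    rw [pow_zero] at hidx
    have hb := (P : Subgroup S).card_eq_one.1 hidx
    rw [hb, mem_bot] at hxP
    rw [hxP, one_smul] at hxQ
    exact hxQ rfl
  · have : 7 ^ 1 ≤ 7 ^ (k + 1) := Nat.pow_le_pow_right (by norm_num) (by omega)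
    omega

end CaseB

section FixedBy
variable {S : Type*} [Group S] [Finite S]

theorem card_fixedBy_modEq_seven (P : Sylow 7 S) (g : S)
    (hg : g ∈ centralizer ((P : Subgroup S) : Set S)) :
    Nat.card (fixedBy (Sylow 7 S) g) ≡ 1 [MOD 7] := by
  let F : SubMulAction (P : Subgroup S) (Sylow 7 S) :=
    { carrier := fixedBy (Sylow 7 S) g
      smul_mem' := by
        intro x Q hQ
        have hQ' : g • Q = Q := hQ
        change g • ((x : S) • Q) = (x : S) • Q
        have hcomm : g * (x : S) = (x : S) * g := ((mem_centralizer_iff.1 hg) x x.2).symm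
        rw [← mul_smul, hcomm, mul_smul, hQ'] }
  have h1 : Nat.card F ≡ Nat.card (fixedPoints (P : Subgroup S) F) [MOD 7] :=
    P.2.card_modEq_card_fixedPoints F
  have h2 : Nat.card (fixedPoints (P : Subgroup S) F) = 1 := by
    rw [Nat.card_eq_one_iff_unique]
    refine ⟨⟨?_⟩, ⟨⟨⟨P, ?_⟩, ?_⟩⟩⟩
    · rintro ⟨⟨Q, hQ⟩, hfix⟩ ⟨⟨Q', hQ'⟩, hfix'⟩
      have e1 : Q = P := fixed_unique P Q fun x hx =>
        congrArg (fun z : F => (z : Sylow 7 S)) (hfix ⟨x, hx⟩)
      have e2 : Q' = P := fixed_unique P Q' fun x hx =>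
        congrArg (fun z : F => (z : Sylow 7 S)) (hfix' ⟨x, hx⟩)
      subst e1 e2
      rfl
    · exact Sylow.smul_eq_iff_mem_normalizer.2 (centralizer_le_normalizer _ hg)
    · intro x
      apply Subtype.ext
      exact smul_self_of_mem P x x.2
  rw [h2] at h1
  exact h1

theorem card_fixedBy_modEq (g : S) (r : ℕ) [Fact r.Prime] (hg : orderOf g = r) :
    Nat.card (Sylow 7 S) ≡ Nat.card (fixedBy (Sylow 7 S) g) [MOD r] := by
  have hp : IsPGroup r (zpowers g) := IsPGroup.of_card (n := 1) (by rw [Nat.card_zpowers, hg, pow_one])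
  have h1 := hp.card_modEq_card_fixedPoints (Sylow 7 S)
  have h2 : fixedPoints (zpowers g) (Sylow 7 S) = fixedBy (Sylow 7 S) g := by
    ext Q
    constructor
    · intro h
      exact h ⟨g, mem_zpowers g⟩
    · intro h x
      have h3 : g ∈ stabilizer S Q := h
      have h4 : zpowers g ≤ stabilizer S Q := (zpowers_le).2 h3
      exact h4 x.2
  rw [h2] at h1
  exact h1

end FixedBy

theorem arith_fixed (r f : ℕ) (hr : r = 2 ∨ r = 3 ∨ r = 5) (hf : f ≤ 15) (h7 : f ≡ 1 [MOD 7])
    (hrf : 15 ≡ f [MOD r]) : f = 15 ∨ (r = 2 ∧ f = 1) := by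
  unfold Nat.ModEq at h7 hrf
  rcases hr with rfl | rfl | rfl <;> interval_cases f <;> omega

section Centralizer
variable {S : Type*} [Group S] [Finite S] [IsSimpleGroup S] (h15 : Nat.card (Sylow 7 S) = 15)
include h15

omit [IsSimpleGroup S] in
theorem fifteen_dvd_card : 15 ∣ Nat.card S := by
  obtain ⟨P⟩ : Nonempty (Sylow 7 S) := inferInstance
  rw [← h15, card_sylow_eq_index P]
  exact index_dvd_card _

open Classical in
theorem odd_perm_false (g : S) (hg : orderOf g = 2)
    (hf : Nat.card (fixedBy (Sylow 7 S) g) = 1) : False := by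
  have : Fintype (Sylow 7 S) := Fintype.ofFinite _
  set σ : Equiv.Perm (Sylow 7 S) := MulAction.toPerm g with hσ
  have ho : orderOf σ = 2 :=
    (orderOf_injective (MulAction.toPermHom S (Sylow 7 S)) (toPermHom_injective h15) g).trans hg
  obtain ⟨n, hn⟩ := Equiv.Perm.cycleType_prime_order (σ := σ) (by rw [ho]; norm_num)
  rw [ho] at hn
  have hfp := Equiv.Perm.card_fixedPoints σ
  have hf' : Nat.card (Function.fixedPoints σ) = 1 := hf
  rw [Nat.card_eq_fintype_card] at hf'
  rw [hf', ← Nat.card_eq_fintype_card, h15, hn, Multiset.sum_replicate, smul_eq_mul] at hfp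
  have hn6 : n = 6 := by omega
  subst hn6
  have hsign : Equiv.Perm.sign σ = -1 := by
    rw [Equiv.Perm.sign_of_cycleType, hn]
    simp
    decide
  let φ : S →* ℤˣ := Equiv.Perm.sign.comp (MulAction.toPermHom S (Sylow 7 S))
  have hφg : φ g = -1 := hsign
  rcases IsSimpleGroup.eq_bot_or_eq_top_of_normal φ.ker inferInstance with h | h
  · have hinj : Function.Injective φ := (MonoidHom.ker_eq_bot_iff φ).1 h
    have h1 := Nat.card_le_card_of_injective φ hinj
    rw [Nat.card_eq_fintype_card (α := ℤˣ), Fintype.card_units_int] at h1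
    have h2 := Nat.le_of_dvd Nat.card_pos (fifteen_dvd_card h15)
    omega
  · have : g ∈ φ.ker := by rw [h]; trivial
    rw [MonoidHom.mem_ker, hφg] at this
    exact absurd this (by decide)

theorem not_dvd_card_centralizer (P : Sylow 7 S) (r : ℕ) (hr : r = 2 ∨ r = 3 ∨ r = 5) :
    ¬ r ∣ Nat.card (centralizer ((P : Subgroup S) : Set S)) := by
  intro hdvd
  have hrp : Fact r.Prime := ⟨by rcases hr with rfl | rfl | rfl <;> norm_num⟩
  obtain ⟨g, hg⟩ := exists_prime_orderOf_dvd_card' r hdvd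
  have hg' : orderOf (g : S) = r := by rw [Subgroup.orderOf_coe, hg]
  have h1 := card_fixedBy_modEq_seven P (g : S) g.2
  have h2 := card_fixedBy_modEq (g : S) r hg'
  rw [h15] at h2
  have hle : Nat.card (fixedBy (Sylow 7 S) (g : S)) ≤ 15 := by
    rw [← h15]
    exact Finite.card_subtype_le _
  rcases arith_fixed r _ hr hle h1 h2 with h | ⟨rfl, h⟩
  · have huniv : fixedBy (Sylow 7 S) (g : S) = Set.univ := by
      rw [Set.eq_univ_iff_ncard, h15]
      exact h
    have hg1 : (g : S) = 1 := faithful h15 _ fun Q => by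
      have : Q ∈ fixedBy (Sylow 7 S) (g : S) := by rw [huniv]; trivial
      exact this
    rw [hg1, orderOf_one] at hg'
    exact hrp.out.one_lt.ne hg'
  · exact odd_perm_false h15 _ hg' h

end Centralizer

theorem arith_order (n d c : ℕ) (hn : n = 15 * (c * d)) (hd : d ∣ 6) (h2 : ¬ 2 ∣ c) (_h3 : ¬ 3 ∣ c)
    (h5 : ¬ 5 ∣ c) : ¬ 2 ^ 2 ∣ n ∧ ¬ 5 ^ 2 ∣ n := by
  have hd6 : d ≤ 6 := Nat.le_of_dvd (by norm_num) hd
  subst hn
  interval_cases d <;> constructor <;> omega

theorem arith_odd_dvd_four (m n : ℕ) (h1 : m ∣ 4) (h2 : m ∣ n) (h3 : ¬ 2 ∣ n) : m = 1 := by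
  have h4 : m ≤ 4 := Nat.le_of_dvd (by norm_num) h1
  have h5 : ¬ 2 ∣ m := fun h => h3 (h.trans h2)
  interval_cases m <;> omega

section Final
variable {S : Type*} [Group S] [Finite S]

theorem sylow_card_eq_prime {q : ℕ} [Fact q.Prime] (R : Sylow q S) (h1 : q ∣ Nat.card S)
    (h2 : ¬ q ^ 2 ∣ Nat.card S) : Nat.card R = q := by
  obtain ⟨k, hk⟩ := IsPGroup.iff_card.1 R.2
  have h3 := R.dvd_card_of_dvd_card h1
  have h4 := card_subgroup_dvd_card (R : Subgroup S)
  rw [hk] at h3 h4 ⊢
  rcases k with _ | _ | k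
  · exfalso
    rw [pow_zero] at h3
    exact (Fact.out : q.Prime).one_lt.ne' (Nat.dvd_one.1 h3)
  · simp
  · exfalso
    exact h2 ((pow_dvd_pow q (by omega)).trans h4)

theorem caseB [IsSimpleGroup S] (h15 : Nat.card (Sylow 7 S) = 15)
    (hB : ∀ y : S, orderOf y = 7 → ∀ Q Q' : Sylow 7 S, y • Q = Q → y • Q' = Q' → Q = Q') :
    False := by
  obtain ⟨P⟩ : Nonempty (Sylow 7 S) := inferInstance
  have hP7 := card_sylow7 h15 hB P
  have hcyc : IsCyclic (P : Subgroup S) := isCyclic_of_prime_card hP7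
  have hd := relIndex_centralizer_normalizer_dvd (P : Subgroup S) hcyc
  rw [hP7, Nat.totient_prime (by norm_num)] at hd
  have hN : 15 * Nat.card (normalizer ((P : Subgroup S) : Set S)) = Nat.card S := by
    rw [← h15, card_sylow_eq_index P]; exact index_mul_card _
  have hC := relIndex_mul_relIndex ⊥ (centralizer ((P : Subgroup S) : Set S))
    (normalizer ((P : Subgroup S) : Set S)) bot_le (centralizer_le_normalizer _)
  rw [relIndex_bot_left, relIndex_bot_left] at hC
  rw [← hC] at hN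
  obtain ⟨h4, h25⟩ := arith_order _ _ _ hN.symm hd
    (not_dvd_card_centralizer h15 P 2 (by simp))
    (not_dvd_card_centralizer h15 P 3 (by simp))
    (not_dvd_card_centralizer h15 P 5 (by simp))
  have h15d := fifteen_dvd_card h15
  by_cases h2 : 2 ∣ Nat.card S
  · have : Fact (Nat.Prime 2) := ⟨by norm_num⟩
    obtain ⟨T⟩ : Nonempty (Sylow 2 S) := inferInstance
    have hT := sylow_card_eq_prime T h2 h4
    have hTc : IsCyclic (T : Subgroup S) := isCyclic_of_prime_card hT
    have hd2 := relIndex_centralizer_normalizer_dvd (T : Subgroup S) hTc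
    rw [hT, Nat.totient_prime (by norm_num)] at hd2
    have h1 := relIndex_eq_one.1 (Nat.dvd_one.1 hd2)
    have := card_eq_of_simple_of_normalizer_le_centralizer T h1 (by rw [hT]; norm_num)
    rw [this, hT] at h15d
    omega
  · have : Fact (Nat.Prime 5) := ⟨by norm_num⟩
    obtain ⟨T⟩ : Nonempty (Sylow 5 S) := inferInstance
    have hT := sylow_card_eq_prime T (by omega) h25
    have hTc : IsCyclic (T : Subgroup S) := isCyclic_of_prime_card hT
    have hd2 := relIndex_centralizer_normalizer_dvd (T : Subgroup S) hTc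
    rw [hT, Nat.totient_prime (by norm_num)] at hd2
    have hd3 : (centralizer ((T : Subgroup S) : Set S)).relIndex
        (normalizer ((T : Subgroup S) : Set S)) ∣ Nat.card S :=
      (relIndex_dvd_card _ _).trans (card_subgroup_dvd_card _)
    have h1 := relIndex_eq_one.1 (arith_odd_dvd_four _ _ hd2 hd3 h2)
    have := card_eq_of_simple_of_normalizer_le_centralizer T h1 (by rw [hT]; norm_num)
    rw [this, hT] at h15d
    omega

theorem simple_false [IsSimpleGroup S] (h15 : Nat.card (Sylow 7 S) = 15) : False := by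
  by_cases hA : ∃ y : S, orderOf y = 7 ∧
      ¬ (∀ Q Q' : Sylow 7 S, y • Q = Q → y • Q' = Q' → Q = Q')
  · obtain ⟨y, hy, hny⟩ := hA
    rcases dichotomy h15 y hy with ⟨h1, h2⟩ | h
    · exact caseA h15 y h1 h2
    · exact hny h
  · push Not at hA
    exact caseB h15 hA

end Final

theorem not_isPrimePow_fifteen : ¬ IsPrimePow 15 := by
  rintro ⟨p, k, hp, _, h⟩
  have hp' : p.Prime := hp.nat_prime
  have h3 : 3 ∣ p ^ k := by rw [h]; norm_num
  have h5 : 5 ∣ p ^ k := by rw [h]; norm_num
  have e3 := (Nat.prime_dvd_prime_iff_eq (by norm_num) hp').1 ((Nat.Prime.dvd_of_dvd_pow (by norm_num)) h3)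
  have e5 := (Nat.prime_dvd_prime_iff_eq (by norm_num) hp').1 ((Nat.Prime.dvd_of_dvd_pow (by norm_num)) h5)
  omega

/-- No finite group has exactly 15 Sylow 7-subgroups. -/
theorem result {G : Type*} [Group G] [Finite G] : Nat.card (Sylow 7 G) ≠ 15 := by
  intro h
  obtain ⟨l, hl, hm⟩ := Cfsg.Agent.S4303.result (G := G) 7
  rw [h] at hl
  have hex : ∃ m ∈ l, m ≠ 1 := by
    by_contra hcon
    push Not at hcon
    rw [List.prod_eq_one hcon] at hl
    omega
  obtain ⟨m, hml, hm1⟩ := hex
  have hdvd : m ∣ 15 := hl ▸ List.dvd_prod hml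
  rcases hm m hml with ⟨hpp, hmod⟩ | ⟨S, _, _, hS, hmS⟩
  · have h15 : m = 15 := arith15 m hdvd hmod hm1
    subst h15
    exact not_isPrimePow_fifteen hpp
  · have hmod : m ≡ 1 [MOD 7] := by rw [hmS]; exact card_sylow_modEq_one 7 S
    have h15 : m = 15 := arith15 m hdvd hmod hm1
    exact simple_false (h15 ▸ hmS).symm

end Cfsg.Agent.S4304
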