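import Cfsg.Statements.S1003
import Cfsg.Agent.S4304
import Cfsg.Agent.Lib.Helper75.SimpleIndex
import Cfsg.Agent.Lib.Helper75.SylowPerm

set_option autoImplicit false
open Cfsg

namespace Cfsg.Agent.S1003

open Subgroup MulAction Cfsg.Agent.Lib.Helper75 Cfsg.Agent.S4304

instance fact2 : Fact (Nat.Prime 2) := ⟨by norm_num⟩
instance fact3 : Fact (Nat.Prime 3) := ⟨by norm_num⟩
instance fact7 : Fact (Nat.Prime 7) := ⟨by norm_num⟩

theorem arith7 (n : ℕ) (h1 : n ∣ 24) (h2 : n ≡ 1 [MOD 7]) (h3 : 1 < n) : n = 8 := by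
  have h4 : n ≤ 24 := Nat.le_of_dvd (by norm_num) h1
  unfold Nat.ModEq at h2
  interval_cases n <;> omega

theorem arith3 (n : ℕ) (h1 : n ∣ 56) (h2 : n ≡ 1 [MOD 3]) (h3 : 6 < n) : n = 7 ∨ n = 28 := by
  have h4 : n ≤ 56 := Nat.le_of_dvd (by norm_num) h1
  unfold Nat.ModEq at h2
  interval_cases n <;> omega

theorem arith2 (n : ℕ) (h1 : n ∣ 21) (h3 : 6 < n) : n = 7 ∨ n = 21 := by
  have h4 : n ≤ 21 := Nat.le_of_dvd (by norm_num) h1
  interval_cases n <;> omega

theorem not_dvd_fact6 : ¬ 168 ∣ Nat.factorial 6 := by decide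

section
variable {G : Type*} [Group G] [Finite G]

omit [Finite G] in
theorem relIndex_mul_card_inf (H K : Subgroup G) :
    Nat.card (H ⊓ K : Subgroup G) * H.relIndex K = Nat.card K := by
  have := relIndex_mul_relIndex ⊥ (H ⊓ K) K bot_le inf_le_right
  rwa [relIndex_bot_left, relIndex_bot_left, inf_relIndex_right] at this

/-- cyclic Sylow subgroup of prime order in a simple group: `|N| = |C| * r`, `r ∣ q - 1`, `r ≠ 1`. -/
theorem automizer_data [IsSimpleGroup G] {q : ℕ} [Fact q.Prime] (Q : Sylow q G)
    (hQ : Nat.card Q = q) (hG : Nat.card G ≠ q) :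
    ∃ r, Nat.card (centralizer ((Q : Subgroup G) : Set G)) * r =
      Nat.card (normalizer ((Q : Subgroup G) : Set G)) ∧ r ∣ q - 1 ∧ r ≠ 1 ∧
      q ∣ Nat.card (centralizer ((Q : Subgroup G) : Set G)) := by
  have hcyc : IsCyclic (Q : Subgroup G) := isCyclic_of_prime_card hQ
  have hd := relIndex_centralizer_normalizer_dvd (Q : Subgroup G) hcyc
  rw [hQ, Nat.totient_prime Fact.out] at hd
  have hC := relIndex_mul_relIndex ⊥ (centralizer ((Q : Subgroup G) : Set G))
    (normalizer ((Q : Subgroup G) : Set G)) bot_le (centralizer_le_normalizer _)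
  rw [relIndex_bot_left, relIndex_bot_left] at hC
  refine ⟨_, hC, hd, ?_, ?_⟩
  · intro h1
    have := card_eq_of_simple_of_normalizer_le_centralizer Q (relIndex_eq_one.1 h1)
      (by rw [hQ]; exact (Fact.out : q.Prime).one_lt.ne')
    rw [hQ] at this
    exact hG this
  · have hPC : (Q : Subgroup G) ≤ centralizer ((Q : Subgroup G) : Set G) := by
      have := hcyc.isMulCommutative
      intro x hx
      rw [mem_centralizer_iff]
      intro y hy
      exact congrArg Subtype.val (this.is_comm.comm ⟨y, hy⟩ ⟨x, hx⟩)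
    have := card_dvd_of_le hPC
    rwa [hQ] at this

end

/-- A simple group of order 168 has exactly 21 Sylow 2-subgroups, 28 Sylow 3-subgroups and 8 Sylow 7-subgroups. -/
theorem result {G : Type*} [Group G] [Finite G] [IsSimpleGroup G] (h : Nat.card G = 168) : Nat.card (Sylow 2 G) = 21 ∧ Nat.card (Sylow 3 G) = 28 ∧ Nat.card (Sylow 7 G) = 8 := by
  have hidx7 : ∀ H : Subgroup G, H ≠ ⊤ → 7 ≤ H.index := by
    intro H hH
    by_contra hcon
    have := card_dvd_factorial_of_simple H hH 6 (by omega)
    rw [h] at this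
    exact not_dvd_fact6 this
  have hNtop : ∀ {q : ℕ} [Fact q.Prime] (R : Sylow q G), 1 < Nat.card (Sylow q G) →
      normalizer ((R : Subgroup G) : Set G) ≠ ⊤ := by
    intro q _ R h1 h2
    rw [card_sylow_eq_index R, h2, index_top] at h1
    omega
  -- Sylow 7
  obtain ⟨P⟩ : Nonempty (Sylow 7 G) := inferInstance
  have hP : Nat.card P = 7 := sylow_card_eq_prime P (by rw [h]; norm_num) (by rw [h]; norm_num)
  have hPidx : (P : Subgroup G).index = 24 := by
    have := (P : Subgroup G).card_mul_index
    rw [hP, h] at this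
    omega
  have hn7 : Nat.card (Sylow 7 G) = 8 :=
    arith7 _ (hPidx ▸ P.card_dvd_index) (card_sylow_modEq_one 7 G)
      (one_lt_card_sylow_of_simple P (by rw [hP]; norm_num) (by rw [hP, h]; norm_num))
  have hNP : Nat.card (normalizer ((P : Subgroup G) : Set G)) = 21 := by
    have h1 := (normalizer ((P : Subgroup G) : Set G)).card_mul_index
    rw [← card_sylow_eq_index P, hn7, h] at h1
    omega
  -- Sylow 3
  have hQc : ∀ Q : Sylow 3 G, Nat.card Q = 3 := fun Q =>
    sylow_card_eq_prime Q (by rw [h]; norm_num) (by rw [h]; norm_num)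
  have hn3 : Nat.card (Sylow 3 G) = 28 := by
    set K := normalizer ((P : Subgroup G) : Set G) with hK
    obtain ⟨x, hx⟩ := exists_prime_orderOf_dvd_card' (G := K) 3 (by rw [hNP]; norm_num)
    have hx' : orderOf (x : G) = 3 := by rw [Subgroup.orderOf_coe, hx]
    have hpg : IsPGroup 3 (zpowers (x : G)) :=
      IsPGroup.of_card (n := 1) (by rw [Nat.card_zpowers, hx', pow_one])
    obtain ⟨Q, hQ⟩ := hpg.exists_le_sylow
    have hQz : (Q : Subgroup G) = zpowers (x : G) := by
      symm
      apply Subgroup.eq_of_le_of_card_ge hQ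
      rw [hQc Q, Nat.card_zpowers, hx']
    have hQK : (Q : Subgroup G) ≤ K := by
      rw [hQz]; exact zpowers_le.2 x.2
    have hQidx : (Q : Subgroup G).index = 56 := by
      have := (Q : Subgroup G).card_mul_index
      rw [hQc Q, h] at this
      omega
    have h1 : 1 < Nat.card (Sylow 3 G) :=
      one_lt_card_sylow_of_simple Q (by rw [hQc Q]; norm_num) (by rw [hQc Q, h]; norm_num)
    have h6 : 6 < Nat.card (Sylow 3 G) := by
      have := hidx7 _ (hNtop Q h1)
      rw [← card_sylow_eq_index Q] at this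
      omega
    rcases arith3 _ (hQidx ▸ Q.card_dvd_index) (card_sylow_modEq_one 3 G) h6 with h7 | h28
    · exfalso
      have hNQ : Nat.card (normalizer ((Q : Subgroup G) : Set G)) = 24 := by
        have h1 := (normalizer ((Q : Subgroup G) : Set G)).card_mul_index
        rw [← card_sylow_eq_index Q, h7, h] at h1
        omega
      have hmul := relIndex_mul_card_inf (normalizer ((Q : Subgroup G) : Set G)) K
      rw [hNP] at hmul
      have hd1 : Nat.card (normalizer ((Q : Subgroup G) : Set G) ⊓ K : Subgroup G) ∣ 24 := by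
        rw [← hNQ]; exact card_dvd_of_le inf_le_left
      have hd2 : Nat.card (normalizer ((Q : Subgroup G) : Set G) ⊓ K : Subgroup G) ∣ 21 :=
        ⟨_, hmul.symm⟩
      have hd3 : Nat.card (normalizer ((Q : Subgroup G) : Set G) ⊓ K : Subgroup G) ∣ 3 :=
        Nat.dvd_gcd hd1 hd2
      have hle3 := Nat.le_of_dvd (by norm_num) hd3
      have horb : (orbit K Q).ncard = (normalizer ((Q : Subgroup G) : Set G)).relIndex K := by
        rw [← index_stabilizer K Q]
        have : stabilizer K Q = (normalizer ((Q : Subgroup G) : Set G)).subgroupOf K := by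
          ext k
          rw [mem_subgroupOf]
          exact Sylow.smul_eq_iff_mem_normalizer (g := (k : G)) (P := Q)
        rw [this]
        rfl
      have hle : (orbit K Q).ncard ≤ Nat.card (Sylow 3 G) := Set.ncard_le_card _
      have horb7 : (orbit K Q).ncard = Nat.card (Sylow 3 G) := by
        rw [h7] at hle ⊢
        rw [horb] at hle ⊢
        nlinarith
      have huniv : orbit K Q = Set.univ := by
        rw [Set.eq_univ_iff_ncard]; exact horb7
      have hall : ∀ g : G, ((g • Q : Sylow 3 G) : Subgroup G) ≤ K := by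
        intro g
        have : g • Q ∈ orbit K Q := by rw [huniv]; trivial
        obtain ⟨k, hk⟩ := this
        have hk' : (k : G) • Q = g • Q := hk
        rw [← hk']
        intro y hy
        rw [Sylow.coe_subgroup_smul, Subgroup.mem_pointwise_smul_iff_inv_smul_mem, MulAut.smul_def,
          MulAut.conj_inv_apply] at hy
        have h2 := mul_mem (mul_mem k.2 (hQK hy)) (inv_mem k.2)
        simpa [mul_assoc] using h2
      have hcore : (Q : Subgroup G) ≤ K.normalCore := by
        intro y hy g
        apply hall g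
        rw [Sylow.coe_subgroup_smul, Subgroup.mem_pointwise_smul_iff_inv_smul_mem, MulAut.smul_def,
          MulAut.conj_inv_apply]
        simpa [mul_assoc] using hy
      rcases IsSimpleGroup.eq_bot_or_eq_top_of_normal K.normalCore inferInstance with hb | ht
      · rw [hb, le_bot_iff] at hcore
        have := hQc Q
        rw [hcore] at this
        simp at this
      · have hKt : K = ⊤ := top_le_iff.1 (ht ▸ normalCore_le K)
        rw [hKt, card_top, h] at hNP
        omega
    · exact h28
  -- centralisers of Sylow 3-subgroups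
  have hCQ : ∀ Q : Sylow 3 G, Nat.card (centralizer ((Q : Subgroup G) : Set G)) = 3 := by
    intro Q
    have hNQ : Nat.card (normalizer ((Q : Subgroup G) : Set G)) = 6 := by
      have h1 := (normalizer ((Q : Subgroup G) : Set G)).card_mul_index
      rw [← card_sylow_eq_index Q, hn3, h] at h1
      omega
    obtain ⟨r, hr1, hr2, hr3, hr4⟩ := automizer_data Q (hQc Q) (by rw [h]; norm_num)
    rw [hNQ] at hr1
    have hr : r = 2 := by
      have : r ≤ 2 := Nat.le_of_dvd (by norm_num) hr2
      interval_cases r <;> omega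
    subst hr
    omega
  refine ⟨?_, hn3, hn7⟩
  obtain ⟨T⟩ : Nonempty (Sylow 2 G) := inferInstance
  have hT : Nat.card T = 2 ^ 3 := card_sylow_eq_pow T 3 21 (by rw [h]; norm_num) (by norm_num)
  have hTidx : (T : Subgroup G).index = 21 := by
    have := (T : Subgroup G).card_mul_index
    rw [hT, h] at this
    omega
  have h1 : 1 < Nat.card (Sylow 2 G) :=
    one_lt_card_sylow_of_simple T (by rw [hT]; norm_num) (by rw [hT, h]; norm_num)
  have h6 : 6 < Nat.card (Sylow 2 G) := by
    have := hidx7 _ (hNtop T h1)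
    rw [← card_sylow_eq_index T] at this
    omega
  rcases arith2 _ (hTidx ▸ T.card_dvd_index) h6 with h7 | h21
  · exfalso
    set K := normalizer ((T : Subgroup G) : Set G) with hK
    have hNT : Nat.card K = 24 := by
      have h1 := K.card_mul_index
      rw [← card_sylow_eq_index T, h7, h] at h1
      omega
    obtain ⟨x, hx⟩ := exists_prime_orderOf_dvd_card' (G := K) 3 (by rw [hNT]; norm_num)
    have hx' : orderOf (x : G) = 3 := by rw [Subgroup.orderOf_coe, hx]
    have hpg : IsPGroup 3 (zpowers (x : G)) :=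
      IsPGroup.of_card (n := 1) (by rw [Nat.card_zpowers, hx', pow_one])
    obtain ⟨Q, hQ⟩ := hpg.exists_le_sylow
    have hQz : (Q : Subgroup G) = zpowers (x : G) := by
      symm
      apply Subgroup.eq_of_le_of_card_ge hQ
      rw [hQc Q, Nat.card_zpowers, hx']
    have hQK : (Q : Subgroup G) ≤ K := by
      rw [hQz]; exact zpowers_le.2 x.2
    have hs := card_sylow_of_le Q K hQK
    have hmod : Nat.card (Sylow 3 K) ≡ 1 [MOD 3] := card_sylow_modEq_one 3 K
    have hmul := relIndex_mul_card_inf (normalizer ((Q : Subgroup G) : Set G)) K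
    rw [← hs, hNT] at hmul
    have h2 : 2 ∣ Nat.card (normalizer ((Q : Subgroup G) : Set G) ⊓ K : Subgroup G) := by
      have hd : Nat.card (Sylow 3 K) ∣ 24 := ⟨_, (by rw [mul_comm]; exact hmul.symm)⟩
      have hle : Nat.card (Sylow 3 K) ≤ 24 := Nat.le_of_dvd (by norm_num) hd
      unfold Nat.ModEq at hmod
      generalize Nat.card (Sylow 3 K) = n at *
      generalize Nat.card (normalizer ((Q : Subgroup G) : Set G) ⊓ K : Subgroup G) = c at *
      interval_cases n <;> omega
    obtain ⟨s, hs2⟩ := exists_prime_orderOf_dvd_card'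
      (G := (normalizer ((Q : Subgroup G) : Set G) ⊓ K : Subgroup G)) 2 h2
    have hs' : orderOf (s : G) = 2 := by rw [Subgroup.orderOf_coe, hs2]
    have hsT : (s : G) ∈ (T : Subgroup G) := by
      have hpg2 : IsPGroup 2 (zpowers (s : G)) :=
        IsPGroup.of_card (n := 1) (by rw [Nat.card_zpowers, hs', pow_one])
      have h3 := hpg2.inf_normalizer_sylow T
      have h4 : (s : G) ∈ zpowers (s : G) ⊓ normalizer (T : Set G) := ⟨mem_zpowers _, s.2.2⟩
      exact (h3.le h4).2
    have hxQ : (x : G) ∈ (Q : Subgroup G) := hQ (mem_zpowers _)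
    have hc1 : (s : G) * x * (s : G)⁻¹ * (x : G)⁻¹ ∈ (Q : Subgroup G) :=
      mul_mem ((mem_normalizer_iff.1 s.2.1 _).1 hxQ) (inv_mem hxQ)
    have hc2 : (s : G) * x * (s : G)⁻¹ * (x : G)⁻¹ ∈ (T : Subgroup G) := by
      have := mul_mem hsT ((mem_normalizer_iff.1 x.2 _).1 (inv_mem hsT))
      simpa [mul_assoc] using this
    have hdisj : (s : G) * x * (s : G)⁻¹ * (x : G)⁻¹ = 1 := by
      have hcop : (Nat.card (Q : Subgroup G)).Coprime (Nat.card (T : Subgroup G)) := by
        rw [hQc Q, hT]; norm_num
      have := (disjoint_of_coprime_natCard hcop).eq_bot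
      have h5 : (s : G) * x * (s : G)⁻¹ * (x : G)⁻¹ ∈ (Q : Subgroup G) ⊓ (T : Subgroup G) :=
        ⟨hc1, hc2⟩
      rwa [this, mem_bot] at h5
    have hcomm : (s : G) * x = x * s := by
      have h6 : (s : G) * x * (s : G)⁻¹ = x := by
        rw [mul_inv_eq_one] at hdisj; exact hdisj
      rw [mul_inv_eq_iff_eq_mul] at h6
      exact h6
    have hsC : (s : G) ∈ centralizer ((Q : Subgroup G) : Set G) := by
      rw [mem_centralizer_iff]
      intro y hy
      have hy' : y ∈ zpowers (x : G) := by rw [← hQz]; exact hy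
      obtain ⟨k, rfl⟩ := mem_zpowers_iff.1 hy'
      exact ((Commute.zpow_right (show Commute (s : G) x from hcomm) k).eq).symm
    have := orderOf_dvd_natCard (⟨(s : G), hsC⟩ : centralizer ((Q : Subgroup G) : Set G))
    rw [Subgroup.orderOf_mk, hs', hCQ Q] at this
    omega
  · exact h21

end Cfsg.Agent.S1003
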