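import Cfsg.Statements.S1012
import Cfsg.Agent.Lib.Helper75.FixCount2

set_option autoImplicit false
open Cfsg

namespace Cfsg.Agent.S1012

open Subgroup MulAction Cfsg.Agent.Lib.Helper75

instance fact2 : Fact (Nat.Prime 2) := ⟨by norm_num⟩
instance fact3 : Fact (Nat.Prime 3) := ⟨by norm_num⟩

theorem arith3 (n : ℕ) (h1 : n ∣ 8) (h2 : n ≡ 1 [MOD 3]) : n = 1 ∨ n = 4 := by
  have h4 : n ≤ 8 := Nat.le_of_dvd (by norm_num) h1
  unfold Nat.ModEq at h2
  interval_cases n <;> omega

theorem no_commute {G : Type*} [Group G] (h6 : ∀ g : G, orderOf g ≠ 6) (x t : G)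
    (hx : orderOf x = 3) (ht : orderOf t = 2) (hc : Commute x t) : False := by
  have := hc.orderOf_mul_eq_mul_orderOf_of_coprime (by rw [hx, ht]; norm_num)
  rw [hx, ht] at this
  exact h6 _ this

/-- A group of order 24 containing no element of order 6 is isomorphic to the symmetric group of degree 4. -/
theorem result {G : Type*} [Group G] [Finite G] (h : Nat.card G = 24) (h6 : ∀ g : G, orderOf g ≠ 6) : Nonempty (G ≃* Equiv.Perm (Fin 4)) := by
  obtain ⟨P⟩ : Nonempty (Sylow 3 G) := inferInstance
  have hPc : ∀ Q : Sylow 3 G, Nat.card Q = 3 := fun Q => by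
    have := card_sylow_eq_pow Q 1 8 (by rw [h]; norm_num) (by norm_num)
    rwa [pow_one] at this
  have hP := hPc P
  have hidx : (P : Subgroup G).index = 8 := by
    have := (P : Subgroup G).card_mul_index
    rw [hP, h] at this
    omega
  obtain ⟨x, hx⟩ := exists_prime_orderOf_dvd_card' (G := (P : Subgroup G)) 3 (by rw [hP])
  have hx' : orderOf (x : G) = 3 := by rw [Subgroup.orderOf_coe, hx]
  rcases arith3 _ (hidx ▸ P.card_dvd_index) (card_sylow_modEq_one 3 G) with hn | hn
  · exfalso
    have hN : Nat.card (normalizer ((P : Subgroup G) : Set G)) = 24 := by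
      have h1 := (normalizer ((P : Subgroup G) : Set G)).card_mul_index
      rw [← card_sylow_eq_index P, hn, h] at h1
      omega
    have hcyc : IsCyclic (P : Subgroup G) := isCyclic_of_prime_card hP
    have hd := Cfsg.Agent.S4304.relIndex_centralizer_normalizer_dvd (P : Subgroup G) hcyc
    rw [hP, Nat.totient_prime (by norm_num)] at hd
    have hC := relIndex_mul_relIndex ⊥ (centralizer ((P : Subgroup G) : Set G))
      (normalizer ((P : Subgroup G) : Set G)) bot_le (centralizer_le_normalizer _)
    rw [relIndex_bot_left, relIndex_bot_left, hN] at hC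
    have h2 : 2 ∣ Nat.card (centralizer ((P : Subgroup G) : Set G)) := by
      have hr : (centralizer ((P : Subgroup G) : Set G)).relIndex
          (normalizer ((P : Subgroup G) : Set G)) ≤ 2 := Nat.le_of_dvd (by norm_num) hd
      generalize (centralizer ((P : Subgroup G) : Set G)).relIndex
          (normalizer ((P : Subgroup G) : Set G)) = r at hC hr
      interval_cases r <;> omega
    obtain ⟨t, ht⟩ := exists_prime_orderOf_dvd_card'
      (G := centralizer ((P : Subgroup G) : Set G)) 2 h2
    have ht' : orderOf (t : G) = 2 := by rw [Subgroup.orderOf_coe, ht]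
    exact no_commute h6 x t hx' ht' ((mem_centralizer_iff.1 t.2) x x.2)
  · have hN : Nat.card (normalizer ((P : Subgroup G) : Set G)) = 6 := by
      have h1 := (normalizer ((P : Subgroup G) : Set G)).card_mul_index
      rw [← card_sylow_eq_index P, hn, h] at h1
      omega
    set K := (MulAction.toPermHom G (Sylow 3 G)).ker with hK
    have hKfix : ∀ k ∈ K, ∀ Q : Sylow 3 G, k • Q = Q := by
      intro k hk Q
      rw [hK, MonoidHom.mem_ker] at hk
      exact congrArg (fun σ : Equiv.Perm (Sylow 3 G) => σ Q) hk
    have hKN : K ≤ normalizer ((P : Subgroup G) : Set G) := fun k hk =>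
      Sylow.smul_eq_iff_mem_normalizer.1 (hKfix k hk P)
    have hKd : Nat.card K ∣ 6 := hN ▸ card_dvd_of_le hKN
    have h3 : ¬ 3 ∣ Nat.card K := by
      intro h3
      obtain ⟨y, hy⟩ := exists_prime_orderOf_dvd_card' (G := K) 3 h3
      have hy' : orderOf (y : G) = 3 := by rw [Subgroup.orderOf_coe, hy]
      have hpg : IsPGroup 3 (zpowers (y : G)) :=
        IsPGroup.of_card (n := 1) (by rw [Nat.card_zpowers, hy', pow_one])
      obtain ⟨Q, hQ⟩ := hpg.exists_le_sylow
      have hQz : zpowers (y : G) = (Q : Subgroup G) := by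
        apply Subgroup.eq_of_le_of_card_ge hQ
        rw [hPc Q, Nat.card_zpowers, hy']
      have hall : ∀ Q' : Sylow 3 G, Q' = Q := by
        intro Q'
        apply sylow_fixed_unique
        intro z hz
        rw [← hQz] at hz
        exact hKfix z (zpowers_le.2 y.2 hz) Q'
      have : Subsingleton (Sylow 3 G) := ⟨fun a b => (hall a).trans (hall b).symm⟩
      have := Finite.card_le_one_iff_subsingleton.2 this
      omega
    have h2 : ¬ 2 ∣ Nat.card K := by
      intro h2
      have hK2 : Nat.card K = 2 := by
        have hle : Nat.card K ≤ 6 := Nat.le_of_dvd (by norm_num) hKd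
        generalize Nat.card K = c at *
        interval_cases c <;> omega
      obtain ⟨t, ht⟩ := exists_prime_orderOf_dvd_card' (G := K) 2 h2
      have ht' : orderOf (t : G) = 2 := by rw [Subgroup.orderOf_coe, ht]
      have ht1 : t ≠ 1 := by
        intro h0
        rw [h0, orderOf_one] at ht
        omega
      have hconj : (x : G) * t * (x : G)⁻¹ ∈ K :=
        (inferInstance : K.Normal).conj_mem t t.2 x
      have hcases : ∀ k : K, k = 1 ∨ k = t := by
        intro k
        by_contra hcon
        push Not at hcon
        have : 2 < Nat.card K := by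
          rw [← Set.ncard_univ, Set.two_lt_ncard]
          exact ⟨1, trivial, t, trivial, k, trivial, ht1.symm, hcon.1.symm, hcon.2.symm⟩
        omega
      rcases hcases ⟨_, hconj⟩ with h0 | h0
      · have h1 : (x : G) * t * (x : G)⁻¹ = 1 := congrArg Subtype.val h0
        apply ht1
        apply Subtype.ext
        have : (t : G) = (x : G)⁻¹ * ((x : G) * t * (x : G)⁻¹) * (x : G) := by group
        rw [this, h1]
        simp
      · have h1 : (x : G) * t * (x : G)⁻¹ = t := congrArg Subtype.val h0
        apply no_commute h6 x t hx' ht'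
        calc (x : G) * t = ((x : G) * t * (x : G)⁻¹) * x := by group
          _ = t * x := by rw [h1]
    have hK1 : K = ⊥ := by
      rw [← card_eq_one]
      have hle : Nat.card K ≤ 6 := Nat.le_of_dvd (by norm_num) hKd
      generalize Nat.card K = c at *
      interval_cases c <;> omega
    have hinj : Function.Injective (MulAction.toPermHom G (Sylow 3 G)) :=
      (MonoidHom.ker_eq_bot_iff _).1 hK1
    have hbij : Function.Bijective (MulAction.toPermHom G (Sylow 3 G)) := by
      rw [Nat.bijective_iff_injective_and_card]
      refine ⟨hinj, ?_⟩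
      rw [h, Nat.card_perm, hn]
      rfl
    exact ⟨(MulEquiv.ofBijective _ hbij).trans (Finite.equivFinOfCardEq hn).permCongrHom⟩

end Cfsg.Agent.S1012
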