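import Cfsg.Statements.S3742
import Cfsg.Agent.S1012

set_option autoImplicit false
open Cfsg

namespace Cfsg.Agent.S3742

abbrev Q := QuaternionGroup 2

open QuaternionGroup

def psi (p : Q × Q) : Q → Q
  | a k => p.1 ^ k.val
  | xa k => p.2 * p.1 ^ k.val

def isAut (p : Q × Q) : Prop :=
  (∀ x y, psi p (x * y) = psi p x * psi p y) ∧ ∀ x y, psi p x = psi p y → x = y

instance : DecidablePred isAut := fun p => by unfold isAut; infer_instance

set_option maxRecDepth 100000 in
theorem card_isAut : Fintype.card {p : Q × Q // isAut p} = 24 := by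
  decide +kernel

set_option maxRecDepth 100000 in
theorem order_isAut : ∀ p : Q × Q, isAut p → (∀ x, (psi p)^[6] x = x) →
    (∀ x, (psi p)^[2] x = x) ∨ (∀ x, (psi p)^[3] x = x) := by
  decide +kernel

theorem eq_psi (φ : MulAut Q) (x : Q) : φ x = psi (φ (a 1), φ (xa 0)) x := by
  cases x with
  | a k =>
    have h : (a k : Q) = (a 1) ^ k.val := by
      rw [a_one_pow, ZMod.natCast_zmod_val]
    change φ (a k) = (φ (a 1)) ^ k.val
    rw [← map_pow, ← h]
  | xa k =>
    have h : (a k : Q) = (a 1) ^ k.val := by
      rw [a_one_pow, ZMod.natCast_zmod_val]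
    have h2 : (xa k : Q) = xa 0 * a k := by rw [xa_mul_a, zero_add]
    change φ (xa k) = φ (xa 0) * (φ (a 1)) ^ k.val
    rw [← map_pow, ← h, ← map_mul, ← h2]

theorem isAut_of (φ : MulAut Q) : isAut (φ (a 1), φ (xa 0)) := by
  constructor
  · intro x y
    rw [← eq_psi, ← eq_psi, ← eq_psi, map_mul]
  · intro x y h
    rw [← eq_psi, ← eq_psi] at h
    exact φ.injective h

noncomputable def autEquiv : MulAut Q ≃ {p : Q × Q // isAut p} where
  toFun φ := ⟨(φ (a 1), φ (xa 0)), isAut_of φ⟩
  invFun p := MulEquiv.ofBijective (MonoidHom.mk' (psi p.1) p.2.1)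
    (Finite.injective_iff_bijective.1 (fun x y h => p.2.2 x y h))
  left_inv φ := by
    ext x
    exact (eq_psi φ x).symm
  right_inv p := by
    apply Subtype.ext
    apply Prod.ext
    · change psi p.1 (a 1) = p.1.1
      change p.1.1 ^ (1 : ZMod 4).val = p.1.1
      exact pow_one _
    · change psi p.1 (xa 0) = p.1.2
      change p.1.2 * p.1.1 ^ (0 : ZMod 4).val = p.1.2
      simp

theorem pow_apply (φ : MulAut Q) (n : ℕ) (x : Q) :
    (φ ^ n) x = (psi (φ (a 1), φ (xa 0)))^[n] x := by
  induction n generalizing x with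
  | zero => rfl
  | succ n ih =>
    rw [pow_succ, MulAut.mul_apply, ih, Function.iterate_succ_apply, ← eq_psi]

/-- The automorphism group of the quaternion group of order 8 is isomorphic to the symmetric group of degree 4. -/
theorem result : Nonempty (MulAut (QuaternionGroup 2) ≃* Equiv.Perm (Fin 4)) := by
  apply Cfsg.Agent.S1012.result
  · rw [Nat.card_congr autEquiv, Nat.card_eq_fintype_card]
    exact card_isAut
  · intro φ hφ
    have h6 : φ ^ 6 = 1 := by rw [← hφ]; exact pow_orderOf_eq_one _
    have h6' : ∀ x, (psi (φ (a 1), φ (xa 0)))^[6] x = x := by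
      intro x
      rw [← pow_apply, h6]
      rfl
    rcases order_isAut _ (isAut_of φ) h6' with h | h
    · have h2 : φ ^ 2 = 1 := by
        ext x
        rw [pow_apply, h]
        rfl
      have := orderOf_dvd_of_pow_eq_one h2
      rw [hφ] at this
      omega
    · have h2 : φ ^ 3 = 1 := by
        ext x
        rw [pow_apply, h]
        rfl
      have := orderOf_dvd_of_pow_eq_one h2
      rw [hφ] at this
      omega

end Cfsg.Agent.S3742
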