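import Cfsg.Statements.S0493
import Cfsg.Agent.Lib.Helper11.SimpleOrder

set_option autoImplicit false
open Cfsg

namespace Cfsg.Agent.S0493

open Cfsg.Agent.Lib.Helper11

/-- A finite simple group of order at most 100 that is not cyclic has order 60. -/
theorem result {G : Type*} [Group G] [Finite G] [IsSimpleGroup G]
    (hG : ¬ IsCyclic G) (h : Nat.card G ≤ 100) : Nat.card G = 60 := by
  by_contra h60
  have h1 : 1 < Nat.card G := Finite.one_lt_card
  obtain ⟨n, hn⟩ : ∃ n, Nat.card G = n := ⟨_, rfl⟩
  rw [hn] at h h60 h1
  interval_cases n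
  · exact card_ne_of_sylowTest hG 2 1 1 (by norm_num) (by norm_num) (by norm_num) (by decide) hn
  · exact card_ne_of_sylowTest hG 3 1 1 (by norm_num) (by norm_num) (by norm_num) (by decide) hn
  · exact card_ne_of_sylowTest hG 2 2 1 (by norm_num) (by norm_num) (by norm_num) (by decide) hn
  · exact card_ne_of_sylowTest hG 5 1 1 (by norm_num) (by norm_num) (by norm_num) (by decide) hn
  · exact card_ne_of_sylowTest hG 3 1 2 (by norm_num) (by norm_num) (by norm_num) (by decide) hn
  · exact card_ne_of_sylowTest hG 7 1 1 (by norm_num) (by norm_num) (by norm_num) (by decide) hn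
  · exact card_ne_of_sylowTest hG 2 3 1 (by norm_num) (by norm_num) (by norm_num) (by decide) hn
  · exact card_ne_of_sylowTest hG 3 2 1 (by norm_num) (by norm_num) (by norm_num) (by decide) hn
  · exact card_ne_of_sylowTest hG 5 1 2 (by norm_num) (by norm_num) (by norm_num) (by decide) hn
  · exact card_ne_of_sylowTest hG 11 1 1 (by norm_num) (by norm_num) (by norm_num) (by decide) hn
  · exact card_ne_of_sylowTest hG 3 1 4 (by norm_num) (by norm_num) (by norm_num) (by decide) hn
  · exact card_ne_of_sylowTest hG 13 1 1 (by norm_num) (by norm_num) (by norm_num) (by decide) hn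
  · exact card_ne_of_sylowTest hG 7 1 2 (by norm_num) (by norm_num) (by norm_num) (by decide) hn
  · exact card_ne_of_sylowTest hG 5 1 3 (by norm_num) (by norm_num) (by norm_num) (by decide) hn
  · exact card_ne_of_sylowTest hG 2 4 1 (by norm_num) (by norm_num) (by norm_num) (by decide) hn
  · exact card_ne_of_sylowTest hG 17 1 1 (by norm_num) (by norm_num) (by norm_num) (by decide) hn
  · exact card_ne_of_sylowTest hG 3 2 2 (by norm_num) (by norm_num) (by norm_num) (by decide) hn
  · exact card_ne_of_sylowTest hG 19 1 1 (by norm_num) (by norm_num) (by norm_num) (by decide) hn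
  · exact card_ne_of_sylowTest hG 5 1 4 (by norm_num) (by norm_num) (by norm_num) (by decide) hn
  · exact card_ne_of_sylowTest hG 7 1 3 (by norm_num) (by norm_num) (by norm_num) (by decide) hn
  · exact card_ne_of_sylowTest hG 11 1 2 (by norm_num) (by norm_num) (by norm_num) (by decide) hn
  · exact card_ne_of_sylowTest hG 23 1 1 (by norm_num) (by norm_num) (by norm_num) (by decide) hn
  · exact card_ne_of_sylowTest hG 3 1 8 (by norm_num) (by norm_num) (by norm_num) (by decide) hn
  · exact card_ne_of_sylowTest hG 5 2 1 (by norm_num) (by norm_num) (by norm_num) (by decide) hn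
  · exact card_ne_of_sylowTest hG 13 1 2 (by norm_num) (by norm_num) (by norm_num) (by decide) hn
  · exact card_ne_of_sylowTest hG 3 3 1 (by norm_num) (by norm_num) (by norm_num) (by decide) hn
  · exact card_ne_of_sylowTest hG 7 1 4 (by norm_num) (by norm_num) (by norm_num) (by decide) hn
  · exact card_ne_of_sylowTest hG 29 1 1 (by norm_num) (by norm_num) (by norm_num) (by decide) hn
  · exact card_ne_of_sylowTest hG 5 1 6 (by norm_num) (by norm_num) (by norm_num) (by decide) hn
  · exact card_ne_of_sylowTest hG 31 1 1 (by norm_num) (by norm_num) (by norm_num) (by decide) hn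
  · exact card_ne_of_sylowTest hG 2 5 1 (by norm_num) (by norm_num) (by norm_num) (by decide) hn
  · exact card_ne_of_sylowTest hG 11 1 3 (by norm_num) (by norm_num) (by norm_num) (by decide) hn
  · exact card_ne_of_sylowTest hG 17 1 2 (by norm_num) (by norm_num) (by norm_num) (by decide) hn
  · exact card_ne_of_sylowTest hG 7 1 5 (by norm_num) (by norm_num) (by norm_num) (by decide) hn
  · exact card_ne_of_sylowTest hG 3 2 4 (by norm_num) (by norm_num) (by norm_num) (by decide) hn
  · exact card_ne_of_sylowTest hG 37 1 1 (by norm_num) (by norm_num) (by norm_num) (by decide) hn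
  · exact card_ne_of_sylowTest hG 19 1 2 (by norm_num) (by norm_num) (by norm_num) (by decide) hn
  · exact card_ne_of_sylowTest hG 13 1 3 (by norm_num) (by norm_num) (by norm_num) (by decide) hn
  · exact card_ne_of_sylowTest hG 5 1 8 (by norm_num) (by norm_num) (by norm_num) (by decide) hn
  · exact card_ne_of_sylowTest hG 41 1 1 (by norm_num) (by norm_num) (by norm_num) (by decide) hn
  · exact card_ne_of_sylowTest hG 7 1 6 (by norm_num) (by norm_num) (by norm_num) (by decide) hn
  · exact card_ne_of_sylowTest hG 43 1 1 (by norm_num) (by norm_num) (by norm_num) (by decide) hn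
  · exact card_ne_of_sylowTest hG 11 1 4 (by norm_num) (by norm_num) (by norm_num) (by decide) hn
  · exact card_ne_of_sylowTest hG 5 1 9 (by norm_num) (by norm_num) (by norm_num) (by decide) hn
  · exact card_ne_of_sylowTest hG 23 1 2 (by norm_num) (by norm_num) (by norm_num) (by decide) hn
  · exact card_ne_of_sylowTest hG 47 1 1 (by norm_num) (by norm_num) (by norm_num) (by decide) hn
  · exact card_ne_of_sylowTest hG 3 1 16 (by norm_num) (by norm_num) (by norm_num) (by decide) hn
  · exact card_ne_of_sylowTest hG 7 2 1 (by norm_num) (by norm_num) (by norm_num) (by decide) hn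
  · exact card_ne_of_sylowTest hG 5 2 2 (by norm_num) (by norm_num) (by norm_num) (by decide) hn
  · exact card_ne_of_sylowTest hG 17 1 3 (by norm_num) (by norm_num) (by norm_num) (by decide) hn
  · exact card_ne_of_sylowTest hG 13 1 4 (by norm_num) (by norm_num) (by norm_num) (by decide) hn
  · exact card_ne_of_sylowTest hG 53 1 1 (by norm_num) (by norm_num) (by norm_num) (by decide) hn
  · exact card_ne_of_sylowTest hG 3 3 2 (by norm_num) (by norm_num) (by norm_num) (by decide) hn
  · exact card_ne_of_sylowTest hG 11 1 5 (by norm_num) (by norm_num) (by norm_num) (by decide) hn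
  · exact card_ne_of_sylowTest hG 7 1 8 (by norm_num) (by norm_num) (by norm_num) (by decide) hn
  · exact card_ne_of_sylowTest hG 19 1 3 (by norm_num) (by norm_num) (by norm_num) (by decide) hn
  · exact card_ne_of_sylowTest hG 29 1 2 (by norm_num) (by norm_num) (by norm_num) (by decide) hn
  · exact card_ne_of_sylowTest hG 59 1 1 (by norm_num) (by norm_num) (by norm_num) (by decide) hn
  · exact h60 rfl
  · exact card_ne_of_sylowTest hG 61 1 1 (by norm_num) (by norm_num) (by norm_num) (by decide) hn
  · exact card_ne_of_sylowTest hG 31 1 2 (by norm_num) (by norm_num) (by norm_num) (by decide) hn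
  · exact card_ne_of_sylowTest hG 7 1 9 (by norm_num) (by norm_num) (by norm_num) (by decide) hn
  · exact card_ne_of_sylowTest hG 2 6 1 (by norm_num) (by norm_num) (by norm_num) (by decide) hn
  · exact card_ne_of_sylowTest hG 13 1 5 (by norm_num) (by norm_num) (by norm_num) (by decide) hn
  · exact card_ne_of_sylowTest hG 11 1 6 (by norm_num) (by norm_num) (by norm_num) (by decide) hn
  · exact card_ne_of_sylowTest hG 67 1 1 (by norm_num) (by norm_num) (by norm_num) (by decide) hn
  · exact card_ne_of_sylowTest hG 17 1 4 (by norm_num) (by norm_num) (by norm_num) (by decide) hn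
  · exact card_ne_of_sylowTest hG 23 1 3 (by norm_num) (by norm_num) (by norm_num) (by decide) hn
  · exact card_ne_of_sylowTest hG 7 1 10 (by norm_num) (by norm_num) (by norm_num) (by decide) hn
  · exact card_ne_of_sylowTest hG 71 1 1 (by norm_num) (by norm_num) (by norm_num) (by decide) hn
  · exact card_ne_of_sylowTest hG 3 2 8 (by norm_num) (by norm_num) (by norm_num) (by decide) hn
  · exact card_ne_of_sylowTest hG 73 1 1 (by norm_num) (by norm_num) (by norm_num) (by decide) hn
  · exact card_ne_of_sylowTest hG 37 1 2 (by norm_num) (by norm_num) (by norm_num) (by decide) hn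
  · exact card_ne_of_sylowTest hG 5 2 3 (by norm_num) (by norm_num) (by norm_num) (by decide) hn
  · exact card_ne_of_sylowTest hG 19 1 4 (by norm_num) (by norm_num) (by norm_num) (by decide) hn
  · exact card_ne_of_sylowTest hG 11 1 7 (by norm_num) (by norm_num) (by norm_num) (by decide) hn
  · exact card_ne_of_sylowTest hG 13 1 6 (by norm_num) (by norm_num) (by norm_num) (by decide) hn
  · exact card_ne_of_sylowTest hG 79 1 1 (by norm_num) (by norm_num) (by norm_num) (by decide) hn
  · exact card_ne_of_sylowTest hG 5 1 16 (by norm_num) (by norm_num) (by norm_num) (by decide) hn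
  · exact card_ne_of_sylowTest hG 3 4 1 (by norm_num) (by norm_num) (by norm_num) (by decide) hn
  · exact card_ne_of_sylowTest hG 41 1 2 (by norm_num) (by norm_num) (by norm_num) (by decide) hn
  · exact card_ne_of_sylowTest hG 83 1 1 (by norm_num) (by norm_num) (by norm_num) (by decide) hn
  · exact card_ne_of_sylowTest hG 7 1 12 (by norm_num) (by norm_num) (by norm_num) (by decide) hn
  · exact card_ne_of_sylowTest hG 17 1 5 (by norm_num) (by norm_num) (by norm_num) (by decide) hn
  · exact card_ne_of_sylowTest hG 43 1 2 (by norm_num) (by norm_num) (by norm_num) (by decide) hn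
  · exact card_ne_of_sylowTest hG 29 1 3 (by norm_num) (by norm_num) (by norm_num) (by decide) hn
  · exact card_ne_of_sylowTest hG 11 1 8 (by norm_num) (by norm_num) (by norm_num) (by decide) hn
  · exact card_ne_of_sylowTest hG 89 1 1 (by norm_num) (by norm_num) (by norm_num) (by decide) hn
  · exact card_ne_of_sylowTest hG 5 1 18 (by norm_num) (by norm_num) (by norm_num) (by decide) hn
  · exact card_ne_of_sylowTest hG 13 1 7 (by norm_num) (by norm_num) (by norm_num) (by decide) hn
  · exact card_ne_of_sylowTest hG 23 1 4 (by norm_num) (by norm_num) (by norm_num) (by decide) hn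
  · exact card_ne_of_sylowTest hG 31 1 3 (by norm_num) (by norm_num) (by norm_num) (by decide) hn
  · exact card_ne_of_sylowTest hG 47 1 2 (by norm_num) (by norm_num) (by norm_num) (by decide) hn
  · exact card_ne_of_sylowTest hG 19 1 5 (by norm_num) (by norm_num) (by norm_num) (by decide) hn
  · exact card_ne_of_sylowTest hG 2 5 3 (by norm_num) (by norm_num) (by norm_num) (by decide) hn
  · exact card_ne_of_sylowTest hG 97 1 1 (by norm_num) (by norm_num) (by norm_num) (by decide) hn
  · exact card_ne_of_sylowTest hG 7 2 2 (by norm_num) (by norm_num) (by norm_num) (by decide) hn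
  · exact card_ne_of_sylowTest hG 11 1 9 (by norm_num) (by norm_num) (by norm_num) (by decide) hn
  · exact card_ne_of_sylowTest hG 5 2 4 (by norm_num) (by norm_num) (by norm_num) (by decide) hn

end Cfsg.Agent.S0493
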