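import Cfsg.Statements.S0494
import Cfsg.Agent.Lib.Helper11.SimpleOrder

set_option autoImplicit false
open Cfsg

namespace Cfsg.Agent.S0494

open Cfsg.Agent.Lib.Helper11

/-- A simple group of order 60 is isomorphic to the alternating group of degree 5. -/
theorem result {G : Type*} [Group G] [Finite G] [IsSimpleGroup G]
    (h : Nat.card G = 60) : Nonempty (G ≃* alternatingGroup (Fin 5)) := by
  classical
  have hG : ¬ IsCyclic G := by
    intro hc
    let _ : CommGroup G := IsCyclic.commGroup
    have := IsSimpleGroup.prime_card (α := G)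
    rw [h] at this
    norm_num at this
  have : Fact (Nat.Prime 2) := ⟨Nat.prime_two⟩
  obtain ⟨P⟩ : Nonempty (Sylow 2 G) := inferInstance
  obtain ⟨d, hd, h1, h2, h3, h4, h5, -⟩ :=
    sylow_numerics hG 2 2 15 (by norm_num) (by norm_num) (by rw [h]; norm_num) P
  have hd5 : d = 5 := by
    have hle : d ≤ 15 := Nat.le_of_dvd (by norm_num) h1
    have h5' := h5 le_rfl
    interval_cases d <;> first | rfl | omega | (exfalso; revert h4; decide) | (exfalso; revert h5'; decide)
  subst hd5
  have hNtop : Subgroup.normalizer ((P : Subgroup G) : Set G) ≠ ⊤ := by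
    intro htop
    rw [htop, Subgroup.index_top] at hd
    omega
  obtain ⟨f, hf⟩ := exists_embedding_alternating hG _ hNtop 5 hd
  have hcard : Nat.card (alternatingGroup (Fin 5)) = 60 := by
    rw [nat_card_alternatingGroup, Nat.card_fin]
    decide
  have hbij : Function.Bijective f := by
    rw [Nat.bijective_iff_injective_and_card]
    exact ⟨hf, by rw [h, hcard]⟩
  exact ⟨MulEquiv.ofBijective f hbij⟩

end Cfsg.Agent.S0494
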