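import Cfsg.Statements.S3377
-- import your own Cfsg.Agent.* helpers here

set_option autoImplicit false
open Cfsg

namespace Cfsg.Agent.S3377

def sg : Fin 12 → Fin 12 := ![1, 2, 0, 4, 6, 7, 3, 8, 5, 10, 11, 9]
def ta : Fin 12 → Fin 12 := ![0, 2, 3, 5, 1, 4, 8, 6, 9, 10, 7, 11]

theorem table {P X : Type*} [Group P] [MulAction P X] (x y : P) (hx : x ^ 3 = 1) (hy : y ^ 5 = 1)
    (hxy : (x * y) ^ 2 = 1) (c0 : X) (Y0 : y • c0 = c0) :
    ∃ c : Fin 12 → X, c 0 = c0 ∧ (∀ i, x • c i = c (sg i)) ∧ (∀ i, y • c i = c (ta i)) := by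
  have r1 : ∀ ξ : X, x • x • x • ξ = ξ := by
    intro ξ
    have : x • x • x • ξ = (x ^ 3) • ξ := by simp only [pow_succ, pow_zero, one_mul, mul_smul]
    rw [this, hx, one_smul]
  have r2 : ∀ ξ : X, y • y • y • y • y • ξ = ξ := by
    intro ξ
    have : y • y • y • y • y • ξ = (y ^ 5) • ξ := by simp only [pow_succ, pow_zero, one_mul, mul_smul]
    rw [this, hy, one_smul]
  have r3 : ∀ ξ : X, x • y • x • y • ξ = ξ := by
    intro ξ
    have : x • y • x • y • ξ = ((x * y) ^ 2) • ξ := by simp only [pow_succ, pow_zero, one_mul, mul_smul]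
    rw [this, hxy, one_smul]
  have r4 : ∀ ξ : X, y • x • y • x • ξ = ξ := by
    intro ξ
    exact smul_left_cancel x (r3 (x • ξ))
  obtain ⟨c1, X0⟩ : ∃ c, x • c0 = c := ⟨_, rfl⟩
  obtain ⟨c2, X1⟩ : ∃ c, x • c1 = c := ⟨_, rfl⟩
  have X2 : x • c2 = c0 := by have h := r1 c0; rw [X0, X1] at h; exact h
  have Y1 : y • c1 = c2 := by have h := r4 c2; rw [X2, Y0, X0] at h; exact h
  obtain ⟨c3, Y2⟩ : ∃ c, y • c2 = c := ⟨_, rfl⟩
  obtain ⟨c4, X3⟩ : ∃ c, x • c3 = c := ⟨_, rfl⟩
  have Y4 : y • c4 = c1 := by have h := r4 c1; rw [X1, Y2, X3] at h; exact h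
  obtain ⟨c5, Y3⟩ : ∃ c, y • c3 = c := ⟨_, rfl⟩
  have Y5 : y • c5 = c4 := by have h := r2 c4; rw [Y4, Y1, Y2, Y3] at h; exact h
  obtain ⟨c6, X4⟩ : ∃ c, x • c4 = c := ⟨_, rfl⟩
  have X6 : x • c6 = c3 := by have h := r1 c3; rw [X3, X4] at h; exact h
  obtain ⟨c7, X5⟩ : ∃ c, x • c5 = c := ⟨_, rfl⟩
  have Y7 : y • c7 = c6 := by have h := r4 c6; rw [X6, Y3, X5] at h; exact h
  obtain ⟨c8, Y6⟩ : ∃ c, y • c6 = c := ⟨_, rfl⟩
  have X8 : x • c8 = c5 := by have h := r3 c5; rw [Y5, X4, Y6] at h; exact h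
  have X7 : x • c7 = c8 := by have h := r1 c8; rw [X8, X5] at h; exact h
  obtain ⟨c9, Y8⟩ : ∃ c, y • c8 = c := ⟨_, rfl⟩
  obtain ⟨c10, X9⟩ : ∃ c, x • c9 = c := ⟨_, rfl⟩
  have Y10 : y • c10 = c7 := by have h := r4 c7; rw [X7, Y8, X9] at h; exact h
  have Y9 : y • c9 = c10 := by have h := r2 c10; rw [Y10, Y7, Y6, Y8] at h; exact h
  obtain ⟨c11, X10⟩ : ∃ c, x • c10 = c := ⟨_, rfl⟩
  have X11 : x • c11 = c9 := by have h := r1 c9; rw [X9, X10] at h; exact h
  have Y11 : y • c11 = c11 := by have h := r4 c11; rw [X11, Y9, X10] at h; exact h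
  refine ⟨![c0, c1, c2, c3, c4, c5, c6, c7, c8, c9, c10, c11], rfl, ?_, ?_⟩
  · intro i
    fin_cases i
    exacts [X0, X1, X2, X3, X4, X5, X6, X7, X8, X9, X10, X11]
  · intro i
    fin_cases i
    exacts [Y0, Y1, Y2, Y3, Y4, Y5, Y6, Y7, Y8, Y9, Y10, Y11]

theorem card_le {P : Type*} [Group P] (x y : P) (hgen : Subgroup.closure {x, y} = ⊤)
    (hx : x ^ 3 = 1) (hy : y ^ 5 = 1) (hxy : (x * y) ^ 2 = 1) :
    0 < Nat.card P ∧ Nat.card P ≤ 60 := by
  let H : Subgroup P := Subgroup.zpowers y
  have Y0 : y • ((1 : P) : P ⧸ H) = ((1 : P) : P ⧸ H) := by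
    rw [MulAction.Quotient.smul_coe, smul_eq_mul, mul_one]
    exact QuotientGroup.eq.2 (by simpa using H.inv_mem (Subgroup.mem_zpowers y))
  obtain ⟨c, hc0, hX, hY⟩ := table x y hx hy hxy _ Y0
  have hsg : Function.Surjective sg := by decide
  have hta : Function.Surjective ta := by decide
  have key : ∀ g : P, ∀ i, ∃ j, g • c i = c j := by
    intro g
    have hg : g ∈ Subgroup.closure {x, y} := by rw [hgen]; trivial
    induction hg using Subgroup.closure_induction with
    | mem g hg =>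
      intro i
      rcases hg with rfl | rfl
      · exact ⟨_, hX i⟩
      · exact ⟨_, hY i⟩
    | one => intro i; exact ⟨i, one_smul _ _⟩
    | mul a b _ _ iha ihb =>
      intro i
      obtain ⟨j, hj⟩ := ihb i
      obtain ⟨k, hk⟩ := iha j
      exact ⟨k, by rw [mul_smul, hj, hk]⟩
    | inv a ha iha =>
      intro i
      choose f hf using iha
      have hpow : ∀ n : ℕ, a ^ n • c i = c (f^[n] i) := by
        intro n
        induction n with
        | zero => simp
        | succ n ih => rw [pow_succ', mul_smul, ih, hf, Function.iterate_succ_apply']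
      obtain ⟨m, n, hmn, hEq⟩ : ∃ m n : ℕ, m < n ∧ f^[m] i = f^[n] i := by
        obtain ⟨m, n, hne, he⟩ := Finite.exists_ne_map_eq_of_infinite (fun n : ℕ => f^[n] i)
        rcases lt_or_gt_of_ne hne with h | h
        · exact ⟨m, n, h, he⟩
        · exact ⟨n, m, h, he.symm⟩
      have h1 : a ^ m • c i = a ^ n • c i := by rw [hpow, hpow, hEq]
      obtain ⟨d, rfl⟩ : ∃ d, n = m + (d + 1) := ⟨n - m - 1, by omega⟩
      have h2 : c i = a ^ (d + 1) • c i := by
        rw [pow_add, mul_smul] at h1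
        exact smul_left_cancel _ h1
      refine ⟨f^[d] i, ?_⟩
      rw [← hpow, inv_smul_eq_iff, ← mul_smul, ← pow_succ']
      exact h2
  have hsurj : Function.Surjective c := by
    intro ξ
    induction ξ using QuotientGroup.induction_on with | H g => ?_
    obtain ⟨j, hj⟩ := key g 0
    refine ⟨j, ?_⟩
    rw [← hj, hc0, MulAction.Quotient.smul_coe, smul_eq_mul, mul_one]
  have hfin : Finite (P ⧸ H) := Finite.of_surjective c hsurj
  have hidx : H.index ≤ 12 := by
    have := Nat.card_le_card_of_surjective c hsurj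
    simpa [Subgroup.index] using this
  have hidx0 : 0 < H.index := Nat.pos_of_ne_zero (Subgroup.index_ne_zero_of_finite)
  have hH : Nat.card H = orderOf y := Nat.card_zpowers y
  have hord : orderOf y ∣ 5 := orderOf_dvd_of_pow_eq_one hy
  have hord5 : orderOf y ≤ 5 := Nat.le_of_dvd (by norm_num) hord
  have hord0 : 0 < orderOf y := Nat.pos_of_dvd_of_pos hord (by norm_num)
  have hmul := H.card_mul_index
  rw [hH] at hmul
  constructor
  · rw [← hmul]; positivity
  · rw [← hmul]; nlinarith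

def pa : alternatingGroup (Fin 5) := ⟨Equiv.swap 2 3 * Equiv.swap 3 4, by rw [Equiv.Perm.mem_alternatingGroup]; decide⟩
def pb : alternatingGroup (Fin 5) :=
  ⟨Equiv.swap 0 2 * Equiv.swap 2 4 * Equiv.swap 4 1 * Equiv.swap 1 3, by
    rw [Equiv.Perm.mem_alternatingGroup]; decide⟩

theorem pa3 : pa ^ 3 = 1 := by decide
theorem pb5 : pb ^ 5 = 1 := by decide
theorem pab2 : (pa * pb) ^ 2 = 1 := by decide

/-- The alternating group of degree 5 has the presentation ⟨x, y | x³ = 1, y⁵ = 1, (xy)² = 1⟩: the group so presented is isomorphic to Alt(5). -/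
theorem result :
    Nonempty (PresentedGroup ({FreeGroup.of (0 : Fin 2) ^ 3, FreeGroup.of (1 : Fin 2) ^ 5,
        (FreeGroup.of (0 : Fin 2) * FreeGroup.of 1) ^ 2} : Set (FreeGroup (Fin 2))) ≃* alternatingGroup (Fin 5)) := by
  set rels : Set (FreeGroup (Fin 2)) := {FreeGroup.of (0 : Fin 2) ^ 3, FreeGroup.of (1 : Fin 2) ^ 5,
        (FreeGroup.of (0 : Fin 2) * FreeGroup.of 1) ^ 2} with hrels
  let x : PresentedGroup rels := PresentedGroup.of 0
  let y : PresentedGroup rels := PresentedGroup.of 1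
  have hx : x ^ 3 = 1 := by
    have : PresentedGroup.mk rels (FreeGroup.of (0 : Fin 2) ^ 3) = 1 :=
      PresentedGroup.one_of_mem (by simp [hrels])
    rw [map_pow] at this
    exact this
  have hy : y ^ 5 = 1 := by
    have : PresentedGroup.mk rels (FreeGroup.of (1 : Fin 2) ^ 5) = 1 :=
      PresentedGroup.one_of_mem (by simp [hrels])
    rw [map_pow] at this
    exact this
  have hxy : (x * y) ^ 2 = 1 := by
    have : PresentedGroup.mk rels ((FreeGroup.of (0 : Fin 2) * FreeGroup.of 1) ^ 2) = 1 :=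
      PresentedGroup.one_of_mem (by simp [hrels])
    rw [map_pow, map_mul] at this
    exact this
  have hgen : Subgroup.closure {x, y} = ⊤ := by
    rw [← PresentedGroup.closure_range_of rels]
    congr 1
    ext z
    simp only [Set.mem_insert_iff, Set.mem_singleton_iff, Set.mem_range]
    constructor
    · rintro (rfl | rfl)
      · exact ⟨0, rfl⟩
      · exact ⟨1, rfl⟩
    · rintro ⟨i, rfl⟩
      fin_cases i
      · left; rfl
      · right; rfl
  obtain ⟨hpos, hle⟩ := card_le x y hgen hx hy hxy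
  have hfin : Finite (PresentedGroup rels) := Nat.finite_of_card_ne_zero hpos.ne'
  let f0 : Fin 2 → alternatingGroup (Fin 5) := ![pa, pb]
  have hf0 : ∀ r ∈ rels, FreeGroup.lift f0 r = 1 := by
    intro r hr
    simp only [hrels, Set.mem_insert_iff, Set.mem_singleton_iff] at hr
    rcases hr with rfl | rfl | rfl
    · simpa [f0] using pa3
    · simpa [f0] using pb5
    · simpa [f0] using pab2
  let f : PresentedGroup rels →* alternatingGroup (Fin 5) := PresentedGroup.toGroup hf0
  have hfx : f x = pa := PresentedGroup.toGroup.of hf0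
  have hfy : f y = pb := PresentedGroup.toGroup.of hf0
  have hcardA : Nat.card (alternatingGroup (Fin 5)) = 60 := by
    rw [nat_card_alternatingGroup, Nat.card_fin]; rfl
  have hsurj : Function.Surjective f := by
    rw [← MonoidHom.range_eq_top]
    have ha : pa ∈ f.range := ⟨x, hfx⟩
    have hb : pb ∈ f.range := ⟨y, hfy⟩
    have : Fact (Nat.Prime 5) := ⟨by norm_num⟩
    have o3 : orderOf pa = 3 := orderOf_eq_prime pa3 (by decide)
    have o5 : orderOf pb = 5 := orderOf_eq_prime pb5 (by decide)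
    have o2 : orderOf (pa * pb) = 2 := orderOf_eq_prime pab2 (by decide)
    have d3 : 3 ∣ Nat.card f.range := by
      have := Subgroup.orderOf_dvd_natCard _ ha; rwa [o3] at this
    have d5 : 5 ∣ Nat.card f.range := by
      have := Subgroup.orderOf_dvd_natCard _ hb; rwa [o5] at this
    have d2 : 2 ∣ Nat.card f.range := by
      have := Subgroup.orderOf_dvd_natCard _ (f.range.mul_mem ha hb); rwa [o2] at this
    have d30 : 30 ∣ Nat.card f.range := by
      have h6 : 6 ∣ Nat.card f.range :=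
        (Nat.Coprime.mul_dvd_of_dvd_of_dvd (by norm_num : Nat.Coprime 2 3) d2 d3)
      exact (Nat.Coprime.mul_dvd_of_dvd_of_dvd (by norm_num : Nat.Coprime 6 5) h6 d5)
    have hmul := f.range.card_mul_index
    rw [hcardA] at hmul
    obtain ⟨k, hk⟩ := d30
    have hidx : f.range.index = 1 ∨ f.range.index = 2 := by
      rw [hk] at hmul
      have h2 : k * f.range.index = 2 := by nlinarith
      have : f.range.index ∣ 2 := ⟨k, by linarith [mul_comm k f.range.index]⟩
      rcases (Nat.dvd_prime Nat.prime_two).1 this with h | h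
      · left; exact h
      · right; exact h
    rcases hidx with h | h
    · exact Subgroup.index_eq_one.1 h
    · have hn : f.range.Normal := Subgroup.normal_of_index_eq_two h
      have : IsSimpleGroup (alternatingGroup (Fin 5)) := alternatingGroup.isSimpleGroup (by simp)
      rcases hn.eq_bot_or_eq_top with hb' | ht
      · exfalso
        rw [hb'] at ha
        have : pa = 1 := Subgroup.mem_bot.1 ha
        exact absurd this (by decide)
      · exact ht
  have hbij : Function.Bijective f := by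
    refine (Nat.bijective_iff_surjective_and_card f).2 ⟨hsurj, ?_⟩
    have h1 := Nat.card_le_card_of_surjective f hsurj
    rw [hcardA] at h1 ⊢
    omega
  exact ⟨MulEquiv.ofBijective f hbij⟩

end Cfsg.Agent.S3377
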