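import Cfsg.Statements.S3378
import Cfsg.Agent.S3377
import Cfsg.Agent.S0493
import Cfsg.Agent.S0494
import Cfsg.Agent.Lib.Helper7.SL2

set_option autoImplicit false
open Cfsg

namespace Cfsg.Agent.S3378

/-- order bound for a group satisfying the binary icosahedral relations -/
theorem card_le {P : Type*} [Group P] (x y z : P) (hgen : Subgroup.closure {x, y, z} = ⊤)
    (hx : x ^ 3 = 1) (hy : y ^ 5 = 1) (hz : z ^ 2 = 1) (hzx : z * x = x * z) (hzy : z * y = y * z)
    (hxy : (x * y) ^ 2 = z) : 0 < Nat.card P ∧ Nat.card P ≤ 120 := by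
  have hcen : ∀ g : P, g * z = z * g := by
    intro g
    have hg : g ∈ Subgroup.closure {x, y, z} := by rw [hgen]; trivial
    have hle : Subgroup.closure {x, y, z} ≤ Subgroup.centralizer {z} := by
      rw [Subgroup.closure_le]
      rintro a (rfl | rfl | rfl)
      · exact Subgroup.mem_centralizer_singleton_iff.2 hzx.symm
      · exact Subgroup.mem_centralizer_singleton_iff.2 hzy.symm
      · exact Subgroup.mem_centralizer_singleton_iff.2 rfl
    exact Subgroup.mem_centralizer_singleton_iff.1 (hle hg)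
  let Z : Subgroup P := Subgroup.zpowers z
  have hZn : Z.Normal := by
    constructor
    rintro n ⟨k, rfl⟩ g
    have h1 : Commute g z := hcen g
    have : g * z ^ k * g⁻¹ = z ^ k := by
      rw [(h1.zpow_right k).eq, mul_assoc, mul_inv_cancel, mul_one]
    rw [this]; exact ⟨k, rfl⟩
  have hzZ : z ∈ Z := Subgroup.mem_zpowers z
  have hgen' : Subgroup.closure {(QuotientGroup.mk x : P ⧸ Z), (QuotientGroup.mk y : P ⧸ Z)} = ⊤ := by
    rw [eq_top_iff]
    intro ξ _
    induction ξ using QuotientGroup.induction_on with | H g => ?_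
    have hg : g ∈ Subgroup.closure {x, y, z} := by rw [hgen]; trivial
    have hle : Subgroup.closure {x, y, z} ≤ (Subgroup.closure
        {(QuotientGroup.mk x : P ⧸ Z), (QuotientGroup.mk y : P ⧸ Z)}).comap (QuotientGroup.mk' Z) := by
      rw [Subgroup.closure_le]
      rintro a (rfl | rfl | rfl)
      · exact Subgroup.subset_closure (by simp)
      · exact Subgroup.subset_closure (by simp)
      · have : (QuotientGroup.mk' Z) a = 1 := (QuotientGroup.eq_one_iff a).2 hzZ
        rw [SetLike.mem_coe, Subgroup.mem_comap, this]; exact Subgroup.one_mem _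
    exact hle hg
  obtain ⟨h0, h60⟩ := Cfsg.Agent.S3377.card_le (QuotientGroup.mk x : P ⧸ Z) (QuotientGroup.mk y) hgen'
    (by rw [← QuotientGroup.mk_pow, hx]; rfl) (by rw [← QuotientGroup.mk_pow, hy]; rfl)
    (by rw [← QuotientGroup.mk_mul, ← QuotientGroup.mk_pow, hxy]; exact (QuotientGroup.eq_one_iff z).2 hzZ)
  have hmul := Subgroup.card_eq_card_quotient_mul_card_subgroup Z
  have hZc : Nat.card Z = orderOf z := Nat.card_zpowers z
  have hord : orderOf z ∣ 2 := orderOf_dvd_of_pow_eq_one hz
  have hord2 : orderOf z ≤ 2 := Nat.le_of_dvd (by norm_num) hord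
  have hord0 : 0 < orderOf z := Nat.pos_of_dvd_of_pos hord (by norm_num)
  rw [hZc] at hmul
  constructor
  · rw [hmul]; positivity
  · rw [hmul]; nlinarith

/-- the relators -/
def rels : Set (FreeGroup (Fin 3)) :=
  {FreeGroup.of (0 : Fin 3) ^ 3, FreeGroup.of (1 : Fin 3) ^ 5, FreeGroup.of (2 : Fin 3) ^ 2,
        (FreeGroup.of (2 : Fin 3))⁻¹ * FreeGroup.of 0 * FreeGroup.of 2 * (FreeGroup.of (0 : Fin 3))⁻¹,
        (FreeGroup.of (2 : Fin 3))⁻¹ * FreeGroup.of 1 * FreeGroup.of 2 * (FreeGroup.of (1 : Fin 3))⁻¹,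
        (FreeGroup.of (0 : Fin 3) * FreeGroup.of 1) ^ 2 * (FreeGroup.of (2 : Fin 3))⁻¹}

theorem pres_card : 0 < Nat.card (PresentedGroup rels) ∧ Nat.card (PresentedGroup rels) ≤ 120 := by
  let x : PresentedGroup rels := PresentedGroup.of 0
  let y : PresentedGroup rels := PresentedGroup.of 1
  let z : PresentedGroup rels := PresentedGroup.of 2
  have hx : x ^ 3 = 1 := by
    have : PresentedGroup.mk rels (FreeGroup.of (0 : Fin 3) ^ 3) = 1 :=
      PresentedGroup.one_of_mem (by simp [rels])
    rw [map_pow] at this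
    exact this
  have hy : y ^ 5 = 1 := by
    have : PresentedGroup.mk rels (FreeGroup.of (1 : Fin 3) ^ 5) = 1 :=
      PresentedGroup.one_of_mem (by simp [rels])
    rw [map_pow] at this
    exact this
  have hz : z ^ 2 = 1 := by
    have : PresentedGroup.mk rels (FreeGroup.of (2 : Fin 3) ^ 2) = 1 :=
      PresentedGroup.one_of_mem (by simp [rels])
    rw [map_pow] at this
    exact this
  have hzx : z⁻¹ * x * z * x⁻¹ = 1 := by
    have : PresentedGroup.mk rels ((FreeGroup.of (2 : Fin 3))⁻¹ * FreeGroup.of 0 * FreeGroup.of 2 *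
        (FreeGroup.of (0 : Fin 3))⁻¹) = 1 :=
      PresentedGroup.one_of_mem (by simp [rels])
    rw [map_mul, map_mul, map_mul, map_inv, map_inv] at this
    exact this
  have hzy : z⁻¹ * y * z * y⁻¹ = 1 := by
    have : PresentedGroup.mk rels ((FreeGroup.of (2 : Fin 3))⁻¹ * FreeGroup.of 1 * FreeGroup.of 2 *
        (FreeGroup.of (1 : Fin 3))⁻¹) = 1 :=
      PresentedGroup.one_of_mem (by simp [rels])
    rw [map_mul, map_mul, map_mul, map_inv, map_inv] at this
    exact this
  have hxy : (x * y) ^ 2 * z⁻¹ = 1 := by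
    have : PresentedGroup.mk rels ((FreeGroup.of (0 : Fin 3) * FreeGroup.of 1) ^ 2 *
        (FreeGroup.of (2 : Fin 3))⁻¹) = 1 :=
      PresentedGroup.one_of_mem (by simp [rels])
    rw [map_mul, map_pow, map_mul, map_inv] at this
    exact this
  have hgen : Subgroup.closure {x, y, z} = ⊤ := by
    rw [← PresentedGroup.closure_range_of rels]
    congr 1
    ext w
    simp only [Set.mem_insert_iff, Set.mem_singleton_iff, Set.mem_range]
    constructor
    · rintro (rfl | rfl | rfl)
      · exact ⟨0, rfl⟩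
      · exact ⟨1, rfl⟩
      · exact ⟨2, rfl⟩
    · rintro ⟨i, rfl⟩
      fin_cases i
      · left; rfl
      · right; left; rfl
      · right; right; rfl
  refine card_le x y z hgen hx hy hz ?_ ?_ ?_
  · have := mul_inv_eq_one.1 hzx
    calc z * x = z * (z⁻¹ * x * z) := by rw [this]
      _ = x * z := by group
  · have := mul_inv_eq_one.1 hzy
    calc z * y = z * (z⁻¹ * y * z) := by rw [this]
      _ = y * z := by group
  · exact mul_inv_eq_one.1 hxy

/-- recognition: a group of order 120 generated by elements satisfying the relations -/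
theorem recog {G : Type*} [Group G] [Finite G] (hG : Nat.card G = 120) (x y z : G)
    (hgen : Subgroup.closure {x, y, z} = ⊤)
    (hx : x ^ 3 = 1) (hy : y ^ 5 = 1) (hz : z ^ 2 = 1) (hzx : z * x = x * z) (hzy : z * y = y * z)
    (hxy : (x * y) ^ 2 = z) : Nonempty (PresentedGroup rels ≃* G) := by
  obtain ⟨hpos, hle⟩ := pres_card
  have hfin : Finite (PresentedGroup rels) := Nat.finite_of_card_ne_zero hpos.ne'
  let f0 : Fin 3 → G := ![x, y, z]
  have hf0 : ∀ r ∈ rels, FreeGroup.lift f0 r = 1 := by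
    intro r hr
    simp only [rels, Set.mem_insert_iff, Set.mem_singleton_iff] at hr
    rcases hr with rfl | rfl | rfl | rfl | rfl | rfl
    · simpa [f0] using hx
    · simpa [f0] using hy
    · simpa [f0] using hz
    · simp only [map_mul, map_inv, FreeGroup.lift_apply_of, f0]
      show z⁻¹ * x * z * x⁻¹ = 1
      rw [mul_assoc z⁻¹, ← hzx]; group
    · simp only [map_mul, map_inv, FreeGroup.lift_apply_of, f0]
      show z⁻¹ * y * z * y⁻¹ = 1
      rw [mul_assoc z⁻¹, ← hzy]; group
    · simp only [map_mul, map_inv, map_pow, FreeGroup.lift_apply_of, f0]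
      show (x * y) ^ 2 * z⁻¹ = 1
      rw [hxy]; group
  let f : PresentedGroup rels →* G := PresentedGroup.toGroup hf0
  have hfx : f (PresentedGroup.of 0) = x := PresentedGroup.toGroup.of hf0
  have hfy : f (PresentedGroup.of 1) = y := PresentedGroup.toGroup.of hf0
  have hfz : f (PresentedGroup.of 2) = z := PresentedGroup.toGroup.of hf0
  have hsurj : Function.Surjective f := by
    rw [← MonoidHom.range_eq_top, eq_top_iff, ← hgen, Subgroup.closure_le]
    rintro a (rfl | rfl | rfl)
    · exact ⟨_, hfx⟩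
    · exact ⟨_, hfy⟩
    · exact ⟨_, hfz⟩
  have hbij : Function.Bijective f := by
    refine (Nat.bijective_iff_surjective_and_card f).2 ⟨hsurj, ?_⟩
    have h1 := Nat.card_le_card_of_surjective f hsurj
    rw [hG] at h1 ⊢
    omega
  exact ⟨MulEquiv.ofBijective f hbij⟩

section SL
open Matrix Cfsg.Agent.Lib.Helper7

instance fact5 : Fact (Nat.Prime 5) := ⟨by norm_num⟩

abbrev S5 := SpecialLinearGroup (Fin 2) (ZMod 5)
def mX : S5 := ⟨!![0, -1; 1, -1], by decide⟩
def mY : S5 := ⟨!![1, 1; 0, 1], by decide⟩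
def mZ : S5 := ⟨!![-1, 0; 0, -1], by decide⟩

theorem mX3 : mX ^ 3 = 1 := by decide
theorem mY5 : mY ^ 5 = 1 := by decide
theorem mZ2 : mZ ^ 2 = 1 := by decide
theorem mXY : (mX * mY) ^ 2 = mZ := by decide
theorem mZX : mZ * mX = mX * mZ := by decide
theorem mZY : mZ * mY = mY * mZ := by decide
theorem hu : ∀ b : ZMod 5, (⟨!![1, b; 0, 1], by simp [det_fin_two]⟩ : S5) = mY ^ b.val := by decide
theorem hl : ∀ b : ZMod 5, (⟨!![1, 0; b, 1], by simp [det_fin_two]⟩ : S5)
    = ((mX * mY) * mY * (mX * mY)⁻¹) ^ (-b).val := by decide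

theorem sl_iso : Nonempty (PresentedGroup rels ≃* S5) := by
  have hcard : Nat.card S5 = 120 := by
    rw [card_SL2, ZMod.card]; norm_num
  refine recog hcard mX mY mZ ?_ mX3 mY5 mZ2 mZX mZY mXY
  have hX : mX ∈ Subgroup.closure {mX, mY, mZ} := Subgroup.subset_closure (by simp)
  have hY : mY ∈ Subgroup.closure {mX, mY, mZ} := Subgroup.subset_closure (by simp)
  apply eq_top_of_uSL_lSL
  · intro b
    have : uSL b = mY ^ b.val := hu b
    rw [this]
    exact Subgroup.pow_mem _ hY _
  · intro b
    have : lSL b = ((mX * mY) * mY * (mX * mY)⁻¹) ^ (-b).val := hl b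
    rw [this]
    have hW := Subgroup.mul_mem _ hX hY
    exact Subgroup.pow_mem _ (Subgroup.mul_mem _ (Subgroup.mul_mem _ hW hY) (Subgroup.inv_mem _ hW)) _

end SL

universe u

theorem solvable_of_lt : ∀ (n : ℕ) (G : Type u) [Group G] [Finite G], Nat.card G = n → n < 60 →
    Group.IsSolvable G := by
  intro n
  induction n using Nat.strong_induction_on with
  | _ n ih =>
    intro G _ _ hn hlt
    by_cases hs : IsSimpleGroup G
    · by_cases hc : IsCyclic G
      · let _ : CommGroup G := IsCyclic.commGroup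
        infer_instance
      · have := Cfsg.Agent.S0493.result hc (by omega)
        omega
    · by_cases ht : Subsingleton G
      · infer_instance
      · have hnt : Nontrivial G := not_subsingleton_iff_nontrivial.1 ht
        have : ∃ N : Subgroup G, N.Normal ∧ N ≠ ⊥ ∧ N ≠ ⊤ := by
          by_contra hcon
          push Not at hcon
          exact hs ⟨fun N hN => by
            by_cases h : N = ⊥
            · left; exact h
            · right; exact hcon N hN h⟩
        obtain ⟨N, hN, hb, htop⟩ := this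
        have hmul := N.card_mul_index
        have h1 : 1 < Nat.card N := (Subgroup.one_lt_card_iff_ne_bot N).2 hb
        have h2 : N.index ≠ 1 := fun h => htop (Subgroup.index_eq_one.1 h)
        have h3 : N.index ≠ 0 := Subgroup.index_ne_zero_of_finite
        have h6 : 2 ≤ N.index := by omega
        have h4 : Nat.card N < n := by rw [← hn, ← hmul]; nlinarith
        have h5 : N.index < n := by rw [← hn, ← hmul]; nlinarith [Nat.pos_of_ne_zero h3]
        have s1 : Group.IsSolvable N := ih _ h4 N rfl (by omega)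
        have s2 : Group.IsSolvable (G ⧸ N) := ih _ h5 (G ⧸ N) rfl (by omega)
        exact (Group.isSolvable_iff_subgroup_quotient N).2 ⟨s1, s2⟩

theorem normal_dichotomy {G : Type u} [Group G] [Finite G] (hns : ¬ Group.IsSolvable G)
    (N : Subgroup G) (hN : N.Normal) : 60 ≤ Nat.card N ∨ 60 ≤ N.index := by
  by_contra hcon
  push Not at hcon
  exact hns ((Group.isSolvable_iff_subgroup_quotient N).2
    ⟨solvable_of_lt _ N rfl hcon.1, solvable_of_lt _ (G ⧸ N) rfl hcon.2⟩)

open Cfsg.Agent.S3377 (pa pb pa3 pb5 pab2)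

theorem gen_A5 (H : Subgroup (alternatingGroup (Fin 5))) (ha : pa ∈ H) (hb : pb ∈ H) : H = ⊤ := by
  have hcardA : Nat.card (alternatingGroup (Fin 5)) = 60 := by
    rw [nat_card_alternatingGroup, Nat.card_fin]; rfl
  have o3 : orderOf pa = 3 := orderOf_eq_prime pa3 (by decide)
  have o5 : orderOf pb = 5 := orderOf_eq_prime pb5 (by decide)
  have o2 : orderOf (pa * pb) = 2 := orderOf_eq_prime pab2 (by decide)
  have d3 : 3 ∣ Nat.card H := by
    have := Subgroup.orderOf_dvd_natCard _ ha; rwa [o3] at this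
  have d5 : 5 ∣ Nat.card H := by
    have := Subgroup.orderOf_dvd_natCard _ hb; rwa [o5] at this
  have d2 : 2 ∣ Nat.card H := by
    have := Subgroup.orderOf_dvd_natCard _ (H.mul_mem ha hb); rwa [o2] at this
  have d30 : 30 ∣ Nat.card H := by
    have h6 : 6 ∣ Nat.card H :=
      (Nat.Coprime.mul_dvd_of_dvd_of_dvd (by norm_num : Nat.Coprime 2 3) d2 d3)
    exact (Nat.Coprime.mul_dvd_of_dvd_of_dvd (by norm_num : Nat.Coprime 6 5) h6 d5)
  have hmul := H.card_mul_index
  rw [hcardA] at hmul
  obtain ⟨k, hk⟩ := d30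
  have hidx : H.index = 1 ∨ H.index = 2 := by
    rw [hk] at hmul
    have h2 : k * H.index = 2 := by nlinarith
    have : H.index ∣ 2 := ⟨k, by linarith [mul_comm k H.index]⟩
    rcases (Nat.dvd_prime Nat.prime_two).1 this with h | h
    · left; exact h
    · right; exact h
  rcases hidx with h | h
  · exact Subgroup.index_eq_one.1 h
  · have hn : H.Normal := Subgroup.normal_of_index_eq_two h
    have : IsSimpleGroup (alternatingGroup (Fin 5)) := alternatingGroup.isSimpleGroup (by simp)
    rcases hn.eq_bot_or_eq_top with hb' | ht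
    · exfalso
      rw [hb'] at ha
      have : pa = 1 := Subgroup.mem_bot.1 ha
      exact absurd this (by decide)
    · exact ht

theorem q8_inv : ∀ g : QuaternionGroup 2, g ^ 2 = 1 → g ≠ 1 → g = QuaternionGroup.a 2 := by decide

theorem sylow_card {G : Type*} [Group G] [Finite G] (p k m : ℕ) [hp : Fact p.Prime]
    (hcard : Nat.card G = p ^ k * m) (hm : ¬ p ∣ m) (P : Sylow p G) : Nat.card P = p ^ k := by
  have hm0 : m ≠ 0 := by rintro rfl; exact hm (dvd_zero p)
  rw [P.card_eq_multiplicity, hcard, Nat.factorization_mul (pow_ne_zero _ hp.1.ne_zero) hm0]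
  simp [hp.1.factorization_self, Nat.factorization_eq_zero_of_not_dvd hm]

open scoped Pointwise in
theorem part1 (G : Type u) [Group G] [Finite G] (hG : Nat.card G = 120)
    (hns : ¬ Group.IsSolvable G)
    (hQ : ∀ P : Sylow 2 G, Nonempty ((P : Subgroup G) ≃* QuaternionGroup 2)) :
    Nonempty (PresentedGroup rels ≃* G) := by
  have : Fact (Nat.Prime 2) := ⟨Nat.prime_two⟩
  have hN1 := fun N hN => normal_dichotomy hns N hN
  obtain ⟨P5⟩ : Nonempty (Sylow 5 G) := inferInstance
  have hP5 : Nat.card P5 = 5 := by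
    have := sylow_card 5 1 24 (by rw [hG]; norm_num) (by norm_num) P5
    simpa using this
  have hP5i : (P5 : Subgroup G).index = 24 := by
    have := (P5 : Subgroup G).card_mul_index
    rw [hP5, hG] at this; omega
  have hn5 : Nat.card (Sylow 5 G) = 6 := by
    have h1 : Nat.card (Sylow 5 G) ≡ 1 [MOD 5] := card_sylow_modEq_one 5 G
    have h2 : Nat.card (Sylow 5 G) ∣ 24 := by rw [← hP5i]; exact P5.card_dvd_index
    have h3 : Nat.card (Sylow 5 G) ≠ 1 := by
      intro h
      have hsub : Subsingleton (Sylow 5 G) := (Nat.card_eq_one_iff_unique.1 h).1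
      have hn : (P5 : Subgroup G).Normal := P5.normal_of_subsingleton
      rcases hN1 _ hn with h | h
      · rw [hP5] at h; omega
      · omega
    have hle := Nat.le_of_dvd (by norm_num) h2
    have hmod : Nat.card (Sylow 5 G) % 5 = 1 := h1
    generalize Nat.card (Sylow 5 G) = n at *
    interval_cases n <;> omega
  let K : Subgroup G := (MulAction.toPermHom G (Sylow 5 G)).ker
  have hKn : K.Normal := inferInstance
  have hKmem : ∀ g : G, g ∈ K ↔ ∀ P : Sylow 5 G, g • P = P := by
    intro g
    rw [MonoidHom.mem_ker]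
    constructor
    · intro h P
      have := congrArg (fun σ => σ P) h
      simpa using this
    · intro h
      exact Equiv.Perm.ext fun P => h P
  have h6 : 6 ∣ K.index := by
    rw [← hn5, P5.card_eq_index_normalizer]
    apply Subgroup.index_dvd_of_le
    intro k hk
    exact Sylow.smul_eq_iff_mem_normalizer.1 ((hKmem k).1 hk P5)
  have hKmul := K.card_mul_index
  have hK12 : Nat.card K = 1 ∨ Nat.card K = 2 := by
    rw [hG] at hKmul
    obtain ⟨c, hc⟩ := h6
    rcases hN1 K hKn with h | h
    · exfalso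
      rw [hc] at hKmul
      have : c ≠ 0 := by rintro rfl; simp at hKmul
      nlinarith [Nat.pos_of_ne_zero this]
    · have h0 : Nat.card K ≠ 0 := Nat.card_pos.ne'
      by_contra hcon
      push Not at hcon
      have : 3 ≤ Nat.card K := by omega
      nlinarith
  obtain ⟨S⟩ : Nonempty (Sylow 2 G) := inferInstance
  obtain ⟨e⟩ := hQ S
  have hS8 : Nat.card S = 8 := by
    simpa using sylow_card 2 3 15 (by rw [hG]; norm_num) (by norm_num) S
  let zS : S := e.symm (QuaternionGroup.a 2)
  have huS : ∀ s : S, s ^ 2 = 1 → s ≠ 1 → s = zS := by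
    intro s h1 h2
    have := q8_inv (e s) (by rw [← map_pow, h1, map_one]) (fun h => h2 (by simpa using h))
    show s = e.symm (QuaternionGroup.a 2)
    rw [← this]; simp
  have hzS2 : zS ^ 2 = 1 := by
    show (e.symm (QuaternionGroup.a 2)) ^ 2 = 1
    rw [← map_pow]
    have : (QuaternionGroup.a 2 : QuaternionGroup 2) ^ 2 = 1 := by decide
    rw [this, map_one]
  have hzS1 : zS ≠ 1 := by
    intro h
    have : QuaternionGroup.a 2 = (1 : QuaternionGroup 2) := by simpa [zS] using h
    exact absurd this (by decide)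
  let z : G := (zS : G)
  have hzK : z ∈ K := by
    rw [hKmem]; intro P
    let T : Subgroup S := MulAction.stabilizer S P
    have hidx : T.index ≤ 6 := by
      rw [MulAction.index_stabilizer, ← hn5]; exact Set.ncard_le_card _
    have hmul := T.card_mul_index
    rw [hS8] at hmul
    have hT1 : Nat.card T ≠ 1 := by intro h; rw [h] at hmul; omega
    obtain ⟨j, hj⟩ := IsPGroup.iff_card.1 ((S.isPGroup').to_subgroup T)
    have h2 : 2 ∣ Nat.card T := by
      rw [hj]; exact dvd_pow_self 2 (by rintro rfl; exact hT1 (by simpa using hj))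
    obtain ⟨t, ht⟩ := exists_prime_orderOf_dvd_card' 2 h2
    have ht2 : (t : S) ^ 2 = 1 := by
      have := pow_orderOf_eq_one t
      rw [ht] at this
      exact_mod_cast congrArg Subtype.val this
    have ht1 : (t : S) ≠ 1 := by
      intro h
      have : t = 1 := Subtype.ext h
      rw [this] at ht; simp at ht
    have := huS t ht2 ht1
    have hfix : (t : S) • P = P := t.2
    rw [this] at hfix
    exact hfix
  have hz1 : z ≠ 1 := fun h => hzS1 (Subtype.ext h)
  have hz2 : z ^ 2 = 1 := by
    have := congrArg Subtype.val hzS2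
    simpa using this
  have hK2 : Nat.card K = 2 := by
    rcases hK12 with h | h
    · exfalso
      have := Subgroup.eq_bot_of_card_eq K h
      rw [this] at hzK
      exact hz1 (Subgroup.mem_bot.1 hzK)
    · exact h
  have hKz : ∀ k ∈ K, k = 1 ∨ k = z := by
    intro k hk
    by_cases hk1 : k = 1
    · left; exact hk1
    · right
      obtain ⟨y, -, hy⟩ := (Nat.card_eq_two_iff' (1 : K)).1 hK2
      have a1 := hy ⟨k, hk⟩ (fun h => hk1 (congrArg Subtype.val h))
      have a2 := hy ⟨z, hzK⟩ (fun h => hz1 (congrArg Subtype.val h))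
      exact congrArg Subtype.val (a1.trans a2.symm)
  have hzc : ∀ g : G, g * z * g⁻¹ = z := by
    intro g
    rcases hKz _ (hKn.conj_mem z hzK g) with h | h
    · exfalso; apply hz1
      have := congrArg (fun w => g⁻¹ * w * g) h
      simpa [mul_assoc] using this
    · exact h
  have hinv : ∀ t : G, t ^ 2 = 1 → t ≠ 1 → t = z := by
    intro t ht2 ht1
    have hto : orderOf t = 2 := orderOf_eq_prime ht2 ht1
    have hp : IsPGroup 2 (Subgroup.zpowers t) :=
      IsPGroup.of_card (n := 1) (by rw [Nat.card_zpowers, hto, pow_one])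
    obtain ⟨S', hS'⟩ := hp.exists_le_sylow
    have htS : t ∈ S' := hS' (Subgroup.mem_zpowers t)
    obtain ⟨g, hg⟩ := MulAction.exists_smul_eq G S S'
    have hzS' : z ∈ S' := by
      have h1 : MulAut.conj g • z ∈ MulAut.conj g • (S : Subgroup G) :=
        Subgroup.smul_mem_pointwise_smul _ _ _ zS.2
      rw [← Sylow.coe_subgroup_smul, hg] at h1
      have h2 : MulAut.conj g • z = z := hzc g
      rw [h2] at h1
      exact h1
    obtain ⟨e'⟩ := hQ S'
    have a1 := q8_inv (e' ⟨t, htS⟩)
      (by rw [← map_pow]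
          have : (⟨t, htS⟩ : (S' : Subgroup G)) ^ 2 = 1 := Subtype.ext ht2
          rw [this, map_one])
      (fun h => ht1 (by
        have : (⟨t, htS⟩ : (S' : Subgroup G)) = 1 := by simpa using h
        exact congrArg Subtype.val this))
    have a2 := q8_inv (e' ⟨z, hzS'⟩)
      (by rw [← map_pow]
          have : (⟨z, hzS'⟩ : (S' : Subgroup G)) ^ 2 = 1 := Subtype.ext hz2
          rw [this, map_one])
      (fun h => hz1 (by
        have : (⟨z, hzS'⟩ : (S' : Subgroup G)) = 1 := by simpa using h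
        exact congrArg Subtype.val this))
    have := e'.injective (a1.trans a2.symm)
    exact congrArg Subtype.val this
  have hQ60 : Nat.card (G ⧸ K) = 60 := by
    have : K.index = 60 := by rw [hK2, hG] at hKmul; omega
    exact this
  have hnsQ : ¬ Group.IsSolvable (G ⧸ K) := fun h =>
    hns ((Group.isSolvable_iff_subgroup_quotient K).2
      ⟨solvable_of_lt _ K rfl (by rw [hK2]; norm_num), h⟩)
  have hsimple : IsSimpleGroup (G ⧸ K) := by
    have hnt : Nontrivial (G ⧸ K) := Finite.one_lt_card_iff_nontrivial.1 (by rw [hQ60]; norm_num)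
    refine ⟨fun N hN => ?_⟩
    by_contra hcon
    push Not at hcon
    have hmul := N.card_mul_index
    rw [hQ60] at hmul
    have h1 : 1 < Nat.card N := (Subgroup.one_lt_card_iff_ne_bot N).2 hcon.1
    have h2 : N.index ≠ 1 := fun h => hcon.2 (Subgroup.index_eq_one.1 h)
    have h3 : N.index ≠ 0 := Subgroup.index_ne_zero_of_finite
    have h4 : 2 ≤ N.index := by omega
    rcases normal_dichotomy hnsQ N hN with h | h
    · nlinarith
    · nlinarith
  obtain ⟨eA⟩ := Cfsg.Agent.S0494.result (G := G ⧸ K) hQ60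
  let ψ : G →* alternatingGroup (Fin 5) := eA.toMonoidHom.comp (QuotientGroup.mk' K)
  have hψs : Function.Surjective ψ := eA.surjective.comp (QuotientGroup.mk'_surjective K)
  have hψk : ∀ g, ψ g = 1 → g = 1 ∨ g = z := by
    intro g hg
    apply hKz
    have : (QuotientGroup.mk' K) g = 1 := by
      apply eA.injective; rw [map_one]; exact hg
    exact (QuotientGroup.eq_one_iff g).1 this
  have hψz : ψ z = 1 := by
    show eA (QuotientGroup.mk' K z) = 1
    have : (QuotientGroup.mk' K) z = 1 := (QuotientGroup.eq_one_iff z).2 hzK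
    rw [this, map_one]
  obtain ⟨a0, ha0⟩ := hψs pa
  obtain ⟨b0, hb0⟩ := hψs pb
  have sq : ∀ g, ψ g = 1 → g ^ 2 = 1 := by
    intro g hg
    rcases hψk g hg with rfl | rfl
    · simp
    · exact hz2
  have hX3 : (a0 ^ 4) ^ 3 = 1 := by
    have := sq (a0 ^ 3) (by rw [map_pow, ha0, pa3])
    calc (a0 ^ 4) ^ 3 = ((a0 ^ 3) ^ 2) ^ 2 := by simp only [← pow_mul]
      _ = 1 := by rw [this, one_pow]
  have hY5 : (b0 ^ 6) ^ 5 = 1 := by
    have := sq (b0 ^ 5) (by rw [map_pow, hb0, pb5])
    calc (b0 ^ 6) ^ 5 = ((b0 ^ 5) ^ 2) ^ 3 := by simp only [← pow_mul]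
      _ = 1 := by rw [this, one_pow]
  have hψX : ψ (a0 ^ 4) = pa := by rw [map_pow, ha0, pow_succ, pa3, one_mul]
  have hψY : ψ (b0 ^ 6) = pb := by rw [map_pow, hb0, pow_succ, pb5, one_mul]
  have hXY : (a0 ^ 4 * b0 ^ 6) ^ 2 = z := by
    rcases hψk ((a0 ^ 4 * b0 ^ 6) ^ 2) (by rw [map_pow, map_mul, hψX, hψY, pab2]) with h | h
    · exfalso
      have hne : a0 ^ 4 * b0 ^ 6 ≠ 1 := by
        intro h1
        have := congrArg ψ h1
        rw [map_mul, hψX, hψY, map_one] at this
        exact absurd this (by decide)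
      have := hinv _ h hne
      have h2 := congrArg ψ this
      rw [map_mul, hψX, hψY, hψz] at h2
      exact absurd h2 (by decide)
    · exact h
  refine recog hG (a0 ^ 4) (b0 ^ 6) z ?_ hX3 hY5 hz2 ?_ ?_ hXY
  · rw [eq_top_iff]; intro g _
    set H := Subgroup.closure {a0 ^ 4, b0 ^ 6, z}
    have hmap : H.map ψ = ⊤ :=
      gen_A5 _ ⟨a0 ^ 4, Subgroup.subset_closure (by simp), hψX⟩
        ⟨b0 ^ 6, Subgroup.subset_closure (by simp), hψY⟩
    have : ψ g ∈ H.map ψ := by rw [hmap]; trivial
    obtain ⟨h, hh, hhg⟩ := this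
    have : ψ (h⁻¹ * g) = 1 := by rw [map_mul, map_inv, hhg]; simp
    rcases hψk _ this with h1 | h1
    · have : g = h := by
        have := congrArg (h * ·) h1
        simpa using this
      rw [this]; exact hh
    · have : g = h * z := by
        have := congrArg (h * ·) h1
        simpa using this
      rw [this]; exact H.mul_mem hh (Subgroup.subset_closure (by simp))
  · exact (mul_inv_eq_iff_eq_mul.1 (hzc _)).symm
  · exact (mul_inv_eq_iff_eq_mul.1 (hzc _)).symm

/-- Every non-solvable group of order 120 whose Sylow 2-subgroups are quaternion of order 8 is isomorphic to SL(2,5), and SL(2,5) has the presentation ⟨x, y, z | x³ = y⁵ = z² = 1, z⁻¹xz = x, z⁻¹yz = y, (xy)² = z⟩. -/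
theorem result :
    (∀ (G : Type*) [Group G] [Finite G], Nat.card G = 120 → ¬ Group.IsSolvable G →
      (∀ P : Sylow 2 G, Nonempty ((P : Subgroup G) ≃* QuaternionGroup 2)) →
      Nonempty (G ≃* Matrix.SpecialLinearGroup (Fin 2) (ZMod 5))) ∧
    Nonempty (PresentedGroup ({FreeGroup.of (0 : Fin 3) ^ 3, FreeGroup.of (1 : Fin 3) ^ 5, FreeGroup.of (2 : Fin 3) ^ 2,
        (FreeGroup.of (2 : Fin 3))⁻¹ * FreeGroup.of 0 * FreeGroup.of 2 * (FreeGroup.of (0 : Fin 3))⁻¹,
        (FreeGroup.of (2 : Fin 3))⁻¹ * FreeGroup.of 1 * FreeGroup.of 2 * (FreeGroup.of (1 : Fin 3))⁻¹,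
        (FreeGroup.of (0 : Fin 3) * FreeGroup.of 1) ^ 2 * (FreeGroup.of (2 : Fin 3))⁻¹} : Set (FreeGroup (Fin 3)))
      ≃* Matrix.SpecialLinearGroup (Fin 2) (ZMod 5)) := by
  obtain ⟨e0⟩ := sl_iso
  refine ⟨?_, ⟨e0⟩⟩
  intro G _ _ hG hns hQ
  obtain ⟨e1⟩ := part1 G hG hns hQ
  exact ⟨e1.symm.trans e0⟩

end Cfsg.Agent.S3378
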