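import Cfsg.Statements.S0689
-- import your own Cfsg.Agent.* helpers here
import Cfsg.Agent.S3359
import Cfsg.Agent.Lib.Helper38.Zass689b
import Cfsg.Agent.Lib.Helper75.FrobConstruct

set_option autoImplicit false
open Cfsg

namespace Cfsg.Agent.S0689

/-- The insoluble sharply doubly transitive groups: a non-solvable linear group over the prime field that is regular on the non-zero vectors of `V` occurs only for `|V| = 11², 29², 59²`, and is `SL(2,5) × C_m` with `m = 1, 7, 29` respectively. -/
theorem result {p : ℕ} [Fact p.Prime] {V : Type*} [AddCommGroup V] [Module (ZMod p) V] [Finite V] (H : Subgroup (V ≃ₗ[ZMod p] V)) (hreg : ∀ v w : V, v ≠ 0 → w ≠ 0 → ∃! h : H, (h : V ≃ₗ[ZMod p] V) v = w) (hsolv : ¬ Group.IsSolvable H) : (Nat.card V = 121 ∧ Nonempty (H ≃* Matrix.SpecialLinearGroup (Fin 2) (ZMod 5))) ∨ (Nat.card V = 841 ∧ Nonempty (H ≃* Matrix.SpecialLinearGroup (Fin 2) (ZMod 5) × Multiplicative (ZMod 7))) ∨ (Nat.card V = 3481 ∧ Nonempty (H ≃* Matrix.SpecialLinearGroup (Fin 2) (ZMod 5) × Multiplicative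 (ZMod 29))) := by
  classical
  have : Finite (V ≃ₗ[ZMod p] V) := Finite.of_injective (fun f => (f : V → V)) DFunLike.coe_injective
  apply Cfsg.Agent.Lib.Helper38.Zass.main689 H hreg
  apply Cfsg.Agent.S3359.result hsolv
  have hnt : Nontrivial H := by
    by_contra h
    rw [not_nontrivial_iff_subsingleton] at h
    exact hsolv inferInstance
  have hV : Nontrivial V := by
    by_contra h
    rw [not_nontrivial_iff_subsingleton] at h
    obtain ⟨x, y, hxy⟩ := hnt
    apply hxy
    apply Subtype.ext
    ext v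
    exact Subsingleton.elim _ _
  let r : H →* Module.End (ZMod p) V :=
    (LinearEquiv.automorphismGroup.toLinearMapMonoidHom).comp H.subtype
  obtain ⟨L, i1, i2, C, hC, hiso, -⟩ := Cfsg.Agent.Lib.Helper75.exists_frobenius_of_module r (by
    intro h hh v hv
    by_contra hv0
    exact hh ((hreg v v hv0 hv0).unique hv rfl))
  exact ⟨L, i1, i2, C, hC, hiso⟩

end Cfsg.Agent.S0689
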