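import Cfsg.Statements.S0699
import Cfsg.Agent.Lib.Helper16.Zassenhaus
import Cfsg.Agent.S0706
import Mathlib

set_option autoImplicit false
open Cfsg

namespace Cfsg.Agent.S0699

open MulAction
open scoped Pointwise

theorem three_iff {G α : Type*} [Group G] [MulAction G α] :
    IsMultiplyPretransitive G α 3 ↔ ∀ a b c a' b' c' : α, a ≠ b → a ≠ c → b ≠ c →
      a' ≠ b' → a' ≠ c' → b' ≠ c' → ∃ g : G, g • a = a' ∧ g • b = b' ∧ g • c = c' := by
  constructor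
  · intro h a b c a' b' c' hab hac hbc hab' hac' hbc'
    let x : Fin 3 ↪ α := ⟨![a, b, c], by
      intro i j hij
      fin_cases i <;> fin_cases j <;> simp_all⟩
    let y : Fin 3 ↪ α := ⟨![a', b', c'], by
      intro i j hij
      fin_cases i <;> fin_cases j <;> simp_all⟩
    obtain ⟨g, hg⟩ := h.exists_smul_eq x y
    refine ⟨g, ?_, ?_, ?_⟩
    · exact congrArg (fun f : Fin 3 ↪ α => f 0) hg
    · exact congrArg (fun f : Fin 3 ↪ α => f 1) hg
    · exact congrArg (fun f : Fin 3 ↪ α => f 2) hg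
  · intro h
    refine ⟨fun x y => ?_⟩
    obtain ⟨g, h0, h1, h2⟩ := h (x 0) (x 1) (x 2) (y 0) (y 1) (y 2)
      (by simp) (by simp) (by simp) (by simp) (by simp) (by simp)
    refine ⟨g, ?_⟩
    ext i
    fin_cases i
    · exact h0
    · exact h1
    · exact h2

theorem frattini_trans {M Ω : Type*} [Group M] [Finite M] [MulAction M Ω] {p : ℕ} [Fact p.Prime]
    (Δ : Set Ω) (hinv : ∀ g : M, ∀ z ∈ Δ, g • z ∈ Δ)
    (htr : ∀ y ∈ Δ, ∀ z ∈ Δ, ∃ g : M, g • y = z)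
    (L : Subgroup M) [L.Normal] (T : Sylow p L) (x : Ω) (hx : x ∈ Δ)
    (hfix : ∀ t : L, t ∈ T → (t : M) • x = x)
    (huniq : ∀ y ∈ Δ, (∀ t : L, t ∈ T → (t : M) • y = y) → y = x) :
    ∀ y ∈ Δ, ∃ l ∈ L, l • x = y := by
  intro y hy
  obtain ⟨g, hg⟩ := htr x hx y hy
  have h1 : g ∈ L ⊔ Subgroup.normalizer ((T : Subgroup L).map L.subtype : Set M) := by
    rw [sup_comm, Sylow.normalizer_sup_eq_top]; trivial
  have h2 : g ∈ (L : Set M) * (Subgroup.normalizer ((T : Subgroup L).map L.subtype : Set M) : Set M) := by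
    rw [← Subgroup.normal_mul]; exact h1
  obtain ⟨l, hl, n, hn, rfl⟩ := Set.mem_mul.mp h2
  refine ⟨l, hl, ?_⟩
  have hnx : n • x = x := by
    apply huniq _ (hinv n x hx)
    intro t ht
    have hn' := (Subgroup.mem_normalizer_iff.mp (inv_mem hn) (t : M)).mp ⟨t, ht, rfl⟩
    obtain ⟨s, hs, hs'⟩ := hn'
    have h3 := hfix s hs
    have h4 : (s : M) = n⁻¹ * t * n⁻¹⁻¹ := hs'
    rw [h4, inv_inv, mul_smul, mul_smul, inv_smul_eq_iff] at h3
    exact h3
  rw [← hg, mul_smul, hnx]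

/-- the setwise stabiliser of a pair -/
def pairStab (G : Type*) {Ω : Type*} [Group G] [MulAction G Ω] (a b : Ω) : Subgroup G where
  carrier := {g | (g • a = a ∧ g • b = b) ∨ (g • a = b ∧ g • b = a)}
  one_mem' := Or.inl ⟨one_smul _ _, one_smul _ _⟩
  mul_mem' := by
    rintro g h (⟨h1, h2⟩ | ⟨h1, h2⟩) (⟨h3, h4⟩ | ⟨h3, h4⟩)
    · left; simp [mul_smul, *]
    · right; simp [mul_smul, *]
    · right; simp [mul_smul, *]
    · left; simp [mul_smul, *]
  inv_mem' := by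
    rintro g (⟨h1, h2⟩ | ⟨h1, h2⟩)
    · left; exact ⟨by rw [inv_smul_eq_iff, h1], by rw [inv_smul_eq_iff, h2]⟩
    · right; exact ⟨by rw [inv_smul_eq_iff, h2], by rw [inv_smul_eq_iff, h1]⟩

theorem mem_pairStab {G Ω : Type*} [Group G] [MulAction G Ω] {a b : Ω} {g : G} :
    g ∈ pairStab G a b ↔ (g • a = a ∧ g • b = b) ∨ (g • a = b ∧ g • b = a) := Iff.rfl

/-- the pointwise stabiliser of a pair inside `N` -/
def Kst {G Ω : Type*} [Group G] [MulAction G Ω] (N : Subgroup G) (a b : Ω) : Subgroup G :=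
  N ⊓ stabilizer G a ⊓ stabilizer G b

theorem mem_Kst {G Ω : Type*} [Group G] [MulAction G Ω] {N : Subgroup G} {a b : Ω} {g : G} :
    g ∈ Kst N a b ↔ g ∈ N ∧ g • a = a ∧ g • b = b := by
  simp [Kst, Subgroup.mem_inf, mem_stabilizer_iff, and_assoc]

theorem card_Kst_conj {G Ω : Type*} [Group G] [MulAction G Ω] (N : Subgroup G) (a b : Ω)
    (ν : G) (hν : ν ∈ N) : Nat.card (Kst N (ν • a) (ν • b)) = Nat.card (Kst N a b) := by
  have h : Kst N (ν • a) (ν • b) = (Kst N a b).map (MulAut.conj ν).toMonoidHom := by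
    ext g
    rw [Subgroup.mem_map_equiv, MulAut.conj_symm_apply, mem_Kst, mem_Kst]
    constructor
    · rintro ⟨h1, h2, h3⟩
      refine ⟨N.mul_mem (N.mul_mem (N.inv_mem hν) h1) hν, ?_, ?_⟩
      · rw [mul_smul, mul_smul, h2, inv_smul_smul]
      · rw [mul_smul, mul_smul, h3, inv_smul_smul]
    · rintro ⟨h1, h2, h3⟩
      refine ⟨?_, ?_, ?_⟩
      · have := N.mul_mem (N.mul_mem hν h1) (N.inv_mem hν)
        simpa [mul_assoc] using this
      · rw [mul_smul, mul_smul, inv_smul_eq_iff] at h2; exact h2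
      · rw [mul_smul, mul_smul, inv_smul_eq_iff] at h3; exact h3
  rw [h]
  exact Subgroup.card_map_of_injective (MulAut.conj ν).injective

theorem card_inf_pairStab {G Ω : Type*} [Group G] [Finite G] [MulAction G Ω] (N : Subgroup G)
    {a b : Ω} (hab : a ≠ b) (t : G) (htN : t ∈ N) (hta : t • a = b) (htb : t • b = a) :
    Nat.card (N ⊓ pairStab G a b : Subgroup G) = 2 * Nat.card (Kst N a b) := by
  have h : ((N ⊓ pairStab G a b : Subgroup G) : Set G) = (Kst N a b : Set G) ∪ t • (Kst N a b : Set G) := by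
    ext g
    simp only [SetLike.mem_coe, Subgroup.mem_inf, mem_pairStab, Set.mem_union, mem_Kst,
      Set.mem_smul_set_iff_inv_smul_mem, smul_eq_mul]
    constructor
    · rintro ⟨h1, (⟨h2, h3⟩ | ⟨h2, h3⟩)⟩
      · left; exact ⟨h1, h2, h3⟩
      · right
        refine ⟨N.mul_mem (N.inv_mem htN) h1, ?_, ?_⟩
        · rw [mul_smul, h2, inv_smul_eq_iff, hta]
        · rw [mul_smul, h3, inv_smul_eq_iff, htb]
    · rintro (⟨h1, h2, h3⟩ | ⟨h1, h2, h3⟩)
      · exact ⟨h1, Or.inl ⟨h2, h3⟩⟩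
      · refine ⟨?_, Or.inr ⟨?_, ?_⟩⟩
        · have := N.mul_mem htN h1
          simpa using this
        · rw [mul_smul, inv_smul_eq_iff, hta] at h2; exact h2
        · rw [mul_smul, inv_smul_eq_iff, htb] at h3; exact h3
  have hdisj : Disjoint (Kst N a b : Set G) (t • (Kst N a b : Set G)) := by
    rw [Set.disjoint_left]
    intro g hg hg'
    rw [Set.mem_smul_set_iff_inv_smul_mem, smul_eq_mul] at hg'
    have h1 := (mem_Kst.mp hg).2.1
    have h2 := (mem_Kst.mp hg').2.1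
    rw [mul_smul, h1, inv_smul_eq_iff, hta] at h2
    exact hab h2
  have e1 : Nat.card (N ⊓ pairStab G a b : Subgroup G)
      = ((N ⊓ pairStab G a b : Subgroup G) : Set G).ncard := Nat.card_coe_set_eq _
  have e2 : Nat.card (Kst N a b) = (Kst N a b : Set G).ncard := Nat.card_coe_set_eq _
  rw [e1, h, Set.ncard_union_eq hdisj, Set.ncard_smul_set, e2]
  ring

theorem key {G Ω : Type*} [Group G] [Finite G] [MulAction G Ω] [Fintype Ω]
    (hodd : Odd (Fintype.card Ω))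
    (h3 : ∀ a b c a' b' c' : Ω, a ≠ b → a ≠ c → b ≠ c → a' ≠ b' → a' ≠ c' → b' ≠ c' →
      ∃ g : G, g • a = a' ∧ g • b = b' ∧ g • c = c')
    (N : Subgroup G) [N.Normal]
    (hN2 : ∀ a b a' b' : Ω, a ≠ b → a' ≠ b' → ∃ n ∈ N, n • a = a' ∧ n • b = b')
    {a b : Ω} (hab : a ≠ b) (t : G) (htN : t ∈ N) (ht2 : t ^ 2 = 1) (hta : t • a = b)
    (htb : t • b = a) :
    ∀ x y : Ω, x ≠ a → x ≠ b → y ≠ a → y ≠ b →
      ∃ n ∈ N, n • a = a ∧ n • b = b ∧ n • x = y := by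
  classical
  have : Fact (Nat.Prime 2) := ⟨Nat.prime_two⟩
  -- fixed point of t
  obtain ⟨x₁, hx₁⟩ : ∃ x₁ : Ω, t • x₁ = x₁ := by
    have h6 := Lib.Helper16.card_fixedBy_modEq_two (Ω := Ω) t ht2
    by_contra hcon
    push Not at hcon
    have h7 : Nat.card (fixedBy Ω t) = 0 := by
      rw [Nat.card_eq_zero]; left
      exact ⟨fun x => hcon x.1 x.2⟩
    rw [h7] at h6
    obtain ⟨k, hk⟩ := hodd
    unfold Nat.ModEq at h6; omega
  have hx₁a : x₁ ≠ a := by rintro rfl; exact hab (hx₁.symm.trans hta)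
  have hx₁b : x₁ ≠ b := by rintro rfl; exact hab (htb.symm.trans hx₁)
  have hC : ∀ x, x ≠ a → x ≠ b → ∃ m ∈ N, m • a = a ∧ m • b = b ∧ m • x = t • x := by
    intro x hxa hxb
    obtain ⟨g, hg1, hg2, hg3⟩ := h3 a b x₁ a b x hab hx₁a.symm hx₁b.symm hab hxa.symm hxb.symm
    have hg1' : g⁻¹ • a = a := by rw [inv_smul_eq_iff, hg1]
    have hg2' : g⁻¹ • b = b := by rw [inv_smul_eq_iff, hg2]
    have hg3' : g⁻¹ • x = x₁ := by rw [inv_smul_eq_iff, hg3]
    refine ⟨t * (g * t * g⁻¹), N.mul_mem htN (‹N.Normal›.conj_mem _ htN g), ?_, ?_, ?_⟩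
    · rw [mul_smul, mul_smul, mul_smul, hg1', hta, hg2, htb]
    · rw [mul_smul, mul_smul, mul_smul, hg2', htb, hg1, hta]
    · rw [mul_smul, mul_smul, mul_smul, hg3', hx₁, hg3]
  have hC' : ∀ l ∈ N, l ∈ pairStab G a b → ∀ x, x ≠ a → x ≠ b →
      ∃ k ∈ N, k • a = a ∧ k • b = b ∧ k • x = l • x := by
    intro l hlN hl x hxa hxb
    rcases mem_pairStab.mp hl with ⟨h1, h2⟩ | ⟨h1, h2⟩
    · exact ⟨l, hlN, h1, h2, rfl⟩
    · have htt : t * t = 1 := by rw [← pow_two, ht2]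
      have hk1a : (t * l) • a = a := by rw [mul_smul, h1, htb]
      have hk1b : (t * l) • b = b := by rw [mul_smul, h2, hta]
      have hxa' : (t * l) • x ≠ a := by
        intro h; exact hxa (MulAction.injective _ (h.trans hk1a.symm))
      have hxb' : (t * l) • x ≠ b := by
        intro h; exact hxb (MulAction.injective _ (h.trans hk1b.symm))
      obtain ⟨m, hm, hma, hmb, hmx⟩ := hC _ hxa' hxb'
      refine ⟨m * (t * l), N.mul_mem hm (N.mul_mem htN hlN), ?_, ?_, ?_⟩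
      · rw [mul_smul, hk1a, hma]
      · rw [mul_smul, hk1b, hmb]
      · rw [mul_smul, hmx, ← mul_smul, ← mul_assoc, htt, one_mul]
  let M := pairStab G a b
  let L : Subgroup M := N.subgroupOf M
  have : L.Normal := inferInstance
  let Δ : Set Ω := {x | x ≠ a ∧ x ≠ b}
  have hinv : ∀ g : M, ∀ z ∈ Δ, g • z ∈ Δ := by
    rintro ⟨g, hg⟩ z ⟨hza, hzb⟩
    change g • z ≠ a ∧ g • z ≠ b
    rcases mem_pairStab.mp hg with ⟨h1, h2⟩ | ⟨h1, h2⟩
    · constructor
      · intro h; exact hza (MulAction.injective _ (h.trans h1.symm))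
      · intro h; exact hzb (MulAction.injective _ (h.trans h2.symm))
    · constructor
      · intro h; exact hzb (MulAction.injective _ (h.trans h2.symm))
      · intro h; exact hza (MulAction.injective _ (h.trans h1.symm))
  have htr : ∀ y ∈ Δ, ∀ z ∈ Δ, ∃ g : M, g • y = z := by
    rintro y ⟨hya, hyb⟩ z ⟨hza, hzb⟩
    obtain ⟨g, hg1, hg2, hg3⟩ := h3 a b y a b z hab hya.symm hyb.symm hab hza.symm hzb.symm
    exact ⟨⟨g, Or.inl ⟨hg1, hg2⟩⟩, hg3⟩
  obtain ⟨T⟩ : Nonempty (Sylow 2 L) := inferInstance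
  have hcardΔ : ¬ 2 ∣ Nat.card Δ := by
    have : Δ = ((({a, b} : Finset Ω)ᶜ : Finset Ω) : Set Ω) := by
      ext z; simp [Δ, and_comm]
    rw [this, Nat.card_coe_set_eq, Set.ncard_coe_finset, Finset.card_compl, Finset.card_pair hab]
    have h2 : ({a, b} : Finset Ω).card ≤ Fintype.card Ω := Finset.card_le_univ _
    rw [Finset.card_pair hab] at h2
    obtain ⟨k, hk⟩ := hodd
    omega
  obtain ⟨x₀, hx₀Δ, hx₀⟩ := S0706.fixed_in_invariant (Q := T) (α := Ω) T.isPGroup' Δ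
    (fun q z hz => hinv (q : L) z hz) hcardΔ
  have huniq : ∀ y ∈ Δ, (∀ s : L, s ∈ T → (s : M) • y = y) → y = x₀ := by
    intro y hy hfix
    by_contra hne
    obtain ⟨ν, hν, hν1, hν2⟩ := hN2 a b x₀ y hab (Ne.symm hne)
    have e1 := card_Kst_conj N a b ν hν
    rw [hν1, hν2] at e1
    have e2 := card_inf_pairStab N hab t htN hta htb
    have e3 : Nat.card L = Nat.card (N ⊓ M : Subgroup G) := by
      have : L = (N ⊓ M).subgroupOf M := (Subgroup.inf_subgroupOf_right N M).symm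
      rw [this]
      exact Nat.card_congr (Subgroup.subgroupOfEquivOfLe inf_le_right).toEquiv
    let T' : Subgroup G := ((T : Subgroup L).map L.subtype).map M.subtype
    have e4 : Nat.card T' = Nat.card T := by
      rw [Subgroup.card_map_of_injective M.subtype_injective,
        Subgroup.card_map_of_injective L.subtype_injective]
    have hle : T' ≤ Kst N x₀ y := by
      rintro _ ⟨_, ⟨s, hs, rfl⟩, rfl⟩
      rw [mem_Kst]
      exact ⟨s.2, hx₀ ⟨s, hs⟩, hfix s hs⟩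
    obtain ⟨r, hr⟩ := Subgroup.card_dvd_of_le hle
    have e5 := (T : Subgroup L).card_mul_index
    have e6 := T.not_dvd_index
    apply e6
    refine ⟨r, ?_⟩
    have hpos : 0 < Nat.card T := Nat.card_pos
    apply Nat.eq_of_mul_eq_mul_left hpos
    rw [e5, e3, e2, ← e1, hr, e4]; ring
  have hfr := frattini_trans Δ hinv htr L T x₀ hx₀Δ (fun s hs => hx₀ ⟨s, hs⟩) huniq
  have hK : ∀ y ∈ Δ, ∃ k ∈ N, k • a = a ∧ k • b = b ∧ k • x₀ = y := by
    intro y hy
    obtain ⟨l, hl, hly⟩ := hfr y hy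
    obtain ⟨k, hk, h1, h2, h3'⟩ := hC' (l : G) hl l.2 x₀ hx₀Δ.1 hx₀Δ.2
    exact ⟨k, hk, h1, h2, h3'.trans hly⟩
  intro x y hxa hxb hya hyb
  obtain ⟨k1, hk1, h11, h12, h13⟩ := hK x ⟨hxa, hxb⟩
  obtain ⟨k2, hk2, h21, h22, h23⟩ := hK y ⟨hya, hyb⟩
  refine ⟨k2 * k1⁻¹, N.mul_mem hk2 (N.inv_mem hk1), ?_, ?_, ?_⟩
  · rw [mul_smul, inv_smul_eq_iff.mpr h11.symm, h21]
  · rw [mul_smul, inv_smul_eq_iff.mpr h12.symm, h22]
  · rw [mul_smul, inv_smul_eq_iff.mpr h13.symm, h23]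

theorem wagner {G Ω : Type*} [Group G] [Finite G] [MulAction G Ω] [FaithfulSMul G Ω] [Fintype Ω]
    (hodd : Odd (Fintype.card Ω)) (h5 : 5 ≤ Fintype.card Ω)
    (h3 : ∀ a b c a' b' c' : Ω, a ≠ b → a ≠ c → b ≠ c → a' ≠ b' → a' ≠ c' → b' ≠ c' →
      ∃ g : G, g • a = a' ∧ g • b = b' ∧ g • c = c')
    (N : Subgroup G) [N.Normal] (hN : N ≠ ⊥) :
    ∀ a b c a' b' c' : Ω, a ≠ b → a ≠ c → b ≠ c → a' ≠ b' → a' ≠ c' → b' ≠ c' →
      ∃ g ∈ N, g • a = a' ∧ g • b = b' ∧ g • c = c' := by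
  classical
  have hex3 : ∀ a b c : Ω, ∃ z, z ≠ a ∧ z ≠ b ∧ z ≠ c := by
    intro a b c
    by_contra hcon
    push Not at hcon
    have : (Finset.univ : Finset Ω) ⊆ {a, b, c} := by
      intro z _
      by_cases h1 : z = a
      · simp [h1]
      by_cases h2 : z = b
      · simp [h2]
      simp [hcon z h1 h2]
    have := Finset.card_le_card this
    have h4 : ({a, b, c} : Finset Ω).card ≤ 3 := Finset.card_le_three
    rw [Finset.card_univ] at this
    omega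
  obtain ⟨ν, hνN, hν1⟩ : ∃ ν ∈ N, ν ≠ 1 := by
    by_contra hcon
    push Not at hcon
    exact hN ((Subgroup.eq_bot_iff_forall _).mpr hcon)
  have hmove : ∀ g : G, g ≠ 1 → ∃ c : Ω, g • c ≠ c := by
    intro g hg
    by_contra hcon
    push Not at hcon
    apply hg
    apply FaithfulSMul.eq_of_smul_eq_smul (α := Ω)
    intro x; rw [hcon x, one_smul]
  obtain ⟨μ, hμN, hμ1, a₀, hμa⟩ : ∃ μ ∈ N, μ ≠ 1 ∧ ∃ a : Ω, μ • a = a := by
    by_contra hcon
    push Not at hcon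
    obtain ⟨a, ha⟩ := hmove ν hν1
    by_cases hinv : ν⁻¹ • a = ν • a
    · have h4 : (ν * ν) • a = a := by rw [mul_smul, ← hinv, smul_inv_smul]
      have h5' : ν * ν = 1 := by
        by_contra h6
        exact hcon _ (N.mul_mem hνN hνN) h6 a h4
      have h6 := Lib.Helper16.card_fixedBy_modEq_two (Ω := Ω) ν (by rw [pow_two, h5'])
      have h7 : Nat.card (fixedBy Ω ν) = 0 := by
        rw [Nat.card_eq_zero]; left
        exact ⟨fun x => hcon ν hνN hν1 x.1 x.2⟩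
      rw [h7] at h6
      obtain ⟨k, hk⟩ := hodd
      unfold Nat.ModEq at h6; omega
    · obtain ⟨z, hz1, hz2, hz3⟩ := hex3 a (ν • a) (ν⁻¹ • a)
      have hia : ν⁻¹ • a ≠ a := by
        intro h; apply ha; rw [inv_smul_eq_iff] at h; exact h.symm
      obtain ⟨g, hg1, hg2, hg3⟩ := h3 a (ν • a) (ν⁻¹ • a) a (ν • a) z (Ne.symm ha) (Ne.symm hia)
        (Ne.symm hinv) (Ne.symm ha) hz1.symm hz2.symm
      have h4 : (ν⁻¹ * (g * ν * g⁻¹)) • a = a := by
        have : g⁻¹ • a = a := by rw [inv_smul_eq_iff, hg1]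
        rw [mul_smul, mul_smul, mul_smul, this, hg2, inv_smul_smul]
      have h5' : ν⁻¹ * (g * ν * g⁻¹) = 1 := by
        by_contra h6
        exact hcon _ (N.mul_mem (N.inv_mem hνN) (‹N.Normal›.conj_mem _ hνN g)) h6 a h4
      have h6 : g * ν * g⁻¹ = ν := by
        rw [inv_mul_eq_one] at h5'; exact h5'.symm
      have h7 : g * ν⁻¹ = ν⁻¹ * g :=
        (show Commute g ν from mul_inv_eq_iff_eq_mul.mp h6).inv_right.eq
      apply hz3
      rw [← hg3, ← mul_smul, h7, mul_smul, hg1]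
  obtain ⟨c₀, hc₀⟩ := hmove μ hμ1
  have hc₀a : c₀ ≠ a₀ := by rintro rfl; exact hc₀ hμa
  have hμc₀a : μ • c₀ ≠ a₀ := by
    intro h; exact hc₀a (MulAction.injective μ (h.trans hμa.symm))
  have hN1 : ∀ a b c : Ω, a ≠ b → a ≠ c → ∃ n ∈ N, n • a = a ∧ n • b = c := by
    intro a b c hab hac
    by_cases hbc : b = c
    · exact ⟨1, N.one_mem, one_smul _ _, by rw [one_smul, hbc]⟩
    obtain ⟨g, hg1, hg2, hg3⟩ := h3 a₀ c₀ (μ • c₀) a b c hc₀a.symm hμc₀a.symm (Ne.symm hc₀)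
      hab hac hbc
    refine ⟨g * μ * g⁻¹, ‹N.Normal›.conj_mem _ hμN g, ?_, ?_⟩
    · rw [mul_smul, mul_smul, ← hg1, inv_smul_smul, hμa]
    · rw [mul_smul, mul_smul, ← hg2, inv_smul_smul, hg3]
  have hN0 : ∀ a b : Ω, ∃ n ∈ N, n • a = b := by
    intro a b
    by_cases hab : a = b
    · exact ⟨1, N.one_mem, by rw [one_smul, hab]⟩
    obtain ⟨c, hca, hcb, -⟩ := hex3 a b a
    obtain ⟨n, hn, -, h⟩ := hN1 c a b hca hcb
    exact ⟨n, hn, h⟩
  have hN2 : ∀ a b a' b' : Ω, a ≠ b → a' ≠ b' → ∃ n ∈ N, n • a = a' ∧ n • b = b' := by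
    intro a b a' b' hab hab'
    obtain ⟨n, hn, h⟩ := hN0 a a'
    have : a' ≠ n • b := by rw [← h]; exact fun h' => hab (MulAction.injective n h')
    obtain ⟨m, hm, hm1, hm2⟩ := hN1 a' (n • b) b' this hab'
    exact ⟨m * n, N.mul_mem hm hn, by rw [mul_smul, h, hm1], by rw [mul_smul, hm2]⟩
  have hN2' : IsMultiplyPretransitive N Ω 2 := by
    rw [is_two_pretransitive_iff]
    intro a b c d hab hcd
    obtain ⟨n, hn, h1, h2⟩ := hN2 a b c d hab hcd
    exact ⟨⟨n, hn⟩, h1, h2⟩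
  intro a b c a' b' c' hab hac hbc hab' hac' hbc'
  obtain ⟨t₀, ht₀⟩ := Lib.Helper16.exists_involution hN2' hab'
  obtain ⟨h, ht, hta, htb⟩ := Lib.Helper16.exists_conj_swap hN2' t₀ ht₀ hab'
  obtain ⟨n, hn, hna, hnb⟩ := hN2 a b a' b' hab hab'
  have hnc1 : n • c ≠ a' := by rw [← hna]; exact fun h' => hac (MulAction.injective n h').symm
  have hnc2 : n • c ≠ b' := by rw [← hnb]; exact fun h' => hbc (MulAction.injective n h').symm
  have ht2 : ((h * t₀ * h⁻¹ : N) : G) ^ 2 = 1 := by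
    rw [← Subgroup.coe_pow, ← ht, pow_orderOf_eq_one]; rfl
  obtain ⟨k, hk, hka, hkb, hkc⟩ := key hodd h3 N hN2 hab' ((h * t₀ * h⁻¹ : N) : G)
    (h * t₀ * h⁻¹ : N).2 ht2 hta htb (n • c) c' hnc1 hnc2 hac'.symm hbc'.symm
  exact ⟨k * n, N.mul_mem hk hn, by rw [mul_smul, hna, hka], by rw [mul_smul, hnb, hkb],
    by rw [mul_smul, hkc]⟩

/-- Wagner's Theorem: a non-trivial normal subgroup of a triply transitive permutation group of odd degree at least 5 is triply transitive. -/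
theorem result {α : Type*} [Fintype α] [DecidableEq α] (G : Subgroup (Equiv.Perm α)) (hodd : Odd (Fintype.card α)) (h5 : 5 ≤ Fintype.card α) (hG : MulAction.IsMultiplyPretransitive G α 3) (N : Subgroup G) [N.Normal] (hN : N ≠ ⊥) : MulAction.IsMultiplyPretransitive N α 3 := by
  rw [three_iff] at hG ⊢
  intro a b c a' b' c' hab hac hbc hab' hac' hbc'
  obtain ⟨g, hg, h1, h2, h3⟩ := wagner hodd h5 hG N hN a b c a' b' c' hab hac hbc hab' hac' hbc'
  exact ⟨⟨g, hg⟩, h1, h2, h3⟩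

end Cfsg.Agent.S0699
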