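import Cfsg.Statements.S0728
import Cfsg.Agent.S0699
import Mathlib

set_option autoImplicit false
open Cfsg

namespace Cfsg.Agent.S0728

open MulAction

theorem distinct3 {G Ω : Type*} [Group G] [MulAction G Ω]
    (hs : ∀ g : G, ∀ a b c : Ω, a ≠ b → a ≠ c → b ≠ c → g • a = a → g • b = b → g • c = c → g = 1)
    {a b x : Ω} (hab : a ≠ b) (hxa : x ≠ a) (hxb : x ≠ b)
    (α : G) (hα1 : α ≠ 1) (hα3 : α ^ 3 = 1) (hαa : α • a = a) (hαb : α • b = b) :
    x ≠ α • x ∧ x ≠ α • α • x ∧ α • x ≠ α • α • x ∧ α • α • α • x = x := by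
  have h0 : α • α • α • x = x := by
    rw [← mul_smul, ← mul_smul, ← pow_two, ← pow_succ, hα3, one_smul]
  have h1 : x ≠ α • x := fun h => hα1 (hs α a b x hab hxa.symm hxb.symm hαa hαb h.symm)
  refine ⟨h1, ?_, ?_, h0⟩
  · intro h
    apply h1
    rw [← h] at h0
    exact h0.symm
  · intro h
    exact h1 (MulAction.injective α h)

theorem aux {G Ω : Type*} [Group G] [MulAction G Ω]
    (h3 : ∀ a b c a' b' c' : Ω, a ≠ b → a ≠ c → b ≠ c → a' ≠ b' → a' ≠ c' → b' ≠ c' →
      ∃ g : G, g • a = a' ∧ g • b = b' ∧ g • c = c')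
    (hs : ∀ g : G, ∀ a b c : Ω, a ≠ b → a ≠ c → b ≠ c → g • a = a → g • b = b → g • c = c → g = 1)
    {a b x : Ω} (hab : a ≠ b) (hxa : x ≠ a) (hxb : x ≠ b)
    (α β : G) (hα1 : α ≠ 1) (hα3 : α ^ 3 = 1) (hαa : α • a = a) (hαb : α • b = b)
    (hβ1 : β ≠ 1) (hβ3 : β ^ 3 = 1) (hβa : β • a = a) (hβb : β • b = b) :
    ∃ h : G, h • x = x ∧ β = h * α * h⁻¹ ∧
      ((h • a = a ∧ h • b = b) ∨ (h • a = b ∧ h • b = a)) := by
  obtain ⟨a1, a2, a3, a4⟩ := distinct3 hs hab hxa hxb α hα1 hα3 hαa hαb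
  obtain ⟨b1, b2, b3, b4⟩ := distinct3 hs hab hxa hxb β hβ1 hβ3 hβa hβb
  obtain ⟨h, h1, h2, h3'⟩ := h3 x (α • x) (α • α • x) x (β • x) (β • β • x) a1 a2 a3 b1 b2 b3
  have e : β = h * α * h⁻¹ := by
    have : β⁻¹ * (h * α * h⁻¹) = 1 := by
      apply hs _ x (β • x) (β • β • x) b1 b2 b3
      · rw [mul_smul, mul_smul, mul_smul, inv_smul_eq_iff]
        conv_lhs => rw [← h1, inv_smul_smul]
        exact h2
      · rw [mul_smul, mul_smul, mul_smul, inv_smul_eq_iff, ← h2, inv_smul_smul, h3', h2]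
      · rw [mul_smul, mul_smul, mul_smul, inv_smul_eq_iff, ← h3', inv_smul_smul, a4, h1, h3', b4]
    rw [inv_mul_eq_one] at this
    exact this
  have hfix : ∀ y : Ω, β • y = y → y = a ∨ y = b := by
    intro y hy
    by_contra hcon
    push Not at hcon
    exact hβ1 (hs β a b y hab hcon.1.symm hcon.2.symm hβa hβb hy)
  have ha : β • h • a = h • a := by rw [e, mul_smul, mul_smul, inv_smul_smul, hαa]
  have hb : β • h • b = h • b := by rw [e, mul_smul, mul_smul, inv_smul_smul, hαb]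
  have hne : h • a ≠ h • b := fun hh => hab (MulAction.injective h hh)
  refine ⟨h, h1, e, ?_⟩
  rcases hfix _ ha with ha' | ha' <;> rcases hfix _ hb with hb' | hb'
  · exact absurd (ha'.trans hb'.symm) hne
  · exact Or.inl ⟨ha', hb'⟩
  · exact Or.inr ⟨ha', hb'⟩
  · exact absurd (ha'.trans hb'.symm) hne

theorem eq_or_eq_inv {G Ω : Type*} [Group G] [MulAction G Ω]
    (h3 : ∀ a b c a' b' c' : Ω, a ≠ b → a ≠ c → b ≠ c → a' ≠ b' → a' ≠ c' → b' ≠ c' →
      ∃ g : G, g • a = a' ∧ g • b = b' ∧ g • c = c')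
    (hs : ∀ g : G, ∀ a b c : Ω, a ≠ b → a ≠ c → b ≠ c → g • a = a → g • b = b → g • c = c → g = 1)
    {a b x : Ω} (hab : a ≠ b) (hxa : x ≠ a) (hxb : x ≠ b)
    (α β : G) (hα1 : α ≠ 1) (hα3 : α ^ 3 = 1) (hαa : α • a = a) (hαb : α • b = b)
    (hβ1 : β ≠ 1) (hβ3 : β ^ 3 = 1) (hβa : β • a = a) (hβb : β • b = b) :
    β = α ∨ β = α⁻¹ := by
  obtain ⟨h, h1, h2, h4⟩ := aux h3 hs hab hxa hxb α β hα1 hα3 hαa hαb hβ1 hβ3 hβa hβb
  obtain ⟨k, k1, k2, k4⟩ := aux h3 hs hab hxa hxb α α⁻¹ hα1 hα3 hαa hαb (inv_ne_one.mpr hα1)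
    (by rw [inv_pow, hα3, inv_one]) (by rw [inv_smul_eq_iff, hαa]) (by rw [inv_smul_eq_iff, hαb])
  rcases h4 with ⟨ha, hb⟩ | ⟨ha, hb⟩
  · left
    have : h = 1 := hs h a b x hab hxa.symm hxb.symm ha hb h1
    rw [h2, this]; simp
  · right
    rcases k4 with ⟨ka, kb⟩ | ⟨ka, kb⟩
    · exfalso
      have : k = 1 := hs k a b x hab hxa.symm hxb.symm ka kb k1
      rw [this] at k2
      simp only [one_mul, inv_one, mul_one] at k2
      -- α⁻¹ = α, so α² = 1 and α = 1
      apply hα1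
      have h5 : α * α = 1 := by
        nth_rewrite 1 [← k2]; exact inv_mul_cancel α
      rw [pow_succ, pow_two, h5, one_mul] at hα3
      exact hα3
    · have : k⁻¹ * h = 1 := by
        apply hs _ a b x hab hxa.symm hxb.symm
        · rw [mul_smul, ha, inv_smul_eq_iff, ka]
        · rw [mul_smul, hb, inv_smul_eq_iff, kb]
        · rw [mul_smul, h1, inv_smul_eq_iff, k1]
      rw [inv_mul_eq_one] at this
      rw [h2, k2, this]

/-- In a sharply triply transitive group of even degree at least 6 (degree `q + 1`, `q` odd), a two-point stabiliser has at most one subgroup of order 3. -/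
theorem result {α : Type*} [Fintype α] [DecidableEq α] (heven : Even (Fintype.card α)) (h6 : 6 ≤ Fintype.card α) (G : Subgroup (Equiv.Perm α)) (h3 : MulAction.IsMultiplyPretransitive G α 3) (hsharp : ∀ x : Fin 3 ↪ α, MulAction.stabilizer G x = ⊥) {a b : α} (hab : a ≠ b) (A B : Subgroup G) (hA : A ≤ MulAction.stabilizer G a ⊓ MulAction.stabilizer G b) (hB : B ≤ MulAction.stabilizer G a ⊓ MulAction.stabilizer G b) (hA3 : Nat.card A = 3) (hB3 : Nat.card B = 3) : A = B := by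
  rw [S0699.three_iff] at h3
  have hs : ∀ g : G, ∀ a b c : α, a ≠ b → a ≠ c → b ≠ c → g • a = a → g • b = b → g • c = c →
      g = 1 := by
    intro g a b c hab hac hbc ha hb hc
    let x : Fin 3 ↪ α := ⟨![a, b, c], by
      intro i j hij
      fin_cases i <;> fin_cases j <;> simp_all⟩
    have : g ∈ MulAction.stabilizer G x := by
      rw [mem_stabilizer_iff]
      ext i
      fin_cases i
      · exact ha
      · exact hb
      · exact hc
    rw [hsharp x] at this
    exact Subgroup.mem_bot.mp this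
  obtain ⟨x, hxa, hxb⟩ : ∃ x : α, x ≠ a ∧ x ≠ b := by
    by_contra hcon
    push Not at hcon
    have : (Finset.univ : Finset α) ⊆ {a, b} := by
      intro z _
      by_cases h1 : z = a
      · simp [h1]
      simp [hcon z h1]
    have := Finset.card_le_card this
    have h4 : ({a, b} : Finset α).card ≤ 2 := Finset.card_le_two
    rw [Finset.card_univ] at this
    omega
  have hfin : Finite A := Nat.finite_of_card_ne_zero (by omega)
  have hfinB : Finite B := Nat.finite_of_card_ne_zero (by omega)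
  obtain ⟨β, hβB, hβ1⟩ : ∃ β ∈ B, β ≠ 1 := by
    by_contra hcon
    push Not at hcon
    have : B = ⊥ := (Subgroup.eq_bot_iff_forall _).mpr hcon
    rw [this] at hB3
    simp at hB3
  have hpow : ∀ (C : Subgroup G), Nat.card C = 3 → ∀ g ∈ C, g ^ 3 = 1 := by
    intro C hC g hg
    have := pow_card_eq_one' (G := C) (x := ⟨g, hg⟩)
    rw [hC] at this
    exact congrArg Subtype.val this
  have hle : A ≤ B := by
    intro g hg
    by_cases hg1 : g = 1
    · rw [hg1]; exact B.one_mem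
    have hgA := hA hg
    have hβ' := hB hβB
    rw [Subgroup.mem_inf, mem_stabilizer_iff, mem_stabilizer_iff] at hgA hβ'
    rcases eq_or_eq_inv h3 hs hab hxa hxb β g hβ1 (hpow B hB3 β hβB) hβ'.1 hβ'.2 hg1
      (hpow A hA3 g hg) hgA.1 hgA.2 with h | h
    · rw [h]; exact hβB
    · rw [h]; exact B.inv_mem hβB
  exact Subgroup.eq_of_le_of_card_ge hle (by rw [hA3, hB3])

end Cfsg.Agent.S0728
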