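import Cfsg.Statements.S0713
import Mathlib

set_option autoImplicit false
open Cfsg

namespace Cfsg.Agent.S0713

open MulAction Equiv.Perm

theorem card_fixingSubgroup_perm {α : Type*} [Fintype α] [DecidableEq α] (s : Set α) :
    Nat.card (fixingSubgroup (Equiv.Perm α) s) = (Nat.card α - s.ncard).factorial := by
  have h := IsMultiplyPretransitive.index_of_fixingSubgroup_eq (G := Equiv.Perm α) s
    (Equiv.Perm.isMultiplyPretransitive α s.ncard)
  have h2 := Subgroup.card_mul_index (fixingSubgroup (Equiv.Perm α) s)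
  rw [Nat.card_perm, h] at h2
  have hle : s.ncard ≤ Nat.card α := Set.ncard_le_card s
  have h3 := Nat.choose_mul_factorial_mul_factorial hle
  rw [← h3, mul_comm] at h2
  have hpos : 0 < (Nat.card α).choose s.ncard * s.ncard.factorial :=
    Nat.mul_pos (Nat.choose_pos hle) (Nat.factorial_pos _)
  exact Nat.eq_of_mul_eq_mul_left hpos h2

/-- a `k`-transitive group induces every permutation on a `k`-set -/
theorem exists_eqOn {α : Type*} [Fintype α] [DecidableEq α] (G : Subgroup (Equiv.Perm α))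
    (s : Set α) (hG : IsMultiplyPretransitive G α s.ncard) (σ : Equiv.Perm α) :
    ∃ h ∈ G, ∀ x ∈ s, h x = σ x := by
  have Hs : Nonempty (Fin (s.ncard) ≃ s) := Finite.card_eq.mp (by simp [Nat.card_coe_set_eq])
  obtain ⟨e⟩ := Hs
  let e1 : Fin s.ncard ↪ α := e.toEmbedding.trans (Function.Embedding.subtype _)
  let e2 : Fin s.ncard ↪ α := e1.trans σ.toEmbedding
  obtain ⟨h, hh⟩ := hG.exists_smul_eq e1 e2
  refine ⟨h, h.2, fun x hx => ?_⟩
  have := congrArg (fun f : Fin s.ncard ↪ α => f (e.symm ⟨x, hx⟩)) hh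
  have h5 : h • x = σ x := by simpa [e1, e2] using this
  exact h5

theorem exists_normalizing {α : Type*} [Fintype α] [DecidableEq α] (G : Subgroup (Equiv.Perm α))
    {p : ℕ} (hp : p.Prime) {g : Equiv.Perm α} (hgc : g.IsCycle) (hgp : g.support.card = p)
    (hg : g ∈ G) (h : Equiv.Perm α) (hh : h ∈ G) (hΔ : ∀ x, h x ∈ g.support ↔ x ∈ g.support) :
    ∃ h' ∈ G, (∀ x, x ∉ g.support → h' x = h x) ∧ ∃ i : ℤ, h' * g * h'⁻¹ = g ^ i := by
  have : Fact p.Prime := ⟨hp⟩
  set Δ : Set α := (g.support : Set α)ᶜ with hΔdef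
  set K : Subgroup (Equiv.Perm α) := G ⊓ fixingSubgroup (Equiv.Perm α) Δ with hK
  have hmemK : ∀ k : Equiv.Perm α, k ∈ K ↔ k ∈ G ∧ ∀ x, x ∉ g.support → k x = x := by
    intro k
    rw [hK, Subgroup.mem_inf, mem_fixingSubgroup_iff]
    simp [hΔdef]
  have hgK : g ∈ K := by
    rw [hmemK]
    exact ⟨hg, fun x hx => Equiv.Perm.notMem_support.mp hx⟩
  have hg'K : h * g * h⁻¹ ∈ K := by
    rw [hmemK]
    refine ⟨G.mul_mem (G.mul_mem hh hg) (G.inv_mem hh), fun x hx => ?_⟩
    have h1 : h⁻¹ x ∉ g.support := by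
      rw [← hΔ]; simpa using hx
    rw [Equiv.Perm.mul_apply, Equiv.Perm.mul_apply, Equiv.Perm.notMem_support.mp h1]
    simp
  have hcardK : Nat.card K ∣ p.factorial := by
    have h1 : Nat.card K ∣ Nat.card (fixingSubgroup (Equiv.Perm α) Δ) :=
      Subgroup.card_dvd_of_le inf_le_right
    rw [card_fixingSubgroup_perm] at h1
    have h2 : Nat.card α - Δ.ncard = p := by
      have := Set.ncard_add_ncard_compl (g.support : Set α)
      rw [Set.ncard_coe_finset, hgp] at this
      rw [hΔdef]; omega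
    rwa [h2] at h1
  have hord : orderOf (⟨g, hgK⟩ : K) = p := by
    rw [Subgroup.orderOf_mk, hgc.orderOf, hgp]
  have hord' : orderOf (⟨h * g * h⁻¹, hg'K⟩ : K) = p := by
    rw [Subgroup.orderOf_mk, (hgc.conj).orderOf, Equiv.Perm.card_support_conj, hgp]
  have hfac : (Nat.card K).factorization p = 1 := by
    apply le_antisymm
    · have h1 := (Nat.factorization_le_iff_dvd Nat.card_pos.ne' (Nat.factorial_ne_zero p)).mpr hcardK p
      have h2 : (p.factorial).factorization p = 1 := by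
        obtain ⟨q, rfl⟩ : ∃ q, p = q + 1 := ⟨p - 1, by have := hp.pos; omega⟩
        rw [Nat.factorial_succ, Nat.factorization_mul (by omega) (Nat.factorial_ne_zero q)]
        simp only [Finsupp.coe_add, Pi.add_apply]
        rw [Nat.factorization_factorial_eq_zero_of_lt (by omega), hp.factorization_self]
      omega
    · apply hp.factorization_pos_of_dvd Nat.card_pos.ne'
      rw [← hord]
      exact orderOf_dvd_natCard _
  let S1 : Sylow p K := Sylow.ofCard (Subgroup.zpowers (⟨g, hgK⟩ : K)) (by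
    rw [Nat.card_zpowers, hord, hfac, pow_one])
  let S2 : Sylow p K := Sylow.ofCard (Subgroup.zpowers (⟨h * g * h⁻¹, hg'K⟩ : K)) (by
    rw [Nat.card_zpowers, hord', hfac, pow_one])
  obtain ⟨u, hu⟩ := MulAction.exists_smul_eq K S1 S2
  have h1 : (⟨h * g * h⁻¹, hg'K⟩ : K) ∈ (S2 : Subgroup K) := Subgroup.mem_zpowers _
  rw [← hu, Sylow.coe_subgroup_smul, Subgroup.mem_pointwise_smul_iff_inv_smul_mem] at h1
  obtain ⟨i, hi⟩ := Subgroup.mem_zpowers_iff.mp h1
  have hi' : g ^ i = (u : Equiv.Perm α)⁻¹ * (h * g * h⁻¹) * u := by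
    have := congrArg (Subtype.val) hi
    simpa [MulAut.smul_def, MulAut.conj_inv_apply] using this
  have huK := (hmemK _).mp (K.inv_mem u.2)
  refine ⟨(u : Equiv.Perm α)⁻¹ * h, G.mul_mem huK.1 hh, fun x hx => ?_, i, ?_⟩
  · rw [Equiv.Perm.mul_apply]
    apply huK.2
    rw [hΔ]; exact hx
  · rw [hi']; group

/-- Jordan's Theorem: a primitive permutation group of degree `n ≥ 5` containing a `p`-cycle for a prime `p ≤ n - 3` contains the alternating group. -/
theorem result {α : Type*} [Fintype α] [DecidableEq α] (G : Subgroup (Equiv.Perm α)) (hG : MulAction.IsPreprimitive G α) {p : ℕ} (hp : p.Prime) (hn : 5 ≤ Fintype.card α) (hpn : p + 3 ≤ Fintype.card α) {g : Equiv.Perm α} (hgc : g.IsCycle) (hgp : g.support.card = p) (hg : g ∈ G) : alternatingGroup α ≤ G := by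
  set Δ : Set α := (g.support : Set α)ᶜ with hΔdef
  have hmemΔ : ∀ x, x ∈ Δ ↔ x ∉ g.support := by intro x; simp [hΔdef]
  have hΔcard : p + Δ.ncard = Fintype.card α := by
    have := Set.ncard_add_ncard_compl (g.support : Set α)
    rw [Set.ncard_coe_finset, hgp, Nat.card_eq_fintype_card] at this
    exact this
  have hp2 := hp.two_le
  have hkt : IsMultiplyPretransitive G α Δ.ncard := by
    obtain ⟨n, hn⟩ : ∃ n, Δ.ncard = n + 1 := ⟨Δ.ncard - 1, by omega⟩
    have hprim : IsPreprimitive (fixingSubgroup G Δ) (SubMulAction.ofFixingSubgroup G Δ) := by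
      classical
      have := isPretransitive_of_isCycle_mem hgc hg
      apply IsPreprimitive.of_prime_card
      convert hp
      rw [Nat.card_eq_fintype_card, Fintype.card_subtype, ← hgp]
      apply congr_arg
      ext x
      simp [SubMulAction.mem_ofFixingSubgroup_iff, hΔdef]
    have h3 := hG.isMultiplyPreprimitive hn (by rw [Nat.card_eq_fintype_card]; omega) hprim
    have h4 : IsMultiplyPretransitive G α (n + 2) := inferInstance
    exact isMultiplyPretransitive_of_le (n := n + 2) (by omega)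
      (by rw [Nat.card_eq_fintype_card]; omega)
  obtain ⟨a, b, c, ha, hb, hc, hab, hac, hbc⟩ :=
    (Set.two_lt_ncard_iff (Set.toFinite Δ)).mp (by omega : 2 < Δ.ncard)
  have hsΔ : ∀ u v, u ∈ Δ → v ∈ Δ → ∀ x ∈ Δ, Equiv.swap u v x ∈ Δ := by
    intro u v hu hv x hx
    rw [Equiv.swap_apply_def]
    split_ifs <;> assumption
  have key : ∀ u v, u ∈ Δ → v ∈ Δ → ∃ h ∈ G, (∀ x ∈ Δ, h x = Equiv.swap u v x) ∧
      ∃ i : ℤ, h * g * h⁻¹ = g ^ i := by
    intro u v hu hv
    obtain ⟨h, hhG, hh⟩ := exists_eqOn G Δ hkt (Equiv.swap u v)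
    have hiff : ∀ x, h x ∈ g.support ↔ x ∈ g.support := by
      intro x
      constructor
      · intro h1
        by_contra h2
        have h3 := hsΔ u v hu hv x ((hmemΔ x).mpr h2)
        rw [← hh x ((hmemΔ x).mpr h2)] at h3
        exact (hmemΔ _).mp h3 h1
      · intro h1
        by_contra h2
        have h3 := hsΔ u v hu hv _ ((hmemΔ _).mpr h2)
        have h4 := hh _ h3
        rw [Equiv.swap_apply_self] at h4
        have h5 := h.injective h4
        rw [h5] at h3
        exact (hmemΔ _).mp h3 h1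
    obtain ⟨h', hh'G, hh', i, hi⟩ := exists_normalizing G hp hgc hgp hg h hhG hiff
    exact ⟨h', hh'G, fun x hx => by rw [hh' x ((hmemΔ x).mp hx), hh x hx], i, hi⟩
  have hinv : ∀ (h : Equiv.Perm α) (u v : α), u ∈ Δ → v ∈ Δ → (∀ x ∈ Δ, h x = Equiv.swap u v x) →
      ∀ x ∈ Δ, h⁻¹ x = Equiv.swap u v x := by
    intro h u v hu hv hh x hx
    rw [Equiv.Perm.inv_eq_iff_eq, hh _ (hsΔ u v hu hv x hx), Equiv.swap_apply_self]
  obtain ⟨h1, h1G, h1Δ, i, hi⟩ := key a b ha hb
  obtain ⟨h2, h2G, h2Δ, j, hj⟩ := key a c ha hc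
  have c1 : MulAut.conj h1 g = g ^ i := by simpa [MulAut.conj_apply] using hi
  have c2 : MulAut.conj h2 g = g ^ j := by simpa [MulAut.conj_apply] using hj
  have c1' : MulAut.conj h1⁻¹ (g ^ i) = g := by
    rw [← c1, ← MulAut.mul_apply, ← map_mul]; simp
  have c2' : MulAut.conj h2⁻¹ (g ^ j) = g := by
    rw [← c2, ← MulAut.mul_apply, ← map_mul]; simp
  have c3 : MulAut.conj (h1⁻¹ * h2⁻¹ * h1 * h2) g = g := by
    rw [map_mul, map_mul, map_mul, MulAut.mul_apply, MulAut.mul_apply, MulAut.mul_apply, c2,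
      map_zpow, c1, ← zpow_mul, mul_comm i j, zpow_mul, map_zpow, c2', c1']
  set c0 := h1⁻¹ * h2⁻¹ * h1 * h2 with hc0
  have hcomm : Commute c0 g := by
    rw [MulAut.conj_apply, mul_inv_eq_iff_eq_mul] at c3
    exact c3
  have hc0G : c0 ∈ G := G.mul_mem (G.mul_mem (G.mul_mem (G.inv_mem h1G) (G.inv_mem h2G)) h1G) h2G
  obtain ⟨x0, hx0⟩ : ∃ x0, x0 ∈ g.support := by
    apply Finset.card_pos.mp; omega
  have hcx0 : c0 x0 ∈ g.support := (Equiv.Perm.mem_support_iff_of_commute hcomm x0).mpr hx0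
  obtain ⟨l, hl⟩ := hgc.exists_zpow_eq (Equiv.Perm.mem_support.mp hx0) (Equiv.Perm.mem_support.mp hcx0)
  have hc0supp : ∀ x ∈ g.support, c0 x = (g ^ l) x := by
    intro x hx
    obtain ⟨m, hm⟩ := hgc.exists_zpow_eq (Equiv.Perm.mem_support.mp hx0) (Equiv.Perm.mem_support.mp hx)
    have h3 : c0 * g ^ m = g ^ m * c0 := (hcomm.zpow_right m)
    have h4 : c0 ((g ^ m) x0) = (g ^ m) (c0 x0) := by
      rw [← Equiv.Perm.mul_apply, h3, Equiv.Perm.mul_apply]
    have h5 : (g ^ m) ((g ^ l) x0) = (g ^ l) ((g ^ m) x0) := by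
      rw [← Equiv.Perm.mul_apply, ← Equiv.Perm.mul_apply, ← zpow_add, ← zpow_add, add_comm]
    rw [← hm, h4, ← hl, h5]
  have hτ : (g ^ l)⁻¹ * c0 = (Equiv.swap a b * Equiv.swap a c) ^ 2 := by
    ext x
    by_cases hx : x ∈ g.support
    · rw [Equiv.Perm.mul_apply, hc0supp x hx]
      have h6 : (g ^ l)⁻¹ ((g ^ l) x) = x := by simp
      rw [h6]
      have hxa : x ≠ a := fun h => (hmemΔ a).mp ha (h ▸ hx)
      have hxb : x ≠ b := fun h => (hmemΔ b).mp hb (h ▸ hx)
      have hxc : x ≠ c := fun h => (hmemΔ c).mp hc (h ▸ hx)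
      simp [pow_two, Equiv.Perm.mul_apply, Equiv.swap_apply_of_ne_of_ne hxa hxb,
        Equiv.swap_apply_of_ne_of_ne hxa hxc]
    · have hxΔ : x ∈ Δ := (hmemΔ x).mpr hx
      have e1 := hsΔ a c ha hc x hxΔ
      have e2 := hsΔ a b ha hb _ e1
      have e3 := hsΔ a c ha hc _ e2
      have e4 := hsΔ a b ha hb _ e3
      have h5 : c0 x = Equiv.swap a b (Equiv.swap a c (Equiv.swap a b (Equiv.swap a c x))) := by
        rw [hc0]
        simp only [Equiv.Perm.mul_apply]
        rw [h2Δ x hxΔ, h1Δ _ e1, hinv h2 a c ha hc h2Δ _ e2, hinv h1 a b ha hb h1Δ _ e3]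
      rw [Equiv.Perm.mul_apply, h5, ← zpow_neg]
      rw [Equiv.Perm.zpow_apply_eq_self_of_apply_eq_self (Equiv.Perm.notMem_support.mp ((hmemΔ _).mp e4))]
      simp [pow_two, Equiv.Perm.mul_apply]
  have h3c : ((Equiv.swap a b * Equiv.swap a c) ^ 2).IsThreeCycle :=
    (Equiv.Perm.isThreeCycle_swap_mul_swap_same hab hac hbc).isThreeCycle_sq
  apply alternatingGroup_le_of_isPreprimitive_of_isThreeCycle_mem hG h3c
  rw [← hτ]
  exact G.mul_mem (G.inv_mem (G.zpow_mem hg l)) hc0G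

end Cfsg.Agent.S0713
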