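import Cfsg.Statements.S0711
import Cfsg.Agent.S0713

set_option autoImplicit false
open Cfsg

namespace Cfsg.Agent.S0711

open MulAction Equiv.Perm

theorem greedy {α : Type*} [Fintype α] [DecidableEq α] (x : Equiv.Perm α) :
    ∀ s ≤ x.support.card, ∃ S : Finset α, S ⊆ x.support ∧ S.card = s ∧
      ∀ a ∈ S, ∀ b ∈ S, x a ∉ S → x b ∉ S → a = b := by
  intro s
  induction s with
  | zero => intro _; exact ⟨∅, by simp, by simp, by simp⟩
  | succ s ih =>
    intro hs
    obtain ⟨S, hS, hcard, huniq⟩ := ih (by omega)
    by_cases hex : ∃ d ∈ S, x d ∉ S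
    · obtain ⟨d, hd, hxd⟩ := hex
      refine ⟨insert (x d) S, ?_, ?_, ?_⟩
      · intro a ha
        rw [Finset.mem_insert] at ha
        rcases ha with rfl | ha
        · exact Equiv.Perm.apply_mem_support.mpr (hS hd)
        · exact hS ha
      · rw [Finset.card_insert_of_notMem hxd, hcard]
      · have key : ∀ a ∈ insert (x d) S, x a ∉ insert (x d) S → a = x d := by
          intro a ha hxa
          rw [Finset.mem_insert] at ha
          rcases ha with rfl | ha
          · rfl
          · exfalso
            have h1 : x a ∉ S := fun h => hxa (Finset.mem_insert_of_mem h)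
            have h2 := huniq a ha d hd h1 hxd
            subst h2
            exact hxa (Finset.mem_insert_self _ _)
        intro a ha b hb hxa hxb
        rw [key a ha hxa, key b hb hxb]
    · push Not at hex
      obtain ⟨c, hc, hcS⟩ : ∃ c ∈ x.support, c ∉ S := by
        by_contra hcon
        push Not at hcon
        have := Finset.card_le_card hcon
        omega
      refine ⟨insert c S, ?_, ?_, ?_⟩
      · intro a ha
        rw [Finset.mem_insert] at ha
        rcases ha with rfl | ha
        · exact hc
        · exact hS ha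
      · rw [Finset.card_insert_of_notMem hcS, hcard]
      · have key : ∀ a ∈ insert c S, x a ∉ insert c S → a = c := by
          intro a ha hxa
          rw [Finset.mem_insert] at ha
          rcases ha with rfl | ha
          · rfl
          · exact absurd (Finset.mem_insert_of_mem (hex a ha)) hxa
        intro a ha b hb hxa hxb
        rw [key a ha hxa, key b hb hxb]

theorem dvd_card_of_closed {α : Type*} [Fintype α] [DecidableEq α] (x : Equiv.Perm α) {p : ℕ}
    (hp : p.Prime) (hx : x ^ p = 1) (S : Finset α) (hS : S ⊆ x.support)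
    (hcl : ∀ a ∈ S, x a ∈ S) : p ∣ S.card := by
  have : Fact p.Prime := ⟨hp⟩
  let f : Function.End S := fun a => ⟨x a, hcl a a.2⟩
  have hf : ∀ (n : ℕ) (a : S), ((f ^ n) a : α) = (x ^ n) a := by
    intro n
    induction n with
    | zero => intro a; rfl
    | succ n ih =>
      intro a
      rw [pow_succ, pow_succ, Equiv.Perm.mul_apply]
      exact ih (f a)
  have hfp : f ^ p ^ 1 = 1 := by
    funext a
    apply Subtype.ext
    rw [pow_one, hf, hx]
    rfl
  have h1 := Equiv.Perm.card_fixedPoints_modEq hfp
  have h2 : Fintype.card (Function.fixedPoints f) = 0 := by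
    rw [Fintype.card_eq_zero_iff]
    constructor
    rintro ⟨a, ha⟩
    have h3 : x a = a := congrArg Subtype.val ha
    exact (Equiv.Perm.mem_support.mp (hS a.2)) h3
  rw [h2, Fintype.card_coe] at h1
  exact (Nat.modEq_zero_iff_dvd).mp h1

theorem support_bound {α : Type*} [Fintype α] [DecidableEq α] (x h : Equiv.Perm α)
    (Q A : Finset α) (hQ : Q ⊆ x.support) (hhQ : ∀ a ∈ Q, h a ∈ x.support)
    (hA : A ⊆ x.support) (hAfix : ∀ a ∈ A, h a = a ∧ h (x a) = x a) :
    (x⁻¹ * (h * x * h⁻¹)).support.card + Q.card + A.card ≤ 2 * x.support.card := by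
  set Δ := x.support with hΔ
  set Δ' := (h * x * h⁻¹).support with hΔ'
  have hΔ'card : Δ'.card = Δ.card := Equiv.Perm.card_support_conj
  have hsub : (x⁻¹ * (h * x * h⁻¹)).support ⊆ (Δ ∪ Δ') \ A := by
    intro z hz
    rw [Finset.mem_sdiff]
    constructor
    · have := Equiv.Perm.support_mul_le _ _ hz
      rwa [Equiv.Perm.support_inv] at this
    · intro hzA
      obtain ⟨h1, h2⟩ := hAfix z hzA
      rw [Equiv.Perm.mem_support] at hz
      apply hz
      have h3 : h⁻¹ z = z := by rw [Equiv.Perm.inv_eq_iff_eq, h1]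
      simp only [Equiv.Perm.mul_apply]
      rw [h3, h2]
      simp
  have hQ' : Q.image h ⊆ Δ ∩ Δ' := by
    intro z hz
    rw [Finset.mem_image] at hz
    obtain ⟨a, ha, rfl⟩ := hz
    rw [Finset.mem_inter]
    refine ⟨hhQ a ha, ?_⟩
    rw [hΔ', Equiv.Perm.support_conj]
    simp only [Finset.mem_map_equiv]
    have h7 : h.symm (h a) = a := by simp
    rw [h7]; exact hQ ha
  have h1 := Finset.card_le_card hsub
  have h2 := Finset.card_le_card hQ'
  rw [Finset.card_image_of_injective _ h.injective] at h2
  have h3 : A ⊆ Δ ∪ Δ' := fun a ha => Finset.mem_union_left _ (hA ha)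
  rw [Finset.card_sdiff_of_subset h3] at h1
  have h4 := Finset.card_union_add_card_inter Δ Δ'
  have h5 := Finset.card_le_card h3
  omega

theorem step {α : Type*} [Fintype α] [DecidableEq α] (G : Subgroup (Equiv.Perm α))
    (x h : Equiv.Perm α) (hx : x ∈ G) (hh : h ∈ G)
    (S Q : Finset α) (d β : α) (hS : S ⊆ x.support) (hd : d ∈ S)
    (huniq : ∀ a ∈ S, x a ∉ S → a = d)
    (hfix : ∀ a ∈ S, h a = a) (hβ : h (x d) = β) (hβe : β ≠ x d)
    (hQ : Q ⊆ x.support) (hhQ : ∀ a ∈ Q, h a ∈ x.support) :
    ∃ y ∈ G, y ≠ 1 ∧ y.support.card + Q.card + (S.card - 1) ≤ 2 * x.support.card := by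
  refine ⟨x⁻¹ * (h * x * h⁻¹),
    G.mul_mem (G.inv_mem hx) (G.mul_mem (G.mul_mem hh hx) (G.inv_mem hh)), ?_, ?_⟩
  · intro hy
    have h1 := congrArg (fun f : Equiv.Perm α => f d) hy
    simp only [Equiv.Perm.mul_apply, Equiv.Perm.one_apply] at h1
    have h3 : h⁻¹ d = d := by rw [Equiv.Perm.inv_eq_iff_eq, hfix d hd]
    rw [h3, hβ, Equiv.Perm.inv_eq_iff_eq] at h1
    exact hβe h1
  · have h1 := support_bound x h Q (S.erase d) hQ hhQ ((Finset.erase_subset _ _).trans hS)
      (fun a ha => by
        rw [Finset.mem_erase] at ha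
        refine ⟨hfix a ha.2, hfix _ ?_⟩
        by_contra hcon
        exact ha.1 (huniq a ha.2 hcon))
    rw [Finset.card_erase_of_mem hd] at h1
    exact h1

theorem step2 {α : Type*} [Fintype α] [DecidableEq α] (G : Subgroup (Equiv.Perm α)) {k : ℕ}
    (hkn : k ≤ Fintype.card α) (hG : IsMultiplyPretransitive G α k)
    (x : Equiv.Perm α) (hx : x ∈ G)
    (S P Q : Finset α) (d β : α) (hS : S ⊆ x.support) (hd : d ∈ S) (hxd : x d ∉ S)
    (huniq : ∀ a ∈ S, x a ∉ S → a = d) (hβS : β ∉ S) (hβe : β ≠ x d)
    (hPk : P.card ≤ k) (hSP : S ⊆ P) (heP : x d ∈ P) (hQP : Q ⊆ P)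
    (hQ : Q ⊆ x.support) (hhQ : ∀ a ∈ Q, Equiv.swap (x d) β a ∈ x.support) :
    ∃ y ∈ G, y ≠ 1 ∧ y.support.card + Q.card + (S.card - 1) ≤ 2 * x.support.card := by
  have hGP : IsMultiplyPretransitive G α (P : Set α).ncard := by
    rw [Set.ncard_coe_finset]
    exact isMultiplyPretransitive_of_le (n := k) hPk (by rw [Nat.card_eq_fintype_card]; exact hkn)
  obtain ⟨h, hhG, hh⟩ := Cfsg.Agent.S0713.exists_eqOn G (P : Set α) hGP (Equiv.swap (x d) β)
  refine step G x h hx hhG S Q d β hS hd huniq ?_ ?_ hβe hQ ?_
  · intro a ha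
    rw [hh a (hSP ha)]
    apply Equiv.swap_apply_of_ne_of_ne
    · rintro rfl; exact hxd ha
    · rintro rfl; exact hβS ha
  · rw [hh _ heP, Equiv.swap_apply_left]
  · intro a ha
    rw [hh a (hQP ha)]
    exact hhQ a ha

theorem main {α : Type*} [Fintype α] [DecidableEq α] (G : Subgroup (Equiv.Perm α)) {k : ℕ}
    (hk : 3 ≤ k) (hkn : k ≤ Fintype.card α) (hG : IsMultiplyPretransitive G α k) :
    ∀ n, ∀ g ∈ G, g ≠ 1 → g.support.card = n → n < 2 * k - 2 →
      ∃ h ∈ G, h ≠ 1 ∧ h.support.card ≤ 3 := by
  intro n
  induction n using Nat.strong_induction_on with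
  | _ n ih =>
  intro g hg hg1 hgn hn
  by_cases h3 : n ≤ 3
  · exact ⟨g, hg, hg1, by omega⟩
  obtain ⟨p, hp, hpd⟩ := Nat.exists_prime_and_dvd (n := orderOf g) (by rwa [Ne, orderOf_eq_one_iff])
  set x := g ^ (orderOf g / p) with hxdef
  have hxord : orderOf x = p := orderOf_pow_orderOf_div (orderOf_pos g).ne' hpd
  have hxG : x ∈ G := G.pow_mem hg _
  have hx1 : x ≠ 1 := by
    intro h
    rw [h, orderOf_one] at hxord
    exact hp.one_lt.ne hxord
  have hxp : x ^ p = 1 := by rw [← hxord]; exact pow_orderOf_eq_one x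
  have hxsupp : x.support ⊆ g.support := Equiv.Perm.support_pow_le g _
  have hxle : x.support.card ≤ n := hgn ▸ Finset.card_le_card hxsupp
  rcases Nat.lt_or_ge x.support.card n with hlt | hge
  · exact ih _ hlt x hxG hx1 rfl (by omega)
  have hm : x.support.card = n := le_antisymm hxle hge
  suffices ∃ y ∈ G, y ≠ 1 ∧ y.support.card < n by
    obtain ⟨y, hyG, hy1, hyn⟩ := this
    exact ih _ hyn y hyG hy1 rfl (by omega)
  have hswap : ∀ e β a, e ∈ x.support → β ∈ x.support → a ∈ x.support →
      Equiv.swap e β a ∈ x.support := by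
    intro e β a he hβ ha
    rw [Equiv.swap_apply_def]
    split_ifs <;> assumption
  rcases Nat.lt_or_ge k n with hkn' | hkn'
  · -- n > k
    obtain ⟨S, hS, hScard, hSu⟩ := greedy x (k - 1) (by omega)
    by_cases hex : ∃ d ∈ S, x d ∉ S
    · obtain ⟨d, hd, hxd⟩ := hex
      have hes : x d ∈ x.support := Equiv.Perm.apply_mem_support.mpr (hS hd)
      obtain ⟨β, hβ, hβP⟩ : ∃ β ∈ x.support, β ∉ insert (x d) S := by
        by_contra hcon
        push Not at hcon
        have h5 := Finset.card_le_card hcon
        rw [Finset.card_insert_of_notMem hxd] at h5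
        omega
      rw [Finset.mem_insert, not_or] at hβP
      have hPsub : insert (x d) S ⊆ x.support := by
        intro a ha
        rw [Finset.mem_insert] at ha
        rcases ha with rfl | ha
        · exact hes
        · exact hS ha
      obtain ⟨y, hyG, hy1, hy⟩ := step2 G hkn hG x hxG S (insert (x d) S) (insert (x d) S) d β hS hd hxd
        (fun a ha hxa => hSu a ha d hd hxa hxd) hβP.2 hβP.1
        (by rw [Finset.card_insert_of_notMem hxd]; omega) (Finset.subset_insert _ _)
        (Finset.mem_insert_self _ _) (Finset.Subset.refl _) hPsub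
        (fun a ha => hswap _ _ _ hes hβ (hPsub ha))
      rw [Finset.card_insert_of_notMem hxd] at hy
      exact ⟨y, hyG, hy1, by omega⟩
    · push Not at hex
      have hpk1 : p ∣ k - 1 := hScard ▸ dvd_card_of_closed x hp hxp S hS hex
      have hpn : p ∣ n := hm ▸ dvd_card_of_closed x hp hxp x.support (Finset.Subset.refl _)
        (fun a ha => Equiv.Perm.apply_mem_support.mpr ha)
      have hn' : n ≠ 2 * k - 3 := by
        intro hcon
        have h6 : p ∣ 2 * (k - 1) - n := Nat.dvd_sub (Dvd.dvd.mul_left hpk1 2) hpn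
        have h7 : 2 * (k - 1) - n = 1 := by omega
        rw [h7] at h6
        exact hp.one_lt.ne' (Nat.dvd_one.mp h6)
      obtain ⟨S', hS', hS'card, hS'u⟩ := greedy x (k - 2) (by omega)
      by_cases hex' : ∃ d ∈ S', x d ∉ S'
      · obtain ⟨d, hd, hxd⟩ := hex'
        have hes : x d ∈ x.support := Equiv.Perm.apply_mem_support.mpr (hS' hd)
        obtain ⟨β, hβ, hβP⟩ : ∃ β ∈ x.support, β ∉ insert (x d) S' := by
          by_contra hcon
          push Not at hcon
          have h5 := Finset.card_le_card hcon
          rw [Finset.card_insert_of_notMem hxd] at h5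
          omega
        have hβP' := hβP
        rw [Finset.mem_insert, not_or] at hβP
        have hPsub : insert β (insert (x d) S') ⊆ x.support := by
          intro a ha
          rw [Finset.mem_insert, Finset.mem_insert] at ha
          rcases ha with rfl | rfl | ha
          · exact hβ
          · exact hes
          · exact hS' ha
        have hPcard : (insert β (insert (x d) S')).card = k := by
          rw [Finset.card_insert_of_notMem hβP', Finset.card_insert_of_notMem hxd]; omega
        obtain ⟨y, hyG, hy1, hy⟩ := step2 G hkn hG x hxG S' (insert β (insert (x d) S'))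
          (insert β (insert (x d) S')) d β hS' hd hxd
          (fun a ha hxa => hS'u a ha d hd hxa hxd) hβP.2 hβP.1
          (by omega) ((Finset.subset_insert _ _).trans (Finset.subset_insert _ _))
          (Finset.mem_insert_of_mem (Finset.mem_insert_self _ _)) (Finset.Subset.refl _) hPsub
          (fun a ha => hswap _ _ _ hes hβ (hPsub ha))
        rw [hPcard] at hy
        exact ⟨y, hyG, hy1, by omega⟩
      · push Not at hex'
        exfalso
        have hpk2 : p ∣ k - 2 := hS'card ▸ dvd_card_of_closed x hp hxp S' hS' hex'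
        have h6 : p ∣ (k - 1) - (k - 2) := Nat.dvd_sub hpk1 hpk2
        have h7 : (k - 1) - (k - 2) = 1 := by omega
        rw [h7] at h6
        exact hp.one_lt.ne' (Nat.dvd_one.mp h6)
  · -- n ≤ k
    rcases Nat.lt_or_ge n (Fintype.card α) with hnc | hnc
    · obtain ⟨β, hβ⟩ : ∃ β, β ∉ x.support := by
        by_contra hcon
        push Not at hcon
        have h5 : x.support = Finset.univ := Finset.eq_univ_iff_forall.mpr hcon
        rw [h5, Finset.card_univ] at hm
        omega
      obtain ⟨e, he⟩ : ∃ e, e ∈ x.support := by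
        apply Finset.card_pos.mp; omega
      have hd : x⁻¹ e ∈ x.support.erase e := by
        rw [Finset.mem_erase]
        constructor
        · intro hcon
          rw [Equiv.Perm.inv_eq_iff_eq] at hcon
          exact (Equiv.Perm.mem_support.mp he) hcon.symm
        · rw [← Equiv.Perm.support_inv]
          apply Equiv.Perm.apply_mem_support.mpr
          rw [Equiv.Perm.support_inv]; exact he
      have hxd : x (x⁻¹ e) = e := by simp
      obtain ⟨y, hyG, hy1, hy⟩ := step2 G hkn hG x hxG (x.support.erase e) x.support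
        (x.support.erase e) (x⁻¹ e) β (Finset.erase_subset _ _) hd
        (by rw [hxd]; exact Finset.notMem_erase _ _)
        (fun a ha hxa => by
          rw [Finset.mem_erase] at ha
          rw [Finset.mem_erase, not_and_or, not_not] at hxa
          rcases hxa with hxa | hxa
          · rw [← hxa]; simp
          · exact absurd (Equiv.Perm.apply_mem_support.mpr ha.2) hxa)
        (fun hcon => hβ (Finset.mem_of_mem_erase hcon))
        (by rw [hxd]; rintro rfl; exact hβ he)
        (by omega) (Finset.erase_subset _ _) (by rw [hxd]; exact he) (Finset.erase_subset _ _)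
        (Finset.erase_subset _ _)
        (fun a ha => by
          rw [Finset.mem_erase] at ha
          rw [hxd, Equiv.swap_apply_of_ne_of_ne ha.1 (by rintro rfl; exact hβ ha.2)]
          exact ha.2)
      rw [Finset.card_erase_of_mem he] at hy
      exact ⟨y, hyG, hy1, by omega⟩
    · have htop : G = ⊤ := by
        apply Equiv.Perm.eq_top_of_isMultiplyPretransitive
        exact isMultiplyPretransitive_of_le (n := k) (by rw [Nat.card_eq_fintype_card]; omega)
          (by rw [Nat.card_eq_fintype_card]; exact hkn)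
      obtain ⟨a, b, hab⟩ := Fintype.exists_pair_of_one_lt_card (α := α) (by omega)
      refine ⟨Equiv.swap a b, by rw [htop]; trivial, ?_, ?_⟩
      · exact fun hcon => hab (Equiv.swap_eq_one_iff.mp hcon)
      · rw [Equiv.Perm.card_support_swap hab]; omega

/-- A `k`-transitive permutation group (`k ≥ 3`) with a non-identity element of support smaller than `2k - 2` contains a non-identity element of support at most 3, and therefore contains the alternating group. -/
theorem result {α : Type*} [Fintype α] [DecidableEq α] (G : Subgroup (Equiv.Perm α)) {k : ℕ} (hk : 3 ≤ k) (hkn : k ≤ Fintype.card α) (hG : MulAction.IsMultiplyPretransitive G α k) (g : Equiv.Perm α) (hg : g ∈ G) (hg1 : g ≠ 1) (hsupp : g.support.card < 2 * k - 2) : (∃ h : Equiv.Perm α, h ∈ G ∧ h ≠ 1 ∧ h.support.card ≤ 3) ∧ alternatingGroup α ≤ G := by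
  obtain ⟨h, hhG, hh1, hh3⟩ := main G hk hkn hG _ g hg hg1 rfl hsupp
  refine ⟨⟨h, hhG, hh1, hh3⟩, ?_⟩
  have h2t : IsMultiplyPretransitive G α 2 :=
    isMultiplyPretransitive_of_le (n := k) (by omega) (by rw [Nat.card_eq_fintype_card]; exact hkn)
  have hprim : IsPreprimitive G α := isPreprimitive_of_is_two_pretransitive h2t
  have h0 : h.support.card ≠ 0 := by
    rw [Ne, Finset.card_eq_zero, Equiv.Perm.support_eq_empty_iff]; exact hh1
  have h1 : h.support.card ≠ 1 := Equiv.Perm.card_support_ne_one h
  have h23 : h.support.card = 2 ∨ h.support.card = 3 := by omega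
  rcases h23 with h2 | h3
  · rw [Equiv.Perm.card_support_eq_two] at h2
    rw [subgroup_eq_top_of_isPreprimitive_of_isSwap_mem hprim h h2 hhG]
    exact le_top
  · rw [card_support_eq_three_iff] at h3
    exact alternatingGroup_le_of_isPreprimitive_of_isThreeCycle_mem hprim h3 hhG

end Cfsg.Agent.S0711
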