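import Cfsg.Statements.S0738
import Cfsg.Agent.Lib.Helper16.Zassenhaus
import Cfsg.Agent.S0711

set_option autoImplicit false
open Cfsg

namespace Cfsg.Agent.S0738

open Cfsg.Agent.Lib.Helper16 MulAction

/-- abstract version: a finite group `F ≤ G` normalised by `H ≤ G` acting semiregularly on
`F \ {1}` with `|F| - 1 ≤ 2 |H|` is elementary abelian. -/
theorem abstract_main {G : Type*} [Group G] [Finite G] (F H : Subgroup G)
    (hnorm : ∀ h ∈ H, ∀ u ∈ F, h * u * h⁻¹ ∈ F)
    (hsemi : ∀ h ∈ H, ∀ u ∈ F, u ≠ 1 → h * u * h⁻¹ = u → h = 1)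
    (hd : Nat.card F - 1 ≤ 2 * Nat.card H) (hF : F ≠ ⊥) :
    IsMulCommutative F ∧ ∃ p f : ℕ, p.Prime ∧ (∀ u ∈ F, u ^ p = 1) ∧ Nat.card F = p ^ f := by
  classical
  have := Fintype.ofFinite G
  set d := Nat.card H with hddef
  set n := Nat.card F with hndef
  let Fs : Finset G := Finset.univ.filter (· ∈ F)
  have hFs : ∀ u, u ∈ Fs ↔ u ∈ F := by intro u; simp [Fs]
  have hcardsub : ∀ K : Subgroup G, (Finset.univ.filter (· ∈ K)).card = Nat.card K := by
    intro K
    rw [Nat.card_eq_fintype_card, Fintype.card_subtype]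
  have hFscard : Fs.card = n := hcardsub F
  -- orbit lower bound
  have L3 : ∀ S : Finset G, S ⊆ Fs → 1 ∉ S → S.Nonempty →
      (∀ h ∈ H, ∀ u ∈ S, h * u * h⁻¹ ∈ S) → d ≤ S.card := by
    intro S hS h1 ⟨u, hu⟩ hinv
    have hu1 : u ≠ 1 := by rintro rfl; exact h1 hu
    have huF : u ∈ F := (hFs u).mp (hS hu)
    let φ : H → S := fun h => ⟨h * u * h⁻¹, hinv h h.2 u hu⟩
    have hφ : Function.Injective φ := by
      intro h h' heq
      have h2 : (h : G) * u * (h : G)⁻¹ = h' * u * (h' : G)⁻¹ := congrArg Subtype.val heq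
      have h3 : ((h' : G)⁻¹ * h) * u * ((h' : G)⁻¹ * h)⁻¹ = u := by
        have : ((h' : G)⁻¹ * h) * u * ((h' : G)⁻¹ * h)⁻¹ = (h' : G)⁻¹ * (h * u * (h : G)⁻¹) * h' := by
          group
        rw [this, h2]; group
      have h4 := hsemi _ (H.mul_mem (H.inv_mem h'.2) h.2) u huF hu1 h3
      rw [inv_mul_eq_one] at h4
      exact (Subtype.ext h4).symm
    have := Nat.card_le_card_of_injective φ hφ
    rwa [Nat.card_eq_fintype_card (α := S), Fintype.card_coe] at this
  -- two disjoint invariant sets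
  have L4 : ∀ S T : Finset G, S ⊆ Fs → T ⊆ Fs → 1 ∉ S → 1 ∉ T → S.Nonempty → T.Nonempty →
      Disjoint S T → (∀ h ∈ H, ∀ u ∈ S, h * u * h⁻¹ ∈ S) → (∀ h ∈ H, ∀ u ∈ T, h * u * h⁻¹ ∈ T) →
      S.card = d ∧ T.card = d ∧ n = 2 * d + 1 ∧ ∀ u ∈ F, u ≠ 1 → u ∈ S ∨ u ∈ T := by
    intro S T hS hT h1S h1T hSn hTn hdisj hSi hTi
    have hSd := L3 S hS h1S hSn hSi
    have hTd := L3 T hT h1T hTn hTi
    have hsub : S ∪ T ⊆ Fs.erase 1 := by
      intro u hu
      rw [Finset.mem_erase]
      rw [Finset.mem_union] at hu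
      rcases hu with hu | hu
      · exact ⟨by rintro rfl; exact h1S hu, hS hu⟩
      · exact ⟨by rintro rfl; exact h1T hu, hT hu⟩
    have hcu := Finset.card_union_of_disjoint hdisj
    have hce : (Fs.erase 1).card = n - 1 := by
      rw [Finset.card_erase_of_mem ((hFs 1).mpr F.one_mem), hFscard]
    have hle := Finset.card_le_card hsub
    have hnpos : 0 < n := Nat.card_pos
    have heq : S ∪ T = Fs.erase 1 := Finset.eq_of_subset_of_card_le hsub (by omega)
    refine ⟨by omega, by omega, by omega, ?_⟩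
    intro u hu hu1
    have : u ∈ Fs.erase 1 := Finset.mem_erase.mpr ⟨hu1, (hFs u).mpr hu⟩
    rw [← heq, Finset.mem_union] at this
    exact this
  -- no proper nontrivial invariant subgroups
  have LK : ∀ K : Subgroup G, K ≤ F → K ≠ ⊥ → (∀ h ∈ H, ∀ u ∈ K, h * u * h⁻¹ ∈ K) → K = F := by
    intro K hKF hK hKi
    by_contra hne
    let S : Finset G := (Finset.univ.filter (· ∈ K)).erase 1
    let T : Finset G := Fs.filter (· ∉ K)
    have hSmem : ∀ u, u ∈ S ↔ u ≠ 1 ∧ u ∈ K := by intro u; simp [S]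
    have hTmem : ∀ u, u ∈ T ↔ u ∈ F ∧ u ∉ K := by intro u; simp [T, Fs]
    obtain ⟨k, hk, hk1⟩ : ∃ k, k ∈ K ∧ k ≠ 1 := by
      obtain ⟨k, hk⟩ := Subgroup.ne_bot_iff_exists_ne_one.mp hK
      exact ⟨k, k.2, fun h => hk (Subtype.ext h)⟩
    obtain ⟨t, htF, htK⟩ : ∃ t ∈ F, t ∉ K := by
      by_contra hcon
      push Not at hcon
      exact hne (le_antisymm hKF hcon)
    obtain ⟨h1, h2, h3, _⟩ := L4 S T
      (fun u hu => (hFs u).mpr (hKF ((hSmem u).mp hu).2))
      (fun u hu => (hFs u).mpr ((hTmem u).mp hu).1)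
      (fun h => ((hSmem 1).mp h).1 rfl)
      (fun h => ((hTmem 1).mp h).2 K.one_mem)
      ⟨k, (hSmem _).mpr ⟨hk1, hk⟩⟩ ⟨t, (hTmem t).mpr ⟨htF, htK⟩⟩
      (by
        rw [Finset.disjoint_left]
        intro u hu hu'
        exact ((hTmem u).mp hu').2 ((hSmem u).mp hu).2)
      (by
        intro h hh u hu
        rw [hSmem] at hu ⊢
        refine ⟨?_, hKi h hh u hu.2⟩
        intro hcon
        apply hu.1
        have : u = h⁻¹ * (h * u * h⁻¹) * h := by group
        rw [this, hcon]; group)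
      (by
        intro h hh u hu
        rw [hTmem] at hu ⊢
        refine ⟨hnorm h hh u hu.1, ?_⟩
        intro hcon
        apply hu.2
        have h5 := hKi h⁻¹ (H.inv_mem hh) _ hcon
        have : u = h⁻¹ * (h * u * h⁻¹) * h⁻¹⁻¹ := by group
        rw [this]; exact h5)
    have hScard : S.card = Nat.card K - 1 := by
      rw [Finset.card_erase_of_mem (by simp [K.one_mem]), hcardsub K]
    have hKdvd : Nat.card K ∣ n := Subgroup.card_dvd_of_le hKF
    have hKpos : 0 < Nat.card K := Nat.card_pos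
    have h6 : Nat.card K ∣ 2 * Nat.card K - n := Nat.dvd_sub (Dvd.intro_left 2 rfl) hKdvd
    have h7 : 2 * Nat.card K - n = 1 := by omega
    rw [h7, Nat.dvd_one] at h6
    exact hK (Subgroup.eq_bot_of_card_eq K h6)
  have hn1 : n ≠ 1 := by
    intro h; exact hF (Subgroup.eq_bot_of_card_eq F h)
  obtain ⟨p, hp, hpn⟩ := Nat.exists_prime_and_dvd hn1
  have huniq : ∀ q : ℕ, q.Prime → q ∣ n → q = p := by
    intro q hq hqn
    by_contra hqp
    let E : ℕ → Finset G := fun r => Fs.filter (fun u => orderOf u = r)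
    have hEmem : ∀ r u, u ∈ E r ↔ u ∈ F ∧ orderOf u = r := by intro r u; simp [E, Fs]
    have hEne : ∀ r, r.Prime → r ∣ n → (E r).Nonempty := by
      intro r hr hrn
      have : Fact r.Prime := ⟨hr⟩
      obtain ⟨x, hx⟩ := exists_prime_orderOf_dvd_card' (G := F) r hrn
      exact ⟨x, (hEmem r x).mpr ⟨x.2, by rw [Subgroup.orderOf_coe, hx]⟩⟩
    have hE1 : ∀ r, r.Prime → 1 ∉ E r := by
      intro r hr h
      have := ((hEmem r 1).mp h).2
      rw [orderOf_one] at this
      exact hr.one_lt.ne this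
    have hEinv : ∀ r, ∀ h ∈ H, ∀ u ∈ E r, h * u * h⁻¹ ∈ E r := by
      intro r h hh u hu
      rw [hEmem] at hu ⊢
      refine ⟨hnorm h hh u hu.1, ?_⟩
      have : h * u * h⁻¹ = MulAut.conj h u := rfl
      rw [this, MulEquiv.orderOf_eq, hu.2]
    have hEsub : ∀ r, E r ⊆ Fs := fun r => Finset.filter_subset _ _
    obtain ⟨h1, h2, h3, h4⟩ := L4 (E p) (E q) (hEsub p) (hEsub q) (hE1 p hp) (hE1 q hq)
      (hEne p hp hpn) (hEne q hq hqn)
      (by
        rw [Finset.disjoint_left]
        intro u hu hu'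
        exact hqp (((hEmem q u).mp hu').2.symm.trans ((hEmem p u).mp hu).2))
      (hEinv p) (hEinv q)
    obtain ⟨y, hy⟩ := hEne q hq hqn
    rw [hEmem] at hy
    let σ : Equiv.Perm G := MulAction.toPermHom (ConjAct G) G (ConjAct.toConjAct y)
    have hσ : ∀ x, σ x = y * x * y⁻¹ := fun x => by
      simp [σ, ConjAct.smul_def]
    have hσq : σ ^ q = 1 := by
      simp only [σ]
      rw [← map_pow, ← map_pow, ← hy.2, pow_orderOf_eq_one, map_one, map_one]
    have hdvd : q ∣ (E p).card := by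
      apply Cfsg.Agent.S0711.dvd_card_of_closed σ hq hσq (E p)
      · intro x hx
        rw [Equiv.Perm.mem_support, hσ]
        intro hcomm
        rw [hEmem] at hx
        have hc : Commute y x := by
          rw [mul_inv_eq_iff_eq_mul] at hcomm
          exact hcomm
        have ho := hc.orderOf_mul_eq_mul_orderOf_of_coprime
          (by rw [hy.2, hx.2]; exact (Nat.coprime_primes hq hp).mpr hqp)
        rw [hy.2, hx.2] at ho
        have hyx1 : y * x ≠ 1 := by
          intro h
          rw [h, orderOf_one] at ho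
          have := Nat.mul_pos hq.pos hp.pos
          have h5 := hq.two_le
          have h6 := hp.two_le
          nlinarith
        rcases h4 (y * x) (F.mul_mem hy.1 hx.1) hyx1 with h5 | h5
        · have := ((hEmem _ _).mp h5).2
          rw [ho] at this
          have h6 := hq.two_le
          have h7 := hp.pos
          nlinarith
        · have := ((hEmem _ _).mp h5).2
          rw [ho] at this
          have h6 := hp.two_le
          have h7 := hq.pos
          nlinarith
      · intro x hx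
        rw [hσ]
        rw [hEmem] at hx ⊢
        refine ⟨F.mul_mem (F.mul_mem hy.1 hx.1) (F.inv_mem hy.1), ?_⟩
        have : y * x * y⁻¹ = MulAut.conj y x := rfl
        rw [this, MulEquiv.orderOf_eq, hx.2]
    rw [h1] at hdvd
    have h8 : q ∣ n - 2 * d := Nat.dvd_sub hqn (Dvd.dvd.mul_left hdvd 2)
    have h9 : n - 2 * d = 1 := by omega
    rw [h9, Nat.dvd_one] at h8
    exact hq.one_lt.ne' h8
  have hnpf : n = p ^ n.primeFactorsList.length :=
    Nat.eq_prime_pow_of_unique_prime_dvd Nat.card_pos.ne' (fun {q} hq hqn => huniq q hq hqn)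
  have hpg : IsPGroup p F := IsPGroup.of_card hnpf
  have : Fact p.Prime := ⟨hp⟩
  have hnt : Nontrivial F := (Subgroup.nontrivial_iff_ne_bot F).mpr hF
  have hZnt := hpg.center_nontrivial
  let Z : Subgroup G := (Subgroup.center F).map F.subtype
  have hZmem : ∀ z, z ∈ Z ↔ z ∈ F ∧ ∀ u ∈ F, u * z = z * u := by
    intro z
    constructor
    · rintro ⟨z, hz, rfl⟩
      refine ⟨z.2, fun u hu => ?_⟩
      have := Subgroup.mem_center_iff.mp hz ⟨u, hu⟩
      exact congrArg Subtype.val this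
    · rintro ⟨hz, hzc⟩
      refine ⟨⟨z, hz⟩, ?_, rfl⟩
      apply Subgroup.mem_center_iff.mpr
      intro u
      exact Subtype.ext (hzc u u.2)
  have hZ : Z = F := by
    apply LK Z (fun z hz => ((hZmem z).mp hz).1)
    · obtain ⟨z, hz⟩ := exists_ne (1 : Subgroup.center F)
      intro hbot
      apply hz
      have h5 : ((z : F) : G) ∈ Z := ⟨z, z.2, rfl⟩
      rw [hbot, Subgroup.mem_bot] at h5
      exact Subtype.ext (Subtype.ext h5)
    · intro h hh z hz
      rw [hZmem] at hz ⊢
      refine ⟨hnorm h hh z hz.1, fun u hu => ?_⟩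
      have h5 := hnorm h⁻¹ (H.inv_mem hh) u hu
      have h6 := hz.2 _ h5
      have e1 : u * (h * z * h⁻¹) = h * ((h⁻¹ * u * h⁻¹⁻¹) * z) * h⁻¹ := by group
      have e2 : h * z * h⁻¹ * u = h * (z * (h⁻¹ * u * h⁻¹⁻¹)) * h⁻¹ := by group
      rw [e1, e2, h6]
  have hcomm : ∀ u ∈ F, ∀ v ∈ F, u * v = v * u := by
    intro u hu v hv
    rw [← hZ] at hv
    exact ((hZmem v).mp hv).2 u hu
  refine ⟨⟨⟨fun u v => Subtype.ext (hcomm u u.2 v v.2)⟩⟩, p, _, hp, ?_, hnpf⟩
  let L : Subgroup G :=
    { carrier := {m | m ∈ F ∧ m ^ p = 1}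
      one_mem' := ⟨F.one_mem, one_pow p⟩
      mul_mem' := by
        rintro a b ⟨ha, ha'⟩ ⟨hb, hb'⟩
        refine ⟨F.mul_mem ha hb, ?_⟩
        rw [(show Commute a b from hcomm a ha b hb).mul_pow, ha', hb', one_mul]
      inv_mem' := by
        rintro a ⟨ha, ha'⟩
        exact ⟨F.inv_mem ha, by rw [inv_pow, ha', inv_one]⟩ }
  have hL : L = F := by
    apply LK L (fun m hm => hm.1)
    · obtain ⟨x, hx⟩ := exists_prime_orderOf_dvd_card' (G := F) p hpn
      intro hbot
      have hxL : (x : G) ∈ L := by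
        refine ⟨x.2, ?_⟩
        have := pow_orderOf_eq_one x
        rw [hx] at this
        exact_mod_cast congrArg Subtype.val this
      rw [hbot, Subgroup.mem_bot] at hxL
      have hx1 : x = 1 := Subtype.ext hxL
      rw [hx1, orderOf_one] at hx
      exact hp.one_lt.ne hx
    · rintro h hh u ⟨hu, hu'⟩
      refine ⟨hnorm h hh u hu, ?_⟩
      rw [conj_pow, hu']; simp
  intro u hu
  rw [← hL] at hu
  exact hu.2

/-- Let a finite Zassenhaus group of degree `n + 1` have two-point stabilisers of order `d` with `2d ≥ n - 1`. Then a normal subgroup of a point stabiliser acting regularly on the remaining points is elementary abelian, and the degree is a prime power plus one. -/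
theorem result {G Ω : Type*} [Group G] [Finite G] [MulAction G Ω] [Fintype Ω] (hZ : Cfsg.IsZassenhausGroup G Ω) {a b : Ω} (hab : a ≠ b) (hd : Fintype.card Ω - 2 ≤ 2 * Nat.card ↥(MulAction.stabilizer G a ⊓ MulAction.stabilizer G b)) (F : Subgroup G) (hFle : F ≤ MulAction.stabilizer G a) (hFn : (F.subgroupOf (MulAction.stabilizer G a)).Normal) (hreg : ∀ y z : Ω, y ≠ a → z ≠ a → ∃! u : F, (u : G) • y = z) : IsMulCommutative F ∧ ∃ p f : ℕ, p.Prime ∧ (∀ u ∈ F, u ^ p = 1) ∧ Fintype.card Ω = p ^ f + 1 := by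
  classical
  obtain ⟨hfaith, h2, h3, ⟨g0, hg0, x0, y0, hxy0, hgx0, hgy0⟩, _⟩ := hZ
  have hcard3 : 2 < Fintype.card Ω := by
    obtain ⟨z0, hz0⟩ : ∃ c : Ω, g0 • c ≠ c := by
      by_contra hcon
      push Not at hcon
      apply hg0
      apply FaithfulSMul.eq_of_smul_eq_smul (α := Ω)
      intro x; rw [hcon x, one_smul]
    rw [← Finset.card_univ]
    exact Finset.two_lt_card.mpr ⟨x0, Finset.mem_univ _, y0, Finset.mem_univ _, z0,
      Finset.mem_univ _, hxy0, by rintro rfl; exact hz0 hgx0, by rintro rfl; exact hz0 hgy0⟩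
  have hFa : ∀ u ∈ F, u • a = a := fun u hu => hFle hu
  have hFcard : Nat.card F = Fintype.card Ω - 1 := by
    let φ : F → {z : Ω // z ≠ a} := fun u => ⟨(u : G) • b, by
      intro h
      apply hab
      have : (u : G) • b = (u : G) • a := by rw [h, hFa u u.2]
      exact (MulAction.injective _ this).symm⟩
    have hφ : Function.Bijective φ := by
      constructor
      · intro u v huv
        have h5 : (u : G) • b = (v : G) • b := congrArg Subtype.val huv
        obtain ⟨w, _, hw⟩ := hreg b ((v : G) • b) hab.symm (φ v).2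
        rw [hw u h5, hw v rfl]
      · rintro ⟨z, hz⟩
        obtain ⟨w, hw, _⟩ := hreg b z hab.symm hz
        exact ⟨w, Subtype.ext hw⟩
    rw [Nat.card_congr (Equiv.ofBijective φ hφ), Nat.card_eq_fintype_card]
    exact Set.card_ne_eq a
  have hnorm : ∀ h ∈ stabilizer G a ⊓ stabilizer G b, ∀ u ∈ F, h * u * h⁻¹ ∈ F := by
    intro h hh u hu
    have h5 := hFn.conj_mem ⟨u, hFle hu⟩ (Subgroup.mem_subgroupOf.mpr hu) ⟨h, hh.1⟩
    exact Subgroup.mem_subgroupOf.mp h5
  have hsemi : ∀ h ∈ stabilizer G a ⊓ stabilizer G b, ∀ u ∈ F, u ≠ 1 → h * u * h⁻¹ = u → h = 1 := by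
    intro h hh u hu hu1 hcomm
    rw [Subgroup.mem_inf, mem_stabilizer_iff, mem_stabilizer_iff] at hh
    have hub : u • b ≠ b := by
      intro hfix
      obtain ⟨w, _, hw⟩ := hreg b b hab.symm hab.symm
      have e1 := hw ⟨u, hu⟩ hfix
      have e2 := hw 1 (one_smul _ _)
      apply hu1
      have := congrArg Subtype.val (e1.trans e2.symm)
      exact this
    have hua : u • b ≠ a := by
      intro h5
      apply hab
      have : u • b = u • a := by rw [h5, hFa u hu]
      exact (MulAction.injective _ this).symm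
    apply h3 h a b (u • b) hab hub.symm hua.symm hh.1 hh.2
    rw [mul_inv_eq_iff_eq_mul] at hcomm
    rw [← mul_smul, hcomm, mul_smul, hh.2]
  have hFne : F ≠ ⊥ := by
    intro h
    rw [h, Subgroup.card_bot] at hFcard
    omega
  obtain ⟨hc, p, f, hp, hpow, hpf⟩ := abstract_main F (stabilizer G a ⊓ stabilizer G b) hnorm hsemi
    (by rw [hFcard]; omega) hFne
  exact ⟨hc, p, f, hp, hpow, by omega⟩

end Cfsg.Agent.S0738
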