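import Cfsg.Statements.S0741
import Cfsg.Agent.Lib.Helper16.Zassenhaus

set_option autoImplicit false
open Cfsg

namespace Cfsg.Agent.S0741

open Cfsg.Agent.Lib.Helper16 MulAction

section
variable {G Ω : Type*} [Group G] [MulAction G Ω]

/-- the key pigeonhole: for each `c` and `a ≠ b` different from `c` there is an involution fixing
`c` and swapping `a`, `b`. -/
theorem exists_involution_fix_swap [Finite Ω]
    (h3 : ∀ g : G, ∀ a b c : Ω, a ≠ b → b ≠ c → a ≠ c → g • a = a → g • b = b → g • c = c → g = 1)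
    (inv : ∀ x y : Ω, x ≠ y → ∃ t : G, orderOf t = 2 ∧ t • x = x ∧ t • y = y)
    (a b c : Ω) (hab : a ≠ b) (hca : a ≠ c) (hcb : b ≠ c) :
    ∃ t : G, orderOf t = 2 ∧ t • a = b ∧ t • b = a ∧ t • c = c := by
  classical
  have inv' : ∀ c' : Ω, c' ≠ c → ∃ t : G, orderOf t = 2 ∧ t • c = c ∧ t • c' = c' :=
    fun c' h => inv c c' h.symm
  choose! U hU using inv'
  have hsq : ∀ c' : Ω, c' ≠ c → ∀ x : Ω, U c' • U c' • x = x := by
    intro c' hc' x
    rw [← mul_smul, ← pow_two, ← (hU c' hc').1, pow_orderOf_eq_one, one_smul]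
  have hne1 : ∀ c' : Ω, c' ≠ c → U c' ≠ 1 := by
    intro c' hc' h
    have := (hU c' hc').1
    rw [h, orderOf_one] at this; omega
  let D := {pq : Ω × Ω // pq.1 ≠ c ∧ pq.2 ≠ c ∧ pq.1 ≠ pq.2}
  let Φ : D → D := fun pq => ⟨(pq.1.2, U pq.1.1 • pq.1.2), by
    obtain ⟨⟨p, q⟩, h1, h2, h12⟩ := pq
    refine ⟨h2, ?_, ?_⟩
    · intro h
      apply h2
      have h' : U p • q = c := h
      have : U p • q = U p • c := by rw [h', (hU p h1).2.1]
      exact MulAction.injective _ this
    · intro h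
      exact hne1 p h1 (h3 (U p) c p q h1.symm h12 h2.symm (hU p h1).2.1 (hU p h1).2.2 h.symm)⟩
  have hinj : Function.Injective Φ := by
    rintro ⟨⟨p, q⟩, h1, h2, h12⟩ ⟨⟨p', q'⟩, h1', h2', h12'⟩ heq
    have heq' := congrArg Subtype.val heq
    simp only [Φ, Prod.mk.injEq] at heq'
    obtain ⟨rfl, hy⟩ := heq'
    have hD := (Φ ⟨(p, q), h1, h2, h12⟩).2
    simp only [Φ] at hD
    have hUU : (U p)⁻¹ * U p' = 1 := by
      apply h3 _ c q (U p • q) h2.symm hD.2.2 hD.2.1.symm
      · rw [mul_smul, (hU p' h1').2.1, inv_smul_eq_iff, (hU p h1).2.1]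
      · rw [mul_smul, ← hy, inv_smul_smul]
      · rw [mul_smul, hy, hsq p' h1', inv_smul_eq_iff, ← hy, hsq p h1]
    have hUeq : U p' = U p := by
      rw [inv_mul_eq_one] at hUU; exact hUU.symm
    have hpp : p = p' := by
      by_contra hne
      apply hne1 p h1
      apply h3 (U p) c p p' h1.symm hne h1'.symm (hU p h1).2.1 (hU p h1).2.2
      rw [← hUeq]; exact (hU p' h1').2.2
    subst hpp
    rfl
  have hsurj : Function.Surjective Φ := Finite.injective_iff_surjective.mp hinj
  obtain ⟨⟨⟨p, q⟩, h1, h2, h12⟩, hpq⟩ := hsurj ⟨(a, b), hca, hcb, hab⟩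
  have hpq' := congrArg Subtype.val hpq
  simp only [Φ, Prod.mk.injEq] at hpq'
  obtain ⟨rfl, hb⟩ := hpq'
  refine ⟨U p, (hU p h1).1, hb, ?_, (hU p h1).2.1⟩
  rw [← hb, hsq p h1]

end

/-- If the two-point stabilisers of a finite Zassenhaus group of degree `n + 1` have even order `d`, then `2d ≥ n - 1`. -/
theorem result {G Ω : Type*} [Group G] [Finite G] [MulAction G Ω] [Fintype Ω] (hZ : Cfsg.IsZassenhausGroup G Ω) {a b : Ω} (hab : a ≠ b) (heven : Even (Nat.card ↥(MulAction.stabilizer G a ⊓ MulAction.stabilizer G b))) : Fintype.card Ω - 2 ≤ 2 * Nat.card ↥(MulAction.stabilizer G a ⊓ MulAction.stabilizer G b) := by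
  classical
  obtain ⟨hfaith, h2, h3, _, _⟩ := hZ
  have : Fact (Nat.Prime 2) := ⟨Nat.prime_two⟩
  obtain ⟨u, hu⟩ := exists_prime_orderOf_dvd_card' (G := ↥(stabilizer G a ⊓ stabilizer G b)) 2
    (even_iff_two_dvd.mp heven)
  have hu' : orderOf (u : G) = 2 := by rw [Subgroup.orderOf_coe, hu]
  have hmem := u.2
  rw [Subgroup.mem_inf, mem_stabilizer_iff, mem_stabilizer_iff] at hmem
  have inv : ∀ x y : Ω, x ≠ y → ∃ t : G, orderOf t = 2 ∧ t • x = x ∧ t • y = y := by
    intro x y hxy
    obtain ⟨g, h1, h2'⟩ := (is_two_pretransitive_iff (G := G) (α := Ω)).mp h2 hab hxy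
    refine ⟨g * u * g⁻¹, ?_, ?_, ?_⟩
    · have : g * (u : G) * g⁻¹ = MulAut.conj g (u : G) := rfl
      rw [this, MulEquiv.orderOf_eq, hu']
    · rw [mul_smul, mul_smul, ← h1, inv_smul_smul, hmem.1]
    · rw [mul_smul, mul_smul, ← h2', inv_smul_smul, hmem.2]
  have := Fintype.ofFinite G
  let X : Finset G := Finset.univ.filter (fun t => orderOf t = 2 ∧ t • a = b ∧ t • b = a)
  let f : G → Finset Ω := fun t => Finset.univ.filter (fun c => t • c = c)
  have hcover : Finset.univ \ {a, b} ⊆ X.biUnion f := by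
    intro c hc
    simp only [Finset.mem_sdiff, Finset.mem_univ, true_and, Finset.mem_insert,
      Finset.mem_singleton, not_or] at hc
    obtain ⟨t, ht1, ht2, ht3, ht4⟩ := exists_involution_fix_swap h3 inv a b c hab
      (Ne.symm hc.1) (Ne.symm hc.2)
    rw [Finset.mem_biUnion]
    exact ⟨t, by simp [X, ht1, ht2, ht3], by simp [f, ht4]⟩
  have hf : ∀ t ∈ X, (f t).card ≤ 2 := by
    intro t ht
    simp only [X, Finset.mem_filter, Finset.mem_univ, true_and] at ht
    by_contra hcon
    push Not at hcon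
    obtain ⟨x, hx, y, hy, z, hz, hxy, hxz, hyz⟩ := Finset.two_lt_card.mp hcon
    simp only [f, Finset.mem_filter, Finset.mem_univ, true_and] at hx hy hz
    have := h3 t x y z hxy hyz hxz hx hy hz
    rw [this, orderOf_one] at ht
    omega
  have hX : X.card ≤ Nat.card ↥(stabilizer G a ⊓ stabilizer G b) := by
    rcases X.eq_empty_or_nonempty with hemp | ⟨t0, ht0⟩
    · rw [hemp]; simp
    · simp only [X, Finset.mem_filter, Finset.mem_univ, true_and] at ht0
      let φ : X → ↥(stabilizer G a ⊓ stabilizer G b) := fun t => ⟨t0⁻¹ * t, by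
        have ht := t.2
        simp only [X, Finset.mem_filter, Finset.mem_univ, true_and] at ht
        rw [Subgroup.mem_inf, mem_stabilizer_iff, mem_stabilizer_iff, mul_smul, mul_smul,
          ht.2.1, ht.2.2, inv_smul_eq_iff, inv_smul_eq_iff, ht0.2.1, ht0.2.2]
        exact ⟨rfl, rfl⟩⟩
      have hφ : Function.Injective φ := by
        intro t t' h
        have := congrArg Subtype.val h
        simp only [φ, mul_right_inj] at this
        exact Subtype.ext this
      have := Nat.card_le_card_of_injective φ hφ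
      rwa [Nat.card_eq_fintype_card, Fintype.card_coe] at this
  have h4 := Finset.card_le_card hcover
  have h5 := Finset.card_biUnion_le_card_mul X f 2 hf
  rw [Finset.card_sdiff_of_subset (Finset.subset_univ _), Finset.card_univ, Finset.card_pair hab] at h4
  omega

end Cfsg.Agent.S0741
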