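import Cfsg.Statements.S0339
import Cfsg.Agent.Lib.Helper69.Zass

set_option autoImplicit false
open Cfsg

namespace Cfsg.Agent.S0339

open Cfsg.Agent.Lib.Helper69.Zass

/-- A non-trivial normal subgroup of a Zassenhaus group is itself a Zassenhaus group on the same set. -/
theorem result {G Ω : Type*} [Group G] [MulAction G Ω] [Finite Ω]
    (hZ : Cfsg.IsZassenhausGroup G Ω) (N : Subgroup G) [N.Normal] (hN : N ≠ ⊥) :
    Cfsg.IsZassenhausGroup N Ω := by
  obtain ⟨hfaith, h2t, h3, ⟨g0, hg0, a0, b0, hab0, hga, hgb⟩, hreg⟩ := hZ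
  have hNn : N.Normal := inferInstance
  have hfin : Finite G := Finite.of_injective (MulAction.toPermHom G Ω) MulAction.toPerm_injective
  have h2 : ∀ a b c d : Ω, a ≠ b → c ≠ d → ∃ g : G, g • a = c ∧ g • b = d :=
    fun a b c d hab hcd => (MulAction.is_two_pretransitive_iff (G := G) (α := Ω)).mp h2t hab hcd
  have h2' : ∀ a b c d : Ω, a ≠ b → c ≠ d → ∃ g ∈ (⊤ : Subgroup G), g • a = c ∧ g • b = d := by
    intro a b c d hab hcd
    obtain ⟨g, hg⟩ := h2 a b c d hab hcd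
    exact ⟨g, trivial, hg⟩
  -- a third point
  obtain ⟨c0, hc0⟩ : ∃ c0 : Ω, g0 • c0 ≠ c0 := by
    by_contra hcon
    push Not at hcon
    exact hg0 (FaithfulSMul.eq_of_smul_eq_smul (α := Ω) (fun z => by rw [hcon, one_smul]))
  have hac0 : a0 ≠ c0 := by rintro rfl; exact hc0 hga
  have hbc0 : b0 ≠ c0 := by rintro rfl; exact hc0 hgb
  have hthird : ∀ a b : Ω, a ≠ b → ∃ c, b ≠ c ∧ a ≠ c := by
    intro a b hab
    obtain ⟨g, hg1, hg2⟩ := h2 a0 b0 a b hab0 hab
    refine ⟨g • c0, ?_, ?_⟩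
    · rw [← hg2]; exact fun h => hbc0 (MulAction.injective g h)
    · rw [← hg1]; exact fun h => hac0 (MulAction.injective g h)
  -- N is transitive
  have hNt : ∀ x y : Ω, ∃ n ∈ N, n • x = y :=
    trans_of_normalized ⊤ N h2' (fun g _ x hx => hNn.conj_mem x hx g) hN
  -- some nonidentity element of N fixes two points
  have hex : ∃ h ∈ N, h ≠ 1 ∧ ∃ a b : Ω, a ≠ b ∧ h • a = a ∧ h • b = b := by
    by_contra hcon
    push Not at hcon
    refine no_frobenius_case hreg N hNt (fun x => ?_) ?_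
    · by_cases hx : x = a0
      · exact ⟨b0, by rw [hx]; exact hab0.symm⟩
      · exact ⟨a0, fun h => hx h.symm⟩
    · intro n hn x y hxy hnx hny
      by_contra hn1
      exact hcon n hn hn1 x y hxy hnx hny
  obtain ⟨h, hhN, hh1, a1, b1, hab1, hha, hhb⟩ := hex
  -- for every pair of points
  have hexab : ∀ a b : Ω, a ≠ b → ∃ h ∈ N, h ≠ 1 ∧ h • a = a ∧ h • b = b := by
    intro a b hab
    obtain ⟨g, hg1, hg2⟩ := h2 a1 b1 a b hab1 hab
    refine ⟨g * h * g⁻¹, hNn.conj_mem h hhN g, ?_, ?_, ?_⟩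
    · intro hh
      apply hh1
      have : h = g⁻¹ * (g * h * g⁻¹) * g := by group
      rw [this, hh]; group
    · rw [mul_smul, mul_smul, ← hg1, inv_smul_smul, hha]
    · rw [mul_smul, mul_smul, ← hg2, inv_smul_smul, hhb]
  -- N is 2-transitive
  have hN2 : ∀ a b c d : Ω, a ≠ b → c ≠ d → ∃ g ∈ N, g • a = c ∧ g • b = d := by
    intro a b c d hab hcd
    obtain ⟨n1, hn1, hn1a⟩ := hNt a c
    have hne : n1 • b ≠ c := by
      rw [← hn1a]; exact fun hh => hab (MulAction.injective n1 hh).symm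
    obtain ⟨e, hde, hce⟩ := hthird c d hcd
    obtain ⟨h', hh'N, hh'1, hh'c, hh'd⟩ := hexab c d hcd
    obtain ⟨K, hKa, hKn, hKfree, hKt⟩ := exists_kernel h2 h3 c d e hcd hde hce h' hh'1 hh'c hh'd
    have hKN : K ≤ N := kernel_le h3 N K (fun k _ n hn => hNn.conj_mem n hn k) c d hcd hKa hKn hKfree
      h' hh'N hh'1 hh'c hh'd
    obtain ⟨k, hk, hkb⟩ := hKt (n1 • b) d hne hcd.symm
    refine ⟨k * n1, N.mul_mem (hKN hk) hn1, ?_, ?_⟩
    · rw [mul_smul, hn1a, hKa k hk]
    · rw [mul_smul, hkb]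
  refine ⟨inferInstance, ?_, ?_, ?_, ?_⟩
  · rw [MulAction.is_two_pretransitive_iff]
    intro a b c d hab hcd
    obtain ⟨g, hg, h1, h2⟩ := hN2 a b c d hab hcd
    exact ⟨⟨g, hg⟩, h1, h2⟩
  · intro g a b c hab hbc hac h1 h2 h3'
    exact Subtype.ext (h3 g a b c hab hbc hac h1 h2 h3')
  · exact ⟨⟨h, hhN⟩, fun hh => hh1 (congrArg Subtype.val hh), a1, b1, hab1, hha, hhb⟩
  · intro R hRn hRt
    by_contra hcon
    push Not at hcon
    -- R as a subgroup of G
    obtain ⟨RG, hRG⟩ : ∃ RG : Subgroup G, RG = R.map N.subtype := ⟨_, rfl⟩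
    have hRGN : RG ≤ N := by
      rw [hRG]; rintro _ ⟨r, -, rfl⟩; exact r.2
    have hRGt : ∀ x y : Ω, ∃ r ∈ RG, r • x = y := by
      intro x y
      obtain ⟨r, hr⟩ := hRt.exists_smul_eq x y
      exact ⟨((r : N) : G), by rw [hRG]; exact ⟨r, r.2, rfl⟩, hr⟩
    have hRGf : ∀ r ∈ RG, ∀ x : Ω, r • x = x → r = 1 := by
      intro r hr x hx
      rw [hRG] at hr
      obtain ⟨r', hr', rfl⟩ := hr
      have : (⟨r', hr'⟩ : R) ∈ MulAction.stabilizer R x := MulAction.mem_stabilizer_iff.mpr hx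
      rw [hcon x, Subgroup.mem_bot] at this
      have h5 : r' = 1 := congrArg Subtype.val this
      rw [h5]; rfl
    have hRGn : ∀ g ∈ N, ∀ x ∈ RG, g * x * g⁻¹ ∈ RG := by
      intro g hg x hx
      rw [hRG] at hx ⊢
      obtain ⟨r', hr', rfl⟩ := hx
      exact ⟨⟨g, hg⟩ * r' * ⟨g, hg⟩⁻¹, hRn.conj_mem r' hr' _, rfl⟩
    -- RG is normal in G
    have hnormal : RG.Normal := by
      constructor
      intro r hr g
      -- the conjugate subgroup
      let R' : Subgroup G := RG.map (MulAut.conj g⁻¹).toMonoidHom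
      have hR'mem : ∀ x, x ∈ R' ↔ g * x * g⁻¹ ∈ RG := by
        intro x
        constructor
        · rintro ⟨y, hy, rfl⟩
          simp only [MulEquiv.coe_toMonoidHom, MulAut.conj_apply, inv_inv]
          have : g * (g⁻¹ * y * g) * g⁻¹ = y := by group
          rw [this]; exact hy
        · intro hx
          refine ⟨g * x * g⁻¹, hx, ?_⟩
          simp only [MulEquiv.coe_toMonoidHom, MulAut.conj_apply, inv_inv]
          group
      have hle : RG ≤ R' := by
        obtain ⟨c1, hbc1, hac1⟩ := hthird a1 b1 hab1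
        refine regular_le h3 N RG R' hRGN ?_ hN2 hRGn ?_ hRGt ?_ hRGf a1 b1 c1 hab1 hbc1 hac1
        · intro x hx
          have h6 := hNn.conj_mem _ (hRGN ((hR'mem x).mp hx)) g⁻¹
          have : g⁻¹ * (g * x * g⁻¹) * g⁻¹⁻¹ = x := by group
          rwa [this] at h6
        · intro n hn x hx
          rw [hR'mem] at hx ⊢
          have h6 := hRGn (g * n * g⁻¹) (hNn.conj_mem n hn g) _ hx
          have : g * n * g⁻¹ * (g * x * g⁻¹) * (g * n * g⁻¹)⁻¹ = g * (n * x * n⁻¹) * g⁻¹ := by group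
          rwa [this] at h6
        · intro x y
          obtain ⟨r, hr, hrx⟩ := hRGt (g • x) (g • y)
          refine ⟨g⁻¹ * r * g, ?_, ?_⟩
          · rw [hR'mem]
            have : g * (g⁻¹ * r * g) * g⁻¹ = r := by group
            rw [this]; exact hr
          · rw [mul_smul, mul_smul, hrx, inv_smul_smul]
      exact (hR'mem r).mp (hle hr)
    have hRGt' : MulAction.IsPretransitive RG Ω :=
      ⟨fun x y => by obtain ⟨r, hr, h⟩ := hRGt x y; exact ⟨⟨r, hr⟩, h⟩⟩
    obtain ⟨a', ha'⟩ := hreg RG hnormal hRGt'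
    apply ha'
    rw [eq_bot_iff]
    rintro ⟨r, hr⟩ hx
    rw [Subgroup.mem_bot]
    exact Subtype.ext (hRGf r hr a' (MulAction.mem_stabilizer_iff.mp hx))

end Cfsg.Agent.S0339
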