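import Cfsg.Statements.S0740
import Cfsg.Agent.Lib.Helper16.Zassenhaus

set_option autoImplicit false
open Cfsg

namespace Cfsg.Agent.S0740

open Cfsg.Agent.Lib.Helper16 MulAction

/-- In a finite Zassenhaus group any two points `a ≠ b` are swapped by an involution; every such involution has exactly one fixed point when the degree is odd and 0 or 2 fixed points when the degree is even; and if the two-point stabiliser has even order, some such involution has exactly 2 fixed points. -/
theorem result {G Ω : Type*} [Group G] [Finite G] [MulAction G Ω] [Fintype Ω] (hZ : Cfsg.IsZassenhausGroup G Ω) {a b : Ω} (hab : a ≠ b) : (∃ s : G, orderOf s = 2 ∧ s • a = b ∧ s • b = a) ∧ (∀ s : G, orderOf s = 2 → s • a = b → s • b = a → (Odd (Fintype.card Ω) → Nat.card (MulAction.fixedBy Ω s) = 1) ∧ (Even (Fintype.card Ω) → Nat.card (MulAction.fixedBy Ω s) = 0 ∨ Nat.card (MulAction.fixedBy Ω s) = 2)) ∧ (Even (Fintype.card Ω) → Even (Nat.card ↥(MulAction.stabilizer G a ⊓ MulAction.stabilizer G b)) → ∃ s : G, orderOf s = 2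 ∧ s • a = b ∧ s • b = a ∧ Nat.card (MulAction.fixedBy Ω s) = 2) := by
  obtain ⟨hfaith, h2, h3, _, _⟩ := hZ
  have hle : ∀ s : G, orderOf s = 2 → Nat.card (fixedBy Ω s) ≤ 2 := by
    intro s hs
    apply card_fixedBy_le_two h3
    rintro rfl
    rw [orderOf_one] at hs; omega
  have hmod : ∀ s : G, orderOf s = 2 → Nat.card (fixedBy Ω s) ≡ Fintype.card Ω [MOD 2] := by
    intro s hs
    apply card_fixedBy_modEq_two
    rw [← hs]; exact pow_orderOf_eq_one s
  refine ⟨?_, ?_, ?_⟩
  · obtain ⟨t, ht⟩ := exists_involution h2 hab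
    obtain ⟨h, h1, h2', h3'⟩ := exists_conj_swap h2 t ht hab
    exact ⟨_, h1, h2', h3'⟩
  · intro s hs _ _
    have h1 := hle s hs
    have h2' := hmod s hs
    unfold Nat.ModEq at h2'
    constructor
    · intro hodd
      rw [Nat.odd_iff] at hodd
      omega
    · intro heven
      rw [Nat.even_iff] at heven
      omega
  · intro _ hH
    have : Fact (Nat.Prime 2) := ⟨Nat.prime_two⟩
    obtain ⟨u, hu⟩ := exists_prime_orderOf_dvd_card' (G := ↥(stabilizer G a ⊓ stabilizer G b)) 2
      (even_iff_two_dvd.mp hH)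
    have hu' : orderOf (u : G) = 2 := by rw [Subgroup.orderOf_coe, hu]
    obtain ⟨h, h1, h2', h3'⟩ := exists_conj_swap h2 (u : G) hu' hab
    refine ⟨_, h1, h2', h3', ?_⟩
    rw [card_fixedBy_conj]
    apply le_antisymm (hle _ hu')
    have hmem := u.2
    rw [Subgroup.mem_inf, mem_stabilizer_iff, mem_stabilizer_iff] at hmem
    rw [Nat.card_coe_set_eq]
    have hsub : ({a, b} : Set Ω) ⊆ fixedBy Ω (u : G) := by
      intro x hx
      rcases hx with rfl | rfl
      · exact hmem.1
      · exact hmem.2
    have := Set.ncard_le_ncard hsub (Set.toFinite _)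
    rwa [Set.ncard_pair hab] at this

end Cfsg.Agent.S0740
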