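import Cfsg.Statements.S0739
-- import your own Cfsg.Agent.* helpers here
import Cfsg.Agent.S0740
import Cfsg.Agent.S2970
import Cfsg.Agent.Lib.Helper69.Zass
import Cfsg.Agent.Lib.Helper31.FpfNilp

set_option autoImplicit false
open Cfsg

namespace Cfsg.Agent.S0739


/-- an element normalising `⟨x⟩`, `x` of prime order `p`, whose order is prime to `p - 1`,
centralises `x`. -/
theorem commute_of_coprime {G : Type*} [Group G] {p : ℕ} (hp : p.Prime) {x z : G}
    (hx : orderOf x = p) (hz : z * x * z⁻¹ ∈ Subgroup.zpowers x)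
    (hcop : (p - 1).Coprime (orderOf z)) : z * x * z⁻¹ = x := by
  have hx1 : x ≠ 1 := by
    rintro rfl
    rw [orderOf_one] at hx
    exact hp.one_lt.ne hx
  have hfin : IsOfFinOrder x := by
    rw [← orderOf_pos_iff, hx]
    exact hp.pos
  obtain ⟨i, hi⟩ := Submonoid.mem_powers_iff _ _ |>.mp (hfin.mem_powers_iff_mem_zpowers.mpr hz)
  have hpow : ∀ n : ℕ, z ^ n * x * (z ^ n)⁻¹ = x ^ (i ^ n) := by
    intro n
    induction n with
    | zero => simp
    | succ n ih =>
      calc z ^ (n + 1) * x * (z ^ (n + 1))⁻¹ = z * (z ^ n * x * (z ^ n)⁻¹) * z⁻¹ := by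
            rw [pow_succ']
            group
        _ = z * x ^ (i ^ n) * z⁻¹ := by rw [ih]
        _ = (z * x * z⁻¹) ^ (i ^ n) := by rw [conj_pow]
        _ = x ^ (i ^ (n + 1)) := by rw [← hi, ← pow_mul, pow_succ']
  have hi0 : i.Coprime p := by
    rw [Nat.coprime_comm, hp.coprime_iff_not_dvd]
    intro hd
    have h1 : x ^ i = 1 := by
      rw [← hx] at hd
      exact orderOf_dvd_iff_pow_eq_one.mp hd
    rw [h1] at hi
    apply hx1
    have : z * x * z⁻¹ = 1 := hi.symm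
    calc x = z⁻¹ * (z * x * z⁻¹) * z := by group
      _ = 1 := by rw [this]; group
  have h2 : z ^ (p - 1) * x * (z ^ (p - 1))⁻¹ = x := by
    rw [hpow]
    have h3 := Nat.ModEq.pow_totient hi0
    rw [Nat.totient_prime hp] at h3
    have h4 : x ^ (i ^ (p - 1)) = x ^ 1 := by
      rw [pow_eq_pow_iff_modEq, hx]
      exact h3
    rw [h4, pow_one]
  obtain ⟨m, hm⟩ := exists_pow_eq_self_of_coprime hcop
  have h5 : Commute (z ^ (p - 1)) x := by
    have : z ^ (p - 1) * x = x * z ^ (p - 1) := by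
      calc z ^ (p - 1) * x = (z ^ (p - 1) * x * (z ^ (p - 1))⁻¹) * z ^ (p - 1) := by group
        _ = x * z ^ (p - 1) := by rw [h2]
    exact this
  have h6 : Commute z x := by
    rw [← hm]
    exact h5.pow_left m
  rw [h6.eq, mul_inv_cancel_right]

open Cfsg.Agent.Lib.Helper31 Cfsg.Agent.Lib.Helper1 in
theorem core {G : Type*} [Group G] [Finite G] (E K : Subgroup G) (w : G) (hw : w * w = 1)
    (hwE : ∀ x ∈ E, w * x * w⁻¹ ∈ E) (hodd : Odd (Nat.card E))
    (hEK : E ≤ Subgroup.normalizer (K : Set G)) (hK : K ≠ ⊥)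
    (hfpf : ∀ e ∈ E, e ≠ 1 → K ⊓ Subgroup.centralizer {e} = ⊥)
    (hctl : ∀ g : G, ∀ x ∈ E, x ≠ 1 → g * x * g⁻¹ ∈ E → g ∈ E ∨ g * w ∈ E)
    (hsyl : ∀ (p : ℕ) [Fact p.Prime] (P : Sylow p G), ∀ x ∈ E, x ≠ 1 → x ∈ P →
      (P : Subgroup G) ≤ E)
    (hnil : ∀ q : ℕ, q.Prime → q ∣ Nat.card E →
      ¬ ∃ N : Subgroup G, N.Normal ∧ N.index = q ^ (Nat.card G).factorization q) :
    ∀ x ∈ E, w * x * w⁻¹ = x → x = 1 := by
  by_contra hcon
  push Not at hcon
  obtain ⟨x0, hx0E, hx0w, hx01⟩ := hcon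
  have hwinv : w⁻¹ = w := inv_eq_of_mul_eq_one_left hw
  set E0 : Subgroup G := E ⊓ Subgroup.centralizer {w} with hE0
  have hmemE0 : ∀ y : G, y ∈ E0 ↔ y ∈ E ∧ w * y * w⁻¹ = y := by
    intro y
    rw [hE0, Subgroup.mem_inf, Subgroup.mem_centralizer_singleton_iff]
    constructor
    · rintro ⟨h1, h2⟩
      exact ⟨h1, by rw [← h2, mul_inv_cancel_right]⟩
    · rintro ⟨h1, h2⟩
      refine ⟨h1, ?_⟩
      calc y * w = (w * y * w⁻¹) * w := by rw [h2]
        _ = w * y := by group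
  have hE0ne : Nat.card E0 ≠ 1 := by
    intro h
    have h1 := Subgroup.card_eq_one.mp h
    have hx : x0 ∈ E0 := (hmemE0 x0).mpr ⟨hx0E, hx0w⟩
    rw [h1, Subgroup.mem_bot] at hx
    exact hx01 hx
  set p := (Nat.card E0).minFac with hpdef
  have hp : p.Prime := Nat.minFac_prime hE0ne
  have := Fact.mk hp
  obtain ⟨x', hx'⟩ := exists_prime_orderOf_dvd_card' (G := E0) p (Nat.minFac_dvd _)
  obtain ⟨x, hxE0⟩ := x'
  have hxo : orderOf x = p := by
    rw [← hx', ← Subgroup.orderOf_coe]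
  obtain ⟨hxE, hxw⟩ := (hmemE0 x).mp hxE0
  have hx1 : x ≠ 1 := by
    rintro rfl
    rw [orderOf_one] at hxo
    exact hp.one_lt.ne hxo
  have hordE : ∀ y ∈ E, orderOf y ∣ Nat.card E := by
    intro y hy
    have := orderOf_dvd_natCard (⟨y, hy⟩ : E)
    rwa [← Subgroup.orderOf_coe] at this
  have hpE : p ∣ Nat.card E := hxo ▸ hordE x hxE
  have hp2 : p ≠ 2 := by
    intro h
    rw [h] at hpE
    exact (Nat.not_even_iff_odd.mpr hodd) (even_iff_two_dvd.mpr hpE)
  have hzx : IsPGroup p (Subgroup.zpowers x) := by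
    apply IsPGroup.of_card (n := 1)
    rw [Nat.card_zpowers, hxo, pow_one]
  obtain ⟨P, hP⟩ := hzx.exists_le_sylow
  have hxP : x ∈ (P : Subgroup G) := hP (Subgroup.mem_zpowers x)
  have hPE : (P : Subgroup G) ≤ E := hsyl p P x hxE hx1 hxP
  have hcyc : IsCyclic (P : Subgroup G) := by
    rcases fpf_pgroup_structure p P K P.2 (hPE.trans hEK) hK (fun e he => hfpf e (hPE he))
      with h | ⟨h, _⟩
    · exact h
    · exact absurd h hp2
  have hNC : ¬ Subgroup.normalizer ((P : Subgroup G) : Set G) ≤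
      Subgroup.centralizer ((P : Subgroup G) : Set G) := by
    intro h
    apply hnil p hp hpE
    refine ⟨(MonoidHom.transferSylow P h).ker, inferInstance, ?_⟩
    rw [(MonoidHom.ker_transferSylow_isComplement' P h).symm.index_eq_card, P.card_eq_multiplicity]
  have hNx : ¬ Subgroup.normalizer ((P : Subgroup G) : Set G) ≤ Subgroup.centralizer {x} :=
    fun h => hNC (Cfsg.Agent.S2970.normalizer_le_centralizer_of_cyclic P hcyc hxP hx1 h)
  obtain ⟨g, hgN, hgx⟩ := SetLike.not_le_iff_exists.mp hNx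
  have hgxP : g * x * g⁻¹ ∈ (P : Subgroup G) := (Subgroup.mem_normalizer_iff.mp hgN x).mp hxP
  have hoc : orderOf (g * x * g⁻¹) = p := by
    have : g * x * g⁻¹ = MulAut.conj g x := rfl
    rw [this, MulEquiv.orderOf_eq, hxo]
  have hzp : Subgroup.zpowers (g * x * g⁻¹) = Subgroup.zpowers x :=
    fpf_pgroup_unique p P K P.2 (hPE.trans hEK) hK (fun e he => hfpf e (hPE he)) _ _
      (by rwa [Subgroup.zpowers_le]) hP (by rw [Nat.card_zpowers, hoc])
      (by rw [Nat.card_zpowers, hxo])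
  obtain ⟨x', hx'def⟩ : ∃ x', x' = g * x * g⁻¹ := ⟨_, rfl⟩
  have hx'z : x' ∈ Subgroup.zpowers x := by
    rw [← hzp, hx'def]
    exact Subgroup.mem_zpowers _
  have hx'ne : x' ≠ x := by
    intro h
    apply hgx
    rw [Subgroup.mem_centralizer_singleton_iff]
    calc g * x = (g * x * g⁻¹) * g := by group
      _ = x * g := by rw [← hx'def, h]
  obtain ⟨y, hyE, hyx⟩ : ∃ y ∈ E, y * x * y⁻¹ = x' := by
    rcases hctl g x hxE hx1 (hPE hgxP) with h | h
    · exact ⟨g, h, hx'def.symm⟩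
    · refine ⟨g * w, h, ?_⟩
      calc g * w * x * (g * w)⁻¹ = g * (w * x * w⁻¹) * g⁻¹ := by group
        _ = x' := by rw [hxw, hx'def]
  have hwx' : w * x' * w⁻¹ = x' := by
    obtain ⟨n, hn⟩ := Subgroup.mem_zpowers_iff.mp hx'z
    rw [← hn, ← conj_zpow, hxw]
  obtain ⟨m, hmdef⟩ : ∃ m, m = y⁻¹ * (w * y * w⁻¹) := ⟨_, rfl⟩
  have hmE : m ∈ E := by
    rw [hmdef]
    exact E.mul_mem (E.inv_mem hyE) (hwE y hyE)
  have hmx : m * x * m⁻¹ = x := by
    calc m * x * m⁻¹ = y⁻¹ * (w * (y * (w⁻¹ * x * w) * y⁻¹) * w⁻¹) * y := by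
          rw [hmdef]
          group
      _ = y⁻¹ * (w * (y * (w * x * w⁻¹) * y⁻¹) * w⁻¹) * y := by
          rw [hwinv]
      _ = x := by
          rw [hxw, hyx, hwx', ← hyx]
          group
  have hwm : w * m * w⁻¹ = m⁻¹ := by
    calc w * m * w⁻¹ = (w * y⁻¹ * w⁻¹) * ((w * w) * y * (w⁻¹ * w⁻¹)) := by
          rw [hmdef]
          group
      _ = (w * y⁻¹ * w⁻¹) * y := by
          rw [hwinv, hw]
          group
      _ = m⁻¹ := by
          rw [hmdef]
          group
  obtain ⟨j, hj⟩ : Odd (orderOf m) := hodd.of_dvd_nat (hordE m hmE)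
  obtain ⟨k, hkdef⟩ : ∃ k, k = m ^ (j + 1) := ⟨_, rfl⟩
  have hk2 : k * k = m := by
    rw [hkdef, ← pow_add, show j + 1 + (j + 1) = orderOf m + 1 by omega, pow_succ,
      pow_orderOf_eq_one, one_mul]
  have hkE : k ∈ E := by
    rw [hkdef]
    exact E.pow_mem hmE _
  have hkx : k * x * k⁻¹ = x := by
    have h1 : Commute m x := by
      have : m * x = x * m := by
        calc m * x = (m * x * m⁻¹) * m := by group
          _ = x * m := by rw [hmx]
      exact this
    have h2 : Commute k x := by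
      rw [hkdef]
      exact h1.pow_left _
    rw [h2.eq, mul_inv_cancel_right]
  have hwk : w * k * w⁻¹ = k⁻¹ := by
    rw [hkdef, ← conj_pow, hwm, inv_pow]
  have hzE0 : y * k ∈ E0 := by
    rw [hmemE0]
    refine ⟨E.mul_mem hyE hkE, ?_⟩
    calc w * (y * k) * w⁻¹ = y * (y⁻¹ * (w * y * w⁻¹)) * (w * k * w⁻¹) := by group
      _ = y * (k * k) * k⁻¹ := by rw [← hmdef, hwk, hk2]
      _ = y * k := by group
  have hzx' : (y * k) * x * (y * k)⁻¹ = x' := by
    calc (y * k) * x * (y * k)⁻¹ = y * (k * x * k⁻¹) * y⁻¹ := by group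
      _ = x' := by rw [hkx, hyx]
  have hcop : (p - 1).Coprime (orderOf (y * k)) := by
    by_contra hnc
    obtain ⟨q, hq, hq1, hq2⟩ := Nat.Prime.not_coprime_iff_dvd.mp hnc
    have h1 : orderOf (y * k) ∣ Nat.card E0 := by
      have := orderOf_dvd_natCard (⟨y * k, hzE0⟩ : E0)
      rwa [← Subgroup.orderOf_coe] at this
    have h2 : p ≤ q := Nat.minFac_le_of_dvd hq.two_le (hq2.trans h1)
    have h3 : q ≤ p - 1 := Nat.le_of_dvd (by have := hp.two_le; omega) hq1
    have := hp.two_le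
    omega
  have hfin := commute_of_coprime hp hxo (by rw [hzx']; exact hx'z) hcop
  exact hx'ne (hzx' ▸ hfin)

/-- In a finite Zassenhaus group whose two-point stabiliser `H = G_{a,b}` has odd order `d`, and which has no normal `q`-complement for any prime `q ∣ d`, `H` is cyclic, `C_G(H) = H`, and every element swapping `a` and `b` inverts each element of `H`. -/
theorem result {G Ω : Type*} [Group G] [Finite G] [MulAction G Ω] [Fintype Ω] (hZ : Cfsg.IsZassenhausGroup G Ω) {a b : Ω} (hab : a ≠ b) (hodd : Odd (Nat.card ↥(MulAction.stabilizer G a ⊓ MulAction.stabilizer G b))) (hnil : ∀ q : ℕ, q.Prime → q ∣ Nat.card ↥(MulAction.stabilizer G a ⊓ MulAction.stabilizer G b) → ¬ ∃ N : Subgroup G, N.Normal ∧ N.index = q ^ (Nat.card G).factorization q) : IsCyclic ↥(MulAction.stabilizer G a ⊓ MulAction.stabilizer G b) ∧ Subgroup.centralizer ((MulAction.stabilizer G a ⊓ MulAction.stabilizer G b : Subgroup G) : Set G) = MulAction.stabilizer G a ⊓ MulAction.stabilizer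 G b ∧ ∀ s : G, s • a = b → s • b = a → ∀ h ∈ MulAction.stabilizer G a ⊓ MulAction.stabilizer G b, s * h * s⁻¹ = h⁻¹ := by
  classical
  have hZ' := hZ
  obtain ⟨hfaith, h2, h3, ⟨g0, hg01, a0, b0, hab0, hg0a, hg0b⟩, -⟩ := hZ
  have h2' : ∀ a b c d : Ω, a ≠ b → c ≠ d → ∃ g : G, g • a = c ∧ g • b = d :=
    fun a b c d h h' => (MulAction.is_two_pretransitive_iff (G := G) (α := Ω)).mp h2 h h'
  obtain ⟨E, hE⟩ : ∃ E : Subgroup G, E = MulAction.stabilizer G a ⊓ MulAction.stabilizer G b :=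
    ⟨_, rfl⟩
  rw [← hE] at hodd hnil ⊢
  have hmemE : ∀ g : G, g ∈ E ↔ g • a = a ∧ g • b = b := by
    intro g
    rw [hE, Subgroup.mem_inf, MulAction.mem_stabilizer_iff, MulAction.mem_stabilizer_iff]
  obtain ⟨e0, he0E, he01⟩ : ∃ e0 ∈ E, e0 ≠ 1 := by
    obtain ⟨f, hfa, hfb⟩ := h2' a0 b0 a b hab0 hab
    refine ⟨f * g0 * f⁻¹, (hmemE _).mpr ⟨?_, ?_⟩, ?_⟩
    · rw [mul_smul, mul_smul, ← hfa, inv_smul_smul, hg0a]
    · rw [mul_smul, mul_smul, ← hfb, inv_smul_smul, hg0b]
    · intro h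
      apply hg01
      calc g0 = f⁻¹ * (f * g0 * f⁻¹) * f := by group
        _ = 1 := by rw [h]; group
  obtain ⟨c, hca, hcb⟩ : ∃ c : Ω, c ≠ a ∧ c ≠ b := by
    by_contra hcon
    push Not at hcon
    apply he01
    apply FaithfulSMul.eq_of_smul_eq_smul (α := Ω)
    intro x
    rw [one_smul]
    by_cases hxa : x = a
    · rw [hxa]
      exact ((hmemE e0).mp he0E).1
    · rw [hcon x hxa]
      exact ((hmemE e0).mp he0E).2
  obtain ⟨K, hKa, hKn, hKfree, hKtr⟩ := Cfsg.Agent.Lib.Helper69.Zass.exists_kernel h2' h3 a b c hab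
    hcb.symm hca.symm e0 he01 ((hmemE e0).mp he0E).1 ((hmemE e0).mp he0E).2
  have hfixE : ∀ x ∈ E, x ≠ 1 → ∀ d : Ω, x • d = d → d = a ∨ d = b := by
    intro x hx hx1 d hd
    by_contra hcon
    push Not at hcon
    exact hx1 (h3 x a b d hab (Ne.symm hcon.2) (Ne.symm hcon.1) ((hmemE x).mp hx).1
      ((hmemE x).mp hx).2 hd)
  obtain ⟨⟨w, hwo, hwa, hwb⟩, -, -⟩ := Cfsg.Agent.S0740.result hZ' hab
  have hw : w * w = 1 := by rw [← pow_two, ← hwo, pow_orderOf_eq_one]
  have hwinv : w⁻¹ = w := inv_eq_of_mul_eq_one_left hw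
  have hwE : ∀ x ∈ E, w * x * w⁻¹ ∈ E := by
    intro x hx
    rw [hwinv, hmemE]
    obtain ⟨h1, h2⟩ := (hmemE x).mp hx
    constructor
    · rw [mul_smul, mul_smul, hwa, h2, hwb]
    · rw [mul_smul, mul_smul, hwb, h1, hwa]
  have hswapE : ∀ g : G, g • a = b → g • b = a → g * w ∈ E := by
    intro g h1 h2
    rw [hmemE]
    constructor
    · rw [mul_smul, hwa, h2]
    · rw [mul_smul, hwb, h1]
  have hpres : ∀ g : G, ∀ x ∈ E, x ≠ 1 → g * x * g⁻¹ ∈ E →
      (g • a = a ∧ g • b = b) ∨ (g • a = b ∧ g • b = a) := by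
    intro g x hx hx1 hgx
    have hne : g * x * g⁻¹ ≠ 1 := by
      intro h
      apply hx1
      calc x = g⁻¹ * (g * x * g⁻¹) * g := by group
        _ = 1 := by rw [h]; group
    obtain ⟨h1, h2⟩ := (hmemE x).mp hx
    have ha := hfixE _ hgx hne (g • a) (by rw [mul_smul, mul_smul, inv_smul_smul, h1])
    have hb := hfixE _ hgx hne (g • b) (by rw [mul_smul, mul_smul, inv_smul_smul, h2])
    have hinj : g • a ≠ g • b := fun h => hab (MulAction.injective g h)
    rcases ha with ha | ha <;> rcases hb with hb | hb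
    · exact absurd (ha.trans hb.symm) hinj
    · exact Or.inl ⟨ha, hb⟩
    · exact Or.inr ⟨ha, hb⟩
    · exact absurd (ha.trans hb.symm) hinj
  have hctl : ∀ g : G, ∀ x ∈ E, x ≠ 1 → g * x * g⁻¹ ∈ E → g ∈ E ∨ g * w ∈ E := by
    intro g x hx hx1 hgx
    rcases hpres g x hx hx1 hgx with h | h
    · exact Or.inl ((hmemE g).mpr h)
    · exact Or.inr (hswapE g h.1 h.2)
  have hEK : E ≤ Subgroup.normalizer (K : Set G) := by
    intro g hg
    rw [Subgroup.mem_normalizer_iff]
    have hga := ((hmemE g).mp hg).1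
    intro k
    constructor
    · exact fun hk => hKn g hga k hk
    · intro hk
      have := hKn g⁻¹ (by rw [inv_smul_eq_iff, hga]) _ hk
      have e : g⁻¹ * (g * k * g⁻¹) * g⁻¹⁻¹ = k := by group
      rwa [e] at this
  have hK : K ≠ ⊥ := by
    intro h
    obtain ⟨k, hk, hkb⟩ := hKtr b c hab.symm hca
    rw [h, Subgroup.mem_bot] at hk
    rw [hk, one_smul] at hkb
    exact hcb hkb.symm
  have hfpf : ∀ e ∈ E, e ≠ 1 → K ⊓ Subgroup.centralizer {e} = ⊥ := by
    intro e he he1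
    rw [eq_bot_iff]
    intro k hk
    rw [Subgroup.mem_inf, Subgroup.mem_centralizer_singleton_iff] at hk
    obtain ⟨hkK, hke⟩ := hk
    rw [Subgroup.mem_bot]
    by_contra hk1
    have h1 := hKfree k hkK hk1 b hab.symm
    have h2 : e • (k • b) = k • b := by
      rw [← mul_smul, ← hke, mul_smul, ((hmemE e).mp he).2]
    rcases hfixE e he he1 _ h2 with h | h
    · apply hab
      apply MulAction.injective k
      change k • a = k • b
      rw [hKa k hkK, h]
    · exact h1 h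
  have hordE : ∀ y ∈ E, orderOf y ∣ Nat.card E := by
    intro y hy
    have := orderOf_dvd_natCard (⟨y, hy⟩ : E)
    rwa [← Subgroup.orderOf_coe] at this
  have hsyl : ∀ (p : ℕ) [Fact p.Prime] (P : Sylow p G), ∀ x ∈ E, x ≠ 1 → x ∈ P →
      (P : Subgroup G) ≤ E := by
    intro p _ P x hxE hx1 hxP
    have hp := (Fact.out : p.Prime)
    have hp2 : p ≠ 2 := by
      rintro rfl
      obtain ⟨k, hk⟩ := P.2 ⟨x, hxP⟩
      have hk' : x ^ 2 ^ k = 1 := congrArg Subtype.val hk
      have h1 : orderOf x ∣ 2 ^ k := orderOf_dvd_of_pow_eq_one hk'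
      have hcop : (2 ^ k).Coprime (Nat.card E) :=
        Nat.Coprime.pow_left k (Nat.coprime_two_left.mpr hodd)
      have h3 := (Nat.Coprime.coprime_dvd_left h1 hcop).eq_one_of_dvd (hordE x hxE)
      exact hx1 (orderOf_eq_one_iff.mp h3)
    have hzle : Subgroup.zpowers x ≤ (P : Subgroup G) := by rwa [Subgroup.zpowers_le]
    have hzP : IsPGroup p (Subgroup.zpowers x) := P.2.to_le hzle
    have hX : MulAction.fixedPoints (Subgroup.zpowers x) Ω = {a, b} := by
      ext d
      rw [MulAction.mem_fixedPoints]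
      constructor
      · intro h
        exact hfixE x hxE hx1 d (h ⟨x, Subgroup.mem_zpowers x⟩)
      · intro h g
        have hgE : (g : G) ∈ E := (Subgroup.zpowers_le.mpr hxE) g.2
        rcases h with rfl | rfl
        · exact ((hmemE _).mp hgE).1
        · exact ((hmemE _).mp hgE).2
    have c1 := hzP.card_modEq_card_fixedPoints Ω
    have c2 := P.2.card_modEq_card_fixedPoints Ω
    rw [hX, Nat.card_coe_set_eq, Set.ncard_pair hab] at c1
    have hsub : MulAction.fixedPoints (P : Subgroup G) Ω ⊆ {a, b} := by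
      rw [← hX]
      intro d hd g
      exact hd ⟨g, hzle g.2⟩
    have hle : Nat.card (MulAction.fixedPoints (P : Subgroup G) Ω) ≤ 2 := by
      rw [Nat.card_coe_set_eq, ← Set.ncard_pair hab]
      exact Set.ncard_le_ncard hsub (Set.toFinite _)
    have c3 : Nat.card (MulAction.fixedPoints (P : Subgroup G) Ω) ≡ 2 [MOD p] := c2.symm.trans c1
    have hp3 : 3 ≤ p := by
      have := hp.two_le
      omega
    have heq2 : Nat.card (MulAction.fixedPoints (P : Subgroup G) Ω) = 2 := by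
      have h4 := Nat.ModEq.eq_of_lt_of_lt c3 (by omega) (by omega)
      exact h4
    have hfix : MulAction.fixedPoints (P : Subgroup G) Ω = {a, b} := by
      apply Set.eq_of_subset_of_ncard_le hsub _ (Set.toFinite _)
      rw [Set.ncard_pair hab, ← Nat.card_coe_set_eq, heq2]
    intro g hg
    rw [hmemE]
    have ha : a ∈ MulAction.fixedPoints (P : Subgroup G) Ω := by rw [hfix]; simp
    have hb : b ∈ MulAction.fixedPoints (P : Subgroup G) Ω := by rw [hfix]; simp
    exact ⟨ha ⟨g, hg⟩, hb ⟨g, hg⟩⟩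
  have hC := core E K w hw hwE hodd hEK hK hfpf hctl hsyl hnil
  let φ : E →* E :=
    { toFun := fun x => ⟨w * x * w⁻¹, hwE x x.2⟩
      map_one' := by ext; simp
      map_mul' := fun x y => by ext; simp [mul_assoc] }
  have hφ : MonoidHom.FixedPointFree φ :=
    fun x hx => Subtype.ext (hC x x.2 (congrArg Subtype.val hx))
  have hφ2 : Function.Involutive φ := by
    intro x
    apply Subtype.ext
    change w * (w * x * w⁻¹) * w⁻¹ = x
    calc w * (w * x * w⁻¹) * w⁻¹ = (w * w) * x * (w⁻¹ * w⁻¹) := by group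
      _ = x := by rw [hwinv, hw]; group
  have hinv := MonoidHom.FixedPointFree.coe_eq_inv_of_involutive hφ hφ2
  have hinv' : ∀ x ∈ E, w * x * w⁻¹ = x⁻¹ :=
    fun x hx => congrArg Subtype.val (congrFun hinv ⟨x, hx⟩)
  have hcomm : ∀ x y : E, x * y = y * x :=
    fun x y => MonoidHom.FixedPointFree.commute_all_of_involutive hφ hφ2 x y
  have hswap : ∀ s : G, s • a = b → s • b = a → ∀ h ∈ E, s * h * s⁻¹ = h⁻¹ := by
    intro s h1 h2 h hh
    have hsw := hswapE s h1 h2
    have e1 : (s * w) * h⁻¹ = h⁻¹ * (s * w) :=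
      congrArg Subtype.val (hcomm ⟨s * w, hsw⟩ ⟨h⁻¹, E.inv_mem hh⟩)
    calc s * h * s⁻¹ = (s * w) * (w⁻¹ * h * w) * (s * w)⁻¹ := by group
      _ = (s * w) * (w * h * w⁻¹) * (s * w)⁻¹ := by rw [hwinv]
      _ = (s * w) * h⁻¹ * (s * w)⁻¹ := by rw [hinv' h hh]
      _ = h⁻¹ := by rw [e1]; group
  refine ⟨?_, ?_, hswap⟩
  · apply Cfsg.Agent.Lib.Helper31.fpf_odd_nilpotent_isCyclic E K hEK hK hfpf _ hodd
    let _ : CommGroup E := { (inferInstance : Group E) with mul_comm := hcomm }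
    exact CommGroup.isNilpotent
  · apply le_antisymm
    · intro g hg
      rw [Subgroup.mem_centralizer_iff] at hg
      have h1 : g * e0 * g⁻¹ = e0 := by
        rw [← hg e0 he0E, mul_inv_cancel_right]
      rcases hpres g e0 he0E he01 (by rw [h1]; exact he0E) with h | h
      · exact (hmemE g).mpr h
      · exfalso
        have h4 := hswap g h.1 h.2 e0 he0E
        rw [h1] at h4
        have h5 : e0 ^ 2 = 1 := by
          rw [pow_two]
          nth_rewrite 1 [h4]
          group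
        have h6 : orderOf e0 ∣ 2 := orderOf_dvd_of_pow_eq_one h5
        have hcop : (2 : ℕ).Coprime (Nat.card E) := Nat.coprime_two_left.mpr hodd
        have h7 := (Nat.Coprime.coprime_dvd_left h6 hcop).eq_one_of_dvd (hordE e0 he0E)
        exact he01 (orderOf_eq_one_iff.mp h7)
    · intro g hg
      rw [Subgroup.mem_centralizer_iff]
      intro h hh
      exact congrArg Subtype.val (hcomm ⟨h, hh⟩ ⟨g, hg⟩)

end Cfsg.Agent.S0739
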