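import Cfsg.Statements.S0345
-- import your own Cfsg.Agent.* helpers here
import Cfsg.Agent.Lib.Helper32.Sh3C
import Cfsg.Agent.Lib.Helper76.Sharp3Index2
import Cfsg.Agent.Lib.Helper54.ZassDich
import Cfsg.Agent.Lib.Helper54.ZassSharp
import Cfsg.Agent.Lib.Helper12.ZassInvEven
import Cfsg.Agent.Lib.Helper1.Fpf3
import Cfsg.Agent.S0699
import Cfsg.Agent.S0739
import Cfsg.Agent.S0740
import Cfsg.Agent.S0741

set_option autoImplicit false
open Cfsg

namespace Cfsg.Agent.S0345

/-- In a finite simple Zassenhaus group the stabiliser `H` of two points `a ≠ b` is cyclic, and some involution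
interchanging `a` and `b` inverts every element of `H`. -/
theorem result {G Ω : Type*} [Group G] [Finite G] [MulAction G Ω] [Finite Ω]
    (hZ : Cfsg.IsZassenhausGroup G Ω) [IsSimpleGroup G]
    {a b : Ω} (hab : a ≠ b) :
    IsCyclic ↥(MulAction.stabilizer G a ⊓ MulAction.stabilizer G b) ∧
      ∃ v : G, orderOf v = 2 ∧ v • a = b ∧ v • b = a ∧ ∀ h ∈ MulAction.stabilizer G a ⊓ MulAction.stabilizer G b, v * h * v⁻¹ = h⁻¹ := by
  classical
  have := Fintype.ofFinite Ω
  obtain ⟨hfaith, h2t, h3, -, -⟩ := id hZ
  have hn3 := Cfsg.Agent.Lib.Helper54.Zass.three_le_card hZ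
  have hG := Cfsg.Agent.Lib.Helper54.Zass.card_group h2t hab
  have hepos : 0 < Nat.card ↥(MulAction.stabilizer G a ⊓ MulAction.stabilizer G b) := Nat.card_pos
  rcases Nat.even_or_odd (Nat.card ↥(MulAction.stabilizer G a ⊓ MulAction.stabilizer G b))
    with heven | hodd
  · have hdvd := Cfsg.Agent.Lib.Helper54.Zass.card_stab2_dvd h3 hab
    have hle := Cfsg.Agent.S0741.result hZ hab heven
    obtain ⟨k, hk⟩ := hdvd
    have he2 : 2 ≤ Nat.card ↥(MulAction.stabilizer G a ⊓ MulAction.stabilizer G b) := by
      obtain ⟨r, hr⟩ := heven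
      omega
    have hk12 : k = 1 ∨ k = 2 := by
      have h0 : k ≠ 0 := by
        rintro rfl
        omega
      have h1 : k ≤ 2 := by
        by_contra h
        push Not at h
        rw [hk] at hle
        nlinarith
      omega
    obtain ⟨c, hca, hcb⟩ : ∃ c : Ω, c ≠ a ∧ c ≠ b := by
      by_contra hcon
      push Not at hcon
      have h1 : (Finset.univ : Finset Ω) ⊆ {a, b} := by
        intro w _
        by_cases hx : w = a
        · simp [hx]
        · simp [hcon w hx]
      have h2 := Finset.card_le_card h1
      have h4 : ({a, b} : Finset Ω).card ≤ 2 := Finset.card_le_two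
      rw [Finset.card_univ] at h2
      omega
    rcases hk12 with rfl | rfl
    · exfalso
      obtain ⟨h3t, -⟩ := Cfsg.Agent.Lib.Helper54.Zass.sharp_of_card hZ hab
        (by rw [Nat.card_eq_fintype_card (α := Ω)]; omega)
      rw [Cfsg.Agent.S0699.three_iff] at h3t
      obtain ⟨⟨s, hs2, hsa, hsb⟩, -, -⟩ := Cfsg.Agent.S0740.result hZ hab
      have hss : s * s = 1 := by rw [← pow_two, ← hs2, pow_orderOf_eq_one]
      obtain ⟨N, hN, hN2, hNs⟩ := Cfsg.Agent.Lib.Helper32.sharp3_exists_N h3t
        (fun g a b c hab hac hbc => h3 g a b c hab hbc hac)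
        (by
          obtain ⟨r, hr⟩ := heven
          exact ⟨r + 1, by omega⟩) (by omega) hab s hsa hsb hss
      obtain ⟨M, hM⟩ := Cfsg.Agent.Lib.Helper76.exists_index_two_of_sharp3 h3t h3 hab hca.symm
        hcb.symm s hsa hsb hss N hN hN2 hNs
      have hMn := Subgroup.normal_of_index_eq_two hM
      rcases hMn.eq_bot_or_eq_top with rfl | rfl
      · rw [Subgroup.index_bot] at hM
        rw [hM] at hG
        have h5 : 3 * (3 - 1) * 2 ≤ Fintype.card Ω * (Fintype.card Ω - 1) *
            Nat.card ↥(MulAction.stabilizer G a ⊓ MulAction.stabilizer G b) :=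
          Nat.mul_le_mul (Nat.mul_le_mul hn3 (by omega)) he2
        omega
      · simp at hM
    · obtain ⟨w, hwa, hwb, hww, hwinv⟩ := Cfsg.Agent.Lib.Helper12.Zass.inv_even hZ hab heven
        (by rw [Nat.card_eq_fintype_card (α := Ω)]; omega)
      refine ⟨?_, w, ?_, hwa, hwb, hwinv⟩
      · obtain ⟨E, hE⟩ : ∃ E : Subgroup G, E = MulAction.stabilizer G a ⊓ MulAction.stabilizer G b :=
          ⟨_, rfl⟩
        rw [← hE] at hwinv he2 hk ⊢
        have hEmem : ∀ x, x ∈ E ↔ (x • a = a ∧ x • b = b) := by
          intro x
          rw [hE, Subgroup.mem_inf, MulAction.mem_stabilizer_iff, MulAction.mem_stabilizer_iff]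
        have hEab : ∀ x ∈ E, ∀ y ∈ E, x * y = y * x := by
          intro x hx y hy
          have h1 := hwinv x hx
          have h4 := hwinv y hy
          have h5 := hwinv (x * y) (E.mul_mem hx hy)
          have h6 : w * (x * y) * w⁻¹ = (w * x * w⁻¹) * (w * y * w⁻¹) := by group
          rw [h6, h1, h4, mul_inv_rev] at h5
          have := congrArg (fun z => z⁻¹) h5
          simpa using this.symm
        obtain ⟨g0, hg0E, hg01⟩ : ∃ g ∈ E, g ≠ 1 := by
          by_contra hcon
          push Not at hcon
          have : E = ⊥ := (Subgroup.eq_bot_iff_forall _).2 hcon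
          rw [this, Subgroup.card_bot] at he2
          omega
        have h2 : ∀ a b c d : Ω, a ≠ b → c ≠ d → ∃ g : G, g • a = c ∧ g • b = d := by
          intro a b c d hab hcd
          exact (MulAction.is_two_pretransitive_iff (G := G) (α := Ω)).mp h2t hab hcd
        obtain ⟨K, hKa, hKn, hKfree, hKtrans⟩ := Cfsg.Agent.Lib.Helper69.Zass.exists_kernel h2 h3
          a b c hab hcb.symm hca.symm g0 hg01 ((hEmem g0).1 hg0E).1 ((hEmem g0).1 hg0E).2
        have huniq : ∀ y : Ω, y ≠ a → ∀ u ∈ K, ∀ v ∈ K, u • y = v • y → u = v := by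
          intro y hy u hu v hv huv
          by_contra hne
          have h1 : v⁻¹ * u ≠ 1 := by
            intro h
            exact hne (eq_of_inv_mul_eq_one h).symm
          apply hKfree _ (K.mul_mem (K.inv_mem hv) hu) h1 y hy
          rw [mul_smul, huv, inv_smul_smul]
        have hKne : ∀ u ∈ K, ∀ y : Ω, y ≠ a → u • y ≠ a := by
          intro u hu y hy h
          apply hy
          have : u • y = u • a := by rw [h, hKa u hu]
          exact smul_left_cancel _ this
        have hnorm : ∀ x ∈ E, ∀ u ∈ K, x * u * x⁻¹ ∈ K := fun x hx u hu =>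
          hKn x ((hEmem x).1 hx).1 u hu
        have hsemi : ∀ x ∈ E, ∀ u ∈ K, u ≠ 1 → x * u * x⁻¹ = u → x = 1 := by
          intro x hx u hu hu1 hxu
          obtain ⟨hxa, hxb⟩ := (hEmem x).1 hx
          apply h3 x a b (u • b) hab (hKfree u hu hu1 b hab.symm).symm
            (hKne u hu b hab.symm).symm hxa hxb
          have : x * u = u * x := by
            calc x * u = (x * u * x⁻¹) * x := by group
              _ = u * x := by rw [hxu]
          rw [← mul_smul, this, mul_smul, hxb]
        have hcardK : Nat.card K + 1 = Fintype.card Ω := by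
          have hbij : Function.Bijective (fun k : K =>
              (⟨(k : G) • b, hKne k k.2 b hab.symm⟩ : {x : Ω // x ≠ a})) := by
            constructor
            · intro u v huv
              exact Subtype.ext (huniq b hab.symm u u.2 v v.2 (congrArg Subtype.val huv))
            · rintro ⟨z, hz⟩
              obtain ⟨k, hk, hkz⟩ := hKtrans b z hab.symm hz
              exact ⟨⟨k, hk⟩, Subtype.ext hkz⟩
          rw [Nat.card_congr (Equiv.ofBijective _ hbij), Nat.card_eq_fintype_card,
            Fintype.card_subtype_compl]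
          simp
          omega
        have hK1 : K ≠ ⊥ := by
          intro h
          rw [h, Subgroup.card_bot] at hcardK
          omega
        obtain ⟨hcomm, -⟩ := Cfsg.Agent.S0738.abstract_main K E hnorm hsemi (by omega) hK1
        haveI := hcomm
        refine Cfsg.Agent.Lib.Helper1.fpf_isCyclic_subgroup E K hK1 ?_ ?_
          (Or.inl ⟨⟨fun x y => Subtype.ext (hEab x x.2 y y.2)⟩⟩)
        · intro x hx
          rw [Subgroup.mem_normalizer_iff]
          intro u
          constructor
          · exact hnorm x hx u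
          · intro h
            have := hnorm x⁻¹ (E.inv_mem hx) _ h
            simpa [mul_assoc] using this
        · intro x hx hx1
          rw [Subgroup.eq_bot_iff_forall]
          intro u hu
          obtain ⟨huK, huc⟩ := Subgroup.mem_inf.1 hu
          rw [Subgroup.mem_centralizer_singleton_iff] at huc
          by_contra hu1
          apply hx1
          apply hsemi x hx u huK hu1
          rw [mul_inv_eq_iff_eq_mul]
          first
            | exact huc
            | exact huc.symm
      · exact orderOf_eq_prime (by rw [pow_two]; exact hww) (by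
          rintro rfl
          rw [one_smul] at hwa
          exact hab hwa)
  · have hnil : ∀ q : ℕ, q.Prime →
        q ∣ Nat.card ↥(MulAction.stabilizer G a ⊓ MulAction.stabilizer G b) →
        ¬ ∃ N : Subgroup G, N.Normal ∧ N.index = q ^ (Nat.card G).factorization q := by
      rintro q hq hqe ⟨N, hN, hidx⟩
      rcases hN.eq_bot_or_eq_top with rfl | rfl
      · rw [Subgroup.index_bot] at hidx
        have h1 : Fintype.card Ω ∣ q ^ (Nat.card G).factorization q := by
          rw [← hidx, hG, mul_assoc]
          exact Dvd.intro _ rfl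
        have h2 : Fintype.card Ω - 1 ∣ q ^ (Nat.card G).factorization q := by
          rw [← hidx, hG]
          exact Dvd.dvd.mul_right (Dvd.intro_left _ rfl) _
        obtain ⟨i, -, hi⟩ := (Nat.dvd_prime_pow hq).1 h1
        obtain ⟨j, -, hj⟩ := (Nat.dvd_prime_pow hq).1 h2
        have h4 : q ∣ Fintype.card Ω := by
          rw [hi]
          apply dvd_pow_self
          rintro rfl
          rw [pow_zero] at hi
          omega
        have h5 : q ∣ Fintype.card Ω - 1 := by
          rw [hj]
          apply dvd_pow_self
          rintro rfl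
          rw [pow_zero] at hj
          omega
        have h6 : q ∣ 1 := by
          have := Nat.dvd_sub h4 h5
          have h7 : Fintype.card Ω - (Fintype.card Ω - 1) = 1 := by omega
          rwa [h7] at this
        exact hq.one_lt.ne' (Nat.dvd_one.1 h6)
      · rw [Subgroup.index_top] at hidx
        have hqG : q ∣ Nat.card G := hqe.trans (Subgroup.card_subgroup_dvd_card _)
        have h1 : 1 ≤ (Nat.card G).factorization q :=
          (hq.dvd_iff_one_le_factorization Nat.card_pos.ne').1 hqG
        have h2 := Nat.one_lt_pow (by omega : (Nat.card G).factorization q ≠ 0) hq.one_lt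
        omega
    obtain ⟨hcyc, -, hinv⟩ := Cfsg.Agent.S0739.result hZ hab hodd hnil
    obtain ⟨⟨s, hs2, hsa, hsb⟩, -, -⟩ := Cfsg.Agent.S0740.result hZ hab
    exact ⟨hcyc, s, hs2, hsa, hsb, hinv s hsa hsb⟩

end Cfsg.Agent.S0345
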