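import Cfsg.Statements.S0882
import Cfsg.Agent.Lib.Helper54.ZassOdd
import Cfsg.Agent.Lib.Helper38.Invol
import Cfsg.Agent.S0739

set_option autoImplicit false
open Cfsg

namespace Cfsg.Agent.S0882

/-- Let G be a finite simple Zassenhaus group on Ω with n = h + 1 points whose two-point stabilizer E has odd order e with 2e < h - 1. Then any two involutions of G are conjugate, and the number of involutions is e * (h + 1) if h is even and e * h if h is odd. -/
theorem result {G Ω : Type*} [Group G] [Finite G] [MulAction G Ω] [Fintype Ω] (hZ : Cfsg.IsZassenhausGroup G Ω) {a b : Ω} (hab : a ≠ b) [IsSimpleGroup G] (h e : ℕ) (hh : Fintype.card Ω = h + 1) (he : Nat.card ↥(MulAction.stabilizer G a ⊓ MulAction.stabilizer G b : Subgroup G) = e) (hodd : Odd e) (hlt : 2 * e < h - 1) : (∀ x y : G, orderOf x = 2 → orderOf y = 2 → IsConj x y) ∧ Nat.card {x : G // orderOf x = 2} = (if Even h then e * (h + 1) else e * h) := by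
  classical
  have hZ' := hZ
  obtain ⟨hF, h2, h3, ⟨g0, hg0, a0, b0, hab0, h0a, h0b⟩, hreg⟩ := hZ
  have hE : 1 < Nat.card ↥(MulAction.stabilizer G a ⊓ MulAction.stabilizer G b : Subgroup G) := by
    rw [← Lib.Helper54.Zass.card_stab2_eq h2 hab hab0]
    rw [Finite.one_lt_card_iff_nontrivial]
    refine ⟨⟨⟨g0, ?_⟩, 1, ?_⟩⟩
    · exact Subgroup.mem_inf.mpr ⟨h0a, h0b⟩
    · intro h
      exact hg0 (congrArg Subtype.val h)
  have hG := Lib.Helper54.Zass.card_group h2 hab
  rw [he, hh] at hG
  have e1 : h + 1 - 1 = h := by omega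
  rw [e1] at hG
  by_cases hev : Even h
  · rw [if_pos hev]
    have hoddn : Odd (Fintype.card Ω) := by
      rw [hh]; exact hev.add_one
    have hconj := fun x y hx hy => Lib.Helper54.Zass.invol_isConj_of_odd h2 h3 hab hoddn x y hx hy
    refine ⟨hconj, ?_⟩
    obtain ⟨K, hKa, hKcard, hKfix, hKnil, hKn⟩ :=
      Lib.Helper54.Zass.exists_kernel' h2 h3 hab (by omega) hE
    have hKh : Nat.card K = h := by omega
    obtain ⟨⟨z, hzK⟩, hzo, hzc⟩ := Lib.Helper54.Zass.exists_central_involution (K := K)
      (by rw [hKh]; exact hev)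
    rw [Subgroup.orderOf_mk] at hzo
    have hC := Lib.Helper54.Zass.centralizer_invol_eq h2 h3 hab hoddn (by omega) hE K hKa hKcard hKfix
      z hzo (hKa hzK)
    have h1 : Nat.card {x : G // orderOf x = 2} = Nat.card {g : G // IsConj z g} := by
      refine Nat.card_congr (Equiv.subtypeEquivRight (fun g => ⟨fun hg => hconj z g hzo hg, ?_⟩))
      intro hg
      obtain ⟨t, ht⟩ := isConj_iff.mp hg
      have : t * z * t⁻¹ = MulAut.conj t z := rfl
      rw [← ht, this, MulEquiv.orderOf_eq, hzo]
    rw [h1, Lib.Helper38.card_isConj_eq_index, hC]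
    have h4 := K.index_mul_card
    rw [hKh, hG] at h4
    have h5 : K.index * h = (e * (h + 1)) * h := by rw [h4]; ring
    exact Nat.eq_of_mul_eq_mul_right (by omega) h5
  · rw [if_neg hev]
    have hoddh : Odd h := Nat.not_even_iff_odd.mp hev
    have hinv : ∀ d : Ω, a ≠ d → ∀ s : G, s • a = d → s • d = a →
        ∀ x ∈ MulAction.stabilizer G a ⊓ MulAction.stabilizer G d, s * x * s⁻¹ = x⁻¹ := by
      intro d had
      have hcd := Lib.Helper54.Zass.card_stab2_eq h2 hab had
      refine (Cfsg.Agent.S0739.result hZ' had (by rw [hcd, he]; exact hodd) ?_).2.2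
      rintro q hq hqd ⟨N, hN, hNi⟩
      rw [hcd, he] at hqd
      have hqG : q ∣ Nat.card G := by
        rw [hG]; exact Dvd.dvd.mul_left hqd _
      have hpos : 0 < (Nat.card G).factorization q :=
        hq.factorization_pos_of_dvd Nat.card_pos.ne' hqG
      generalize (Nat.card G).factorization q = m at hNi hpos
      rcases hN.eq_bot_or_eq_top with h' | h'
      · rw [h', Subgroup.index_bot, hG] at hNi
        have d1 : h ∣ q ^ m := by
          rw [← hNi]; exact Dvd.dvd.mul_right (Dvd.intro_left _ rfl) _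
        have d2 : (h + 1) ∣ q ^ m := by
          rw [← hNi]; exact Dvd.dvd.mul_right (Dvd.intro _ rfl) _
        obtain ⟨i, -, hi⟩ := (Nat.dvd_prime_pow hq).mp d1
        obtain ⟨j, -, hj⟩ := (Nat.dvd_prime_pow hq).mp d2
        have hi0 : i ≠ 0 := by
          rintro rfl
          rw [pow_zero] at hi
          omega
        have hj0 : j ≠ 0 := by
          rintro rfl
          rw [pow_zero] at hj
          omega
        have q1 : q ∣ h := by rw [hi]; exact dvd_pow_self q hi0
        have q2 : q ∣ h + 1 := by rw [hj]; exact dvd_pow_self q hj0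
        have q3 : q ∣ 1 := (Nat.dvd_add_right q1).mp q2
        exact hq.one_lt.ne' (Nat.dvd_one.mp q3)
      · rw [h', Subgroup.index_top] at hNi
        have := Nat.one_lt_pow hpos.ne' hq.one_lt
        omega
    have hres := Lib.Helper54.Zass.invol_even_degree h2 hab (by rw [he]; exact hodd)
      (by rw [hh, e1]; exact hoddh) hinv
    rw [he, hh, e1] at hres
    exact hres

end Cfsg.Agent.S0882
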