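import Cfsg.Statements.S0878
-- import your own Cfsg.Agent.* helpers here

set_option autoImplicit false
open Cfsg

namespace Cfsg.Agent.S0878

section
variable {G Ω : Type*} [Group G] [Finite G] [MulAction G Ω] [Fintype Ω]

theorem reg (a : Ω) (H : Subgroup G) (hHa : H ≤ MulAction.stabilizer G a)
    (hHcard : Nat.card H + 1 = Fintype.card Ω)
    (hHfix : ∀ u ∈ H, u ≠ 1 → ∀ c : Ω, u • c = c → c = a) (c d : Ω) (hc : c ≠ a) (hd : d ≠ a) :
    ∃ v ∈ H, v • c = d := by
  classical
  have hfa : ∀ v : H, (v : G) • a = a := fun v => hHa v.2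
  let f : H → {c : Ω // c ≠ a} := fun v => ⟨(v : G) • c, by
    intro h
    apply hc
    have := hfa v
    rw [← this] at h
    exact MulAction.injective (v : G) h⟩
  have hinj : Function.Injective f := by
    intro v w hvw
    have h1 : (v : G) • c = (w : G) • c := congrArg Subtype.val hvw
    have h2 : ((w : G)⁻¹ * (v : G)) • c = c := by
      rw [mul_smul, h1, inv_smul_smul]
    by_contra hne
    have h3 : (w : G)⁻¹ * (v : G) ≠ 1 := by
      intro h
      apply hne
      have : (v : G) = (w : G) := by
        have := congrArg (fun z => (w : G) * z) h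
        simpa using this
      exact Subtype.ext this
    exact hc (hHfix _ (H.mul_mem (H.inv_mem w.2) v.2) h3 c h2)
  have hcard : Nat.card H = Nat.card {c : Ω // c ≠ a} := by
    have : Nat.card {c : Ω // c ≠ a} = Fintype.card Ω - 1 := by
      rw [Nat.card_eq_fintype_card, Fintype.card_subtype_compl]
      simp
    omega
  have hbij : Function.Bijective f := (Nat.bijective_iff_injective_and_card f).mpr ⟨hinj, hcard⟩
  obtain ⟨v, hv⟩ := hbij.2 ⟨d, hd⟩
  exact ⟨v, v.2, congrArg Subtype.val hv⟩

theorem mem_kernel (h3 : ∀ g : G, ∀ a b c : Ω, a ≠ b → b ≠ c → a ≠ c → g • a = a → g • b = b → g • c = c → g = 1)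
    (a b : Ω) (hba : b ≠ a) (H : Subgroup G) (hHa : H ≤ MulAction.stabilizer G a)
    (hHcard : Nat.card H + 1 = Fintype.card Ω)
    (hHfix : ∀ u ∈ H, u ≠ 1 → ∀ c : Ω, u • c = c → c = a) (x : G) (hxa : x • a = a)
    (hx : ∀ c : Ω, x • c = c → c = a) : x ∈ H := by
  classical
  have hxb : x • b ≠ a := by
    intro h
    rw [← hxa] at h
    exact hba (MulAction.injective x h)
  obtain ⟨v, hvH, hv⟩ := reg a H hHa hHcard hHfix b (x • b) hba hxb
  have hva : v • a = a := hHa hvH
  set y := v⁻¹ * x with hy
  have hya : y • a = a := by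
    rw [hy, mul_smul, hxa, inv_smul_eq_iff, hva]
  have hyb : y • b = b := by
    rw [hy, mul_smul, inv_smul_eq_iff, hv]
  by_cases hy1 : y = 1
  · have : x = v := by
      have := congrArg (fun z => v * z) hy1
      simpa [hy] using this
    rw [this]; exact hvH
  exfalso
  have hyc : ∀ c : Ω, c ≠ a → y • c ≠ a := by
    intro c hc h
    rw [← hya] at h
    exact hc (MulAction.injective y h)
  have hex : ∀ c : {c : Ω // c ≠ a}, ∃ w : H, (w : G) • (y • (c : Ω)) = c := by
    intro c
    obtain ⟨w, hw, hwc⟩ := reg a H hHa hHcard hHfix (y • (c : Ω)) c (hyc c c.2) c.2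
    exact ⟨⟨w, hw⟩, hwc⟩
  choose φ hφ using hex
  have hinj : Function.Injective φ := by
    intro c c' hcc
    by_contra hne
    have hne' : (c : Ω) ≠ c' := fun h => hne (Subtype.ext h)
    have e1 : ((φ c : G) * y) • (c : Ω) = c := by rw [mul_smul, hφ]
    have e2 : ((φ c : G) * y) • (c' : Ω) = c' := by rw [hcc, mul_smul, hφ]
    have e3 : ((φ c : G) * y) • a = a := by
      rw [mul_smul, hya]; exact hHa (φ c).2
    have h1 := h3 _ a c c' (Ne.symm c.2) hne' (Ne.symm c'.2) e3 e1 e2
    have hyH : y ∈ H := by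
      have : y = (φ c : G)⁻¹ := by
        exact (eq_inv_of_mul_eq_one_right h1)
      rw [this]; exact H.inv_mem (φ c).2
    exact hba (hHfix y hyH hy1 b hyb)
  have hcard : Nat.card {c : Ω // c ≠ a} = Nat.card H := by
    have : Nat.card {c : Ω // c ≠ a} = Fintype.card Ω - 1 := by
      rw [Nat.card_eq_fintype_card, Fintype.card_subtype_compl]
      simp
    omega
  have hbij : Function.Bijective φ := (Nat.bijective_iff_injective_and_card φ).mpr ⟨hinj, hcard⟩
  obtain ⟨c, hc⟩ := hbij.2 ⟨v, hvH⟩
  have h4 := hφ c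
  rw [hc] at h4
  have h5 : x • (c : Ω) = c := by
    have : x = v * y := by rw [hy]; group
    rw [this, mul_smul]; exact h4
  exact c.2 (hx c h5)

end


/-- Let G be a Zassenhaus group on the finite set Ω, a a point, and let H be the subgroup of the stabilizer of a consisting of the identity and the elements fixing no point other than a (given here as a subgroup of the stabilizer of order one less than the number of points whose non-identity elements fix only a; it is the Frobenius kernel of the stabilizer). Then an element outside the stabilizer of a conjugates no non-identity element of H into H, and the normalizer of H is exactly the stabilizer of a. -/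
theorem result {G Ω : Type*} [Group G] [Finite G] [MulAction G Ω] [Fintype Ω] (hZ : Cfsg.IsZassenhausGroup G Ω) (a : Ω) (H : Subgroup G) (hHa : H ≤ MulAction.stabilizer G a) (hHcard : Nat.card H + 1 = Fintype.card Ω) (hHfix : ∀ u ∈ H, u ≠ 1 → ∀ c : Ω, u • c = c → c = a) : (∀ g : G, g ∉ MulAction.stabilizer G a → ∀ u ∈ H, g * u * g⁻¹ ∈ H → u = 1) ∧ Subgroup.normalizer (H : Set G) = MulAction.stabilizer G a := by
  classical
  obtain ⟨hfaith, h2t, h3, ⟨g0, hg0, a0, b0, hab0, hga0, hgb0⟩, -⟩ := hZ
  have part1 : ∀ g : G, g ∉ MulAction.stabilizer G a → ∀ u ∈ H, g * u * g⁻¹ ∈ H → u = 1 := by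
    intro g hg u hu hgu
    by_contra hu1
    apply hg
    have hne : g * u * g⁻¹ ≠ 1 := by
      intro h
      apply hu1
      have := congrArg (fun z => g⁻¹ * z * g) h
      simpa [mul_assoc] using this
    have hfix : (g * u * g⁻¹) • (g • a) = g • a := by
      have hua : u • a = a := hHa hu
      rw [mul_smul, mul_smul, inv_smul_smul, hua]
    exact hHfix _ hgu hne _ hfix
  refine ⟨part1, ?_⟩
  -- three points
  have hc0 : ∃ c0 : Ω, g0 • c0 ≠ c0 := by
    by_contra hall
    push Not at hall
    apply hg0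
    apply hfaith.eq_of_smul_eq_smul
    intro c
    rw [hall c, one_smul]
  obtain ⟨c0, hc0⟩ := hc0
  have hca : c0 ≠ a0 := fun h => hc0 (h ▸ hga0)
  have hcb : c0 ≠ b0 := fun h => hc0 (h ▸ hgb0)
  have hcard3 : 3 ≤ Fintype.card Ω := by
    have : ({a0, b0, c0} : Finset Ω).card = 3 := by
      rw [Finset.card_eq_three]
      exact ⟨a0, b0, c0, hab0, Ne.symm hca, Ne.symm hcb, rfl⟩
    rw [← this]
    exact Finset.card_le_univ _
  have hH2 : 2 ≤ Nat.card H := by omega
  have hexu : ∃ u ∈ H, u ≠ 1 := by
    have : Nontrivial H := by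
      rw [← Finite.one_lt_card_iff_nontrivial]; omega
    obtain ⟨u, hu⟩ := exists_ne (1 : H)
    exact ⟨u, u.2, fun h => hu (Subtype.ext h)⟩
  obtain ⟨b, hba⟩ : ∃ b : Ω, b ≠ a := by
    by_cases h : a0 = a
    · exact ⟨b0, fun hb => hab0 (h.trans hb.symm)⟩
    · exact ⟨a0, h⟩
  have conj_mem : ∀ g : G, g ∈ MulAction.stabilizer G a → ∀ u ∈ H, g * u * g⁻¹ ∈ H := by
    intro g hg u hu
    have hga : g • a = a := hg
    have hgia : g⁻¹ • a = a := by rw [inv_smul_eq_iff, hga]
    have hua : u • a = a := hHa hu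
    by_cases hu1 : u = 1
    · simp [hu1, H.one_mem]
    apply mem_kernel h3 a b hba H hHa hHcard hHfix
    · rw [mul_smul, mul_smul, hgia, hua, hga]
    · intro c hc
      have : u • (g⁻¹ • c) = g⁻¹ • c := by
        rw [mul_smul, mul_smul] at hc
        rw [eq_inv_smul_iff]; exact hc
      have h1 := hHfix u hu hu1 _ this
      rw [inv_smul_eq_iff, hga] at h1
      exact h1
  apply le_antisymm
  · intro g hg
    by_contra hgs
    obtain ⟨u, hu, hu1⟩ := hexu
    exact hu1 (part1 g hgs u hu ((Subgroup.mem_normalizer_iff.mp hg u).mp hu))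
  · intro g hg
    rw [Subgroup.mem_normalizer_iff]
    intro u
    constructor
    · exact conj_mem g hg u
    · intro h
      have := conj_mem g⁻¹ (inv_mem hg) _ h
      simpa [mul_assoc] using this

end Cfsg.Agent.S0878
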