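import Cfsg.Statements.S0883
import Cfsg.Agent.Lib.Helper54.ZassInv

set_option autoImplicit false
open Cfsg

namespace Cfsg.Agent.S0883

/-- Let G be a finite simple Zassenhaus group on Ω with h + 1 points whose two-point stabilizer E has odd order e with 2e < h - 1, and let H be the subgroup of the stabilizer of a consisting of the identity and the elements fixing no point other than a (given here as a subgroup of the stabilizer of order one less than the number of points whose non-identity elements fix only a; it is the Frobenius kernel of the stabilizer). If a non-identity element u of H is a product of two involutions of G, then u is an involution. -/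
theorem result {G Ω : Type*} [Group G] [Finite G] [MulAction G Ω] [Fintype Ω] (hZ : Cfsg.IsZassenhausGroup G Ω) {a b : Ω} (hab : a ≠ b) [IsSimpleGroup G] (h e : ℕ) (hh : Fintype.card Ω = h + 1) (he : Nat.card ↥(MulAction.stabilizer G a ⊓ MulAction.stabilizer G b : Subgroup G) = e) (hodd : Odd e) (hlt : 2 * e < h - 1) (H : Subgroup G) (hHa : H ≤ MulAction.stabilizer G a) (hHcard : Nat.card H + 1 = Fintype.card Ω) (hHfix : ∀ u ∈ H, u ≠ 1 → ∀ c : Ω, u • c = c → c = a) (u : G) (hu : u ∈ H) (hu1 : u ≠ 1) (x y : G) (hx : orderOf x = 2) (hy : orderOf y = 2) (hxy : x * y = u) : orderOf u = 2 := by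
  classical
  obtain ⟨hF, h2, h3, ⟨g0, hg0, a0, b0, hab0, h0a, h0b⟩, hreg⟩ := hZ
  have hE : 1 < Nat.card ↥(MulAction.stabilizer G a ⊓ MulAction.stabilizer G b : Subgroup G) := by
    rw [← Lib.Helper54.Zass.card_stab2_eq h2 hab hab0]
    rw [Finite.one_lt_card_iff_nontrivial]
    refine ⟨⟨⟨g0, ?_⟩, 1, ?_⟩⟩
    · exact Subgroup.mem_inf.mpr ⟨h0a, h0b⟩
    · intro h
      exact hg0 (congrArg Subtype.val h)
  have hx2 : x * x = 1 := Lib.Helper60.sq_eq_one_of_orderOf_two hx
  have hy2 : y * y = 1 := Lib.Helper60.sq_eq_one_of_orderOf_two hy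
  have hxi : x⁻¹ = x := Lib.Helper60.inv_eq_self_of_orderOf_two hx
  have hyi : y⁻¹ = y := Lib.Helper60.inv_eq_self_of_orderOf_two hy
  have hinv : x * u * x⁻¹ = u⁻¹ := by
    rw [← hxy, mul_inv_rev, hxi, hyi, ← mul_assoc, hx2, one_mul]
  have hua : u • a = a := hHa hu
  have hxa : x • a = a := by
    apply hHfix u hu hu1
    have h1 : u⁻¹ • (x • a) = x • a := by
      rw [← hinv, mul_smul, mul_smul, inv_smul_smul, hua]
    rw [inv_smul_eq_iff] at h1
    exact h1.symm
  have hNcard := Lib.Helper54.Zass.card_stab h2 hab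
  rw [he, hh] at hNcard
  have hdvd : 2 ∣ (h + 1 - 1) * e := by
    rw [← hNcard, ← hx]
    have hxa' : x ∈ MulAction.stabilizer G a := hxa
    have : orderOf x = orderOf (⟨x, hxa'⟩ : MulAction.stabilizer G a) := by
      rw [Subgroup.orderOf_mk]
    rw [this]
    exact orderOf_dvd_natCard _
  have hheven : 2 ∣ h := by
    have e1 : h + 1 - 1 = h := by omega
    rw [e1] at hdvd
    rcases (Nat.Prime.dvd_mul Nat.prime_two).mp hdvd with h' | h'
    · exact h'
    · exfalso
      obtain ⟨k, hk⟩ := hodd
      omega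
  have hoddn : Odd (Fintype.card Ω) := by
    obtain ⟨k, hk⟩ := hheven
    exact ⟨k, by omega⟩
  have hC := Lib.Helper54.Zass.centralizer_invol_eq h2 h3 hab hoddn (by omega) hE H hHa hHcard hHfix
    x hx hxa
  have huC : u ∈ Subgroup.centralizer ({x} : Set G) := by rw [hC]; exact hu
  have hcomm : x * u = u * x := Subgroup.mem_centralizer_iff.mp huC x rfl
  have huu : u = u⁻¹ := by
    rw [← hinv, hcomm, mul_inv_cancel_right]
  apply orderOf_eq_prime _ hu1
  rw [pow_two]
  nth_rewrite 2 [huu]
  exact mul_inv_cancel u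

end Cfsg.Agent.S0883
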