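import Cfsg.Statements.S0884
-- import your own Cfsg.Agent.* helpers here
import Cfsg.Agent.S0882
import Cfsg.Agent.S0883
import Cfsg.Agent.Lib.Helper32.Zas6
import Cfsg.Agent.Lib.Helper54.ZassCount

set_option autoImplicit false
open Cfsg

namespace Cfsg.Agent.S0884

open Cfsg.Agent.Lib.Helper32 Cfsg.Agent.Lib

theorem orderOf_conj' {G : Type*} [Group G] (x g : G) : orderOf (x * g * x⁻¹) = orderOf g :=
  (MulAut.conj x).orderOf_eq g

theorem one_lt_e {G Ω : Type*} [Group G] [Finite G] [MulAction G Ω]
    (hZ : Cfsg.IsZassenhausGroup G Ω) {a b : Ω} (hab : a ≠ b) :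
    1 < Nat.card ↥(MulAction.stabilizer G a ⊓ MulAction.stabilizer G b : Subgroup G) := by
  obtain ⟨g, hg, a', b', hab', h1, h2⟩ := hZ.2.2.2.1
  rw [Helper54.Zass.card_stab2_eq hZ.2.1 hab' hab, Subgroup.one_lt_card_iff_ne_bot]
  intro h
  have : g ∈ (MulAction.stabilizer G a' ⊓ MulAction.stabilizer G b' : Subgroup G) :=
    Subgroup.mem_inf.2 ⟨h1, h2⟩
  rw [h, Subgroup.mem_bot] at this
  exact hg this


/-- Let G be a finite simple Zassenhaus group on Ω with h + 1 points whose two-point stabilizer E has odd order e with 2e < h - 1, and let H be the subgroup of the stabilizer of a consisting of the identity and the elements fixing no point other than a (given here as a subgroup of the stabilizer of order one less than the number of points whose non-identity elements fix only a; it is the Frobenius kernel of the stabilizer). Then at least e conjugacy classes of G contain no element of H. -/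
theorem result {G Ω : Type*} [Group G] [Finite G] [MulAction G Ω] [Fintype Ω] (hZ : Cfsg.IsZassenhausGroup G Ω) {a b : Ω} (hab : a ≠ b) [IsSimpleGroup G] (h e : ℕ) (hh : Fintype.card Ω = h + 1) (he : Nat.card ↥(MulAction.stabilizer G a ⊓ MulAction.stabilizer G b : Subgroup G) = e) (hodd : Odd e) (hlt : 2 * e < h - 1) (H : Subgroup G) (hHa : H ≤ MulAction.stabilizer G a) (hHcard : Nat.card H + 1 = Fintype.card Ω) (hHfix : ∀ u ∈ H, u ≠ 1 → ∀ c : Ω, u • c = c → c = a) : e ≤ Nat.card {C : ConjClasses G // ∀ g : G, ConjClasses.mk g = C → g ∉ H} := by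
  classical
  haveI := Fintype.ofFinite G
  obtain ⟨hconj, hcount⟩ := Cfsg.Agent.S0882.result hZ hab h e hh he hodd hlt
  have hG : Nat.card G = (h + 1) * h * e := by
    rw [Helper54.Zass.card_group hZ.2.1 hab, hh, he]
    simp
  have he1 : 1 < e := by rw [← he]; exact one_lt_e hZ hab
  have hc : Nat.card {C : ConjClasses G // ∀ g : G, ConjClasses.mk g = C → g ∉ H} =
      (Finset.univ.filter (fun C : ConjClasses G => ∀ g : G, ConjClasses.mk g = C → g ∉ H)).card :=
    Nat.subtype_card _ (by intro x; simp)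
  rw [hc]
  have key : ∀ s t : G, orderOf s = 2 → orderOf t = 2 → s * t ≠ 1 →
      ConjClasses.mk (s * t) ∉ Finset.univ.filter
        (fun C : ConjClasses G => ∀ g : G, ConjClasses.mk g = C → g ∉ H) →
      orderOf (s * t) = 2 ∧ Even h := by
    intro s t hs ht hne hnot
    rw [Finset.mem_filter] at hnot
    push Not at hnot
    obtain ⟨u, hu, huH⟩ := hnot (Finset.mem_univ _)
    rw [ConjClasses.mk_eq_mk_iff_isConj, isConj_iff] at hu
    obtain ⟨x, hx⟩ := hu
    have hu1 : u ≠ 1 := by
      rintro rfl
      apply hne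
      rw [← hx]; group
    have e1 : (x⁻¹ * s * x) * (x⁻¹ * t * x) = u := by
      have : u = x⁻¹ * (x * u * x⁻¹) * x := by group
      rw [this, hx]; group
    have o1 : orderOf (x⁻¹ * s * x) = 2 := by
      have := orderOf_conj' x⁻¹ s
      rw [inv_inv] at this
      rw [this, hs]
    have o2 : orderOf (x⁻¹ * t * x) = 2 := by
      have := orderOf_conj' x⁻¹ t
      rw [inv_inv] at this
      rw [this, ht]
    have h83 := Cfsg.Agent.S0883.result hZ hab h e hh he hodd hlt H hHa hHcard hHfix u huH hu1 _ _ o1 o2 e1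
    refine ⟨by rw [← hx, orderOf_conj', h83], ?_⟩
    have h1 : orderOf (⟨u, huH⟩ : H) = 2 := by rw [← Subgroup.orderOf_coe]; exact h83
    have h2 : 2 ∣ Nat.card H := h1 ▸ orderOf_dvd_natCard _
    have h4 : Nat.card H = h := by omega
    rw [h4] at h2
    exact even_iff_two_dvd.2 h2
  by_contra hlt'
  push Not at hlt'
  by_cases hev : Even h
  · rw [if_pos hev] at hcount
    obtain ⟨t₀, ht₀⟩ : ∃ t₀ : G, orderOf t₀ = 2 := by
      have hpos : 0 < Nat.card {x : G // orderOf x = 2} := by
        rw [hcount]; positivity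
      obtain ⟨x⟩ := (Nat.card_pos_iff.1 hpos).1
      exact ⟨x.1, x.2⟩
    have hb := bf_main (insert (ConjClasses.mk t₀) (Finset.univ.filter
      (fun C : ConjClasses G => ∀ g : G, ConjClasses.mk g = C → g ∉ H))) (by
        intro s t hs ht hne
        by_cases hm : ConjClasses.mk (s * t) ∈ Finset.univ.filter
          (fun C : ConjClasses G => ∀ g : G, ConjClasses.mk g = C → g ∉ H)
        · exact Finset.mem_insert_of_mem hm
        · apply Finset.mem_insert.2
          left
          rw [ConjClasses.mk_eq_mk_iff_isConj]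
          exact hconj _ _ (key s t hs ht hne hm).1 ht₀)
    rw [hcount, hG] at hb
    have hcard := Finset.card_insert_le (ConjClasses.mk t₀) (Finset.univ.filter
      (fun C : ConjClasses G => ∀ g : G, ConjClasses.mk g = C → g ∉ H))
    have h5 : (insert (ConjClasses.mk t₀) (Finset.univ.filter
      (fun C : ConjClasses G => ∀ g : G, ConjClasses.mk g = C → g ∉ H))).card ≤ e := by omega
    have h6 : (e * (h + 1)) ^ 2 ≤ e * (h + 1) + e * ((h + 1) * h * e) :=
      hb.trans (Nat.add_le_add_left (Nat.mul_le_mul_right _ h5) _)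
    have h7 : (e * (h + 1)) * (e * (h + 1)) ≤ (e * (h + 1)) * (1 + h * e) := by
      calc (e * (h + 1)) * (e * (h + 1)) = (e * (h + 1)) ^ 2 := by ring
        _ ≤ _ := h6
        _ = _ := by ring
    have h8 := Nat.le_of_mul_le_mul_left h7 (by positivity)
    nlinarith
  · rw [if_neg hev] at hcount
    have hb := bf_main (Finset.univ.filter
      (fun C : ConjClasses G => ∀ g : G, ConjClasses.mk g = C → g ∉ H)) (by
        intro s t hs ht hne
        by_contra hm
        exact hev (key s t hs ht hne hm).2)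
    rw [hcount, hG] at hb
    obtain ⟨e', rfl⟩ : ∃ e', e = e' + 1 := ⟨e - 1, by omega⟩
    have h5 : (Finset.univ.filter
      (fun C : ConjClasses G => ∀ g : G, ConjClasses.mk g = C → g ∉ H)).card ≤ e' := by omega
    have h6 : ((e' + 1) * h) ^ 2 ≤ (e' + 1) * h + e' * ((h + 1) * h * (e' + 1)) :=
      hb.trans (Nat.add_le_add_left (Nat.mul_le_mul_right _ h5) _)
    have hh0 : 0 < h := by omega
    have h7 : ((e' + 1) * h) * ((e' + 1) * h) ≤ ((e' + 1) * h) * (1 + e' * (h + 1)) := by
      calc ((e' + 1) * h) * ((e' + 1) * h) = ((e' + 1) * h) ^ 2 := by ring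
        _ ≤ _ := h6
        _ = _ := by ring
    have h8 := Nat.le_of_mul_le_mul_left h7 (by positivity)
    have h9 : h ≤ e' + 1 := by nlinarith
    omega

end Cfsg.Agent.S0884
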