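import Cfsg.Statements.S1534
-- import your own Cfsg.Agent.* helpers here
import Cfsg.Agent.Lib.Helper32.Feit5

set_option autoImplicit false
open Cfsg

namespace Cfsg.Agent.S1534

open Cfsg.Agent.Lib.Helper32 Cfsg.Agent.Lib
open scoped commutatorElement

theorem pow_two_lt {a e j : ℕ} (ha : a = 2 ^ j) (hodd : ¬ 2 ∣ e) (he1 : e ≠ 1)
    (hle : a ≤ 4 * e ^ 2 + 1) : a < 4 * e ^ 2 := by
  by_contra hcon
  have h1 : a = 4 * e ^ 2 ∨ a = 4 * e ^ 2 + 1 := by omega
  rcases h1 with h1 | h1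
  · have h2 : e ∣ 2 ^ j := by
      rw [← ha, h1]
      exact Dvd.intro_left (4 * e) (by ring)
    obtain ⟨i, _, hi⟩ := (Nat.dvd_prime_pow Nat.prime_two).1 h2
    rcases Nat.eq_zero_or_pos i with rfl | hpos
    · exact he1 (by simpa using hi)
    · exact hodd (by rw [hi]; exact dvd_pow_self 2 hpos.ne')
  · rcases Nat.eq_zero_or_pos j with rfl | hpos
    · have he0 : e ≠ 0 := by rintro rfl; exact hodd (dvd_zero 2)
      have : 0 < e ^ 2 := by positivity
      simp at ha
      omega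
    · have h2 : 2 ∣ a := by rw [ha]; exact dvd_pow_self 2 hpos.ne'
      omega

theorem main {G : Type*} [Group G] [Fintype G] (K L : Subgroup G) [Fintype L]
    (hN : Subgroup.normalizer (K : Set G) = L) (hK1 : K ≠ ⊥) (hnil : Group.IsNilpotent K)
    (hTI : Cfsg.IsTISubset (K : Set G)) (hlt : K < L)
    (hC : ∀ k ∈ K, k ≠ 1 → Subgroup.centralizer ({k} : Set G) ≤ K) :
    (Nat.card {χ : L → ℂ // Cfsg.IsIrrCharacter L χ ∧ ∃ k : L, (k : G) ∈ K ∧ χ k ≠ χ 1} = 1 ∧
      Nat.card K = (K.subgroupOf L).index + 1 ∧ ∃ p : ℕ, p.Prime ∧ Cfsg.IsElementaryAbelian p K) ∨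
    (Nat.card K = 2 ^ (Nat.card G).factorization 2 ∧
      (⁅K, K⁆.subgroupOf K).index < 4 * (K.subgroupOf L).index ^ 2) ∨
    Cfsg.IsCoherent {χ : L → ℂ | Cfsg.IsIrrCharacter L χ ∧ ∃ k : L, (k : G) ∈ K ∧ χ k ≠ χ 1} {1}ᶜ
      (fun α => Cfsg.indFun L α) := by
  classical
  have hle : K ≤ L := hlt.le
  haveI hKn : (K.subgroupOf L).Normal :=
    ⟨fun k hk x => (Subgroup.mem_normalizer_iff.1 (hN ▸ x.2 : (x : G) ∈ Subgroup.normalizer (K : Set G)) k).1 hk⟩
  have hset := ti_set_eq K L hC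
  have hcardK : Nat.card (K.subgroupOf L) = Nat.card K :=
    Nat.card_congr (Subgroup.subgroupOfEquivOfLe hle).toEquiv
  have hC' := ti_centralizer K L hC
  have hK1' : K.subgroupOf L ≠ ⊥ := by
    intro h
    apply hK1
    rw [eq_bot_iff]
    intro x hx
    have : (⟨x, hle hx⟩ : L) ∈ K.subgroupOf L := hx
    rw [h, Subgroup.mem_bot] at this
    rw [Subgroup.mem_bot]
    exact congrArg Subtype.val this
  have hK2' : K.subgroupOf L ≠ ⊤ := by
    rw [Ne, Subgroup.subgroupOf_eq_top]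
    exact not_le_of_gt hlt
  have hiso := ind_isometry L K hle hTI hN
  rw [hset] at hiso
  by_cases hab : ∀ a ∈ K.subgroupOf L, ∀ b ∈ K.subgroupOf L, a * b = b * a
  · rcases frob_abelian_case _ hC' hab hK1' (fun α => Cfsg.indFun L α)
      hiso (ind_map_one _ _) with ⟨h1, h3, q, hq, hexp⟩ | hcoh
    · left
      refine ⟨h1, by rw [← hcardK]; exact h3, q, hq, ⟨⟨fun a b => Subtype.ext ?_⟩⟩, ?_⟩
      · have := congrArg (fun z : L => (z : G)) (hab ⟨a, hle a.2⟩ a.2 ⟨b, hle b.2⟩ b.2)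
        exact this
      · intro a ha
        have := congrArg (fun z : L => (z : G)) (hexp ⟨a, hle ha⟩ ha)
        exact this
    · exact Or.inr (Or.inr hcoh)
  right
  have hnil' : Group.IsNilpotent (K.subgroupOf L) :=
    Group.nilpotent_of_mulEquiv (Subgroup.subgroupOfEquivOfLe hle).symm
  have F2 : ∀ k ∈ K.subgroupOf L, k ≠ 1 → ∀ x : L, x * k = k * x → x ∈ K.subgroupOf L := by
    intro k hk hk1 x hx
    apply hC' k hk hk1
    rw [Subgroup.mem_centralizer_singleton_iff]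
    exact hx
  have hodd : ¬ 2 ∣ (K.subgroupOf L).index := fun h => hab (frob_abelian_of_even _ hC' h)
  have he1 : (K.subgroupOf L).index ≠ 1 := by rwa [Ne, Subgroup.index_eq_one]
  have hD1 : ⁅K.subgroupOf L, K.subgroupOf L⁆ ≠ ⊥ := by
    intro h
    apply hab
    intro a ha b hb
    have h1 : ⁅a, b⁆ ∈ ⁅K.subgroupOf L, K.subgroupOf L⁆ := Subgroup.commutator_mem_commutator ha hb
    rw [h, Subgroup.mem_bot, commutatorElement_eq_one_iff_mul_comm] at h1
    exact h1
  have hDle : ⁅K.subgroupOf L, K.subgroupOf L⁆ ≤ K.subgroupOf L := Subgroup.commutator_le_left _ _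
  have hDlt : ⁅K.subgroupOf L, K.subgroupOf L⁆ < K.subgroupOf L := by
    refine lt_of_le_of_ne hDle ?_
    intro h
    apply hK1'
    haveI : ((⊥ : Subgroup L).subgroupOf (K.subgroupOf L)).Normal :=
      Subgroup.Normal.subgroupOf inferInstance _
    exact eq_of_commutator_sup_eq ⊥ _ _ bot_le le_rfl inferInstance (by rw [sup_bot_eq]; exact h)
  have he : Nat.card (K.subgroupOf L) ≠ (K.subgroupOf L).index + 1 := by
    have h1 := frob_relIndex_ge (K.subgroupOf L) F2 _ _ hDlt le_rfl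
    have h2 := Subgroup.relIndex_mul_relIndex ⊥ _ _ bot_le hDle
    rw [Subgroup.relIndex_bot_left, Subgroup.relIndex_bot_left] at h2
    have h3 : 2 ≤ Nat.card (⁅K.subgroupOf L, K.subgroupOf L⁆ : Subgroup L) := by
      have h4 : Nat.card (⁅K.subgroupOf L, K.subgroupOf L⁆ : Subgroup L) ≠ 1 := by
        rw [Ne, Subgroup.card_eq_one]
        exact hD1
      have h5 : 0 < Nat.card (⁅K.subgroupOf L, K.subgroupOf L⁆ : Subgroup L) := Nat.card_pos
      omega
    rw [← h2]
    nlinarith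
  rcases feit_abstract _ hnil' hK1' hK2' hC' he (fun α => Cfsg.indFun L α) hiso (ind_map_one _ _)
    with h | ⟨p, hp, ⟨m, hm⟩, -, hbd⟩
  · exact Or.inr h
  by_cases hp2 : p = 2
  · left
    subst hp2
    rw [hcardK] at hm
    haveI : Fact (Nat.Prime 2) := ⟨hp⟩
    have hpK : IsPGroup 2 K := IsPGroup.of_card hm
    obtain ⟨P, hP⟩ := exists_sylow_eq K L hN hpK
      ((Nat.coprime_comm.1 ((Nat.Prime.coprime_iff_not_dvd hp).2 hodd)))
    refine ⟨by rw [← hP]; exact P.card_eq_multiplicity, ?_⟩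
    have hrel : (⁅K.subgroupOf L, K.subgroupOf L⁆ : Subgroup L).relIndex (K.subgroupOf L) =
        (⁅K, K⁆ : Subgroup G).relIndex K := by
      rw [← Subgroup.relIndex_map_map_of_injective _ _ L.subtype_injective, Subgroup.map_commutator,
        Subgroup.map_subgroupOf_eq_of_le hle]
    rw [hrel] at hbd
    have hdvd : (⁅K, K⁆ : Subgroup G).relIndex K ∣ 2 ^ m := by
      rw [← hm]
      exact Subgroup.relIndex_dvd_card _ _
    obtain ⟨j, _, hj⟩ := (Nat.dvd_prime_pow hp).1 hdvd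
    exact pow_two_lt hj hodd he1 hbd
  · right
    rw [← hset]
    apply ti_odd_case K L hN ?_ hK1 hlt hnil hTI hC
    rw [← Subgroup.card_mul_index (K.subgroupOf L), hm]
    exact Odd.mul (Odd.pow (hp.odd_of_ne_two hp2)) (Nat.odd_iff.2 (by omega))


/-- Let G be a finite group and K a nontrivial nilpotent subgroup whose underlying set is a TI-subset of G, properly contained in its set normaliser N, with C_G(k) ≤ K for every non-identity k ∈ K; let e be the index of K in N and S the set of irreducible characters χ of N with χ k ≠ χ 1 for some k ∈ K. Then one of: S has exactly one member, Nat.card K = e + 1 and K is an elementary abelian p-group for some prime p; or K is a Sylow 2-subgroup of G (Nat.card K is the largest power of 2 dividing Nat.card G) and [K : [K,K]] < 4e²; or (S, N minus 1, induction to G) is coherent. -/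
theorem result {G : Type*} [Group G] [Fintype G] (K : Subgroup G) (hK1 : K ≠ ⊥) (hnil : Group.IsNilpotent K) (hTI : Cfsg.IsTISubset (K : Set G)) (hlt : K < Subgroup.normalizer (K : Set G)) (hC : ∀ k ∈ K, k ≠ 1 → Subgroup.centralizer ({k} : Set G) ≤ K) [Fintype ↥(Subgroup.normalizer (K : Set G))] : (Nat.card {χ : ↥(Subgroup.normalizer (K : Set G)) → ℂ // Cfsg.IsIrrCharacter ↥(Subgroup.normalizer (K : Set G)) χ ∧ ∃ k : ↥(Subgroup.normalizer (K : Set G)), (k : G) ∈ K ∧ χ k ≠ χ 1} = 1 ∧ Nat.card K = (K.subgroupOf (Subgroup.normalizer (K : Set G))).index + 1 ∧ ∃ p : ℕ, p.Prime ∧ Cfsg.IsElementaryAbelian p K) ∨ (Nat.card K = 2 ^ (Nat.card G).factorization 2 ∧ (⁅K, K⁆.subgroupOf K).index < 4 * (K.subgroupOf (Subgroup.normalizer (K : Set G))).index ^ 2) ∨ Cfsg.IsCoherent {χ : ↥(Subgroup.normalizer (K : Set G)) → ℂ | Cfsg.IsIrrCharacter ↥(Subgroup.normalizer (K : Set G)) χ ∧ ∃ k : ↥(Subgroup.normalizer (K : Set G)), (k : G) ∈ K ∧ χ k ≠ χ 1} {1}ᶜ (fun α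 => Cfsg.indFun (Subgroup.normalizer (K : Set G)) α) := by
  exact main K _ rfl hK1 hnil hTI hlt hC

end Cfsg.Agent.S1534
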