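import Cfsg.Statements.S0262
import Mathlib
import Cfsg.Agent.Lib.Helper7.SL2Tori
-- import your own Cfsg.Agent.* helpers here

set_option autoImplicit false
open Cfsg

namespace Cfsg.Agent.S0262

/-- For an odd prime r different from the characteristic, the Sylow r-subgroups of SL_2(q) are cyclic. -/
theorem result {F : Type*} [Field F] [Fintype F] (p : ℕ) [Fact p.Prime] [CharP F p] (r : ℕ) [Fact r.Prime] (hr : r ≠ 2) (hrp : r ≠ p) (R : Sylow r (Matrix.SpecialLinearGroup (Fin 2) F)) : IsCyclic (R : Subgroup (Matrix.SpecialLinearGroup (Fin 2) F)) := by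
  open Cfsg.Agent.Lib.Helper7 in
  have hrp' := hrp
  have hrp : r.Prime := Fact.out
  obtain ⟨k, hp, hk⟩ := FiniteField.card F p
  set q := Fintype.card F with hq
  have hq1 : 1 < q := Fintype.one_lt_card
  have hcard : Nat.card (Matrix.SpecialLinearGroup (Fin 2) F) = q * ((q - 1) * (q + 1)) := by
    rw [card_SL2]
    congr 1
    obtain ⟨t, ht⟩ : ∃ t, q = t + 1 := ⟨q - 1, by omega⟩
    rw [← hq, ht]
    simp only [Nat.add_sub_cancel]
    have : (t + 1) ^ 2 = t * (t + 1 + 1) + 1 := by ring
    omega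
  have hdvd : r ^ (Nat.card (Matrix.SpecialLinearGroup (Fin 2) F)).factorization r
      ∣ q * ((q - 1) * (q + 1)) := by
    rw [← hcard]; exact Nat.ordProj_dvd _ _
  have hcq : Nat.Coprime (r ^ (Nat.card (Matrix.SpecialLinearGroup (Fin 2) F)).factorization r) q := by
    apply Nat.Coprime.pow_left
    rw [hk]
    apply Nat.Coprime.pow_right
    exact (Nat.coprime_primes hrp hp).2 hrp'
  have hdvd2 := hcq.dvd_of_dvd_mul_left hdvd
  by_cases hr1 : r ∣ q + 1
  · -- then r does not divide q - 1
    have hr2 : ¬ r ∣ q - 1 := by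
      intro h
      have h3 : r ∣ (q + 1) - (q - 1) := Nat.dvd_sub hr1 h
      have h4 : (q + 1) - (q - 1) = 2 := by omega
      rw [h4] at h3
      exact hr ((Nat.prime_dvd_prime_iff_eq hrp Nat.prime_two).1 h3)
    have hc : Nat.Coprime (r ^ (Nat.card (Matrix.SpecialLinearGroup (Fin 2) F)).factorization r) (q - 1) :=
      Nat.Coprime.pow_left _ ((Nat.Prime.coprime_iff_not_dvd hrp).2 hr2)
    obtain ⟨a, b, hab⟩ := exists_aniso (F := F)
    have := isCyclic_nonsplit hab
    exact sylow_isCyclic_of_dvd (nonsplit a b) (by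
      rw [card_nonsplit hab]; exact hc.dvd_of_dvd_mul_left hdvd2) R
  · have hc : Nat.Coprime (r ^ (Nat.card (Matrix.SpecialLinearGroup (Fin 2) F)).factorization r) (q + 1) :=
      Nat.Coprime.pow_left _ ((Nat.Prime.coprime_iff_not_dvd hrp).2 hr1)
    have := isCyclic_range_splitHom (F := F)
    exact sylow_isCyclic_of_dvd (splitHom F).range (by
      rw [card_range_splitHom]; exact hc.dvd_of_dvd_mul_right hdvd2) R

end Cfsg.Agent.S0262
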