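import Cfsg.Statements.S0111
-- import your own Cfsg.Agent.* helpers here

set_option autoImplicit false
open Cfsg

namespace Cfsg.Agent.S0111

open Equiv.Perm in
/-- A fixed-point-free involution on a set with `2 * m` elements, `m` odd, is an odd permutation. -/
theorem sign_eq_neg_one {α : Type*} [DecidableEq α] [Fintype α] (σ : Equiv.Perm α)
    (h2 : σ ^ 2 = 1) (hfix : ∀ a, σ a ≠ a) (m : ℕ) (hm : Odd m) (hcard : Fintype.card α = 2 * m) :
    Equiv.Perm.sign σ = -1 := by
  have hsupp : σ.support = Finset.univ := by
    ext a; simp [hfix a]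
  have hsum : σ.cycleType.sum = 2 * m := by
    rw [sum_cycleType, hsupp, Finset.card_univ, hcard]
  have hall : ∀ b ∈ σ.cycleType, b = 2 := by
    intro b hb
    have h1 : b ∣ 2 := (dvd_of_mem_cycleType hb).trans (orderOf_dvd_of_pow_eq_one h2)
    have h3 : 2 ≤ b := two_le_of_mem_cycleType hb
    exact le_antisymm (Nat.le_of_dvd (by norm_num) h1) h3
  have hrep : σ.cycleType = Multiset.replicate (Multiset.card σ.cycleType) 2 :=
    Multiset.eq_replicate.mpr ⟨rfl, hall⟩
  have hk : Multiset.card σ.cycleType = m := by
    rw [hrep, Multiset.sum_replicate, smul_eq_mul] at hsum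
    omega
  rw [sign_of_cycleType, hsum, hk]
  have : Odd (2 * m + m) := by
    obtain ⟨k, rfl⟩ := hm
    exact ⟨3 * k + 1, by ring⟩
  exact this.neg_one_pow

/-- The Thompson transfer lemma states that an involution of a Sylow 2-subgroup P lying outside a subgroup Q of index 2 in P either lies outside some normal subgroup of index 2 in G or is conjugate to an element of Q. -/
theorem result {G : Type*} [Group G] [Finite G] (P : Sylow 2 G) (Q : Subgroup G) (hQP : Q ≤ (P : Subgroup G)) (hQi : Q.relIndex (P : Subgroup G) = 2) (u : G) (hu : orderOf u = 2) (huP : u ∈ (P : Subgroup G)) (huQ : u ∉ Q) : (∃ M : Subgroup G, M.Normal ∧ M.index = 2 ∧ u ∉ M) ∨ ∃ g : G, g * u * g⁻¹ ∈ Q := by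
  classical
  by_cases hconj : ∃ g : G, g * u * g⁻¹ ∈ Q
  · exact Or.inr hconj
  · left
    push Not at hconj
    have : Fintype (G ⧸ Q) := Fintype.ofFinite _
    let φ : G →* ℤˣ := Equiv.Perm.sign.comp (MulAction.toPermHom G (G ⧸ Q))
    have hidx : Q.index = 2 * (P : Subgroup G).index := by
      rw [← Subgroup.relIndex_mul_index hQP, hQi]
    have hodd : Odd (P : Subgroup G).index := by
      rw [← Nat.not_even_iff_odd, even_iff_two_dvd]
      exact P.not_dvd_index
    have hφu : φ u = -1 := by
      apply sign_eq_neg_one _ _ _ (P : Subgroup G).index hodd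
      · rw [← hidx, Subgroup.index, Nat.card_eq_fintype_card]
      · rw [← map_pow, ← hu, pow_orderOf_eq_one, map_one]
      · intro a
        induction a using QuotientGroup.induction_on with
        | H g =>
          intro h
          have h' : ((u * g : G) : G ⧸ Q) = (g : G ⧸ Q) := h
          rw [QuotientGroup.eq] at h'
          have h'' := Q.inv_mem h'
          apply hconj g⁻¹
          have : g⁻¹ * u * g⁻¹⁻¹ = ((u * g)⁻¹ * g)⁻¹ := by group
          rw [this]; exact h''
    refine ⟨φ.ker, inferInstance, ?_, ?_⟩
    · rw [Subgroup.index_ker]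
      have : φ.range = ⊤ := by
        rw [eq_top_iff]
        intro x _
        rcases Int.units_eq_one_or x with rfl | rfl
        · exact Subgroup.one_mem _
        · exact ⟨u, hφu⟩
      rw [this, Subgroup.card_top]
      simp
    · intro hmem
      rw [MonoidHom.mem_ker, hφu] at hmem
      exact absurd hmem (by decide)

end Cfsg.Agent.S0111
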