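import Cfsg.Statements.S0914
import Cfsg.Agent.Lib.Helper78.DefectZero
import Cfsg.Agent.S0928
-- import your own Cfsg.Agent.* helpers here

set_option autoImplicit false
open Cfsg
open Cfsg Cfsg.Agent.Lib.Helper81 Cfsg.Agent.Lib.Helper20

namespace Cfsg.Agent.S0914


/-- Let χ be an irreducible character of the finite group G, p a prime and M a maximal ideal of the algebraic integers containing p. Then p does not divide the integer (Nat.card G) / χ(1) if and only if the block of χ relative to M consists of χ alone. -/
theorem result {G : Type*} [Group G] [Finite G] (p : ℕ) [Fact p.Prime] (M : Ideal Cfsg.AlgInt) (hM : Cfsg.IsPModular p M) (χ : Cfsg.IrrCharacter G) : ¬ p ∣ Nat.card G / Cfsg.charDegree (χ : G → ℂ) ↔ Cfsg.blockOf M (χ : G → ℂ) = {χ} := by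
  classical
  have := Fintype.ofFinite G
  have hp : p.Prime := Fact.out
  obtain ⟨m, hm⟩ := Cfsg.Agent.Lib.Helper82.isIrr_charDegree_dvd_card χ.2
  have hdpos : 0 < Cfsg.charDegree (χ : G → ℂ) := Cfsg.Agent.Lib.Helper82.isIrr_charDegree_pos χ.2
  have hdiv : Nat.card G / Cfsg.charDegree (χ : G → ℂ) = m := by
    rw [hm]; exact Nat.mul_div_cancel_left m hdpos
  rw [hdiv]
  constructor
  · intro h
    exact Cfsg.Agent.Lib.Helper78.blockOf_eq_singleton_of_defect_zero hM χ hm h
  · intro hB hpm
    have hvan : ∀ g : G, orderOf g = p → (χ : G → ℂ) g = 0 := by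
      intro g hg
      have h1 := (bS_regular_singular hM (blockOf M (χ : G → ℂ)) ⟨χ, rfl⟩ (x := (1 : G)) (y := g)
        (by rw [orderOf_one]; exact hp.one_lt.ne' ∘ Nat.dvd_one.1) (by rw [hg])).2
      rw [bS, hB, finsum_mem_singleton] at h1
      have h10 := irr_one_ne_zero χ.2
      rcases mul_eq_zero.1 h1 with h | h
      · exact h
      · exact absurd ((map_eq_zero _).1 h) h10
    have h2 := Cfsg.Agent.S0928.result p χ hvan
    have hm0 : m ≠ 0 := by
      rintro rfl
      rw [mul_zero] at hm
      exact Nat.card_pos.ne' hm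
    rw [hm, Nat.factorization_mul hdpos.ne' hm0] at h2
    have h3 : m.factorization p = 0 := by
      have : (Cfsg.charDegree (χ : G → ℂ)).factorization p =
          (Cfsg.charDegree (χ : G → ℂ)).factorization p + m.factorization p := by
        simpa using h2
      omega
    rcases (Nat.factorization_eq_zero_iff m p).1 h3 with h | h | h
    · exact h hp
    · exact h hpm
    · exact hm0 h

end Cfsg.Agent.S0914
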