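import Cfsg.Statements.S0944
-- import your own Cfsg.Agent.* helpers here
import Mathlib
import Cfsg.Agent.Lib.Helper79.Eigen

set_option autoImplicit false
open Cfsg

namespace Cfsg.Agent.S0944

/-- Let χ be an irreducible character of the finite group G and u an involution. Then χ u is a rational integer n with n ≡ χ 1 (mod 2). -/
theorem result {G : Type*} [Group G] [Finite G] (χ : Cfsg.IrrCharacter G) (u : G) (hu : orderOf u = 2) : ∃ n : ℤ, (χ : G → ℂ) u = (n : ℂ) ∧ (2 : ℤ) ∣ (Cfsg.charDegree (χ : G → ℂ) : ℤ) - n := by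
  classical
  obtain ⟨d, ρ, _, hρ⟩ := χ.2
  have hchar : Cfsg.IsCharacter G (χ : G → ℂ) := ⟨d, ρ, hρ⟩
  obtain ⟨s, m, h1, h2, h3⟩ := Cfsg.Agent.Lib.Helper79.IsCharacter.exists_weights (χ : G → ℂ) hchar u 2
    (by norm_num) (by rw [← hu]; exact pow_orderOf_eq_one u)
  have hu1 := h3 1
  simp only [pow_one] at hu1
  refine ⟨∑ μ ∈ s, (m μ : ℤ) * (if μ = 1 then 1 else -1), ?_, ?_⟩
  · rw [hu1]
    push_cast
    apply Finset.sum_congr rfl
    intro μ hμ
    have h := h1 μ hμ
    rcases sq_eq_one_iff.mp h with h | h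
    · simp [h]
    · have hne : (-1 : ℂ) ≠ 1 := by norm_num
      simp [h, hne]
  · have hdeg : Cfsg.charDegree (χ : G → ℂ) = ∑ μ ∈ s, m μ := by
      unfold Cfsg.charDegree
      rw [← h2, Complex.natCast_re, Nat.floor_natCast]
    rw [hdeg]
    push_cast
    rw [← Finset.sum_sub_distrib]
    apply Finset.dvd_sum
    intro μ _
    split_ifs
    · simp
    · exact ⟨m μ, by ring⟩

end Cfsg.Agent.S0944
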