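import Cfsg.Statements.S0946
-- import your own Cfsg.Agent.* helpers here
import Mathlib
import Cfsg.Agent.Lib.Helper21.Homocyclic

set_option autoImplicit false
open Cfsg

namespace Cfsg.Agent.S0946

/-- Let P be a Sylow 2-subgroup of the finite group G isomorphic to Z/2^m × Z/2^m with m ≥ 1. Then either P has a normal complement in G, or all involutions of G are conjugate. -/
theorem result {G : Type*} [Group G] [Finite G] (P : Sylow 2 G) (m : ℕ) (hm : 1 ≤ m) (e : (P : Subgroup G) ≃* Multiplicative (ZMod (2 ^ m) × ZMod (2 ^ m))) : (∃ N : Subgroup G, N.Normal ∧ Subgroup.IsComplement' N (P : Subgroup G)) ∨ ∀ s t : G, orderOf s = 2 → orderOf t = 2 → IsConj s t := by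
  rcases Cfsg.Agent.Lib.Helper21.homocyclic_relIndex P m hm e with h1 | h3
  · left
    have hNC : Subgroup.normalizer (P : Set G) ≤ Subgroup.centralizer (P : Set G) :=
      Subgroup.relIndex_eq_one.1 h1
    exact ⟨(MonoidHom.transferSylow P hNC).ker, inferInstance,
      MonoidHom.ker_transferSylow_isComplement' P hNC⟩
  · right
    have conj_into : ∀ s : G, orderOf s = 2 → ∃ s' ∈ (P : Subgroup G), orderOf s' = 2 ∧ IsConj s s' := by
      intro s hs
      have hp : IsPGroup 2 (Subgroup.zpowers s) :=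
        IsPGroup.of_card (n := 1) (by rw [Nat.card_zpowers, hs, pow_one])
      obtain ⟨Q, hQ⟩ := hp.exists_le_sylow
      obtain ⟨x, hx⟩ := MulAction.exists_smul_eq G Q P
      have hmem : x * s * x⁻¹ ∈ (P : Subgroup G) := by
        rw [← hx, Sylow.coe_subgroup_smul, Subgroup.mem_smul_pointwise_iff_exists]
        exact ⟨s, hQ (Subgroup.mem_zpowers s), rfl⟩
      refine ⟨x * s * x⁻¹, hmem, ?_, isConj_iff.2 ⟨x, rfl⟩⟩
      have := (MulAut.conj x).orderOf_eq s
      rw [MulAut.conj_apply] at this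
      rw [this, hs]
    intro s t hs ht
    obtain ⟨s', hs'P, hs'2, hss'⟩ := conj_into s hs
    obtain ⟨t', ht'P, ht'2, htt'⟩ := conj_into t ht
    obtain ⟨g, _, hg⟩ := Cfsg.Agent.Lib.Helper21.homocyclic_transitive P m hm e h3 s' t' hs'P ht'P hs'2 ht'2
    exact hss'.trans ((isConj_iff.2 ⟨g, hg⟩).trans htt'.symm)

end Cfsg.Agent.S0946
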