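import Cfsg.Statements.S0948
import Cfsg.Agent.S0946
import Cfsg.Agent.S0947
import Cfsg.Agent.S0944
import Cfsg.Agent.S0907
import Cfsg.Agent.S0928
import Cfsg.Agent.S0914
import Cfsg.Agent.Lib.Helper80.Cores
import Cfsg.Agent.Lib.Helper80.BlockBasic
import Cfsg.Agent.Lib.Helper21.DefectCard
-- import your own Cfsg.Agent.* helpers here

set_option autoImplicit false
open Cfsg
open Cfsg.Agent.Lib.Helper20 Cfsg.Agent.Lib.Helper81 Cfsg.Agent.Lib.Helper21 Cfsg.Agent.Lib.Helper80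

namespace Cfsg.Agent.S0948

theorem klein_elt {G : Type*} [Group G] (P : Subgroup G) (hP : IsKleinFour P) {x : G} (hx : x ∈ P)
    (hx1 : x ≠ 1) : orderOf x = 2 := by
  have h1 : (⟨x, hx⟩ : P) ^ 2 = 1 := by
    have := Monoid.pow_exponent_eq_one (⟨x, hx⟩ : P)
    rwa [IsKleinFour.exponent_two] at this
  have h2 : x ^ 2 = 1 := congrArg Subtype.val h1
  exact orderOf_eq_prime h2 hx1

theorem klein_comm {G : Type*} [Group G] (P : Subgroup G) (hP : IsKleinFour P) {x y : G}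
    (hx : x ∈ P) (hy : y ∈ P) : x * y = y * x := by
  have := mul_comm_of_exponent_two (IsKleinFour.exponent_two (G := P)) ⟨x, hx⟩ ⟨y, hy⟩
  exact congrArg Subtype.val this

theorem klein_exists_other {G : Type*} [Group G] (P : Subgroup G) (hP : IsKleinFour P) (z : G) :
    ∃ w ∈ P, w ≠ 1 ∧ w ≠ z := by
  classical
  by_contra hcon
  push Not at hcon
  have : Finite P := Nat.finite_of_card_ne_zero (by rw [IsKleinFour.card_four]; norm_num)
  have h1 : Nat.card P ≤ 2 := by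
    have h2 : (Set.univ : Set P) ⊆ (Subtype.val ⁻¹' ({1, z} : Set G)) := by
      intro w _
      by_cases hw : (w : G) = 1
      · left; exact hw
      · right; exact hcon w w.2 hw
    have h3 : Nat.card P ≤ Nat.card ({1, z} : Set G) := by
      apply Nat.card_le_card_of_injective (fun w : P => (⟨(w : G), h2 (Set.mem_univ w)⟩ : ({1, z} : Set G)))
      intro a b hab
      exact Subtype.ext (congrArg (fun t : ({1, z} : Set G) => (t : G)) hab)
    have h4 : Nat.card ({1, z} : Set G) ≤ 2 := by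
      rw [Nat.card_coe_set_eq]
      calc ({1, z} : Set G).ncard ≤ ({z} : Set G).ncard + 1 := Set.ncard_insert_le _ _
        _ = 2 := by rw [Set.ncard_singleton]
    omega
  rw [IsKleinFour.card_four] at h1
  omega

theorem index_pPrimeCore_centralizer {G : Type*} [Group G] [Finite G] (P : Sylow 2 G)
    (hP : IsKleinFour (P : Subgroup G)) (z : G) (hz : z ∈ (P : Subgroup G)) (hz2 : orderOf z = 2) :
    ∃ k : ℕ, (pPrimeCore 2 (Subgroup.centralizer ({z} : Set G))).index = 2 ^ k := by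
  classical
  set H := Subgroup.centralizer ({z} : Set G) with hH
  have hPH : (P : Subgroup G) ≤ H := by
    intro x hx
    rw [hH, Subgroup.mem_centralizer_singleton_iff]
    exact klein_comm _ hP hx hz
  let P' : Sylow 2 H := P.subtype hPH
  have hP'coe : (P' : Subgroup H) = (P : Subgroup G).subgroupOf H := rfl
  let e0 : (P' : Subgroup H) ≃* (P : Subgroup G) := Subgroup.subgroupOfEquivOfLe hPH
  obtain ⟨e1⟩ : Nonempty ((P : Subgroup G) ≃* Multiplicative (ZMod (2 ^ 1) × ZMod (2 ^ 1))) := by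
    have : IsKleinFour (Multiplicative (ZMod (2 ^ 1) × ZMod (2 ^ 1))) :=
      (inferInstance : IsKleinFour (Multiplicative (ZMod 2 × ZMod 2)))
    exact IsKleinFour.nonempty_mulEquiv
  have hcardP' : Nat.card (P' : Subgroup H) = 4 := by
    rw [Nat.card_congr e0.toEquiv, IsKleinFour.card_four]
  rcases Cfsg.Agent.S0946.result P' 1 le_rfl (e0.trans e1) with ⟨N, hN, hc⟩ | hconj
  · have h1 : N.index = 4 := by
      rw [hc.symm.index_eq_card, hcardP']
    have h2 : Nat.card N = (P' : Subgroup H).index := hc.index_eq_card.symm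
    have h3 : (Nat.card N).Coprime 2 := by
      rw [h2]
      have := P'.card_coprime_index
      rw [hcardP'] at this
      exact (Nat.Coprime.coprime_dvd_left (by norm_num : 2 ∣ 4) this).symm
    have h4 := Subgroup.index_dvd_of_le (Cfsg.Agent.Lib.Helper80.le_pPrimeCore hN h3)
    rw [h1] at h4
    have h5 : (pPrimeCore 2 H).index ∣ 2 ^ 2 := by simpa using h4
    obtain ⟨k, _, hk⟩ := (Nat.dvd_prime_pow Nat.prime_two).1 h5
    exact ⟨k, hk⟩
  · exfalso
    obtain ⟨w, hwP, hw1, hwz⟩ := klein_exists_other _ hP z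
    have hzH : z ∈ H := hPH hz
    have h1 := hconj ⟨z, hzH⟩ ⟨w, hPH hwP⟩ (by rw [← hz2]; exact Subgroup.orderOf_mk z hzH)
      (by rw [← klein_elt _ hP hwP hw1]; exact Subgroup.orderOf_mk w _)
    obtain ⟨c, hc⟩ := isConj_iff.1 h1
    apply hwz
    have h2 : (c : G) * z * (c : G)⁻¹ = w := congrArg Subtype.val hc
    have h3 := Subgroup.mem_centralizer_singleton_iff.1 c.2
    rw [← h2, h3, mul_inv_cancel_right]


/-- degree congruence mod 4 -/
theorem four_dvd_degree_sub {G : Type*} [Group G] [Fintype G] (P : Subgroup G)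
    (hP : IsKleinFour P) (χ : IrrCharacter G) (n : ℤ)
    (hn : ∀ x : G, orderOf x = 2 → (χ : G → ℂ) x = (n : ℂ)) :
    (4 : ℤ) ∣ (charDegree (χ : G → ℂ) : ℤ) - n := by
  classical
  have : Fintype P := Fintype.ofFinite _
  obtain ⟨m, hm⟩ := isCharacter_classInner_nat'
    (isCharacter_restrict (isCharacter_of_isIrrCharacter χ.2) P) (isCharacter_one (G := P))
  rw [classInner, IsKleinFour.card_four] at hm
  have h1 : ∑ g : P, (χ : G → ℂ) g * (starRingEnd ℂ) 1 = (charDegree (χ : G → ℂ) : ℂ) + 3 * (n : ℂ) := by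
    rw [← Finset.add_sum_erase _ _ (Finset.mem_univ (1 : P))]
    have h2 : ∀ g ∈ Finset.univ.erase (1 : P), (χ : G → ℂ) g * (starRingEnd ℂ) 1 = (n : ℂ) := by
      intro g hg
      have hg1 : (g : G) ≠ 1 := fun h => (Finset.ne_of_mem_erase hg) (Subtype.ext h)
      rw [map_one, mul_one, hn _ (klein_elt P hP g.2 hg1)]
    rw [Finset.sum_congr rfl h2, Finset.sum_const, Finset.card_erase_of_mem (Finset.mem_univ _),
      Finset.card_univ, ← Nat.card_eq_fintype_card, IsKleinFour.card_four]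
    simp [irr_one_eq_charDegree]
  rw [h1] at hm
  have h3 : ((charDegree (χ : G → ℂ) : ℤ) + 3 * n : ℤ) = 4 * (m : ℤ) := by
    have h4 : (charDegree (χ : G → ℂ) : ℂ) + 3 * (n : ℂ) = 4 * (m : ℂ) := by
      rw [← hm]; push_cast; field_simp
    exact_mod_cast h4
  exact ⟨m - n, by linarith⟩


/-- Let the finite group G have a Sylow 2-subgroup P that is a Klein four-group, suppose all involutions of G are conjugate, and fix a maximal ideal M of the algebraic integers containing 2. Then the principal block consists of exactly four irreducible characters, the principal character and ζ₂, ζ₃, ζ₄, and there is a sign ε such that for every involution z: ζ₂ z = 1, ζ₃ z = ε, ζ₄ z = -1; moreover ζ₂ 1 ≡ 1, ζ₃ 1 ≡ ε, ζ₄ 1 ≡ -1 (mod 4), and 1 + ζ₂ y + ε ζ₃ y - ζ₄ y = 0 for every y of odd order. -/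
theorem result {G : Type*} [Group G] [Finite G] (M : Ideal Cfsg.AlgInt) (hM : Cfsg.IsPModular 2 M) (P : Sylow 2 G) (hP : IsKleinFour (P : Subgroup G)) (hone : ∀ s t : G, orderOf s = 2 → orderOf t = 2 → IsConj s t) : ∃ ζ₂ ζ₃ ζ₄ : Cfsg.IrrCharacter G, ∃ ε : ℤ, (ε = 1 ∨ ε = -1) ∧ (ζ₂ : G → ℂ) ≠ (fun _ => 1) ∧ (ζ₃ : G → ℂ) ≠ (fun _ => 1) ∧ ζ₂ ≠ ζ₃ ∧ ζ₂ ≠ ζ₄ ∧ ζ₃ ≠ ζ₄ ∧ Cfsg.principalBlock M G = {χ : Cfsg.IrrCharacter G | (χ : G → ℂ) = (fun _ => 1) ∨ χ = ζ₂ ∨ χ = ζ₃ ∨ χ = ζ₄} ∧ (∀ z : G, orderOf z = 2 → (ζ₂ : G → ℂ) z = 1 ∧ (ζ₃ : G → ℂ) z = (ε : ℂ) ∧ (ζ₄ : G → ℂ) z = -1) ∧ (4 : ℤ) ∣ (Cfsg.charDegree (ζ₂ : G → ℂ) : ℤ) - 1 ∧ (4 : ℤ) ∣ (Cfsg.charDegree (ζ₃ : G → ℂ) : ℤ) - ε ∧ (4 : ℤ) ∣ (Cfsg.charDegree (ζ₄ : G → ℂ) : ℤ) + 1 ∧ ∀ y : G, Odd (orderOf y) → 1 + (ζ₂ : G → ℂ) y + (ε : ℂ) * (ζ₃ : G → ℂ) y - (ζ₄ : G → ℂ) y = 0 := by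
  classical
  have := Fintype.ofFinite G
  have : Fact (Nat.Prime 2) := ⟨Nat.prime_two⟩
  have : Finite (IrrCharacter G) := finite_irrCharacter
  have : Fintype (IrrCharacter G) := Fintype.ofFinite _
  set B := principalBlock M G with hBdef
  have hB : IsPBlock M B := isPBlock_principal M
  set τ := trivIrr G with hτ
  have hτB : τ ∈ B := trivIrr_mem_principalBlock hM
  obtain ⟨z, hzP, hz1, -⟩ := klein_exists_other _ hP 1
  have hz2 : orderOf z = 2 := klein_elt _ hP hzP hz1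
  choose n hn hn2 using fun χ : IrrCharacter G => Cfsg.Agent.S0944.result χ z hz2
  have hval : ∀ (χ : IrrCharacter G) (x : G), orderOf x = 2 → (χ : G → ℂ) x = (n χ : ℂ) := by
    intro χ x hx
    rw [← hn χ]
    exact classFunction_isConj (irr_classFunction χ) (hone x z hx hz2)
  have hnτ : n τ = 1 := by
    have h1 := hn τ
    have h2 : (τ : G → ℂ) z = 1 := rfl
    rw [h2] at h1
    exact_mod_cast h1.symm
  -- finite version of the block
  set Bf : Finset (IrrCharacter G) := Finset.univ.filter (· ∈ B) with hBf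
  have hBfc : (Bf : Set (IrrCharacter G)) = B := by ext χ; simp [hBf]
  have hτBf : τ ∈ Bf := by simp [hBf, hτB]
  set T := Bf.erase τ with hT
  have hsumB : ∀ {N : Type} [AddCommMonoid N] (f : IrrCharacter G → N),
      ∑ᶠ χ ∈ B, f χ = f τ + ∑ χ ∈ T, f χ := by
    intro N _ f
    rw [← hBfc, finsum_mem_coe_finset, Finset.add_sum_erase _ _ hτBf]
  -- the 2-part of the centralizer
  have hfac : (Nat.card (Subgroup.centralizer ({z} : Set G))).factorization 2 = 2 := by
    have h1 : Nat.card (P : Subgroup G) = 2 ^ (Nat.card G).factorization 2 := P.card_eq_multiplicity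
    rw [IsKleinFour.card_four] at h1
    have h2 : (Nat.card G).factorization 2 = 2 :=
      (Nat.pow_right_injective (le_refl 2) (by simpa using h1 : 2 ^ 2 = 2 ^ _)).symm
    have h3 : (Nat.card (Subgroup.centralizer ({z} : Set G))).factorization 2 ≤ 2 := by
      have h9 := (Nat.factorization_le_iff_dvd
        (Nat.card_pos (α := Subgroup.centralizer ({z} : Set G))).ne' (Nat.card_pos (α := G)).ne').2
        (Subgroup.card_subgroup_dvd_card _) 2
      rwa [h2] at h9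
    have h4 : (P : Subgroup G) ≤ Subgroup.centralizer ({z} : Set G) := by
      intro x hx
      rw [Subgroup.mem_centralizer_singleton_iff]
      exact klein_comm _ hP hx hzP
    have h5 := Subgroup.card_dvd_of_le h4
    rw [IsKleinFour.card_four] at h5
    have h6 := (Nat.Prime.pow_dvd_iff_le_factorization Nat.prime_two (Nat.card_pos.ne')).1
      (by simpa using h5 : 2 ^ 2 ∣ Nat.card (Subgroup.centralizer ({z} : Set G)))
    omega
  -- the sum of squares
  have hsq : (1 : ℤ) + ∑ χ ∈ T, (n χ) ^ 2 = 4 := by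
    have h1 := (Cfsg.Agent.S0947.result 2 M hM z ⟨1, by rw [hz2, pow_one]⟩ hz1 1
      (by rw [orderOf_one]; norm_num)).2 (index_pPrimeCore_centralizer P hP z hzP hz2)
    rw [hfac, hsumB] at h1
    have h2 : ∀ χ : IrrCharacter G, ‖(χ : G → ℂ) (z * ((1 : Subgroup.centralizer ({z} : Set G)) : G))‖ ^ 2
        = (((n χ) ^ 2 : ℤ) : ℝ) := by
      intro χ
      rw [Subgroup.coe_one, mul_one, hn χ, Complex.norm_intCast, sq_abs]
      push_cast; rfl
    simp only [h2] at h1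
    rw [hnτ] at h1
    have h3 : (((1 : ℤ) + ∑ χ ∈ T, (n χ) ^ 2 : ℤ) : ℝ) = ((4 : ℤ) : ℝ) := by
      push_cast
      push_cast at h1
      linarith
    exact_mod_cast h3
  -- no zero
  have hne0 : ∀ χ ∈ B, n χ ≠ 0 := by
    intro χ hχ h0
    have h1 := Cfsg.Agent.S0928.result 2 χ (fun g hg => by rw [hval χ g hg, h0]; simp)
    have hdvd := Cfsg.Agent.Lib.Helper82.isIrr_charDegree_dvd_card χ.2
    have hpos := Cfsg.Agent.Lib.Helper82.isIrr_charDegree_pos χ.2
    have h2 : ¬ 2 ∣ Nat.card G / charDegree (χ : G → ℂ) := by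
      intro h3
      have h4 : Nat.card G / charDegree (χ : G → ℂ) ≠ 0 :=
        (Nat.div_pos (Nat.le_of_dvd Nat.card_pos hdvd) hpos).ne'
      have h5 := (Nat.prime_two.dvd_iff_one_le_factorization h4).1 h3
      rw [Nat.factorization_div hdvd] at h5
      simp only [Finsupp.coe_tsub, Pi.sub_apply] at h5
      omega
    have h3 := (Cfsg.Agent.S0914.result 2 M hM χ).1 h2
    have h4 : τ ∈ blockOf M (χ : G → ℂ) := by
      rw [← isPBlock_eq_blockOf hM hB hχ]; exact hτB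
    rw [h3, Set.mem_singleton_iff] at h4
    rw [← h4, hnτ] at h0
    exact one_ne_zero h0
  have hTB : ∀ χ ∈ T, χ ∈ B := by
    intro χ hχ
    have := Finset.mem_of_mem_erase hχ
    simpa [hBf] using this
  have hsq3 : ∑ χ ∈ T, (n χ) ^ 2 = 3 := by linarith
  have hpm : ∀ χ ∈ T, n χ = 1 ∨ n χ = -1 := by
    intro χ hχ
    have h1 : (n χ) ^ 2 ≤ ∑ χ ∈ T, (n χ) ^ 2 :=
      Finset.single_le_sum (f := fun χ => (n χ) ^ 2) (fun i _ => sq_nonneg _) hχ
    rw [hsq3] at h1
    have h2 := hne0 χ (hTB χ hχ)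
    have h3 : -2 < n χ := by nlinarith
    have h4 : n χ < 2 := by nlinarith
    omega
  have hcard : T.card = 3 := by
    have h1 : ∑ χ ∈ T, (n χ) ^ 2 = ∑ χ ∈ T, (1 : ℤ) := by
      apply Finset.sum_congr rfl
      intro χ hχ
      rcases hpm χ hχ with h | h <;> rw [h] <;> norm_num
    rw [hsq3] at h1
    simp at h1
    exact_mod_cast h1.symm
  -- orthogonality with the degrees
  have horth : ∀ y : G, Odd (orderOf y) →
      (1 : ℂ) + ∑ χ ∈ T, (χ : G → ℂ) y * (n χ : ℂ) = 0 := by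
    intro y hy
    have h1 := Cfsg.Agent.S0907.result 2 M hM B hB y z
      (fun h => (Nat.not_even_iff_odd.2 hy) (even_iff_two_dvd.2 h)) (by rw [hz2])
    rw [hsumB] at h1
    have h2 : ∀ χ : IrrCharacter G, (χ : G → ℂ) y * (starRingEnd ℂ) ((χ : G → ℂ) z)
        = (χ : G → ℂ) y * (n χ : ℂ) := by
      intro χ
      rw [hn χ, map_intCast]
    simp only [h2] at h1
    rw [hnτ] at h1
    have h3 : (τ : G → ℂ) y = 1 := rfl
    rw [h3] at h1
    simpa using h1
  have hdeg : (1 : ℤ) + ∑ χ ∈ T, (charDegree (χ : G → ℂ) : ℤ) * n χ = 0 := by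
    have h1 := horth 1 (by rw [orderOf_one]; exact odd_one)
    simp only [irr_one_eq_charDegree] at h1
    exact_mod_cast h1
  have hdpos : ∀ χ : IrrCharacter G, (1 : ℤ) ≤ (charDegree (χ : G → ℂ) : ℤ) := by
    intro χ
    exact_mod_cast Cfsg.Agent.Lib.Helper82.isIrr_charDegree_pos χ.2
  obtain ⟨ζ₄, hζ₄T, hζ₄⟩ : ∃ χ ∈ T, n χ = -1 := by
    by_contra hcon
    push Not at hcon
    have h1 : 0 ≤ ∑ χ ∈ T, (charDegree (χ : G → ℂ) : ℤ) * n χ := by
      apply Finset.sum_nonneg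
      intro χ hχ
      rcases hpm χ hχ with h | h
      · rw [h]; linarith [hdpos χ]
      · exact absurd h (hcon χ hχ)
    linarith
  obtain ⟨ζ₂, hζ₂T, hζ₂⟩ : ∃ χ ∈ T, n χ = 1 := by
    by_contra hcon
    push Not at hcon
    have h1 : ∑ χ ∈ T, (charDegree (χ : G → ℂ) : ℤ) * n χ ≤ ∑ χ ∈ T, (-1 : ℤ) := by
      apply Finset.sum_le_sum
      intro χ hχ
      rcases hpm χ hχ with h | h
      · exact absurd h (hcon χ hχ)
      · rw [h]; linarith [hdpos χ]
    simp only [Finset.sum_const, hcard] at h1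
    norm_num at h1
    linarith
  have h24 : ζ₂ ≠ ζ₄ := by
    intro h; rw [h, hζ₄] at hζ₂; norm_num at hζ₂
  have hc1 : ((T.erase ζ₂).erase ζ₄).card = 1 := by
    rw [Finset.card_erase_of_mem (Finset.mem_erase.2 ⟨h24.symm, hζ₄T⟩),
      Finset.card_erase_of_mem hζ₂T, hcard]
  obtain ⟨ζ₃, hζ₃⟩ := Finset.card_eq_one.1 hc1
  have hζ₃m : ζ₃ ∈ (T.erase ζ₂).erase ζ₄ := by rw [hζ₃]; exact Finset.mem_singleton_self _
  have h34 : ζ₃ ≠ ζ₄ := Finset.ne_of_mem_erase hζ₃m
  have h32 : ζ₃ ≠ ζ₂ := Finset.ne_of_mem_erase (Finset.mem_of_mem_erase hζ₃m)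
  have hζ₃T : ζ₃ ∈ T := Finset.mem_of_mem_erase (Finset.mem_of_mem_erase hζ₃m)
  have hTeq : T = {ζ₂, ζ₃, ζ₄} := by
    ext χ
    simp only [Finset.mem_insert, Finset.mem_singleton]
    constructor
    · intro hχ
      by_cases h2 : χ = ζ₂
      · exact Or.inl h2
      by_cases h4 : χ = ζ₄
      · exact Or.inr (Or.inr h4)
      have : χ ∈ (T.erase ζ₂).erase ζ₄ := Finset.mem_erase.2 ⟨h4, Finset.mem_erase.2 ⟨h2, hχ⟩⟩
      rw [hζ₃, Finset.mem_singleton] at this
      exact Or.inr (Or.inl this)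
    · rintro (h | h | h) <;> rw [h] <;> assumption
  have hneτ : ∀ χ ∈ T, (χ : G → ℂ) ≠ (fun _ => 1) := by
    intro χ hχ h
    exact (Finset.ne_of_mem_erase hχ) (Subtype.ext h)
  refine ⟨ζ₂, ζ₃, ζ₄, n ζ₃, hpm ζ₃ hζ₃T, hneτ ζ₂ hζ₂T, hneτ ζ₃ hζ₃T, h32.symm, h24, h34, ?_, ?_, ?_, ?_,
    ?_, ?_⟩
  · ext χ
    simp only [Set.mem_ofPred_eq]
    constructor
    · intro hχ
      by_cases h1 : χ = τ
      · left; rw [h1]; rfl
      · right
        have : χ ∈ T := Finset.mem_erase.2 ⟨h1, by simp [hBf, hχ]⟩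
        rw [hTeq] at this
        simpa using this
    · rintro (h | h | h | h)
      · have : χ = τ := Subtype.ext h
        rw [this]; exact hτB
      · rw [h]; exact hTB _ hζ₂T
      · rw [h]; exact hTB _ hζ₃T
      · rw [h]; exact hTB _ hζ₄T
  · intro x hx
    refine ⟨?_, hval ζ₃ x hx, ?_⟩
    · rw [hval ζ₂ x hx, hζ₂]; simp
    · rw [hval ζ₄ x hx, hζ₄]; simp
  · have := four_dvd_degree_sub _ hP ζ₂ (n ζ₂) (hval ζ₂)
    rwa [hζ₂] at this
  · exact four_dvd_degree_sub _ hP ζ₃ (n ζ₃) (hval ζ₃)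
  · have := four_dvd_degree_sub _ hP ζ₄ (n ζ₄) (hval ζ₄)
    rw [hζ₄] at this
    simpa using this
  · intro y hy
    have h1 := horth y hy
    rw [hTeq, Finset.sum_insert (by simp [h32.symm, h24]), Finset.sum_insert (by simp [h34]),
      Finset.sum_singleton, hζ₂, hζ₄] at h1
    push_cast at h1
    linear_combination h1

end Cfsg.Agent.S0948
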