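import Cfsg.Statements.S0255
import Cfsg.Agent.Lib.Helper6.RelHom
import Cfsg.Agent.Lib.Helper6.SLCard
import Cfsg.Agent.Lib.Helper6.SLEquiv

set_option autoImplicit false
open Cfsg

namespace Cfsg.Agent.S0255


open Matrix Cfsg.Agent.Lib.Helper6

def tab : Fin 7 → Fin 3 → ZMod 2 :=
  ![![1, 0, 0], ![0, 1, 0], ![0, 0, 1], ![1, 1, 0], ![0, 1, 1], ![1, 1, 1], ![1, 0, 1]]

/-- the identification of the projective line over `ZMod 7` with the affine space `(ZMod 2)^3` -/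
def bet (v : Fin 2 → ZMod 7) : Fin 3 → ZMod 2 :=
  if v 1 = 0 then 0 else tab (v 0 * (v 1) ^ 5)

def w0 : Fin 2 → ZMod 7 := ![1, 0]

def At : Matrix (Fin 3) (Fin 3) (ZMod 2) := !![0, 0, 1; 1, 0, 1; 0, 1, 0]
def As : Matrix (Fin 3) (Fin 3) (ZMod 2) := !![1, 0, 1; 1, 0, 0; 0, 1, 0]

def AtS : Matrix.SpecialLinearGroup (Fin 3) (ZMod 2) := ⟨At, by decide +kernel⟩
def AsS : Matrix.SpecialLinearGroup (Fin 3) (ZMod 2) := ⟨As, by decide +kernel⟩

set_option maxRecDepth 100000 in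
theorem chk_t : ∀ (c : ZMod 7) (v : Fin 2 → ZMod 7), v ≠ 0 →
    bet (Matrix.transvection 0 1 c *ᵥ v) + bet (Matrix.transvection 0 1 c *ᵥ w0) =
      (At ^ c.val) *ᵥ bet v := by
  decide +kernel

set_option maxRecDepth 100000 in
theorem chk_s : ∀ (c : ZMod 7) (v : Fin 2 → ZMod 7), v ≠ 0 →
    bet (Matrix.transvection 1 0 c *ᵥ v) + bet (Matrix.transvection 1 0 c *ᵥ w0) =
      (As ^ c.val) *ᵥ bet v := by
  decide +kernel

set_option maxRecDepth 100000 in
theorem bet_smul : ∀ (r : ZMod 7) (v : Fin 2 → ZMod 7), r ≠ 0 → bet (r • v) = bet v := by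
  decide +kernel

set_option maxRecDepth 100000 in
theorem bet_surj : ∀ x : Fin 3 → ZMod 2, ∃ v : Fin 2 → ZMod 7, v ≠ 0 ∧ bet v = x := by
  decide +kernel

theorem add_self3 : ∀ x : Fin 3 → ZMod 2, x + x = 0 := by decide +kernel

theorem bet_w0 : bet w0 = 0 := by decide +kernel

theorem w0_ne : w0 ≠ 0 := by decide +kernel

theorem AtAs : At * As ≠ As * At := by decide +kernel

/-- the relation -/
def Rel (g : Matrix.SpecialLinearGroup (Fin 2) (ZMod 7)) (A : Matrix.SpecialLinearGroup (Fin 3) (ZMod 2)) : Prop :=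
  ∀ v : Fin 2 → ZMod 7, v ≠ 0 → bet ((g : Matrix (Fin 2) (Fin 2) (ZMod 7)) *ᵥ v) + bet ((g : Matrix (Fin 2) (Fin 2) (ZMod 7)) *ᵥ w0) =
    (A : Matrix (Fin 3) (Fin 3) (ZMod 2)) *ᵥ bet v

theorem mulVec_ne (g : Matrix.SpecialLinearGroup (Fin 2) (ZMod 7)) (v : Fin 2 → ZMod 7) (hv : v ≠ 0) :
    (g : Matrix (Fin 2) (Fin 2) (ZMod 7)) *ᵥ v ≠ 0 := by
  intro h
  apply hv
  have h1 : ((g⁻¹ * g : Matrix.SpecialLinearGroup (Fin 2) (ZMod 7)) : Matrix (Fin 2) (Fin 2) (ZMod 7)) *ᵥ v = v := by simp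
  rw [Matrix.SpecialLinearGroup.coe_mul, ← mulVec_mulVec, h, mulVec_zero] at h1
  exact h1.symm

theorem Rel_mul (g g' : Matrix.SpecialLinearGroup (Fin 2) (ZMod 7))
    (a a' : Matrix.SpecialLinearGroup (Fin 3) (ZMod 2)) (h : Rel g a) (h' : Rel g' a') :
    Rel (g * g') (a * a') := by
  intro v hv
  rw [Matrix.SpecialLinearGroup.coe_mul, Matrix.SpecialLinearGroup.coe_mul, ← mulVec_mulVec, ← mulVec_mulVec,
    ← mulVec_mulVec, ← h' v hv, mulVec_add, ← h _ (mulVec_ne g' v hv), ← h _ (mulVec_ne g' w0 w0_ne),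
    add_add_add_comm, add_self3, add_zero]

theorem Rel_uniq (g : Matrix.SpecialLinearGroup (Fin 2) (ZMod 7))
    (a a' : Matrix.SpecialLinearGroup (Fin 3) (ZMod 2)) (h : Rel g a) (h' : Rel g a') : a = a' := by
  apply Subtype.ext
  ext i j
  obtain ⟨v, hv, hb⟩ := bet_surj (Pi.single j 1)
  have h1 := (h v hv).symm.trans (h' v hv)
  rw [hb] at h1
  simpa using congrFun h1 i

theorem Rel_transv (i j : Fin 2) (hij : i ≠ j) (c : ZMod 7) :
    ∃ a, Rel (Matrix.SpecialLinearGroup.transvection hij c) a := by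
  fin_cases i <;> fin_cases j
  · exact absurd rfl hij
  · refine ⟨AtS ^ c.val, fun v hv => ?_⟩
    rw [Matrix.SpecialLinearGroup.coe_pow]
    exact chk_t c v hv
  · refine ⟨AsS ^ c.val, fun v hv => ?_⟩
    rw [Matrix.SpecialLinearGroup.coe_pow]
    exact chk_s c v hv
  · exact absurd rfl hij

theorem main : Nonempty (Matrix.ProjectiveSpecialLinearGroup (Fin 2) (ZMod 7) ≃*
    Matrix.ProjectiveSpecialLinearGroup (Fin 3) (ZMod 2)) := by
  have : Fact (Nat.Prime 7) := ⟨by norm_num⟩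
  obtain ⟨f, hf⟩ := exists_hom_of_rel_SL Rel Rel_mul Rel_uniq Rel_transv
  let φ : Matrix.SpecialLinearGroup (Fin 2) (ZMod 7) →* Matrix.ProjectiveSpecialLinearGroup (Fin 3) (ZMod 2) :=
    (QuotientGroup.mk' _).comp f
  have hz : ∀ z ∈ Subgroup.center (Matrix.SpecialLinearGroup (Fin 2) (ZMod 7)), φ z = 1 := by
    intro z hz
    obtain ⟨r, hr, hrz⟩ := Matrix.SpecialLinearGroup.mem_center_iff.1 hz
    have hr0 : r ≠ 0 := by
      rintro rfl
      simp at hr
    have h1 : Rel z 1 := by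
      intro v _
      rw [← hrz]
      simp only [scalar_apply, Matrix.SpecialLinearGroup.coe_one, one_mulVec]
      rw [← smul_one_eq_diagonal, smul_mulVec, smul_mulVec, one_mulVec, one_mulVec, bet_smul r v hr0,
        bet_smul r w0 hr0, bet_w0, add_zero]
    have h2 : f z = 1 := Rel_uniq z _ _ (hf z) h1
    show QuotientGroup.mk' _ (f z) = 1
    rw [h2, map_one]
  let ψ : Matrix.ProjectiveSpecialLinearGroup (Fin 2) (ZMod 7) →*
      Matrix.ProjectiveSpecialLinearGroup (Fin 3) (ZMod 2) := QuotientGroup.lift _ φ hz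
  have hs : IsSimpleGroup (Matrix.ProjectiveSpecialLinearGroup (Fin 2) (ZMod 7)) :=
    Matrix.ProjectiveSpecialLinearGroup.rank_two_simple (by rw [Nat.card_eq_fintype_card, ZMod.card]; norm_num)
  have h01 : (0 : Fin 2) ≠ 1 := by decide
  have hft : f (Matrix.SpecialLinearGroup.transvection h01 1) = AtS := by
    apply Rel_uniq _ _ _ (hf _)
    intro v hv
    have := chk_t 1 v hv
    rw [show ZMod.val (1 : ZMod 7) = 1 from rfl, pow_one] at this
    exact this
  refine nonempty_mulEquiv_of_simple ψ (QuotientGroup.mk (Matrix.SpecialLinearGroup.transvection h01 1)) ?_ ?_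
  · show QuotientGroup.mk' _ (f _) ≠ 1
    rw [hft]
    intro h
    have h3 : AtS ∈ Subgroup.center (Matrix.SpecialLinearGroup (Fin 3) (ZMod 2)) :=
      (QuotientGroup.eq_one_iff _).1 h
    have h4 := Subgroup.mem_center_iff.1 h3 AsS
    exact AtAs (congrArg Subtype.val h4).symm
  · have hc1 := card_PSL_field (F := ZMod 7) 2 (by norm_num)
    have hc2 := card_PSL_field (F := ZMod 2) 3 (by norm_num)
    rw [ZMod.card] at hc1 hc2
    simp only [Fin.prod_univ_two, Fin.prod_univ_three] at hc1 hc2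
    norm_num at hc1 hc2
    rw [Nat.card_eq_fintype_card, Nat.card_eq_fintype_card]
    omega

/-- PSL_2(7) is isomorphic to PSL_3(2). -/
theorem result {F K : Type*} [Field F] [Fintype F] [Field K] [Fintype K] (hF : Fintype.card F = 7) (hK : Fintype.card K = 2) : Nonempty (Matrix.ProjectiveSpecialLinearGroup (Fin 2) F ≃* Matrix.ProjectiveSpecialLinearGroup (Fin 3) K) := by
  obtain ⟨e⟩ := main
  exact ⟨((pslEquiv (ZMod.ringEquivOfPrime F (by norm_num) hF)).symm.trans e).trans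
    (pslEquiv (ZMod.ringEquivOfPrime K Nat.prime_two hK))⟩

end Cfsg.Agent.S0255
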