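import Cfsg.Statements.S2202
import Cfsg.Agent.Lib.Helper36.AbCentJ

set_option autoImplicit false
open Cfsg

namespace Cfsg.Agent.S2202

/-- Finite groups in which the centralizer of every involution is abelian. Let G be a finite group of even order in which the centralizer of every element of order 2 is abelian. Then the Sylow 2-subgroups of G are cyclic, or a Sylow 2-subgroup of G is normal, or G is isomorphic to the direct product of SL₂(F) for a finite field F of characteristic two and an abelian group of odd order. -/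
theorem result {G : Type*} [Group G] [Finite G] (heven : Even (Nat.card G)) (h : ∀ t : G, orderOf t = 2 → IsMulCommutative ↥(Subgroup.centralizer ({t} : Set G))) :
    (∀ P : Sylow 2 G, IsCyclic ↥P) ∨ (∀ P : Sylow 2 G, (P : Subgroup G).Normal) ∨
    (∃ (F : Type) (_ : Field F) (_ : Fintype F) (A : Type) (_ : CommGroup A) (_ : Finite A), CharP F 2 ∧ Odd (Nat.card A) ∧ Nonempty (G ≃* Matrix.SpecialLinearGroup (Fin 2) F × A)) := by
  have : Fact (Nat.Prime 2) := ⟨Nat.prime_two⟩
  have hab : Cfsg.Agent.Lib.Helper36.AbCent.Ab G := fun t ht a b ha hb => by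
    have := (h t ht).is_comm.comm ⟨a, Subgroup.mem_centralizer_singleton_iff.mpr ha.eq⟩
      ⟨b, Subgroup.mem_centralizer_singleton_iff.mpr hb.eq⟩
    exact congrArg Subtype.val this
  by_cases h1 : ∀ P : Sylow 2 G, IsCyclic ↥P
  · exact Or.inl h1
  by_cases h2 : ∀ P : Sylow 2 G, (P : Subgroup G).Normal
  · exact Or.inr (Or.inl h2)
  right; right
  push Not at h1 h2
  obtain ⟨P₁, hP₁⟩ := h1
  obtain ⟨T, hT⟩ := h2
  have hTc : ¬ IsCyclic ↥T := fun hc =>
    hP₁ (isCyclic_of_surjective (Sylow.equiv T P₁) (Sylow.equiv T P₁).surjective)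
  obtain ⟨z, z', u, hz, hz', hzz', hne, hu, huz⟩ :=
    Cfsg.Agent.Lib.Helper36.AbCent.exists_data hab T hTc hT
  exact Cfsg.Agent.Lib.Helper36.AbCent.final hab hz hu huz hz' hzz' hne

end Cfsg.Agent.S2202
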