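import Cfsg.Statements.S3276
import Cfsg.Agent.Lib.Helper60.Involutions

set_option autoImplicit false
open Cfsg

namespace Cfsg.Agent.S3276

/-- Let x and y be commuting, non-conjugate involutions of a finite group G, and suppose that for every involution u commuting with x, each conjugate of y that commutes with u also commutes with y. Then the normal closure of y is a proper, normal, elementary abelian 2-subgroup of G; and if y is the only involution of that normal closure commuting with x, it has order at most 4. -/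
theorem result {G : Type*} [Group G] [Finite G] (x y : G) (hx : orderOf x = 2) (hy : orderOf y = 2)
    (hxy : Commute x y) (hnc : ¬ IsConj x y)
    (hstar : ∀ u : G, orderOf u = 2 → Commute u x → ∀ g : G, Commute (g * y * g⁻¹) u → Commute (g * y * g⁻¹) y) :
    Subgroup.normalClosure ({y} : Set G) ≠ ⊤ ∧ Cfsg.IsElementaryAbelian 2 (Subgroup.normalClosure ({y} : Set G)) ∧
      ((∀ u ∈ Subgroup.normalClosure ({y} : Set G), orderOf u = 2 → Commute u x → u = y) →
        Nat.card ↥(Subgroup.normalClosure ({y} : Set G)) ≤ 4) := by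
  classical
  have hx2 := Cfsg.Agent.Lib.Helper60.sq_eq_one_of_orderOf_two hx
  have hy2 := Cfsg.Agent.Lib.Helper60.sq_eq_one_of_orderOf_two hy
  have hxi := Cfsg.Agent.Lib.Helper60.inv_eq_self_of_orderOf_two hx
  -- Step A
  have hA : ∀ g : G, Commute (g * y * g⁻¹) y := by
    intro g
    have ho : orderOf (g * y * g⁻¹) = 2 := by
      have : g * y * g⁻¹ = MulAut.conj g y := rfl
      rw [this, MulEquiv.orderOf_eq, hy]
    have hn : ¬ IsConj x (g * y * g⁻¹) := by
      intro h
      apply hnc
      refine h.trans ?_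
      exact (isConj_iff.mpr ⟨g, rfl⟩ : IsConj y (g * y * g⁻¹)).symm
    obtain ⟨k, hk, hkx, hky⟩ :=
      Cfsg.Agent.Lib.Helper60.exists_involution_commute_of_not_isConj hx ho hn
    exact hstar _ hk hkx g hky.symm
  -- Step B
  have hB : ∀ g h : G, (g * y * g⁻¹) * (h * y * h⁻¹) = (h * y * h⁻¹) * (g * y * g⁻¹) := by
    intro g h
    have h1 : (h⁻¹ * g) * y * (h⁻¹ * g)⁻¹ * y = y * ((h⁻¹ * g) * y * (h⁻¹ * g)⁻¹) := hA (h⁻¹ * g)
    have h2 : (g * y * g⁻¹) * (h * y * h⁻¹) = h * ((h⁻¹ * g) * y * (h⁻¹ * g)⁻¹ * y) * h⁻¹ := by group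
    have h3 : (h * y * h⁻¹) * (g * y * g⁻¹) = h * (y * ((h⁻¹ * g) * y * (h⁻¹ * g)⁻¹)) * h⁻¹ := by group
    rw [h2, h3, h1]
  have hmemc : ∀ a ∈ Group.conjugatesOfSet ({y} : Set G), ∃ g : G, a = g * y * g⁻¹ := by
    intro a ha
    rw [Group.mem_conjugatesOfSet_iff] at ha
    obtain ⟨b, hb, hba⟩ := ha
    rw [Set.mem_singleton_iff] at hb
    subst hb
    obtain ⟨g, hg⟩ := isConj_iff.mp hba
    exact ⟨g, hg.symm⟩
  have hcommN : IsMulCommutative (Subgroup.normalClosure ({y} : Set G)) := by
    unfold Subgroup.normalClosure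
    apply Subgroup.isMulCommutative_closure
    intro a ha b hb
    obtain ⟨g, rfl⟩ := hmemc a ha
    obtain ⟨h, rfl⟩ := hmemc b hb
    exact hB g h
  have hcm : ∀ a ∈ Subgroup.normalClosure ({y} : Set G), ∀ b ∈ Subgroup.normalClosure ({y} : Set G),
      a * b = b * a := fun a ha b hb => setLike_mul_comm ha hb
  have hsq : ∀ a ∈ Subgroup.normalClosure ({y} : Set G), a ^ 2 = 1 := by
    intro a ha
    have : ∀ a (ha : a ∈ Subgroup.closure (Group.conjugatesOfSet ({y} : Set G))), a ^ 2 = 1 := by
      intro a ha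
      induction ha using Subgroup.closure_induction with
      | mem a ha =>
        obtain ⟨g, rfl⟩ := hmemc a ha
        have : (g * y * g⁻¹) ^ 2 = g * (y * y) * g⁻¹ := by rw [pow_two]; group
        rw [this, hy2]; group
      | one => simp
      | mul a b ha hb iha ihb =>
        have hab : Commute a b := hcm a ha b hb
        rw [hab.mul_pow, iha, ihb, one_mul]
      | inv a ha iha => rw [inv_pow, iha, inv_one]
    exact this a ha
  have hyN : y ∈ Subgroup.normalClosure ({y} : Set G) :=
    Subgroup.subset_normalClosure (Set.mem_singleton y)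
  refine ⟨?_, ⟨hcommN, hsq⟩, ?_⟩
  · intro htop
    have hc : ∀ a b : G, a * b = b * a := fun a b =>
      hcm a (htop ▸ Subgroup.mem_top a) b (htop ▸ Subgroup.mem_top b)
    apply hnc
    have : (Subgroup.zpowers y).Normal := ⟨fun n hn g => by
      rw [hc g n, mul_inv_cancel_right]; exact hn⟩
    have hle : Subgroup.normalClosure ({y} : Set G) ≤ Subgroup.zpowers y :=
      Subgroup.normalClosure_le_normal (by
        intro a ha
        rw [Set.mem_singleton_iff.mp ha]
        exact Subgroup.mem_zpowers y)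
    have hxz : x ∈ Subgroup.zpowers y := hle (htop ▸ Subgroup.mem_top x)
    obtain ⟨k, hk⟩ := Subgroup.mem_zpowers_iff.mp hxz
    rw [← zpow_mod_orderOf, hy] at hk
    have hx1 : x ≠ 1 := by
      intro h; rw [h, orderOf_one] at hx; omega
    have : k % (2 : ℕ) = 0 ∨ k % (2 : ℕ) = 1 := by omega
    rcases this with h | h
    · rw [h, zpow_zero] at hk; exact absurd hk.symm hx1
    · rw [h, zpow_one] at hk; rw [hk]
  · intro huniq
    set N := Subgroup.normalClosure ({y} : Set G) with hN
    have hnorm : N.Normal := Subgroup.normalClosure_normal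
    -- fixed elements
    have hfix : ∀ u ∈ N, Commute u x → u = 1 ∨ u = y := by
      intro u hu hux
      by_cases h1 : u = 1
      · exact Or.inl h1
      · right
        refine huniq u hu ?_ hux
        exact orderOf_eq_prime (hsq u hu) h1
    let φ : N →* N :=
      { toFun := fun n => ⟨n * (x * n * x⁻¹), N.mul_mem n.2 (hnorm.conj_mem n n.2 x)⟩
        map_one' := by ext; simp
        map_mul' := by
          intro a b
          ext
          have h1 := hcm (b : G) b.2 (x * a * x⁻¹) (hnorm.conj_mem a a.2 x)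
          show (a : G) * b * (x * (a * b) * x⁻¹) = a * (x * a * x⁻¹) * (b * (x * b * x⁻¹))
          calc (a : G) * b * (x * (a * b) * x⁻¹) = a * (b * (x * a * x⁻¹)) * (x * b * x⁻¹) := by group
            _ = a * ((x * a * x⁻¹) * b) * (x * b * x⁻¹) := by rw [h1]
            _ = a * (x * a * x⁻¹) * (b * (x * b * x⁻¹)) := by group }
    let Y : Subgroup N := Subgroup.zpowers ⟨y, hyN⟩
    have hYcard : Nat.card Y = 2 := by
      rw [Nat.card_zpowers, Subgroup.orderOf_mk, hy]
    have hmemY : ∀ n : N, Commute (n : G) x → n ∈ Y := by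
      intro n hn
      rcases hfix n n.2 hn with h | h
      · have : n = 1 := Subtype.ext h
        rw [this]; exact Y.one_mem
      · have : n = ⟨y, hyN⟩ := Subtype.ext h
        rw [this]; exact Subgroup.mem_zpowers _
    have hker : φ.ker ≤ Y := by
      intro n hn
      apply hmemY
      have h1 : (n : G) * (x * n * x⁻¹) = 1 := congrArg Subtype.val (MonoidHom.mem_ker.mp hn)
      have h2 : (n : G) * n = 1 := by rw [← pow_two]; exact hsq n n.2
      have h3 : x * n * x⁻¹ = n := by
        have := h1.trans h2.symm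
        exact mul_left_cancel this
      show (n : G) * x = x * n
      calc (n : G) * x = (x * n * x⁻¹) * x := by rw [h3]
        _ = x * n := by group
    have hrange : φ.range ≤ Y := by
      rintro _ ⟨n, rfl⟩
      apply hmemY
      show (n : G) * (x * n * x⁻¹) * x = x * (n * (x * n * x⁻¹))
      have h1 := hcm (n : G) n.2 (x * n * x⁻¹) (hnorm.conj_mem n n.2 x)
      have h4 : x⁻¹ * (n : G) * x = x * n * x⁻¹ := by rw [hxi]
      calc (n : G) * (x * n * x⁻¹) * x = (x * n * x⁻¹) * n * x := by rw [h1]
        _ = x * (n * (x⁻¹ * n * x)) := by group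
        _ = x * (n * (x * n * x⁻¹)) := by rw [h4]
    have hc1 : Nat.card φ.ker ≤ 2 := hYcard ▸ Subgroup.card_le_of_le hker
    have hc2 : Nat.card φ.range ≤ 2 := hYcard ▸ Subgroup.card_le_of_le hrange
    have hc3 := Subgroup.card_mul_index φ.ker
    rw [Subgroup.index_ker] at hc3
    rw [← hc3]
    calc Nat.card φ.ker * Nat.card φ.range ≤ 2 * 2 := Nat.mul_le_mul hc1 hc2
      _ = 4 := rfl

end Cfsg.Agent.S3276
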