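import Cfsg.Statements.S3277
import Cfsg.Agent.Lib.Helper60.FourCent
import Cfsg.Agent.Lib.Helper2.PResidual
import Cfsg.Agent.S3276

set_option autoImplicit false
open Cfsg

namespace Cfsg.Agent.S3277

open Cfsg.Agent.Lib.Helper6 Cfsg.Agent.Lib.Helper60.ThreeInv Cfsg.Agent.Lib.Helper60.FourCent

theorem card_Cz_conj {G : Type*} [Group G] (x g : G) :
    Nat.card ↥(Subgroup.centralizer ({g * x * g⁻¹} : Set G)) =
      Nat.card ↥(Subgroup.centralizer ({x} : Set G)) := by
  symm
  apply Nat.card_congr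
  refine Equiv.subtypeEquiv (MulAut.conj g).toEquiv ?_
  intro c
  show c ∈ Cz x ↔ g * c * g⁻¹ ∈ Cz (g * x * g⁻¹)
  rw [mem_Cz, mem_Cz, Commute.conj_iff]

/-- Let G be a finite group containing an involution whose centralizer is elementary abelian of order 4. If G has no normal 2-complement and no normal elementary abelian 2-subgroup of order 2 or 4, then G is isomorphic to the alternating group of degree 5 (that is, to PSL(2, 5)). -/
theorem result {G : Type*} [Group G] [Finite G] (x : G) (hx : orderOf x = 2)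
    (hC4 : Nat.card ↥(Subgroup.centralizer ({x} : Set G)) = 4) (hCe : ∀ c ∈ Subgroup.centralizer ({x} : Set G), c ^ 2 = 1)
    (hnc : ¬ Cfsg.HasNormalPComplement 2 G)
    (hne : ∀ E : Subgroup G, E.Normal → Cfsg.IsElementaryAbelian 2 E → Nat.card ↥E ≠ 2 ∧ Nat.card ↥E ≠ 4) :
    Nonempty (G ≃* ↥(alternatingGroup (Fin 5))) := by
  classical
  have hfact : Fact (Nat.Prime 2) := ⟨Nat.prime_two⟩
  have hx1 : x ≠ 1 := invol_ne_one hx
  have hsq : ∀ c : G, Commute x c → c * c = 1 := by
    intro c hc
    rw [← pow_two]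
    exact hCe c (mem_Cz.mpr hc)
  have hcomm : ∀ c c' : G, Commute x c → Commute x c' → Commute c c' := by
    intro g h hg hh
    have h1 := hsq g hg
    have h2 := hsq h hh
    have h3 := hsq (g * h) (hg.mul_right hh)
    have e1 : g⁻¹ = g := inv_eq_of_mul_eq_one_left h1
    have e2 : h⁻¹ = h := inv_eq_of_mul_eq_one_left h2
    have e3 : (g * h)⁻¹ = g * h := inv_eq_of_mul_eq_one_left h3
    show g * h = h * g
    rw [← e3, mul_inv_rev, e1, e2]
  have h3 : AtMost3 x := by
    apply atMost3_of_card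
    have h1 : Nat.card {u : ↥(Subgroup.centralizer ({x} : Set G)) // orderOf u = 2} <
        Nat.card ↥(Subgroup.centralizer ({x} : Set G)) :=
      Finite.card_subtype_lt (x := 1) (by rw [orderOf_one]; norm_num)
    rw [hC4] at h1
    omega
  have hCzEA : Cfsg.IsElementaryAbelian 2 (Cz x) := by
    refine ⟨⟨⟨fun c c' => Subtype.ext (hcomm c c' (mem_Cz.mp c.2) (mem_Cz.mp c'.2)).eq⟩⟩, hCe⟩
  -- a small normal elementary abelian subgroup is impossible
  have hsmall : ∀ E : Subgroup G, E.Normal → Cfsg.IsElementaryAbelian 2 E →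
      (∃ u ∈ E, orderOf u = 2) → Nat.card E ≤ 4 → False := by
    intro E hE hEA ⟨u, huE, hu⟩ hle
    obtain ⟨n2, n4⟩ := hne E hE hEA
    have hd : 2 ∣ Nat.card E := by
      have := orderOf_dvd_natCard (⟨u, huE⟩ : E)
      rwa [Subgroup.orderOf_mk, hu] at this
    have hpos : 0 < Nat.card E := Nat.card_pos
    omega
  by_cases hall : ∀ a : G, orderOf a = 2 → Commute x a → IsConj x a
  · -- all involutions are conjugate to x
    have hconjsq : ∀ g c : G, Commute (g * x * g⁻¹) c → c * c = 1 := by
      intro g c hc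
      have h1 : Commute x (g⁻¹ * c * g⁻¹⁻¹) := by
        rw [← Commute.conj_iff g]
        have : g * (g⁻¹ * c * g⁻¹⁻¹) * g⁻¹ = c := by group
        rw [this]; exact hc
      have h2 := hsq _ h1
      have : c * c = g * ((g⁻¹ * c * g⁻¹⁻¹) * (g⁻¹ * c * g⁻¹⁻¹)) * g⁻¹ := by group
      rw [this, h2]; group
    have hconjcomm : ∀ g c c' : G, Commute (g * x * g⁻¹) c → Commute (g * x * g⁻¹) c' →
        Commute c c' := by
      intro k g h hg hh
      have h1 := hconjsq k g hg
      have h2 := hconjsq k h hh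
      have h3 := hconjsq k (g * h) (hg.mul_right hh)
      have e1 : g⁻¹ = g := inv_eq_of_mul_eq_one_left h1
      have e2 : h⁻¹ = h := inv_eq_of_mul_eq_one_left h2
      have e3 : (g * h)⁻¹ = g * h := inv_eq_of_mul_eq_one_left h3
      show g * h = h * g
      rw [← e3, mul_inv_rev, e1, e2]
    have hallc : ∀ t : G, orderOf t = 2 → IsConj x t := by
      intro t ht
      by_contra hn
      obtain ⟨w, hw, c1, c2⟩ := exists_common_invol hx ht hn
      obtain ⟨g, hg⟩ := isConj_iff.mp (hall w hw c1)
      have h1 : Commute x t := hconjcomm g x t (hg ▸ c1.symm) (hg ▸ c2.symm)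
      exact hn (hall t ht h1)
    have H : Hyp G := by
      refine ⟨?_, ?_⟩
      · intro t c ht hc
        obtain ⟨g, hg⟩ := isConj_iff.mp (hallc t ht)
        exact hconjsq g c (hg ▸ hc)
      · intro t ht
        obtain ⟨g, hg⟩ := isConj_iff.mp (hallc t ht)
        rw [← hg, card_Cz_conj, hC4]
    by_cases hnc2 : ∃ b : G, orderOf b = 2 ∧ ¬ Commute x b
    · obtain ⟨b, hb, hxb⟩ := hnc2
      exact Cfsg.Agent.Lib.Helper60.FourCent.main H hx hb hxb
    · exfalso
      push Not at hnc2
      have hnorm : (Cz x).Normal := by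
        refine ⟨fun c hc g => ?_⟩
        rw [mem_Cz] at hc ⊢
        by_cases hc1 : c = 1
        · rw [hc1]
          have : g * 1 * g⁻¹ = 1 := by group
          rw [this]; exact Commute.one_right x
        · exact hnc2 _ (invol_conj (invol_iff.mpr ⟨hsq c hc, hc1⟩) g)
      exact hsmall (Cz x) hnorm hCzEA ⟨x, mem_Cz.mpr (Commute.refl x), hx⟩ (le_of_eq hC4)
  exfalso
  push Not at hall
  obtain ⟨a, ha, cxa, hna⟩ := hall
  have hnea : x ≠ a := fun e => hna (e ▸ IsConj.refl x)
  have hxa2 : orderOf (x * a) = 2 := invol_mul_of_commute hx ha cxa hnea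
  have ha1 : a ≠ 1 := invol_ne_one ha
  have d1 : x ≠ x * a := fun e => ha1 (by simpa using e.symm)
  have d2 : a ≠ x * a := fun e => hx1 (by simpa using e.symm)
  have cxx : Commute x x := Commute.refl x
  have cxxa : Commute x (x * a) := cxx.mul_right cxa
  by_cases hxa : IsConj x (x * a)
  · have hcc := commute_conj_of_fusion hx ha h3 cxa hna hxa
    obtain ⟨-, hEA, hcard⟩ := Cfsg.Agent.S3276.result x a hx ha cxa hna
      (fun u _ _ g _ => (hcc g).symm)
    have haN : a ∈ Subgroup.normalClosure ({a} : Set G) :=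
      Subgroup.subset_normalClosure (Set.mem_singleton a)
    apply hsmall _ Subgroup.normalClosure_normal hEA ⟨a, haN, ha⟩
    by_cases huniq : ∀ u ∈ Subgroup.normalClosure ({a} : Set G), orderOf u = 2 → Commute u x → u = a
    · exact hcard huniq
    · push Not at huniq
      obtain ⟨u, huN, hu, cux, hua⟩ := huniq
      have hxN : x ∈ Subgroup.normalClosure ({a} : Set G) := by
        rcases h3 x a (x * a) u hx ha hxa2 hu cxx cxa cxxa cux.symm hnea d1 d2 with e | e | e
        · rw [← e]; exact huN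
        · exact absurd e hua
        · have : x = u * a⁻¹ := by rw [e]; group
          rw [this]
          exact Subgroup.mul_mem _ huN (Subgroup.inv_mem _ haN)
      have hle : Subgroup.normalClosure ({a} : Set G) ≤ Cz x := by
        intro n hn
        rw [mem_Cz]
        have := hEA.1
        exact setLike_mul_comm hxN hn
      have := Subgroup.card_le_of_le hle
      rwa [hC4] at this
  -- x is isolated in its centralizer
  have hiso : ∀ y : G, IsConj x y → Commute x y → y = x := by
    intro y hy cy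
    have hy2 : orderOf y = 2 := by
      obtain ⟨g, rfl⟩ := isConj_iff.mp hy
      exact invol_conj hx g
    rcases h3 x a (x * a) y hx ha hxa2 hy2 cxx cxa cxxa cy hnea d1 d2 with e | e | e
    · exact e
    · exact absurd (e ▸ hy) hna
    · exact absurd (e ▸ hy) hxa
  obtain ⟨S, hS⟩ : ∃ S : Sylow 2 G, x ∈ S := by
    have hp : IsPGroup 2 (Subgroup.zpowers x) := by
      rw [IsPGroup.iff_card]
      exact ⟨1, by rw [Nat.card_zpowers, hx, pow_one]⟩
    obtain ⟨S, hS⟩ := hp.exists_le_sylow
    exact ⟨S, hS (Subgroup.mem_zpowers x)⟩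
  have hxZ : ∀ s ∈ S, Commute x s := by
    by_contra hcon
    push Not at hcon
    obtain ⟨s0, hs0, hs0c⟩ := hcon
    let H0 : Subgroup (S : Subgroup G) := (Subgroup.centralizer ({x} : Set G)).subgroupOf S
    have hH0 : H0 < ⊤ := by
      rw [lt_top_iff_ne_top]
      intro htop
      have : (⟨s0, hs0⟩ : (S : Subgroup G)) ∈ H0 := htop ▸ Subgroup.mem_top _
      rw [Subgroup.mem_subgroupOf, Subgroup.mem_centralizer_singleton_iff] at this
      exact hs0c this.symm
    have : Group.IsNilpotent (S : Subgroup G) := S.2.isNilpotent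
    have hlt := Group.normalizerCondition_of_isNilpotent (G := (S : Subgroup G)) H0 hH0
    obtain ⟨n, hn, hn'⟩ := SetLike.exists_of_lt hlt
    have hxH0 : (⟨x, hS⟩ : (S : Subgroup G)) ∈ H0 := by
      rw [Subgroup.mem_subgroupOf, Subgroup.mem_centralizer_singleton_iff]
    have h1 := (Subgroup.mem_normalizer_iff.mp hn ⟨x, hS⟩).mp hxH0
    rw [Subgroup.mem_subgroupOf, Subgroup.mem_centralizer_singleton_iff] at h1
    have h2 : (n : G) * x * (n : G)⁻¹ = x :=
      hiso _ (isConj_iff.mpr ⟨n, rfl⟩) (show x * ((n : G) * x * (n : G)⁻¹) = _ from h1.symm)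
    apply hn'
    rw [Subgroup.mem_subgroupOf, Subgroup.mem_centralizer_singleton_iff]
    exact mul_inv_eq_iff_eq_mul.mp h2
  apply hnc
  apply Cfsg.Agent.Lib.Helper2.hasNormalPComplement_of_normalizer_le_centralizer S
  intro g hg
  have h1 : g * x * g⁻¹ ∈ (S : Subgroup G) := (Subgroup.mem_normalizer_iff.mp hg x).mp hS
  have h2 : g * x * g⁻¹ = x := hiso _ (isConj_iff.mpr ⟨g, rfl⟩) (hxZ _ h1)
  have h4 : Commute x g := (mul_inv_eq_iff_eq_mul.mp h2).symm
  rw [Subgroup.mem_centralizer_iff]
  intro s hs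
  exact (hcomm s g (hxZ s hs) h4).eq

end Cfsg.Agent.S3277
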