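import Cfsg.Statements.S2119
import Mathlib

set_option autoImplicit false
open Cfsg

namespace Cfsg.Agent.S2119

open Equiv Equiv.Perm Nat

theorem num0 : ∀ j : ℕ, 2 * 3 ^ (j + 2) * (j + 3)! < (3 * j + 6)! := by
  intro j
  induction j with
  | zero => decide
  | succ j ih =>
    have e1 : (3 * (j + 1) + 6)! = (3 * j + 9) * ((3 * j + 8) * ((3 * j + 7) * (3 * j + 6)!)) := by
      have : 3 * (j + 1) + 6 = (3 * j + 6) + 1 + 1 + 1 := by ring
      rw [this, Nat.factorial_succ, Nat.factorial_succ, Nat.factorial_succ]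
    have e2 : 2 * 3 ^ (j + 1 + 2) * (j + 1 + 3)! = (3 * (j + 4)) * (2 * 3 ^ (j + 2) * (j + 3)!) := by
      have : j + 1 + 3 = (j + 3) + 1 := by ring
      rw [this, Nat.factorial_succ]
      ring
    rw [e1, e2]
    have h1 : 3 * (j + 4) ≤ (3 * j + 9) * ((3 * j + 8) * (3 * j + 7)) := by
      have h3 : 2 ≤ (3 * j + 8) * (3 * j + 7) := by nlinarith
      calc 3 * (j + 4) ≤ (3 * j + 9) * 2 := by omega
        _ ≤ _ := Nat.mul_le_mul_left _ h3
    calc (3 * (j + 4)) * (2 * 3 ^ (j + 2) * (j + 3)!)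
        < (3 * (j + 4)) * (3 * j + 6)! := by
          apply Nat.mul_lt_mul_of_pos_left ih (by omega)
      _ ≤ ((3 * j + 9) * ((3 * j + 8) * (3 * j + 7))) * (3 * j + 6)! := Nat.mul_le_mul_right _ h1
      _ = _ := by ring

theorem num (j m : ℕ) (h : ¬ (j = 0 ∧ m = 0)) :
    2 * 3 ^ (j + 1) * (j + 2)! * m ! < (m + 3 * j + 3)! := by
  induction m with
  | zero =>
    obtain ⟨i, rfl⟩ : ∃ i, j = i + 1 := ⟨j - 1, by omega⟩
    have := num0 i
    have e : 0 + 3 * (i + 1) + 3 = 3 * i + 6 := by ring
    rw [e]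
    simpa using this
  | succ m ih =>
    by_cases h0 : j = 0 ∧ m = 0
    · obtain ⟨rfl, rfl⟩ := h0
      decide
    · have := ih h0
      have e : m + 1 + 3 * j + 3 = (m + 3 * j + 3) + 1 := by ring
      rw [e, Nat.factorial_succ, Nat.factorial_succ]
      calc 2 * 3 ^ (j + 1) * (j + 2)! * ((m + 1) * m !)
          = (m + 1) * (2 * 3 ^ (j + 1) * (j + 2)! * m !) := by ring
        _ < (m + 1) * (m + 3 * j + 3)! := Nat.mul_lt_mul_of_pos_left this (by omega)
        _ ≤ (m + 3 * j + 3 + 1) * (m + 3 * j + 3)! := Nat.mul_le_mul_right _ (by omega)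

variable {n : ℕ}

theorem card_cent (g : Perm (Fin n)) (k : ℕ) (hk : 1 ≤ k) (hg : g.cycleType = Multiset.replicate k 3) :
    Nat.card (Subgroup.centralizer {g}) = (n - 3 * k)! * 3 ^ k * k ! := by
  rw [nat_card_centralizer, hg]
  have h1 : (Multiset.replicate k 3).toFinset = {3} := by
    ext x
    simp only [Multiset.mem_toFinset, Multiset.mem_replicate, Finset.mem_singleton]
    constructor
    · rintro ⟨_, h⟩; exact h
    · intro h; exact ⟨by omega, h⟩
  rw [h1]
  simp [mul_comm]

theorem cent_bounds (x : alternatingGroup (Fin n)) (hn : 2 ≤ n):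
    Nat.card (Subgroup.centralizer {x}) ≤ Nat.card (Subgroup.centralizer {(x : Perm (Fin n))}) ∧
    Nat.card (Subgroup.centralizer {(x : Perm (Fin n))}) ≤ 2 * Nat.card (Subgroup.centralizer {x}) := by
  have e : Subgroup.centralizer {x} = (Subgroup.centralizer {(x : Perm (Fin n))}).subgroupOf (alternatingGroup (Fin n)) := by
    ext y
    simp only [Subgroup.mem_centralizer_iff, Set.mem_singleton_iff, forall_eq, Subgroup.mem_subgroupOf]
    constructor
    · intro h
      have := congrArg Subtype.val h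
      simpa using this
    · intro h
      apply Subtype.ext
      simpa using h
  obtain ⟨C, hC⟩ : ∃ C, C = Subgroup.centralizer {(x : Perm (Fin n))} := ⟨_, rfl⟩
  obtain ⟨A, hA⟩ : ∃ A, A = alternatingGroup (Fin n) := ⟨_, rfl⟩
  have hAn : A.Normal := by rw [hA]; infer_instance
  have hAi : A.index = 2 := by
    rw [hA]
    have : Nontrivial (Fin n) := Fin.nontrivial_iff_two_le.2 hn
    exact alternatingGroup.index_eq_two
  have e2 : Nat.card (Subgroup.centralizer {x}) = Nat.card (A.subgroupOf C) := by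
    rw [e, ← hC, ← hA]
    have h1 : Nat.card (C.subgroupOf A) = Nat.card (C ⊓ A : Subgroup _) := by
      rw [← Subgroup.inf_subgroupOf_right]
      exact Nat.card_congr (Subgroup.subgroupOfEquivOfLe inf_le_right).toEquiv
    have h2 : Nat.card (A.subgroupOf C) = Nat.card (C ⊓ A : Subgroup _) := by
      rw [← Subgroup.inf_subgroupOf_left]
      exact Nat.card_congr (Subgroup.subgroupOfEquivOfLe inf_le_left).toEquiv
    rw [h1, h2]
  rw [e2, ← hC]
  have h3 := Subgroup.card_mul_index (A.subgroupOf C)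
  have h4 : (A.subgroupOf C).index ∣ 2 := by
    rw [← hAi]
    exact Subgroup.relIndex_dvd_index_of_normal A C
  have h5 : (A.subgroupOf C).index ≤ 2 := Nat.le_of_dvd (by norm_num) h4
  have h6 : 0 < (A.subgroupOf C).index := Nat.pos_of_dvd_of_pos h4 (by norm_num)
  constructor
  · rw [← h3]; exact Nat.le_mul_of_pos_right _ h6
  · rw [← h3, mul_comm]; exact Nat.mul_le_mul_right _ h5

theorem card_cent_aut (f : MulAut (alternatingGroup (Fin n))) (x : alternatingGroup (Fin n)) :
    Nat.card (Subgroup.centralizer {x}) = Nat.card (Subgroup.centralizer {f x}) := by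
  apply Nat.card_congr
  apply f.toEquiv.subtypeEquiv
  intro a
  simp only [Subgroup.mem_centralizer_iff, Set.mem_singleton_iff, forall_eq]
  constructor
  · intro h
    have := congrArg f h
    simpa using this
  · intro h
    apply f.injective
    simpa using h

theorem three (hn : 4 ≤ n) (h6 : n ≠ 6) (f : MulAut (alternatingGroup (Fin n)))
    (x : alternatingGroup (Fin n)) (hx : (x : Perm (Fin n)).IsThreeCycle) :
    ((f x : alternatingGroup (Fin n)) : Perm (Fin n)).IsThreeCycle := by
  have o1 : orderOf (x : Perm (Fin n)) = 3 := hx.orderOf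
  have o2 : orderOf ((f x : alternatingGroup (Fin n)) : Perm (Fin n)) = 3 := by
    rw [Subgroup.orderOf_coe, MulEquiv.orderOf_eq, ← Subgroup.orderOf_coe, o1]
  obtain ⟨k, hk⟩ := cycleType_prime_order (σ := ((f x : alternatingGroup (Fin n)) : Perm (Fin n)))
    (by rw [o2]; norm_num)
  rw [o2] at hk
  rcases k with _ | j
  · simpa [IsThreeCycle] using hk
  exfalso
  have c1 := card_cent _ (j + 1 + 1) (by omega) hk
  have c2 := card_cent (x : Perm (Fin n)) 1 le_rfl (by simpa [IsThreeCycle] using hx)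
  have b1 := (cent_bounds x (by omega)).2
  have b2 := (cent_bounds (f x) (by omega)).1
  rw [← card_cent_aut f x] at b2
  have hs : 3 * (j + 2) ≤ n := by
    have h1 := sum_cycleType ((f x : alternatingGroup (Fin n)) : Perm (Fin n))
    rw [hk] at h1
    have h2 := Finset.card_le_univ ((f x : alternatingGroup (Fin n)) : Perm (Fin n)).support
    rw [← h1] at h2
    simp at h2
    omega
  obtain ⟨m, rfl⟩ : ∃ m, n = m + 3 * j + 6 := ⟨n - 3 * j - 6, by omega⟩
  have hnum := num j m (by omega)
  rw [c2] at b1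
  rw [c1] at b2
  have e1 : m + 3 * j + 6 - 3 * 1 = m + 3 * j + 3 := by omega
  have e2 : m + 3 * j + 6 - 3 * (j + 1 + 1) = m := by omega
  rw [e1] at b1
  rw [e2] at b2
  have : (m + 3 * j + 3)! * 3 ≤ (2 * 3 ^ (j + 1) * (j + 2)! * m !) * 3 := by
    calc (m + 3 * j + 3)! * 3 = (m + 3 * j + 3)! * 3 ^ 1 * 1! := by simp
      _ ≤ _ := b1
      _ ≤ 2 * (m ! * 3 ^ (j + 1 + 1) * (j + 1 + 1)!) := Nat.mul_le_mul_left _ b2
      _ = _ := by ring
  omega
section comb
variable {α : Type*} [DecidableEq α] [Fintype α]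

theorem tc_cube (u : Perm α) (hu : u.IsThreeCycle) (t : α) : u (u (u t)) = t := by
  have : (u ^ 3) t = t := by rw [← hu.orderOf, pow_orderOf_eq_one]; rfl
  simpa [pow_succ] using this

theorem tc_supp (u : Perm α) (hu : u.IsThreeCycle) (p q : α) (hp : u p ≠ p) (hq : u q ≠ q) :
    q = p ∨ q = u p ∨ q = u (u p) := by
  have := hu.support_eq_iff_mem_support.mpr (mem_support.2 hp)
  have hq' : q ∈ u.support := mem_support.2 hq
  rw [this] at hq'
  simpa using hq'

theorem tc_unique (u v : Perm α) (hu : u.IsThreeCycle) (hv : v.IsThreeCycle) (a : α)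
    (h1 : u a ≠ a) (h2 : u a = v a) (h3 : u (u a) = v (v a)) : u = v := by
  rw [hu.eq_swap_mul_swap_iff_mem_support.2 (mem_support.2 h1),
    hv.eq_swap_mul_swap_iff_mem_support.2 (mem_support.2 (h2 ▸ h1)), h3, h2]

theorem claimA (u v : Perm α) (hu : u.IsThreeCycle) (hv : v.IsThreeCycle)
    (h2 : ∀ t, u (v (u (v t))) = t) (h1 : u * v ≠ 1) : ∃ a, u a = v a ∧ u a ≠ a := by
  by_contra hcon
  push Not at hcon
  have cu := tc_cube u hu
  have cv := tc_cube v hv
  have i1 : ∀ t, v t = t → u t = t := by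
    intro t ht
    by_contra hne
    have h := h2 t
    rw [ht] at h
    have h' : v (u t) = u (u t) := by
      apply u.injective
      rw [h, cu]
    have := hcon (u t) h'.symm
    exact hne (u.injective this)
  have i2 : ∀ t, u t = t → v t = t := by
    intro t ht
    by_contra hne
    have h := h2 (v (v t))
    rw [cv, ht] at h
    have := hcon (v t) h
    rw [h] at this
    exact hne (v.injective this)
  apply h1
  ext t
  simp only [coe_mul, Function.comp_apply, coe_one, id_eq]
  by_cases ht : u t = t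
  · rw [i2 t ht, ht]
  · have hvt : v t ≠ t := fun h => ht (i1 t h)
    have h3 : u (v t) ≠ v t := by
      intro h
      have := i2 _ h
      exact hvt (v.injective this)
    rcases tc_supp u hu t (v t) ht h3 with h | h | h
    · exact absurd h hvt
    · exact absurd (hcon t h.symm) ht
    · rw [h, cu]

theorem claimB (u v w : Perm α) (hu : u.IsThreeCycle) (hv : v.IsThreeCycle) (hw : w.IsThreeCycle)
    (a b : α) (hab : a ≠ b) (hua : u a = b) (hva : v a = b) (huv : u ≠ v)
    (c : α) (hc : w c = u c) (hc' : u c ≠ c) (d : α) (hd : w d = v d) (hd' : v d ≠ d) :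
    w a = b := by
  have cu := tc_cube u hu
  have cv := tc_cube v hv
  have cw := tc_cube w hw
  have hpq : u b ≠ v b := by
    intro h
    apply huv
    apply tc_unique u v hu hv a (by rw [hua]; exact hab.symm) (by rw [hua, hva]) (by rw [hua, hva, h])
  have hc1 := tc_supp u hu a c (by rw [hua]; exact hab.symm) hc'
  have hd1 := tc_supp v hv a d (by rw [hva]; exact hab.symm) hd'
  rw [hua] at hc1
  rw [hva] at hd1
  have hup : u (u b) = a := by rw [← hua, cu]
  have hvq : v (v b) = a := by rw [← hva, cv]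
  rcases hc1 with rfl | rfl | rfl
  · rw [hc, hua]
  · rcases hd1 with rfl | rfl | rfl
    · rw [hd, hva]
    · exact absurd (hc.symm.trans hd) hpq
    · -- w c = u c, w (v c) = a
      exfalso
      rw [hvq] at hd
      have h1 : w c ≠ c := by rw [hc]; exact hc'
      have h2 : w (v c) ≠ v c := by rw [hd]; rw [hvq] at hd'; exact hd'
      rcases tc_supp w hw c (v c) h1 h2 with h | h | h
      · rw [h] at hvq; rw [hvq] at h; exact hab h
      · rw [hc] at h; exact hpq h.symm
      · rw [h, cw] at hd; exact hab hd.symm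
  · rcases hd1 with rfl | rfl | rfl
    · rw [hd, hva]
    · exfalso
      rw [hup] at hc
      have h1 : w d ≠ d := by rw [hd]; exact hd'
      have h2 : w (u d) ≠ u d := by rw [hc]; rw [hup] at hc'; exact hc'
      rcases tc_supp w hw d (u d) h1 h2 with h | h | h
      · rw [h] at hup; rw [hup] at h; exact hab h
      · rw [hd] at h; exact hpq h
      · rw [h, cw] at hc; exact hab hc.symm
    · exfalso
      rw [hup] at hc
      rw [hvq] at hd
      exact hpq (w.injective (hc.trans hd.symm))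

theorem gen (K : Subgroup (Perm α)) (o i : α) (hoi : o ≠ i)
    (hK : ∀ j, j ≠ o → j ≠ i → swap o i * swap i j ∈ K) :
    ∀ t : Perm α, t.IsThreeCycle → t ∈ K := by
  have hKi : ∀ j, j ≠ o → j ≠ i → swap i j * swap o i ∈ K := by
    intro j h1 h2
    have := K.inv_mem (hK j h1 h2)
    simpa using this
  have Y : ∀ p q, p ≠ o → q ≠ o → p ≠ q → swap o p * swap p q ∈ K := by
    intro p q hp hq hpq
    by_cases hpi : p = i
    · subst hpi
      exact hK q hq hpq.symm
    by_cases hqi : q = i
    · subst hqi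
      have e : swap o p * swap p q = swap q p * swap o q := by
        ext x
        simp only [coe_mul, Function.comp_apply, swap_apply_def]
        grind
      rw [e]
      exact hKi p hp hpi
    · have e : swap o p * swap p q = (swap o i * swap i q) * (swap i p * swap o i) := by
        ext x
        simp only [coe_mul, Function.comp_apply, swap_apply_def]
        grind
      rw [e]
      exact K.mul_mem (hK q hq hqi) (hKi p hp hpi)
  intro t ht
  have ct := tc_cube t ht
  by_cases ho : t o = o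
  · obtain ⟨p, hp⟩ : ∃ p, t p ≠ p := by
      by_contra hcon
      push Not at hcon
      apply ht.isCycle.ne_one
      ext x
      simp [hcon x]
    have hnd := ht.nodup_iff_mem_support.2 (mem_support.2 hp)
    have e1 := ht.eq_swap_mul_swap_iff_mem_support.2 (mem_support.2 hp)
    have hp0 : p ≠ o := by rintro rfl; exact hp ho
    have hp1 : t p ≠ o := by
      intro h
      rw [← h] at ho
      exact hp (t.injective ho)
    have hp2 : t (t p) ≠ o := by
      intro h
      rw [← h] at ho
      exact hp (t.injective (t.injective ho))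
    have e : swap p (t p) * swap (t p) (t (t p)) =
        (swap o p * swap p (t p)) * (swap o (t p) * swap (t p) (t (t p))) := by
      ext x
      simp only [coe_mul, Function.comp_apply, swap_apply_def]
      grind
    rw [e1, e]
    exact K.mul_mem (Y _ _ hp0 hp1 (by grind)) (Y _ _ hp1 hp2 (by grind))
  · have hnd := ht.nodup_iff_mem_support.2 (mem_support.2 ho)
    have e1 := ht.eq_swap_mul_swap_iff_mem_support.2 (mem_support.2 ho)
    rw [e1]
    exact Y _ _ (by grind) (by grind) (by grind)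

end comb

theorem inj_part (hn : 4 ≤ n) (s : Perm (Fin n))
    (hc : ∀ t : Perm (Fin n), t.IsThreeCycle → s * t * s⁻¹ = t) : s = 1 := by
  apply Equiv.ext
  intro a
  by_contra hne
  simp only [coe_one, id_eq] at hne
  have hcard : 1 < (Finset.univ \ {a, s a} : Finset (Fin n)).card := by
    have h1 := Finset.card_sdiff_add_card_inter (Finset.univ : Finset (Fin n)) {a, s a}
    have h2 : ((Finset.univ : Finset (Fin n)) ∩ {a, s a}).card ≤ 2 := by
      refine le_trans (Finset.card_le_card Finset.inter_subset_right) Finset.card_le_two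
    simp only [Finset.card_univ, Fintype.card_fin] at h1
    omega
  obtain ⟨c, d, hc1, hd1, hcd⟩ := Finset.one_lt_card_iff.mp hcard
  simp only [Finset.mem_sdiff, Finset.mem_univ, Finset.mem_insert, Finset.mem_singleton, true_and,
    not_or] at hc1 hd1
  have h3 : (swap c (s a) * swap c d).IsThreeCycle :=
    isThreeCycle_swap_mul_swap_same hc1.2 hcd (Ne.symm hd1.2)
  have h4 := hc _ h3
  have h5 := congrArg (fun g : Perm (Fin n) => g (s a)) h4
  simp only [coe_mul, Function.comp_apply, coe_inv, symm_apply_apply] at h5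
  rw [swap_apply_of_ne_of_ne (Ne.symm hc1.1) (Ne.symm hd1.1),
    swap_apply_of_ne_of_ne (Ne.symm hc1.1) (Ne.symm hne),
    swap_apply_of_ne_of_ne (Ne.symm hc1.2) (Ne.symm hd1.2), swap_apply_right] at h5
  exact hc1.2 h5.symm

theorem surj_part (hn : 4 ≤ n) (h6 : n ≠ 6) (f : MulAut (alternatingGroup (Fin n))) :
    ∃ s : Perm (Fin n), MulAut.conjNormal s = f := by
  classical
  obtain ⟨F, hF⟩ : ∃ F : Perm (Fin n) → Perm (Fin n),
      ∀ (g : Perm (Fin n)) (h : g ∈ alternatingGroup (Fin n)), F g = (f ⟨g, h⟩ : Perm (Fin n)) :=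
    ⟨fun g => if h : g ∈ alternatingGroup (Fin n) then (f ⟨g, h⟩ : Perm (Fin n)) else 1,
      fun g h => by simp [h]⟩
  have F3 : ∀ t : Perm (Fin n), t.IsThreeCycle → (F t).IsThreeCycle := by
    intro t ht
    rw [hF t ht.mem_alternatingGroup]
    exact three hn h6 f ⟨t, ht.mem_alternatingGroup⟩ ht
  have Fmul : ∀ g h : Perm (Fin n), g ∈ alternatingGroup (Fin n) → h ∈ alternatingGroup (Fin n) →
      F (g * h) = F g * F h := by
    intro g h hg hh
    rw [hF g hg, hF h hh, hF (g * h) (mul_mem hg hh)]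
    have : (⟨g * h, mul_mem hg hh⟩ : alternatingGroup (Fin n)) = ⟨g, hg⟩ * ⟨h, hh⟩ := rfl
    rw [this, map_mul]
    rfl
  have F1 : F 1 = 1 := by
    rw [hF 1 (one_mem _)]
    have : (⟨1, one_mem _⟩ : alternatingGroup (Fin n)) = 1 := rfl
    rw [this, map_one]
    rfl
  have Finj : ∀ g h : Perm (Fin n), g ∈ alternatingGroup (Fin n) → h ∈ alternatingGroup (Fin n) →
      F g = F h → g = h := by
    intro g h hg hh he
    rw [hF g hg, hF h hh] at he
    have := f.injective (Subtype.ext he)
    exact congrArg Subtype.val this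
  obtain ⟨o, ho⟩ : ∃ o : Fin n, o = ⟨0, by omega⟩ := ⟨_, rfl⟩
  obtain ⟨i1, hi1⟩ : ∃ o : Fin n, o = ⟨1, by omega⟩ := ⟨_, rfl⟩
  obtain ⟨i2, hi2⟩ : ∃ o : Fin n, o = ⟨2, by omega⟩ := ⟨_, rfl⟩
  obtain ⟨i3, hi3⟩ : ∃ o : Fin n, o = ⟨3, by omega⟩ := ⟨_, rfl⟩
  have d01 : o ≠ i1 := by rw [ho, hi1]; simp
  have d02 : i2 ≠ o := by rw [ho, hi2]; simp
  have d03 : i3 ≠ o := by rw [ho, hi3]; simp
  have d12 : i2 ≠ i1 := by rw [hi1, hi2]; simp
  have d13 : i3 ≠ i1 := by rw [hi1, hi3]; simp
  have d23 : i2 ≠ i3 := by rw [hi2, hi3]; simp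
  obtain ⟨X, hX⟩ : ∃ X : Fin n → Perm (Fin n), ∀ j, X j = swap o i1 * swap i1 j := ⟨_, fun _ => rfl⟩
  have X3 : ∀ j, j ≠ o → j ≠ i1 → (X j).IsThreeCycle := by
    intro j h0 h1
    rw [hX, swap_comm o i1]
    exact isThreeCycle_swap_mul_swap_same d01.symm h1.symm h0.symm
  have XA : ∀ j, j ≠ o → j ≠ i1 → X j ∈ alternatingGroup (Fin n) :=
    fun j h0 h1 => (X3 j h0 h1).mem_alternatingGroup
  have Xsq : ∀ j k, j ≠ o → j ≠ i1 → k ≠ o → k ≠ i1 → j ≠ k → X j * X k * (X j * X k) = 1 := by
    intro j k hj0 hj1 hk0 hk1 hjk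
    rw [hX, hX]
    ext x
    simp only [coe_mul, Function.comp_apply, swap_apply_def, coe_one, id_eq]
    grind
  have Xne : ∀ j k, j ≠ o → j ≠ i1 → k ≠ o → k ≠ i1 → j ≠ k → X j * X k ≠ 1 := by
    intro j k hj0 hj1 hk0 hk1 hjk he
    have := congrArg (fun g : Perm (Fin n) => g o) he
    rw [hX, hX] at this
    simp only [coe_mul, Function.comp_apply, swap_apply_def, coe_one, id_eq] at this
    grind
  have edge : ∀ j k, j ≠ o → j ≠ i1 → k ≠ o → k ≠ i1 → j ≠ k →
      ∃ a, F (X j) a = F (X k) a ∧ F (X j) a ≠ a := by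
    intro j k hj0 hj1 hk0 hk1 hjk
    apply claimA _ _ (F3 _ (X3 j hj0 hj1)) (F3 _ (X3 k hk0 hk1))
    · intro t
      have h1 : F (X j) * F (X k) * (F (X j) * F (X k)) = 1 := by
        rw [← Fmul _ _ (XA j hj0 hj1) (XA k hk0 hk1),
          ← Fmul _ _ (mul_mem (XA j hj0 hj1) (XA k hk0 hk1)) (mul_mem (XA j hj0 hj1) (XA k hk0 hk1)),
          Xsq j k hj0 hj1 hk0 hk1 hjk, F1]
      have := congrArg (fun g : Perm (Fin n) => g t) h1
      simpa using this
    · rw [← Fmul _ _ (XA j hj0 hj1) (XA k hk0 hk1), ← F1]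
      intro he
      exact Xne j k hj0 hj1 hk0 hk1 hjk
        (Finj _ _ (mul_mem (XA j hj0 hj1) (XA k hk0 hk1)) (one_mem _) he)
  have Xinj : ∀ j k, X j = X k → j = k := by
    intro j k he
    rw [hX, hX] at he
    have := mul_left_cancel he
    have h2 := congrArg (fun g : Perm (Fin n) => g i1) this
    simpa using h2
  obtain ⟨a, ha1, ha2⟩ := edge i2 i3 d02 d12 d03 d13 d23
  obtain ⟨b, hb⟩ : ∃ b, b = F (X i2) a := ⟨_, rfl⟩
  have hab : a ≠ b := by rw [hb]; exact ha2.symm
  have all : ∀ j, j ≠ o → j ≠ i1 → F (X j) a = b := by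
    intro j hj0 hj1
    by_cases h2 : j = i2
    · rw [h2, hb]
    by_cases h3 : j = i3
    · rw [h3, hb, ha1]
    obtain ⟨c, hc1, hc2⟩ := edge j i2 hj0 hj1 d02 d12 h2
    obtain ⟨d, hd1, hd2⟩ := edge j i3 hj0 hj1 d03 d13 h3
    apply claimB (F (X i2)) (F (X i3)) (F (X j)) (F3 _ (X3 _ d02 d12)) (F3 _ (X3 _ d03 d13))
      (F3 _ (X3 _ hj0 hj1)) a b hab hb.symm (by rw [hb, ha1]) ?_ c hc1 (hc1 ▸ hc2) d hd1 (hd1 ▸ hd2)
    intro he
    exact d23 (Xinj _ _ (Finj _ _ (XA _ d02 d12) (XA _ d03 d13) he))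
  obtain ⟨s, hs⟩ : ∃ s : Fin n → Fin n, ∀ j, s j = if j = o then a else if j = i1 then b
      else F (X j) b := ⟨_, fun _ => rfl⟩
  have s0 : s o = a := by rw [hs]; simp
  have s1 : s i1 = b := by rw [hs]; simp [d01.symm]
  have s2 : ∀ j, j ≠ o → j ≠ i1 → s j = F (X j) b := by
    intro j h0 h1
    rw [hs]; simp [h0, h1]
  have nb : ∀ j, j ≠ o → j ≠ i1 → F (X j) b ≠ b := by
    intro j h0 h1 he
    have := all j h0 h1
    rw [← this] at he
    exact hab ((F (X j)).injective he |>.symm ▸ this.symm ▸ rfl)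
  have na : ∀ j, j ≠ o → j ≠ i1 → F (X j) b ≠ a := by
    intro j h0 h1 he
    have h2 := all j h0 h1
    have h3 := tc_cube _ (F3 _ (X3 j h0 h1)) a
    rw [h2, he, h2] at h3
    exact hab h3.symm
  have sinj : Function.Injective s := by
    intro j k hjk
    by_cases hj0 : j = o
    · by_cases hk0 : k = o
      · rw [hj0, hk0]
      · by_cases hk1 : k = i1
        · rw [hj0, hk1, s0, s1] at hjk
          exact absurd hjk hab
        · rw [hj0, s0, s2 k hk0 hk1] at hjk
          exact absurd hjk.symm (na k hk0 hk1)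
    · by_cases hj1 : j = i1
      · by_cases hk0 : k = o
        · rw [hj1, hk0, s0, s1] at hjk
          exact absurd hjk.symm hab
        · by_cases hk1 : k = i1
          · rw [hj1, hk1]
          · rw [hj1, s1, s2 k hk0 hk1] at hjk
            exact absurd hjk.symm (nb k hk0 hk1)
      · by_cases hk0 : k = o
        · rw [hk0, s0, s2 j hj0 hj1] at hjk
          exact absurd hjk (na j hj0 hj1)
        · by_cases hk1 : k = i1
          · rw [hk1, s1, s2 j hj0 hj1] at hjk
            exact absurd hjk (nb j hj0 hj1)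
          · rw [s2 j hj0 hj1, s2 k hk0 hk1] at hjk
            apply Xinj
            apply Finj _ _ (XA j hj0 hj1) (XA k hk0 hk1)
            apply tc_unique _ _ (F3 _ (X3 j hj0 hj1)) (F3 _ (X3 k hk0 hk1)) a
            · rw [all j hj0 hj1]; exact hab.symm
            · rw [all j hj0 hj1, all k hk0 hk1]
            · rw [all j hj0 hj1, all k hk0 hk1, hjk]
  obtain ⟨σ, hσ⟩ : ∃ σ : Perm (Fin n), ∀ j, σ j = s j :=
    ⟨Equiv.ofBijective s (Finite.injective_iff_bijective.1 sinj), fun _ => rfl⟩
  have hconj : ∀ j, j ≠ o → j ≠ i1 → σ * X j * σ⁻¹ = F (X j) := by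
    intro j h0 h1
    have i0 : σ⁻¹ a = o := by
      rw [Perm.inv_eq_iff_eq, hσ, s0]
    have ib : σ⁻¹ b = i1 := by
      rw [Perm.inv_eq_iff_eq, hσ, s1]
    have e1 : (σ * X j * σ⁻¹) a = b := by
      simp only [coe_mul, Function.comp_apply]
      rw [i0, hX]
      simp only [coe_mul, Function.comp_apply]
      rw [swap_apply_of_ne_of_ne d01 h0.symm, swap_apply_left, hσ, s1]
    have e2 : (σ * X j * σ⁻¹) b = F (X j) b := by
      simp only [coe_mul, Function.comp_apply]
      rw [ib, hX]
      simp only [coe_mul, Function.comp_apply]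
      rw [swap_apply_left, swap_apply_of_ne_of_ne h0 h1, hσ, s2 j h0 h1, hX j]
    apply tc_unique _ _ _ (F3 _ (X3 j h0 h1)) a
    · rw [e1]; exact hab.symm
    · rw [e1, all j h0 h1]
    · rw [e1, all j h0 h1, e2]
    · have := X3 j h0 h1
      unfold IsThreeCycle at this ⊢
      rw [cycleType_conj, this]
  refine ⟨σ, ?_⟩
  obtain ⟨K, hK⟩ : ∃ K : Subgroup (Perm (Fin n)), K = (MonoidHom.eqLocus
      (MulAut.conjNormal σ : MulAut (alternatingGroup (Fin n))).toMonoidHom f.toMonoidHom).map
      (alternatingGroup (Fin n)).subtype := ⟨_, rfl⟩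
  have hgen := gen K o i1 d01 (by
    intro j h0 h1
    rw [hK, ← hX]
    refine ⟨⟨X j, XA j h0 h1⟩, ?_, rfl⟩
    change (MulAut.conjNormal σ : MulAut (alternatingGroup (Fin n))) ⟨X j, XA j h0 h1⟩ =
      f ⟨X j, XA j h0 h1⟩
    apply Subtype.ext
    rw [MulAut.conjNormal_apply, ← hF (X j) (XA j h0 h1)]
    exact hconj j h0 h1)
  have hfin : (MulAut.conjNormal σ : MulAut (alternatingGroup (Fin n))).toMonoidHom =
      f.toMonoidHom := by
    apply MonoidHom.eq_of_eqOn_dense alternatingGroup.closure_isThreeCycles_eq_top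
    intro t ht
    have h1 := hgen (t : Perm (Fin n)) ht
    rw [hK] at h1
    obtain ⟨t', ht', he⟩ := h1
    have : t' = t := Subtype.ext he
    rw [this] at ht'
    exact ht'
  ext1 t
  exact DFunLike.congr_fun hfin t

/-- Automorphisms of the alternating groups: for n ≥ 4 with n ≠ 6, every automorphism of the alternating group of degree n is conjugation by a unique permutation, i.e. conjugation induces an isomorphism from the symmetric group of degree n onto the automorphism group of the alternating group (so the outer automorphism group has order 2). -/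
theorem result (n : ℕ) (hn : 4 ≤ n) (h6 : n ≠ 6) : Function.Bijective (MulAut.conjNormal : Equiv.Perm (Fin n) →* MulAut ↥(alternatingGroup (Fin n))) := by
  constructor
  · rw [injective_iff_map_eq_one]
    intro s hs
    apply inj_part hn
    intro t ht
    have h1 := DFunLike.congr_fun hs ⟨t, ht.mem_alternatingGroup⟩
    have h2 := congrArg Subtype.val h1
    simpa [MulAut.conjNormal_apply] using h2
  · intro f
    exact surj_part hn h6 f

end Cfsg.Agent.S2119
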