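import Cfsg.Statements.S0731
-- import your own Cfsg.Agent.* helpers here
import Cfsg.Agent.Lib.Helper73.ZassMain
import Cfsg.Agent.Lib.Helper54.ZassSharp
import Cfsg.Agent.Lib.Helper54.ZassDich

set_option autoImplicit false
open Cfsg

namespace Cfsg.Agent.S0731

/-- A finite Zassenhaus group whose point stabiliser has an abelian regular normal subgroup on the remaining points is sharply triply transitive or isomorphic to `PSL(2, F)` for a finite field `F` of odd characteristic. -/
theorem result {G Ω : Type*} [Group G] [Finite G] [MulAction G Ω] [Finite Ω] (hZ : Cfsg.IsZassenhausGroup G Ω) (x : Ω) (F : Subgroup G) (hFle : F ≤ MulAction.stabilizer G x) (hFn : (F.subgroupOf (MulAction.stabilizer G x)).Normal) (hFab : IsMulCommutative F) (hreg : ∀ y z : Ω, y ≠ x → z ≠ x → ∃! u : F, (u : G) • y = z) : (MulAction.IsMultiplyPretransitive G Ω 3 ∧ ∀ t : Fin 3 ↪ Ω, MulAction.stabilizer G t = ⊥) ∨ ∃ (K : Type) (_ : Field K) (_ : Fintype K), ringChar K ≠ 2 ∧ Nonempty (G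 ≃* Matrix.ProjectiveSpecialLinearGroup (Fin 2) K) := by
  classical
  obtain ⟨g0, hg0, a, b, hab, hga, hgb⟩ := hZ.2.2.2.1
  obtain ⟨o, hox⟩ : ∃ o : Ω, o ≠ x := by
    by_cases h : a = x
    · exact ⟨b, fun hb => hab (h.trans hb.symm)⟩
    · exact ⟨a, h⟩
  have hFab' : ∀ u ∈ F, ∀ v ∈ F, u * v = v * u := by
    intro u hu v hv
    have := hFab.is_comm.comm (⟨u, hu⟩ : F) ⟨v, hv⟩
    exact congrArg Subtype.val this
  rcases Cfsg.Agent.Lib.Helper54.Zass.card_dichotomy hZ hox.symm F hFle hFab' hreg with h | h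
  · exact Or.inl (Cfsg.Agent.Lib.Helper54.Zass.sharp_of_card hZ hox.symm h)
  · right
    obtain ⟨K, iK, iKf, -, h2, hI⟩ :=
      Cfsg.Agent.Lib.Helper73.ZassMain.zass_psl2 hZ hox.symm F hFle hFn hFab' hreg h
    refine ⟨K, iK, iKf, ?_, hI⟩
    intro hc
    apply h2
    have := ringChar.Nat.cast_ringChar (R := K)
    rw [hc] at this
    exact_mod_cast this

end Cfsg.Agent.S0731
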