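import Cfsg.Statements.S0873
import Mathlib
import Cfsg.Agent.Lib.Helper19.LinChar

set_option autoImplicit false
open Cfsg

namespace Cfsg.Agent.S0873

/-- Let C be a normal subgroup of the finite group G of order prime to p and P a p-subgroup with C ⊔ P = G. Let λ be a character of C of degree 1 invariant under conjugation by G and equal to 1 at every element of C centralized by P. Then λ is identically 1. -/
theorem result {G : Type*} [Group G] [Finite G] (p : ℕ) [Fact p.Prime] (C P : Subgroup G) [hC : C.Normal] (hP : IsPGroup p P) (hcop : Nat.Coprime (Nat.card C) p) (hCP : C ⊔ P = ⊤) (lam : C → ℂ) (hlam : Cfsg.IsCharacter C lam ∧ lam 1 = 1) (hinv : ∀ (g : G) (c : C), lam ⟨g * c * g⁻¹, hC.conj_mem (c : G) c.2 g⟩ = lam c) (hker : ∀ c : C, (c : G) ∈ Subgroup.centralizer (P : Set G) → lam c = 1) : lam = fun _ => 1 := by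
  classical
  obtain ⟨f, rfl⟩ := Cfsg.Agent.Lib.Helper19.exists_hom_of_linear lam hlam
  have hinv' : ∀ (g : G) (c : C), f ⟨g * c * g⁻¹, hC.conj_mem (c : G) c.2 g⟩ = f c := by
    intro g c
    have := hinv g c
    simp only [Cfsg.Agent.Lib.Helper19.homFun_apply] at this
    exact Units.ext this
  have hker' : ∀ c : C, (c : G) ∈ Subgroup.centralizer (P : Set G) → f c = 1 := by
    intro c hc
    have := hker c hc
    simp only [Cfsg.Agent.Lib.Helper19.homFun_apply] at this
    exact Units.ext this
  funext c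
  simp only [Cfsg.Agent.Lib.Helper19.homFun_apply]
  suffices h : f c = 1 by rw [h]; rfl
  let α := {y : C // f y = f c}
  letI : MulAction P α :=
    { smul := fun x y => ⟨⟨(x : G) * (y.1 : G) * (x : G)⁻¹, hC.conj_mem _ y.1.2 _⟩, by
        rw [hinv' (x : G) y.1]; exact y.2⟩
      one_smul := by
        intro y
        apply Subtype.ext
        apply Subtype.ext
        show ((1 : P) : G) * (y.1 : G) * ((1 : P) : G)⁻¹ = (y.1 : G)
        simp
      mul_smul := by
        intro x x' y
        apply Subtype.ext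
        apply Subtype.ext
        show ((x * x' : P) : G) * (y.1 : G) * ((x * x' : P) : G)⁻¹
          = (x : G) * ((x' : G) * (y.1 : G) * (x' : G)⁻¹) * (x : G)⁻¹
        simp [mul_assoc] }
  have hcard : Nat.card α = Nat.card f.ker := by
    apply Nat.card_congr
    refine ⟨fun y => ⟨c⁻¹ * y.1, ?_⟩, fun k => ⟨c * k.1, ?_⟩, ?_, ?_⟩
    · rw [MonoidHom.mem_ker, map_mul, map_inv, y.2, inv_mul_cancel]
    · rw [map_mul, MonoidHom.mem_ker.mp k.2, mul_one]
    · intro y; apply Subtype.ext; simp
    · intro k; apply Subtype.ext; simp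
  have hnd : ¬ p ∣ Nat.card α := by
    rw [hcard]
    intro hdvd
    have h1 : Nat.card f.ker ∣ Nat.card C := Subgroup.card_subgroup_dvd_card _
    have h2 : p ∣ Nat.card C := hdvd.trans h1
    have h3 : p ∣ Nat.gcd (Nat.card C) p := Nat.dvd_gcd h2 dvd_rfl
    rw [hcop] at h3
    exact (Fact.out : p.Prime).one_lt.ne' (Nat.dvd_one.mp h3)
  obtain ⟨y, hy⟩ := IsPGroup.nonempty_fixed_point_of_prime_not_dvd_card hP α hnd
  have hyc : (y.1 : G) ∈ Subgroup.centralizer (P : Set G) := by
    rw [Subgroup.mem_centralizer_iff]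
    intro x hx
    have h1 := hy ⟨x, hx⟩
    have h2 : x * (y.1 : G) * x⁻¹ = (y.1 : G) := congrArg (fun z : α => ((z.1 : C) : G)) h1
    have := congrArg (fun w => w * x) h2
    simpa [mul_assoc] using this
  rw [← y.2]
  exact hker' y.1 hyc

end Cfsg.Agent.S0873
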