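import Cfsg.Statements.S0871
import Mathlib
import Cfsg.Agent.Lib.Helper19.PermChar

set_option autoImplicit false
open Cfsg

namespace Cfsg.Agent.S0871

open Cfsg.Agent.Lib.Helper19

/-- an element of `H` of order prime to `p` lies in `C` when `C` is normal of `p`-power index. -/
theorem mem_of_coprime {G : Type*} [Group G] [Finite G] (p : ℕ) (C H : Subgroup G) (hCH : C ≤ H)
    (hHN : H ≤ Subgroup.normalizer (C : Set G)) (k : ℕ) (hk : C.relIndex H = p ^ k)
    (y : G) (hy : y ∈ H) (hcop : Nat.Coprime p (orderOf y)) : y ∈ C := by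
  haveI : (C.subgroupOf H).Normal := (Subgroup.normal_subgroupOf_iff_le_normalizer hCH).mpr hHN
  have h1 : y ^ C.relIndex H ∈ C := Subgroup.pow_index_mem (C.subgroupOf H) ⟨y, hy⟩
  rw [hk] at h1
  obtain ⟨r, hr⟩ := exists_pow_eq_self_of_coprime (x := y) (n := p ^ k) (Nat.Coprime.pow_left k hcop)
  rw [← hr]
  exact C.pow_mem h1 r

theorem mem_normalizer_zpowers {G : Type*} [Group G] [Finite G] (c g : G)
    (h : g⁻¹ * c * g ∈ Subgroup.zpowers c) :
    g ∈ Subgroup.normalizer ((Subgroup.zpowers c : Subgroup G) : Set G) := by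
  have h1 : g⁻¹ ∈ Subgroup.normalizer ((Subgroup.zpowers c : Subgroup G) : Set G) := by
    rw [Subgroup.mem_normalizer_iff_map_conj_eq]
    apply Subgroup.eq_of_le_of_card_ge
    · rw [MonoidHom.map_zpowers, Subgroup.zpowers_le]
      simpa using h
    · rw [Subgroup.card_map_of_injective (MulAut.conj g⁻¹).injective]
  simpa using inv_mem h1


/-- Let x be an element of the finite group G and p a prime. Then there is a subgroup H having a cyclic normal subgroup C of order prime to p and p-power index in H, such that the value at x of the function induced from the constant function 1 on H is a natural number not divisible by p. -/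
theorem result {G : Type*} [Group G] [Fintype G] (x : G) (p : ℕ) (hp : p.Prime) : ∃ H : Subgroup G, (∃ C : Subgroup G, C ≤ H ∧ H ≤ Subgroup.normalizer (C : Set G) ∧ IsCyclic C ∧ Nat.Coprime (Nat.card C) p ∧ ∃ k : ℕ, C.relIndex H = p ^ k) ∧ ∃ n : ℕ, Cfsg.indFun H (fun _ => 1) x = (n : ℂ) ∧ ¬ p ∣ n := by
  classical
  haveI : Fact p.Prime := ⟨hp⟩
  have ho : orderOf x ≠ 0 := (orderOf_pos x).ne'
  obtain ⟨a, m, hpm, hom⟩ := Nat.exists_eq_pow_mul_and_not_dvd ho p hp.ne_one
  have hm0 : m ≠ 0 := by
    rintro rfl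
    exact hpm (dvd_zero p)
  have hpa0 : p ^ a ≠ 0 := pow_ne_zero _ hp.ne_zero
  set c := x ^ (p ^ a) with hc
  set u := x ^ m with hu
  have hoc : orderOf c = m := by
    rw [hc, orderOf_pow_of_dvd hpa0 (hom ▸ Dvd.intro _ rfl), hom, Nat.mul_div_cancel_left _ (Nat.pos_of_ne_zero hpa0)]
  have hou : orderOf u = p ^ a := by
    rw [hu, orderOf_pow_of_dvd hm0 (hom ▸ Dvd.intro_left _ rfl), hom, Nat.mul_div_cancel _ (Nat.pos_of_ne_zero hm0)]
  have hcopm : Nat.Coprime p m := (Nat.Prime.coprime_iff_not_dvd hp).mpr hpm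
  obtain ⟨s, t, hst⟩ := Nat.isCoprime_iff_coprime.mpr (Nat.Coprime.pow_left a hcopm)
  set C : Subgroup G := Subgroup.zpowers c with hC
  set N : Subgroup G := Subgroup.normalizer (C : Set G) with hN
  have hxN : x ∈ N := by
    apply Subgroup.centralizer_le_normalizer
    rw [Subgroup.mem_centralizer_iff]
    intro h hh
    obtain ⟨i, rfl⟩ := Subgroup.mem_zpowers_iff.mp hh
    have : Commute (c ^ i) x := ((Commute.refl x).pow_left (p ^ a)).zpow_left i
    exact this.eq
  let x' : N := ⟨x, hxN⟩
  let u' : N := x' ^ m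
  let c' : N := x' ^ (p ^ a)
  have hx'cu : x' = c' ^ s * u' ^ t := by
    show x' = (x' ^ (p ^ a)) ^ s * (x' ^ m) ^ t
    rw [← zpow_natCast x' (p ^ a), ← zpow_natCast x' m, ← zpow_mul, ← zpow_mul, ← zpow_add]
    have : ((p ^ a : ℕ) : ℤ) * s + (m : ℤ) * t = 1 := by linarith
    rw [this, zpow_one]
  have hou' : orderOf u' = p ^ a := by
    rw [← hou, ← Subgroup.orderOf_coe u']
    rfl
  have hZ : IsPGroup p (Subgroup.zpowers u') := by
    apply IsPGroup.of_card (n := a)
    rw [Nat.card_zpowers, hou']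
  obtain ⟨P', hP'⟩ := hZ.exists_le_sylow
  set C' : Subgroup N := C.subgroupOf N with hC'
  haveI hC'n : C'.Normal := Subgroup.normal_in_normalizer
  set H' : Subgroup N := C' ⊔ (P' : Subgroup N) with hH'
  set H : Subgroup G := H'.map N.subtype with hH
  have hCN : C ≤ N := Subgroup.le_normalizer
  have hCmap : C'.map N.subtype = C := by
    rw [hC', Subgroup.subgroupOf_map_subtype, inf_eq_left.mpr hCN]
  have hCH : C ≤ H := by
    rw [← hCmap, hH]
    exact Subgroup.map_mono le_sup_left
  have hHN : H ≤ N := Subgroup.map_subtype_le H'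
  obtain ⟨k, hk⟩ : ∃ k : ℕ, C.relIndex H = p ^ k := by
    rw [← hCmap, hH, Subgroup.relIndex_map_map_of_injective _ _ N.subtype_injective, hH',
      Subgroup.relIndex_sup_left]
    exact P'.isPGroup'.index _
  have hcardC : Nat.card C = m := by rw [hC, Nat.card_zpowers, hoc]
  have memH : ∀ g : N, (g : G) ∈ H ↔ g ∈ H' := by
    intro g
    rw [hH, Subgroup.mem_map]
    constructor
    · rintro ⟨g', hg', h⟩
      have : g' = g := Subtype.ext h
      rwa [← this]
    · intro h
      exact ⟨g, h, rfl⟩
  -- claim B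
  have claimB : ∀ g : G, g⁻¹ * x * g ∈ H → g ∈ N := by
    intro g hg
    apply mem_normalizer_zpowers
    have e : g⁻¹ * c * g = (g⁻¹ * x * g) ^ (p ^ a) := by
      have := conj_pow (a := g⁻¹) (b := x) (i := p ^ a)
      rw [inv_inv] at this
      rw [this]
    have hy : g⁻¹ * c * g ∈ H := by rw [e]; exact H.pow_mem hg _
    apply mem_of_coprime p C H hCH hHN k hk _ hy
    have hs : SemiconjBy g⁻¹ c (g⁻¹ * c * g) := by
      unfold SemiconjBy; group
    rw [← hs.orderOf_eq, hoc]
    exact hcopm
  refine ⟨H, ⟨C, hCH, hHN, by rw [hC]; infer_instance, by rw [hcardC]; exact hcopm.symm, k, hk⟩,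
    Nat.card (MulAction.fixedBy (N ⧸ H') x'), ?_, ?_⟩
  · -- claim A
    rw [← indFun_one_eq_card_fixedBy H' x', indFun_one_apply, indFun_one_apply]
    have hcard : Nat.card H = Nat.card H' := by
      rw [hH, Subgroup.card_map_of_injective N.subtype_injective]
    rw [hcard]
    congr 2
    symm
    apply Finset.card_bij (fun (g : N) _ => (g : G))
    · intro g hg
      rw [Finset.mem_filter] at hg ⊢
      refine ⟨Finset.mem_univ _, ?_⟩
      exact (memH (g⁻¹ * x' * g)).mpr hg.2
    · intro g _ g' _ h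
      exact Subtype.ext h
    · intro g hg
      rw [Finset.mem_filter] at hg
      refine ⟨⟨g, claimB g hg.2⟩, ?_, rfl⟩
      rw [Finset.mem_filter]
      refine ⟨Finset.mem_univ _, ?_⟩
      exact (memH ((⟨g, claimB g hg.2⟩ : N)⁻¹ * x' * ⟨g, claimB g hg.2⟩)).mp hg.2
  · -- claim C
    have hmod := hZ.card_modEq_card_fixedPoints (N ⧸ H')
    have hctriv : ∀ q : N ⧸ H', c' • q = q := by
      intro q
      induction q using QuotientGroup.induction_on with
      | H t =>
        rw [MulAction.Quotient.smul_coe, smul_eq_mul, eq_comm, QuotientGroup.eq]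
        apply (le_sup_left : C' ≤ H')
        have hc'C : c' ∈ C' := by
          rw [hC', Subgroup.mem_subgroupOf]
          exact Subgroup.mem_zpowers c
        have := hC'n.conj_mem c' hc'C t⁻¹
        simpa [mul_assoc] using this
    have hset : (MulAction.fixedPoints (Subgroup.zpowers u') (N ⧸ H') : Set (N ⧸ H'))
        = MulAction.fixedBy (N ⧸ H') x' := by
      ext q
      rw [MulAction.mem_fixedPoints, MulAction.mem_fixedBy]
      constructor
      · intro h
        have hu'q : u' ∈ MulAction.stabilizer N q := h ⟨u', Subgroup.mem_zpowers u'⟩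
        have hc'q : c' ∈ MulAction.stabilizer N q := hctriv q
        have : x' ∈ MulAction.stabilizer N q := by
          rw [hx'cu]
          exact Subgroup.mul_mem _ (Subgroup.zpow_mem _ hc'q s) (Subgroup.zpow_mem _ hu'q t)
        exact this
      · intro h z
        have hx'q : x' ∈ MulAction.stabilizer N q := h
        have hu'q : u' ∈ MulAction.stabilizer N q := Subgroup.pow_mem _ hx'q m
        obtain ⟨i, hi⟩ := Subgroup.mem_zpowers_iff.mp z.2
        have : (z : N) ∈ MulAction.stabilizer N q := by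
          rw [← hi]; exact Subgroup.zpow_mem _ hu'q i
        exact this
    have hcardeq : Nat.card (MulAction.fixedBy (N ⧸ H') x')
        = Nat.card (MulAction.fixedPoints (Subgroup.zpowers u') (N ⧸ H')) :=
      Nat.card_congr (Equiv.setCongr hset.symm)
    rw [hcardeq]
    intro hdvd
    have h0 : Nat.card (N ⧸ H') ≡ 0 [MOD p] := hmod.trans ((Nat.modEq_zero_iff_dvd).mpr hdvd)
    have h1 : p ∣ H'.index := (Nat.modEq_zero_iff_dvd).mp h0
    have h2 : H'.index ∣ (P' : Subgroup N).index := Subgroup.index_dvd_of_le le_sup_right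
    exact P'.not_dvd_index (h1.trans h2)

end Cfsg.Agent.S0871
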