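import Cfsg.Statements.S0872
import Mathlib
import Cfsg.Agent.Lib.Helper19.PermChar
import Cfsg.Agent.Lib.Helper19.LocalBanaschewski
import Cfsg.Agent.S0871

set_option autoImplicit false
open Cfsg

namespace Cfsg.Agent.S0872

open Cfsg.Agent.Lib.Helper19

/-- `p`-quasi-elementary subgroups, in the form used in the statement. -/
def QE {G : Type*} [Group G] (p : ℕ) (H : Subgroup G) : Prop :=
  ∃ C : Subgroup G, C ≤ H ∧ H ≤ Subgroup.normalizer (C : Set G) ∧ IsCyclic C ∧
    Nat.Coprime (Nat.card C) p ∧ ∃ k : ℕ, C.relIndex H = p ^ k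

theorem QE.mono {G : Type*} [Group G] [Finite G] {p : ℕ} (hp : p.Prime) {H U : Subgroup G}
    (hH : QE p H) (hUH : U ≤ H) : QE p U := by
  obtain ⟨C, hCH, hHN, hcyc, hcop, k, hk⟩ := hH
  refine ⟨C ⊓ U, inf_le_right, ?_, ?_, ?_, ?_⟩
  · intro g hg
    have hgN := hHN (hUH hg)
    rw [Subgroup.mem_normalizer_iff] at hgN ⊢
    intro h
    rw [Subgroup.mem_inf, Subgroup.mem_inf, hgN h]
    constructor
    · rintro ⟨h1, h2⟩
      exact ⟨h1, U.mul_mem (U.mul_mem hg h2) (U.inv_mem hg)⟩
    · rintro ⟨h1, h2⟩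
      refine ⟨h1, ?_⟩
      have := U.mul_mem (U.mul_mem (U.inv_mem hg) h2) hg
      simpa [mul_assoc] using this
  · exact isCyclic_of_injective (Subgroup.inclusion (inf_le_left : C ⊓ U ≤ C))
      (Subgroup.inclusion_injective _)
  · exact Nat.Coprime.coprime_dvd_left (Subgroup.card_dvd_of_le inf_le_left) hcop
  · rw [Subgroup.inf_relIndex_right]
    haveI : (C.subgroupOf H).Normal := (Subgroup.normal_subgroupOf_iff_le_normalizer hCH).mpr hHN
    have h1 : (C.subgroupOf H).relIndex (U.subgroupOf H) ∣ (C.subgroupOf H).index :=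
      Subgroup.relIndex_dvd_index_of_normal _ _
    rw [Subgroup.relIndex_subgroupOf hUH] at h1
    have h2 : (C.subgroupOf H).index = p ^ k := hk
    rw [h2] at h1
    obtain ⟨j, -, hj⟩ := (Nat.dvd_prime_pow hp).mp h1
    exact ⟨j, hj⟩

/-- integer valued permutation character -/
noncomputable def piZ {G : Type*} [Group G] (H : Subgroup G) : G → ℤ :=
  fun g => (Nat.card (MulAction.fixedBy (G ⧸ H) g) : ℤ)

theorem piZ_cast {G : Type*} [Group G] [Fintype G] (H : Subgroup G) (g : G) :
    ((piZ H g : ℤ) : ℂ) = Cfsg.indFun H (fun _ => (1 : ℂ)) g := by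
  rw [indFun_one_eq_card_fixedBy]
  simp [piZ]

/-- the additive group spanned by the permutation characters of quasi-elementary subgroups -/
noncomputable def RR {G : Type*} [Group G] [Fintype (Subgroup G)] (p : ℕ) : AddSubgroup (G → ℤ) where
  carrier := {f | ∃ a : Subgroup G → ℤ, (∀ H, a H ≠ 0 → QE p H) ∧ f = ∑ H : Subgroup G, a H • piZ H}
  zero_mem' := ⟨0, by simp, by simp⟩
  add_mem' := by
    rintro f g ⟨a, ha, rfl⟩ ⟨b, hb, rfl⟩
    refine ⟨a + b, ?_, ?_⟩
    · intro H hH
      by_cases h : a H = 0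
      · apply hb
        intro h'
        apply hH
        simp [h, h']
      · exact ha H h
    · simp [add_smul, Finset.sum_add_distrib]
  neg_mem' := by
    rintro f ⟨a, ha, rfl⟩
    refine ⟨-a, ?_, ?_⟩
    · intro H hH
      apply ha
      intro h
      apply hH
      simp [h]
    · simp [Finset.sum_neg_distrib]

theorem piZ_mem {G : Type*} [Group G] [Fintype (Subgroup G)] (p : ℕ) (H : Subgroup G) (hH : QE p H) :
    piZ H ∈ RR (G := G) p := by
  classical
  refine ⟨Pi.single H 1, ?_, ?_⟩
  · intro K hK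
    by_cases h : K = H
    · rw [h]; exact hH
    · exact absurd (Pi.single_eq_of_ne h 1) hK
  · rw [Finset.sum_eq_single H]
    · simp
    · intro K _ hK
      rw [Pi.single_eq_of_ne hK, zero_smul]
    · intro h; exact absurd (Finset.mem_univ H) h

theorem piZ_mul_mem {G : Type*} [Group G] [Fintype G] [Fintype (Subgroup G)] {p : ℕ} (hp : p.Prime)
    (H K : Subgroup G) (hH : QE p H) : piZ H * piZ K ∈ RR (G := G) p := by
  obtain ⟨a, ha, hprod⟩ := indFun_one_mul_indFun_one H K
  refine ⟨fun U => (a U : ℤ), ?_, ?_⟩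
  · intro U hU
    apply hH.mono hp
    apply ha
    intro h
    apply hU
    simp [h]
  · funext g
    apply Int.cast_injective (α := ℂ)
    have := congrFun hprod g
    rw [Finset.sum_apply] at this ⊢
    simp only [Pi.mul_apply, Pi.smul_apply, smul_eq_mul] at this ⊢
    push_cast
    simp only [piZ_cast]
    exact this


/-- For a finite group G and a prime p there are an integer m not divisible by p and a ℤ-linear combination of functions induced from the constant function 1 on subgroups H, each having a cyclic normal subgroup of order prime to p and p-power index in H, that equals the constant function m. -/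
theorem result {G : Type*} [Group G] [Fintype G] (p : ℕ) (hp : p.Prime) : ∃ (m : ℤ) (a : Subgroup G → ℤ), ¬ (p : ℤ) ∣ m ∧ (∀ H, a H ≠ 0 → (∃ C : Subgroup G, C ≤ H ∧ H ≤ Subgroup.normalizer (C : Set G) ∧ IsCyclic C ∧ Nat.Coprime (Nat.card C) p ∧ ∃ k : ℕ, C.relIndex H = p ^ k)) ∧ (fun _ : G => (m : ℂ)) = ∑ H : Subgroup G, (a H : ℂ) • Cfsg.indFun H (fun _ => 1) := by
  classical
  have hmul : ∀ f ∈ RR (G := G) p, ∀ g ∈ RR (G := G) p, f * g ∈ RR (G := G) p := by
    rintro f ⟨a, ha, rfl⟩ g ⟨b, hb, rfl⟩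
    rw [Finset.sum_mul_sum]
    apply AddSubgroup.sum_mem
    intro H _
    apply AddSubgroup.sum_mem
    intro K _
    by_cases h : a H = 0
    · rw [h, zero_smul, zero_mul]; exact AddSubgroup.zero_mem _
    · have : a H • piZ H * b K • piZ K = (a H * b K) • (piZ H * piZ K) := by
        funext g
        simp only [Pi.mul_apply, Pi.smul_apply, smul_eq_mul]
        ring
      rw [this]
      exact AddSubgroup.zsmul_mem _ (piZ_mul_mem hp H K (ha H h)) _
  have hpt : ∀ x : G, ∃ f ∈ RR (G := G) p, ¬ (p : ℤ) ∣ f x := by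
    intro x
    obtain ⟨H, hH, n, hn, hpn⟩ := Cfsg.Agent.S0871.result x p hp
    refine ⟨piZ H, piZ_mem p H hH, ?_⟩
    have h1 : piZ H x = (n : ℤ) := by
      apply Int.cast_injective (α := ℂ)
      rw [piZ_cast, hn]
      simp
    rw [h1]
    exact_mod_cast hpn
  obtain ⟨m, hm, a, ha, hma⟩ := local_banaschewski p hp (RR (G := G) p) hmul hpt
  refine ⟨m, a, hm, ha, ?_⟩
  funext g
  have := congrFun hma g
  rw [Finset.sum_apply] at this ⊢
  simp only [Pi.smul_apply, smul_eq_mul] at this ⊢
  rw [this]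
  push_cast
  simp only [piZ_cast]

end Cfsg.Agent.S0872
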