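import Cfsg.Statements.S0176
import Cfsg.Agent.S0138
import Cfsg.Agent.S0147
import Cfsg.Agent.S0854
import Cfsg.Agent.Lib.Helper5.Inertia
import Cfsg.Agent.Lib.Helper82.LinCount
import Cfsg.Agent.Lib.Helper82.ClassSum
import Cfsg.Agent.Lib.Helper74.Fitting

set_option autoImplicit false
open Cfsg

namespace Cfsg.Agent.S0176

open Cfsg.Agent.Lib.Helper5 Cfsg.Agent.Lib.Helper20
open scoped ComplexConjugate commutatorElement

universe u

section
variable {G : Type u} [Group G] [Fintype G]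

theorem linear_case {χ : G → ℂ} (hχ : Cfsg.IsCharacter G χ) (h1 : χ 1 = 1) :
    ∃ (H : Subgroup G) (lam : H →* ℂˣ), χ = Cfsg.indFun H (fun h => (lam h : ℂ)) := by
  obtain ⟨f, rfl⟩ := Cfsg.Agent.Lib.Helper19.exists_hom_of_linear χ ⟨hχ, h1⟩
  refine ⟨⊤, f.comp (⊤ : Subgroup G).subtype, ?_⟩
  funext g
  change _ = (Nat.card (⊤ : Subgroup G) : ℂ)⁻¹ * ∑ x : G, Cfsg.extendByZero ⊤ _ (x⁻¹ * g * x)
  have h2 : ∀ x : G, Cfsg.extendByZero (⊤ : Subgroup G)
      (fun h => ((f.comp (⊤ : Subgroup G).subtype) h : ℂ)) (x⁻¹ * g * x)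
        = Cfsg.Agent.Lib.Helper19.homFun f g := by
    intro x
    rw [Cfsg.Agent.Lib.Helper19.extendByZero_of_mem _ _ (Subgroup.mem_top _)]
    simp only [Cfsg.Agent.Lib.Helper19.homFun, MonoidHom.comp_apply, Subgroup.subtype_apply, map_mul,
      map_inv]
    rw [mul_comm (f x)⁻¹, mul_assoc, inv_mul_cancel, mul_one]
  simp_rw [h2]
  rw [Finset.sum_const, Finset.card_univ, nsmul_eq_mul, Subgroup.card_top, ← Nat.card_eq_fintype_card,
    ← mul_assoc, inv_mul_cancel₀ card_ne_zero_complex, one_mul]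

omit [Fintype G] in
theorem constituent_ker [Finite G] {lam Δ : G → ℂ} (hl : Cfsg.IsCharacter G lam)
    (hΔ : Cfsg.IsCharacter G Δ) (c : G) (h : (lam + Δ) c = (lam + Δ) 1) : lam c = lam 1 := by
  obtain ⟨n, hn⟩ := isCharacter_apply_one hl
  obtain ⟨m, hm⟩ := isCharacter_apply_one hΔ
  have h1 := isCharacter_norm_le hl c
  have h2 := isCharacter_norm_le hΔ c
  rw [hn] at h1
  rw [hm] at h2
  simp only [Complex.natCast_re] at h1 h2
  rw [Pi.add_apply, Pi.add_apply, hn, hm] at h
  have h3 := congrArg Complex.re h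
  simp only [Complex.add_re, Complex.natCast_re] at h3
  have h4 := Complex.re_le_norm (lam c)
  have h5 := Complex.re_le_norm (Δ c)
  have h6 : (lam c).re = n := by linarith
  have h7 : ‖lam c‖ ^ 2 = (lam c).re ^ 2 + (lam c).im ^ 2 := by
    rw [Complex.sq_norm, Complex.normSq_apply]; ring
  have h8 : ‖lam c‖ ^ 2 ≤ (n : ℝ) ^ 2 := by
    apply pow_le_pow_left₀ (norm_nonneg _) h1
  have h9 : (lam c).im = 0 := by
    rw [h7, h6] at h8
    have : (lam c).im ^ 2 ≤ 0 := by linarith
    have h10 : (lam c).im ^ 2 = 0 := le_antisymm this (sq_nonneg _)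
    exact pow_eq_zero_iff (two_ne_zero) |>.mp h10
  rw [hn]
  apply Complex.ext
  · simpa using h6
  · simpa using h9

theorem indFun_congr {A B : Subgroup G} (hAB : A = B) (f : A → ℂ) (g : B → ℂ)
    (h : ∀ (x : G) (h1 : x ∈ A) (h2 : x ∈ B), f ⟨x, h1⟩ = g ⟨x, h2⟩) :
    Cfsg.indFun A f = Cfsg.indFun B g := by
  subst hAB
  congr 1
  funext x
  exact h x.1 x.2 x.2

theorem exists_proper_induced [Group.IsNilpotent G] {m : ℕ} (σ : Representation ℂ G (Fin m → ℂ))
    (hσ : σ.IsIrreducible) (hnl : σ.character 1 ≠ 1) :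
    ∃ (T : Subgroup G) (ψ : T → ℂ), T ≠ ⊤ ∧ Cfsg.IsIrrCharacter T ψ ∧
      Cfsg.indFun T ψ = σ.character := by
  classical
  have hχ : Cfsg.IsIrrCharacter G σ.character := ⟨m, σ, hσ, rfl⟩
  have hχc := isCharacter_of_isIrrCharacter hχ
  let Z : Subgroup G :=
    { carrier := {g | ∀ h, σ (g * h) = σ (h * g)}
      one_mem' := by intro h; simp
      mul_mem' := by
        intro a b ha hb h
        have ha' : ∀ h, σ (a * h) = σ (h * a) := ha
        have hb' : ∀ h, σ (b * h) = σ (h * b) := hb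
        rw [mul_assoc, ha', mul_assoc, hb', mul_assoc]
      inv_mem' := by
        intro a ha h
        have ha' : ∀ h, σ (a * h) = σ (h * a) := ha
        have := ha' (a⁻¹ * h * a⁻¹)
        have e1 : a * (a⁻¹ * h * a⁻¹) = h * a⁻¹ := by group
        have e2 : a⁻¹ * h * a⁻¹ * a = a⁻¹ * h := by group
        rw [e1, e2] at this
        exact this.symm }
  have hZmem : ∀ g, g ∈ Z ↔ ∀ h, σ (g * h) = σ (h * g) := fun g => Iff.rfl
  have hZn : Z.Normal := by
    constructor
    intro g hg y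
    rw [hZmem] at hg ⊢
    intro h
    have e1 : y * g * y⁻¹ * h = y * (g * (y⁻¹ * h)) := by group
    have e2 : h * (y * g * y⁻¹) = (h * y) * (g * y⁻¹) := by group
    rw [e1, e2, map_mul, hg, map_mul σ (h * y), hg, ← map_mul, ← map_mul]
    congr 1
    group
  have hscal_iff : ∀ g, g ∈ Z ↔ ∃ c : ℂ, σ g = c • LinearMap.id := by
    intro g
    constructor
    · intro hg
      apply Cfsg.Agent.Lib.Helper82.schur_scalar σ (σ g)
      intro h
      have := (hZmem g).mp hg h
      rw [map_mul, map_mul] at this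
      exact this
    · rintro ⟨c, hc⟩
      rw [hZmem]
      intro h
      rw [map_mul, map_mul, hc]
      ext v
      simp
  have hd0 := finrank_ne_zero_of_irr σ hσ
  have hZtop : Z ≠ ⊤ := by
    intro htop
    apply hnl
    have hnorm : ∀ g : G, σ.character g * conj (σ.character g)
        = (Module.finrank ℂ (Fin m → ℂ) : ℂ) ^ 2 := by
      intro g
      have hg : g ∈ Z := by rw [htop]; trivial
      have h1 := (Cfsg.Agent.S0138.result σ g).mpr ((hscal_iff g).mp hg)
      rw [Complex.mul_conj, Complex.normSq_eq_norm_sq, h1]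
      push_cast
      rfl
    have h2 := classInner_irr_self hχ
    unfold Cfsg.classInner at h2
    simp_rw [hnorm] at h2
    rw [Finset.sum_const, Finset.card_univ, nsmul_eq_mul, ← Nat.card_eq_fintype_card, ← mul_assoc,
      inv_mul_cancel₀ card_ne_zero_complex, one_mul] at h2
    have h3 : Module.finrank ℂ (Fin m → ℂ) ^ 2 = 1 := by exact_mod_cast h2
    have h4 : Module.finrank ℂ (Fin m → ℂ) = 1 := by
      exact Nat.pow_eq_one.mp h3 |>.resolve_right (by norm_num)
    rw [Representation.char_one, h4]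
    simp
  have hnt : (⊤ : Subgroup (G ⧸ Z)) ≠ ⊥ := by
    intro h
    apply hZtop
    rw [eq_top_iff]
    intro g _
    have : (g : G ⧸ Z) ∈ (⊤ : Subgroup (G ⧸ Z)) := trivial
    rw [h, Subgroup.mem_bot] at this
    exact (QuotientGroup.eq_one_iff g).mp this
  obtain ⟨xb, -, hxb1, hxbc⟩ :=
    Cfsg.Agent.Lib.Helper74.exists_mem_center_of_normal_ne_bot (⊤ : Subgroup (G ⧸ Z)) hnt
  obtain ⟨x, rfl⟩ := QuotientGroup.mk_surjective xb
  have hxZ : x ∉ Z := fun h => hxb1 ((QuotientGroup.eq_one_iff x).mpr h)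
  obtain ⟨A, hAdef⟩ : ∃ A, A = (Subgroup.zpowers (x : G ⧸ Z)).comap (QuotientGroup.mk' Z) := ⟨_, rfl⟩
  have hAmem : ∀ a, a ∈ A ↔ (a : G ⧸ Z) ∈ Subgroup.zpowers (x : G ⧸ Z) := by
    intro a
    rw [hAdef]
    rfl
  have hzc : Subgroup.zpowers (x : G ⧸ Z) ≤ Subgroup.center (G ⧸ Z) := by
    rw [Subgroup.zpowers_le]
    exact hxbc
  have hAn : A.Normal := by
    constructor
    intro a ha g
    rw [hAmem] at ha ⊢
    have h1 : ((g * a * g⁻¹ : G) : G ⧸ Z) = (a : G ⧸ Z) := by
      have h2 := Subgroup.mem_center_iff.mp (hzc ha) (g : G ⧸ Z)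
      rw [QuotientGroup.mk_mul, QuotientGroup.mk_mul, QuotientGroup.mk_inv, h2, mul_inv_cancel_right]
    rw [h1]
    exact ha
  have hxA : x ∈ A := (hAmem x).mpr (Subgroup.mem_zpowers _)
  have hAdecomp : ∀ a ∈ A, ∃ k : ℕ, ∃ z ∈ Z, a = x ^ k * z := by
    intro a ha
    rw [hAmem, ← mem_powers_iff_mem_zpowers] at ha
    obtain ⟨k, hk⟩ := ha
    refine ⟨k, (x ^ k)⁻¹ * a, ?_, by group⟩
    rw [← QuotientGroup.eq]
    exact hk
  have hZcomm : ∀ z ∈ Z, ∀ h : G, Commute (σ z) (σ h) := by
    intro z hz h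
    have := (hZmem z).mp hz h
    rw [map_mul, map_mul] at this
    exact this
  have hAcomm : ∀ a ∈ A, ∀ b ∈ A, Commute (σ a) (σ b) := by
    intro a ha b hb
    obtain ⟨k, z, hz, rfl⟩ := hAdecomp a ha
    obtain ⟨l, z', hz', rfl⟩ := hAdecomp b hb
    rw [map_mul σ (x ^ k)]
    apply Commute.mul_left
    · rw [map_mul]
      apply Commute.mul_right
      · rw [map_pow, map_pow]
        exact Commute.pow_pow_self _ _ _
      · exact (hZcomm z' hz' _).symm
    · exact hZcomm z hz _
  have := Fintype.ofFinite A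
  have h1 : (fun a : A => σ.character a) 1 ≠ 0 := by
    simp only [Subgroup.coe_one, Representation.char_one]
    exact_mod_cast hd0
  have hres := isCharacter_restrict hχc A
  obtain ⟨lam, hlam, hne⟩ := exists_constituent hres h1
  have hlamc := isCharacter_of_isIrrCharacter hlam
  obtain ⟨Δ, hΔ, hsum⟩ := exists_add_of_constituent hres hlam hne
  have hlam1 : lam 1 = 1 := by
    rw [Cfsg.Agent.Lib.Helper82.isIrr_linear_iff hlam]
    intro c hc
    apply constituent_ker hlamc hΔ
    rw [← hsum]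
    have hker : commutator A ≤ MonoidHom.ker (σ.comp A.subtype) := by
      rw [commutator_def, Subgroup.commutator_le]
      intro a _ b _
      rw [MonoidHom.mem_ker, commutatorElement_def, MonoidHom.comp_apply]
      simp only [Subgroup.subtype_apply, Subgroup.coe_mul, Subgroup.coe_inv]
      have e1 : (a : G) * b * (a : G)⁻¹ * (b : G)⁻¹ = (a * b) * ((b : G) * a)⁻¹ := by group
      rw [e1, map_mul, map_mul σ (a : G), (hAcomm a a.2 b b.2).eq, ← map_mul, ← map_mul,
        mul_inv_cancel, map_one]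
    have h2 : σ (c : G) = 1 := hker hc
    simp only [Representation.character, h2, Subgroup.coe_one, map_one]
  obtain ⟨T, hTdef⟩ : ∃ T, T = inertia hAn lam := ⟨_, rfl⟩
  have hT : ∀ g : G, g ∈ T ↔ ∀ n : A, lam ⟨g * n * g⁻¹, hAn.conj_mem (n : G) n.2 g⟩ = lam n := by
    intro g
    rw [hTdef]
    exact mem_inertia' hAn lam g
  have hAT : A ≤ T := hTdef ▸ le_inertia hAn (isClassFunction_of_isCharacter hlamc)
  have hTtop : T ≠ ⊤ := by
    intro htop
    apply hxZ
    rw [hscal_iff, ← Cfsg.Agent.S0138.result σ x]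
    have hinv : ∀ g : G, cjF hAn lam g = lam := by
      intro g
      have : g ∈ T := by rw [htop]; trivial
      rw [hTdef] at this
      exact this
    have hcl := clifford_invariant hAn hχ hlam hne hinv
    obtain ⟨c, hc⟩ : ∃ c : ℂ, (fun n : A => σ.character n) = c • lam := ⟨_, hcl⟩
    have hc1 : c = (Module.finrank ℂ (Fin m → ℂ) : ℂ) := by
      have h2 := congrFun hc 1
      simp only [Pi.smul_apply, hlam1, smul_eq_mul, mul_one, Subgroup.coe_one,
        Representation.char_one] at h2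
      exact h2.symm
    have h2 := congrFun hc ⟨x, hxA⟩
    simp only [Pi.smul_apply, smul_eq_mul] at h2
    rw [h2, norm_mul, norm_linear_eq_one hlamc hlam1, mul_one, hc1]
    simp
  have := Fintype.ofFinite T
  obtain ⟨ψ, hψ, hind, -⟩ :=
    @Cfsg.Agent.S0854.result G _ _ A hAn _ lam hlam T _ hT hAT σ.character hχ hne
  exact ⟨T, ψ, hTtop, hψ, hind⟩

end

theorem main : ∀ (n : ℕ) (G : Type u) [Group G] [Fintype G] [Group.IsNilpotent G], Nat.card G = n →
    ∀ χ : G → ℂ, Cfsg.IsIrrCharacter G χ →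
      ∃ (H : Subgroup G) (lam : H →* ℂˣ), χ = Cfsg.indFun H (fun h => (lam h : ℂ)) := by
  intro n
  induction n using Nat.strong_induction_on with
  | _ n ih =>
    intro G _ _ _ hn χ hχ
    by_cases h1 : χ 1 = 1
    · exact linear_case (isCharacter_of_isIrrCharacter hχ) h1
    obtain ⟨m, σ, hσ, rfl⟩ := hχ
    obtain ⟨T, ψ, hT, hψ, hind⟩ := exists_proper_induced σ hσ h1
    have instT : Fintype T := Fintype.ofFinite T
    have hlt : Nat.card T < n := by
      rw [← hn]
      by_contra hcc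
      apply hT
      apply Subgroup.eq_top_of_card_eq
      exact le_antisymm (Subgroup.card_le_card_group T) (not_lt.mp hcc)
    obtain ⟨H₀, μ, hμ⟩ := ih (Nat.card T) hlt T rfl ψ hψ
    let e : H₀ ≃* H₀.map T.subtype := Subgroup.equivMapOfInjective H₀ T.subtype T.subtype_injective
    refine ⟨H₀.map T.subtype, μ.comp e.symm.toMonoidHom, ?_⟩
    have hle : H₀.map T.subtype ≤ T := Subgroup.map_subtype_le H₀
    rw [← hind, hμ, ← Cfsg.Agent.S0147.result (H₀.map T.subtype) T hle]
    congr 1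
    apply indFun_congr
    · rw [Subgroup.subgroupOf, Subgroup.comap_map_eq_self_of_injective T.subtype_injective]
    · intro x h1 h2
      simp only [MonoidHom.comp_apply]
      congr 2
      symm
      change e.symm _ = _
      rw [MulEquiv.symm_apply_eq]
      rfl

/-- A finite nilpotent group is an M-group: each irreducible complex character is induced from a homomorphism of some subgroup into ℂˣ. -/
theorem result {G : Type*} [Group G] [Fintype G] [Group.IsNilpotent G] (χ : G → ℂ) (hχ : Cfsg.IsIrrCharacter G χ) : ∃ (H : Subgroup G) (lam : H →* ℂˣ), χ = Cfsg.indFun H (fun h => (lam h : ℂ)) := by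
  exact main _ G rfl χ hχ

end Cfsg.Agent.S0176
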