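import Cfsg.Statements.S1496
-- import your own Cfsg.Agent.* helpers here
import Cfsg.Agent.Lib.Helper30.SZ
import Cfsg.Agent.Lib.Helper32.Dade

set_option autoImplicit false
open Cfsg

namespace Cfsg.Agent.S1496

open Cfsg.Agent.Lib.Helper32 Cfsg.Agent.Lib.Helper30

theorem mul_pow_mem {G : Type*} [Group G] (H : Subgroup G) (g : G)
    (hg : g ∈ Subgroup.normalizer (H : Set G)) (h : G) (hh : h ∈ H) (j : ℕ) :
    ∃ h' ∈ H, (h * g) ^ j = h' * g ^ j := by
  induction j with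
  | zero => exact ⟨1, H.one_mem, by simp⟩
  | succ j ih =>
    obtain ⟨h', hh', e⟩ := ih
    have hgj : g ^ j ∈ Subgroup.normalizer (H : Set G) := Subgroup.pow_mem _ hg j
    refine ⟨h' * (g ^ j * h * (g ^ j)⁻¹), H.mul_mem hh' ((Subgroup.mem_normalizer_iff.1 hgj h).1 hh), ?_⟩
    rw [pow_succ, e, pow_succ]; group

theorem zpow_eq_one_of_mem {G : Type*} [Group G] (H : Subgroup G) (g : G)
    (hcop : Nat.Coprime (orderOf g) (Nat.card H)) (j : ℤ) (hj : g ^ j ∈ H) : g ^ j = 1 := by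
  apply eq_one_of_pow_coprime (m := orderOf g) (n := Nat.card H) _ (pow_card_sub hj) hcop
  rw [← zpow_natCast, ← zpow_mul, mul_comm, zpow_mul, zpow_natCast, pow_orderOf_eq_one, one_zpow]


/-- Let H be a subgroup of the finite group G and g an element normalising H whose order is coprime to the order of H. Then for every h ∈ H there are x ∈ H and c ∈ H commuting with g such that x * (h * g) * x⁻¹ = c * g. -/
theorem result {G : Type*} [Group G] [Finite G] (H : Subgroup G) (g : G) (hg : g ∈ Subgroup.normalizer (H : Set G)) (hcop : Nat.Coprime (orderOf g) (Nat.card H)) (h : G) (hh : h ∈ H) : ∃ x ∈ H, ∃ c ∈ H, c * g = g * c ∧ x * (h * g) * x⁻¹ = c * g := by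
  set n := orderOf g with hn
  set N := Nat.card H with hN
  set y := h * g with hy
  obtain ⟨hn', hhn', en⟩ := mul_pow_mem H g hg h hh n
  have hyn : y ^ n ∈ H := by
    rw [en, hn, pow_orderOf_eq_one, mul_one]; exact hhn'
  have hynN : y ^ (n * N) = 1 := by
    rw [pow_mul]; exact pow_card_sub hyn
  obtain ⟨e₁, he₁n, he₁N⟩ := Nat.chineseRemainder hcop 1 0
  obtain ⟨e₂, he₂n, he₂N⟩ := Nat.chineseRemainder hcop 0 1
  set s := y ^ e₁ with hs
  set c' := y ^ e₂ with hc'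
  have hysum : c' * s = y := by
    rw [hs, hc', ← pow_add]
    have h1 : e₂ + e₁ ≡ 1 [MOD n * N] := by
      rw [← Nat.modEq_and_modEq_iff_modEq_mul hcop]
      exact ⟨by simpa using he₂n.add he₁n, by simpa using he₂N.add he₁N⟩
    have h2 := pow_eq_pow_iff_modEq.2 (h1.of_dvd (orderOf_dvd_of_pow_eq_one hynN))
    rw [h2, pow_one]
  have hcomm : c' * s = s * c' := by
    rw [hs, hc', ← pow_add, ← pow_add, add_comm]
  have hc'H : c' ∈ H := by
    obtain ⟨t, ht⟩ := (Nat.modEq_zero_iff_dvd.1 he₂n)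
    rw [hc', ht, pow_mul]
    exact H.pow_mem hyn t
  obtain ⟨h', hh', es⟩ := mul_pow_mem H g hg h hh e₁
  have hge₁ : g ^ e₁ = g := by
    have := pow_eq_pow_iff_modEq.2 he₁n
    rw [this, pow_one]
  have es' : s = h' * g := by rw [hs, es, hge₁]
  have hsn : s ^ n = 1 := by
    obtain ⟨t, ht⟩ := (Nat.modEq_zero_iff_dvd.1 he₁N)
    rw [hs, ← pow_mul, ht]
    have : N * t * n = n * N * t := by ring
    rw [this, pow_mul, hynN, one_pow]
  have hos : orderOf s = n := by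
    apply Nat.dvd_antisymm (orderOf_dvd_of_pow_eq_one hsn)
    obtain ⟨h'', hh'', e⟩ := mul_pow_mem H g hg h' hh' (orderOf s)
    rw [← es', pow_orderOf_eq_one] at e
    have h1 : g ^ orderOf s = h''⁻¹ := (inv_eq_of_mul_eq_one_right e.symm).symm
    have h2 : g ^ ((orderOf s : ℕ) : ℤ) ∈ H := by
      rw [zpow_natCast, h1]; exact H.inv_mem hh''
    have h3 := zpow_eq_one_of_mem H g hcop _ h2
    rw [zpow_natCast] at h3
    exact orderOf_dvd_of_pow_eq_one h3
  have hA : Subgroup.zpowers g ≤ Subgroup.normalizer (H : Set G) := Subgroup.zpowers_le.2 hg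
  have hK : Subgroup.zpowers s ≤ H ⊔ Subgroup.zpowers g := by
    rw [Subgroup.zpowers_le, es']
    exact Subgroup.mul_mem _ (Subgroup.mem_sup_left hh')
      (Subgroup.mem_sup_right (Subgroup.mem_zpowers g))
  have hsol : Group.IsSolvable H ∨ Group.IsSolvable (Subgroup.zpowers g) := by
    right
    apply Group.isSolvable_of_comm
    intro a b
    exact (Subgroup.zpowers_isMulCommutative g).is_comm.comm a b
  obtain ⟨x, hx, hxK⟩ := sz_conj H (Subgroup.zpowers g) (Subgroup.zpowers s) hA hsol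
    (by rw [Nat.card_zpowers]; exact hcop.symm) hK (by rw [Nat.card_zpowers, Nat.card_zpowers, hos])
  have hsx : x⁻¹ * s * x ∈ Subgroup.zpowers g := by
    rw [← mem_cj, ← hxK]; exact Subgroup.mem_zpowers s
  obtain ⟨j, hj⟩ := Subgroup.mem_zpowers_iff.1 hsx
  have hgx : g * x * g⁻¹ ∈ H := (Subgroup.mem_normalizer_iff.1 hg x).1 hx
  have e1 : x⁻¹ * s * x = (x⁻¹ * h' * (g * x * g⁻¹)) * g := by rw [es']; group
  have hm : x⁻¹ * h' * (g * x * g⁻¹) ∈ H := H.mul_mem (H.mul_mem (H.inv_mem hx) hh') hgx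
  have e2 : g ^ (j - 1) = x⁻¹ * h' * (g * x * g⁻¹) := by
    rw [zpow_sub, zpow_one, hj, e1]; group
  have e3 : x⁻¹ * h' * (g * x * g⁻¹) = 1 := by
    rw [← e2]
    exact zpow_eq_one_of_mem H g hcop _ (e2 ▸ hm)
  have e4 : x⁻¹ * s * x = g := by rw [e1, e3, one_mul]
  refine ⟨x⁻¹, H.inv_mem hx, x⁻¹ * c' * x, H.mul_mem (H.mul_mem (H.inv_mem hx) hc'H) hx, ?_, ?_⟩
  · calc x⁻¹ * c' * x * g = x⁻¹ * c' * x * (x⁻¹ * s * x) := by rw [e4]
      _ = x⁻¹ * (c' * s) * x := by group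
      _ = x⁻¹ * (s * c') * x := by rw [hcomm]
      _ = (x⁻¹ * s * x) * (x⁻¹ * c' * x) := by group
      _ = g * (x⁻¹ * c' * x) := by rw [e4]
  · calc x⁻¹ * y * x⁻¹⁻¹ = x⁻¹ * (c' * s) * x := by rw [hysum, inv_inv]
      _ = x⁻¹ * c' * x * (x⁻¹ * s * x) := by group
      _ = x⁻¹ * c' * x * g := by rw [e4]

end Cfsg.Agent.S1496
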