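import Cfsg.Statements.S3889

set_option autoImplicit false
open Cfsg

namespace Cfsg.Agent.S3889

/-- A finite abelian group that is the union of a family of proper subgroups any two of which intersect trivially is elementary abelian: its exponent is a prime. -/
theorem result {G : Type*} [CommGroup G] [Finite G] (𝓑 : Set (Subgroup G)) (hprop : ∀ B ∈ 𝓑, B ≠ ⊤)
    (hcov : ∀ g : G, ∃ B ∈ 𝓑, g ∈ B) (hdisj : ∀ B ∈ 𝓑, ∀ C ∈ 𝓑, B ≠ C → B ⊓ C = ⊥) :
    (Monoid.exponent G).Prime := by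
  -- step 1
  have h1 : ∀ B ∈ 𝓑, ∀ x ∈ B, ∀ y, y ∉ B → x ^ orderOf y = 1 := by
    intro B hB x hx y hy
    obtain ⟨C, hC, hxy⟩ := hcov (x * y)
    have hne : B ≠ C := by
      rintro rfl
      apply hy
      have := B.mul_mem (B.inv_mem hx) hxy
      simpa using this
    have hpow : (x * y) ^ orderOf y = x ^ orderOf y := by
      rw [mul_pow, pow_orderOf_eq_one, mul_one]
    have hmem : x ^ orderOf y ∈ B ⊓ C := by
      refine ⟨B.pow_mem hx _, ?_⟩
      rw [← hpow]
      exact C.pow_mem hxy _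
    rw [hdisj B hB C hC hne] at hmem
    exact Subgroup.mem_bot.1 hmem
  have h2 : ∀ B ∈ 𝓑, ∀ x ∈ B, x ≠ 1 → ∀ y, y ∉ B → orderOf x = orderOf y := by
    intro B hB x hx hx1 y hy
    obtain ⟨C, hC, hyC⟩ := hcov y
    have hne : B ≠ C := by
      rintro rfl
      exact hy hyC
    have hxC : x ∉ C := by
      intro hxC
      have : x ∈ B ⊓ C := ⟨hx, hxC⟩
      rw [hdisj B hB C hC hne] at this
      exact hx1 (Subgroup.mem_bot.1 this)
    exact Nat.dvd_antisymm (orderOf_dvd_of_pow_eq_one (h1 B hB x hx y hy))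
      (orderOf_dvd_of_pow_eq_one (h1 C hC y hyC x hxC))
  have h3 : ∀ x y : G, x ≠ 1 → y ≠ 1 → orderOf x = orderOf y := by
    intro x y hx hy
    obtain ⟨B, hB, hxB⟩ := hcov x
    by_cases hyB : y ∈ B
    · obtain ⟨z, hz⟩ : ∃ z, z ∉ B := by
        by_contra hcon
        push Not at hcon
        exact hprop B hB (Subgroup.eq_top_iff' B |>.2 hcon)
      rw [h2 B hB x hxB hx z hz, h2 B hB y hyB hy z hz]
    · exact h2 B hB x hxB hx y hyB
  obtain ⟨x, hx⟩ : ∃ x : G, x ≠ 1 := by
    obtain ⟨B, hB, -⟩ := hcov 1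
    by_contra hcon
    push Not at hcon
    apply hprop B hB
    rw [Subgroup.eq_top_iff']
    intro g
    rw [hcon g]
    exact B.one_mem
  set n := orderOf x with hn
  have hnpos : 0 < n := orderOf_pos x
  have hn1 : n ≠ 1 := by
    intro h
    exact hx (orderOf_eq_one_iff.1 h)
  set p := n.minFac with hp
  have hpp : p.Prime := Nat.minFac_prime hn1
  have hpn : p ∣ n := Nat.minFac_dvd n
  have hord : orderOf (x ^ (n / p)) = p := by
    rw [orderOf_pow_of_dvd (Nat.div_pos (Nat.le_of_dvd hnpos hpn) hpp.pos).ne' (Nat.div_dvd_of_dvd hpn)]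
    rw [← hn]
    exact Nat.div_div_self hpn hnpos.ne'
  have hne1 : x ^ (n / p) ≠ 1 := by
    intro h
    rw [h, orderOf_one] at hord
    exact hpp.one_lt.ne hord
  have hnp : n = p := by
    rw [← hord]
    exact h3 x _ hx hne1
  have hall : ∀ g : G, g ^ p = 1 := by
    intro g
    by_cases hg : g = 1
    · rw [hg, one_pow]
    · rw [← hnp, hn, h3 x g hx hg, pow_orderOf_eq_one]
  have hdvd : Monoid.exponent G ∣ p := Monoid.exponent_dvd_of_forall_pow_eq_one hall
  rcases (Nat.dvd_prime hpp).1 hdvd with h | h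
  · exfalso
    rw [Monoid.exp_eq_one_iff] at h
    exact hx (Subsingleton.elim _ _)
  · rw [h]; exact hpp

end Cfsg.Agent.S3889
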