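import Cfsg.Statements.S0078
-- import your own Cfsg.Agent.* helpers here
import Cfsg.Agent.Lib.Helper2.Fusion
import Cfsg.Agent.Lib.Helper2.Hyperfocal

set_option autoImplicit false
open Cfsg

namespace Cfsg.Agent.S0078

/-- In a p-normal group, a Sylow p-subgroup P meets O^p(G) exactly where it meets O^p(V), for any subgroup V containing the normalizer of the centre of P. -/
theorem result {G : Type*} [Group G] [Finite G] {p : ℕ} [Fact p.Prime] (P : Sylow p G) (hn : ∀ Q : Sylow p G, (P : Subgroup G) ⊓ Subgroup.centralizer (P : Set G) ≤ (Q : Subgroup G) → (Q : Subgroup G) ⊓ Subgroup.centralizer (Q : Set G) = (P : Subgroup G) ⊓ Subgroup.centralizer (P : Set G)) (V : Subgroup G) (hV : Subgroup.normalizer (((P : Subgroup G) ⊓ Subgroup.centralizer (P : Set G) : Subgroup G) : Set G) ≤ V) : (P : Subgroup G) ⊓ Cfsg.pResidual p G = (P : Subgroup G) ⊓ (Cfsg.pResidual p V).map V.subtype := by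
  set Z : Subgroup G := (P : Subgroup G) ⊓ Subgroup.centralizer (P : Set G) with hZ
  have hZC : Z ≤ Subgroup.centralizer (P : Set G) := inf_le_right
  have hW : Cfsg.IsWeaklyClosed Z P := by
    refine ⟨inf_le_left, ?_⟩
    intro g hg
    have hmemQ : ∀ z : G, z ∈ ((g⁻¹ • P : Sylow p G) : Subgroup G) ↔ g * z * g⁻¹ ∈ (P : Subgroup G) := by
      intro z
      have := Cfsg.Agent.Lib.Helper2.mem_smul_sylow_iff g⁻¹ P z
      rw [inv_inv] at this
      exact this
    have hZQ : Z ≤ ((g⁻¹ • P : Sylow p G) : Subgroup G) := by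
      intro z hz
      rw [hmemQ]
      exact hg ⟨z, hz, rfl⟩
    have hQ := hn (g⁻¹ • P) hZQ
    have hnorm : g⁻¹ ∈ Subgroup.normalizer (Z : Set G) := by
      rw [Subgroup.mem_normalizer_iff]
      intro z
      conv_rhs => rw [← hQ]
      rw [hZ, Subgroup.mem_inf, Subgroup.mem_inf, hmemQ, Subgroup.mem_centralizer_iff,
        Subgroup.mem_centralizer_iff]
      have e : g * (g⁻¹ * z * g⁻¹⁻¹) * g⁻¹ = z := by group
      rw [e]
      refine and_congr Iff.rfl ?_
      constructor
      · intro h y hy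
        have hy' : g * y * g⁻¹ ∈ (P : Subgroup G) := (hmemQ y).mp hy
        have := h _ hy'
        calc y * (g⁻¹ * z * g⁻¹⁻¹) = g⁻¹ * ((g * y * g⁻¹) * z) * g := by group
          _ = g⁻¹ * (z * (g * y * g⁻¹)) * g := by rw [this]
          _ = g⁻¹ * z * g⁻¹⁻¹ * y := by group
      · intro h y hy
        have hy' : g⁻¹ * y * g ∈ ((g⁻¹ • P : Sylow p G) : Subgroup G) := by
          rw [hmemQ]
          have e2 : g * (g⁻¹ * y * g) * g⁻¹ = y := by group
          rw [e2]
          exact hy
        have := h _ hy'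
        calc y * z = g * ((g⁻¹ * y * g) * (g⁻¹ * z * g⁻¹⁻¹)) * g⁻¹ := by group
          _ = g * ((g⁻¹ * z * g⁻¹⁻¹) * (g⁻¹ * y * g)) * g⁻¹ := by rw [this]
          _ = z * y := by group
    have hnorm' : g ∈ Subgroup.normalizer (Z : Set G) := by
      have := inv_mem hnorm
      rwa [inv_inv] at this
    exact Subgroup.mem_normalizer_iff_map_conj_eq.mp hnorm'
  have hPN : (P : Subgroup G) ≤ Subgroup.normalizer (Z : Set G) :=
    (Subgroup.le_centralizer_iff.mp hZC).trans (Subgroup.centralizer_le_normalizer _)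
  apply Cfsg.Agent.Lib.Helper2.inf_pResidual_eq_of_controls_fusion P V (hPN.trans hV)
  intro x u hx hy
  obtain ⟨n, hn', h⟩ := Cfsg.Agent.Lib.Helper2.fusion_of_weaklyClosed P Z hZC hW x u hx hy
  exact ⟨n, hV hn', h⟩

end Cfsg.Agent.S0078
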