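import Cfsg.Statements.S2330
import Cfsg.Agent.Lib.Helper44.Conj2
-- import your own Cfsg.Agent.* helpers here

set_option autoImplicit false
open Cfsg

namespace Cfsg.Agent.S2330

open Cfsg.Agent.Lib.Helper44 in
/-- Representatives of the conjugacy classes of `GL₂`. -/
noncomputable def rep {F : Type*} [Field F] : Fˣ ⊕ (F × Fˣ) → ConjClasses (Matrix.GeneralLinearGroup (Fin 2) F)
  | Sum.inl a => ConjClasses.mk (scalGL a)
  | Sum.inr p => ConjClasses.mk (compGL p.1 p.2)

open Cfsg.Agent.Lib.Helper44 in
theorem rep_bijective {F : Type*} [Field F] : Function.Bijective (rep (F := F)) := by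
  constructor
  · rintro (a | ⟨t, d⟩) (b | ⟨t', d'⟩) h
    · simp only [rep, ConjClasses.mk_eq_mk_iff_isConj] at h
      obtain ⟨c, hc⟩ := isConj_iff.mp h
      have h1 : c * scalGL a * c⁻¹ = scalGL a := by
        rw [mul_inv_eq_iff_eq_mul]
        apply Units.ext
        simp
      rw [h1] at hc
      have h2 := congrArg (fun g : Matrix.GeneralLinearGroup (Fin 2) F => (g : Matrix (Fin 2) (Fin 2) F) 0 0) hc
      simp at h2
      rw [Units.ext h2]
    · exfalso
      simp only [rep, ConjClasses.mk_eq_mk_iff_isConj] at h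
      have := gl2_nonScalar_of_isConj h.symm (nonScalar_compMat one_ne_zero _ _)
      exact (not_nonScalar_iff.mpr ⟨_, coe_scalGL a⟩) this
    · exfalso
      simp only [rep, ConjClasses.mk_eq_mk_iff_isConj] at h
      have := gl2_nonScalar_of_isConj h (nonScalar_compMat one_ne_zero _ _)
      exact (not_nonScalar_iff.mpr ⟨_, coe_scalGL b⟩) this
    · simp only [rep, ConjClasses.mk_eq_mk_iff_isConj] at h
      have h1 := gl2_trace_eq_of_isConj h
      have h2 := gl2_det_eq_of_isConj h
      rw [coe_compGL, coe_compGL, trace_compMat, trace_compMat] at h1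
      rw [coe_compGL, coe_compGL, det_compMat one_ne_zero, det_compMat one_ne_zero] at h2
      rw [h1, Units.ext h2]
  · intro C
    obtain ⟨g, rfl⟩ := ConjClasses.exists_rep C
    by_cases hg : NonScalar (g : Matrix (Fin 2) (Fin 2) F)
    · exact ⟨Sum.inr (_, _), (ConjClasses.mk_eq_mk_iff_isConj.mpr (gl2_isConj_compGL hg)).symm⟩
    · obtain ⟨a, rfl⟩ := gl2_eq_scalGL hg
      exact ⟨Sum.inl a, rfl⟩

/-- Over a finite field with q elements, the general linear group GL₂ has exactly q² − 1 conjugacy classes. -/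
theorem result {F : Type*} [Field F] [Fintype F] :
    Nat.card (ConjClasses (Matrix.GeneralLinearGroup (Fin 2) F)) = Fintype.card F ^ 2 - 1 := by
  rw [← Nat.card_congr (Equiv.ofBijective _ (rep_bijective (F := F)))]
  rw [Nat.card_sum, Nat.card_prod, Nat.card_units, Nat.card_eq_fintype_card]
  have : 1 ≤ Fintype.card F := Fintype.card_pos
  obtain ⟨k, hk⟩ := Nat.exists_eq_add_of_le this
  rw [hk]
  have e1 : 1 + k - 1 = k := by omega
  have e2 : (1 + k) ^ 2 - 1 = k + (1 + k) * k := by
    have : (1 + k) ^ 2 = k + (1 + k) * k + 1 := by ring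
    omega
  rw [e1, e2]

end Cfsg.Agent.S2330
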