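import Cfsg.Statements.S2353
import Cfsg.Agent.Lib.Helper44.WordGroup

set_option autoImplicit false
open Cfsg

namespace Cfsg.Agent.S2353

open Cfsg.Agent.Lib.Helper44 Polynomial Matrix

variable {F : Type*} [Field F]

/-- the polynomial torus -/
noncomputable def polyD (b : Bool) : Matrix (Fin 2) (Fin 2) F[X] :=
  if b then !![X ^ 2, 0; 0, 1] else !![1, 0; 0, X ^ 2]

def torD (b : Bool) (k : F) : Matrix (Fin 2) (Fin 2) F :=
  if b then !![k, 0; 0, k⁻¹] else !![k⁻¹, 0; 0, k]

def rIdx (b : Bool) : Fin 2 := if b then 0 else 1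

theorem polyD_deg (b : Bool) : DegLE (polyD (F := F) b) 2 := by
  intro i j
  cases b <;> fin_cases i <;> fin_cases j <;> simp [polyD]

theorem polyD_top (b : Bool) : topC (polyD (F := F) b) 2 = Matrix.single (rIdx b) (rIdx b) 1 := by
  ext i j
  cases b <;> fin_cases i <;> fin_cases j <;> simp [polyD, topC, rIdx, coeff_one]

theorem polyD_eval (b : Bool) (k : F) (hk : k ≠ 0) :
    (evalRingHom k).mapMatrix (polyD b) = k • torD b k := by
  ext i j
  cases b <;> fin_cases i <;> fin_cases j <;> simp [polyD, torD, hk, sq]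

def gM (x y : F) : Matrix (Fin 2) (Fin 2) F := !![x, y; 1, 1]

def gI (x y : F) : Matrix (Fin 2) (Fin 2) F := (x - y)⁻¹ • !![1, -y; -1, x]

theorem gI_mul_gM (x y : F) (h : x ≠ y) : gI x y * gM x y = 1 := by
  have h' : x - y ≠ 0 := sub_ne_zero.2 h
  ext i j
  fin_cases i <;> fin_cases j <;> simp [gI, gM, Matrix.mul_apply, Fin.sum_univ_two] <;> field_simp <;> ring

theorem gI_mul_gM_apply (x y x' y' : F) (h : x ≠ y) (h1 : x' ≠ y) (h2 : y' ≠ y) (h3 : x ≠ x')
    (h4 : x ≠ y') (i j : Fin 2) : (gI x y * gM x' y') i j ≠ 0 := by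
  have h' : x - y ≠ 0 := sub_ne_zero.2 h
  have h1' : x' - y ≠ 0 := sub_ne_zero.2 h1
  have h2' : y' - y ≠ 0 := sub_ne_zero.2 h2
  have h3' : x - x' ≠ 0 := sub_ne_zero.2 h3
  have h4' : x - y' ≠ 0 := sub_ne_zero.2 h4
  have e : gI x y * gM x' y' = (x - y)⁻¹ • !![x' - y, y' - y; x - x', x - y'] := by
    ext i j
    fin_cases i <;> fin_cases j <;> simp [gI, gM, Matrix.mul_apply, Fin.sum_univ_two] <;> ring
  rw [e]
  have hi : (x - y)⁻¹ ≠ 0 := inv_ne_zero h'
  fin_cases i <;> fin_cases j <;> simp [h', h1', h2', h3', h4']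

theorem torD_mul (k : F) (hk : k ≠ 0) : torD true k * torD false k = 1 := by
  ext i j
  fin_cases i <;> fin_cases j <;> simp [torD, hk]

theorem torD_det (k : F) (hk : k ≠ 0) : (torD true k).det = 1 := by
  simp [torD, Matrix.det_fin_two, hk]

/-- the inclusion of SL_2 into matrices -/
def slCoe : SpecialLinearGroup (Fin 2) F →* Matrix (Fin 2) (Fin 2) F where
  toFun A := A.1
  map_one' := rfl
  map_mul' _ _ := rfl

/-- A non-trivial law holds in PSL_2 over only finitely many finite fields: for every non-trivial element w of the free group on countably many generators there is N such that over every finite field with at least N elements some substitution of elements of PSL_2 into w is not the identity. -/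
theorem result (w : FreeGroup ℕ) (hw : w ≠ 1) :
    ∃ N : ℕ, ∀ (F : Type*) [Field F] [Fintype F], N ≤ Fintype.card F →
      ∃ f : ℕ → Matrix.ProjectiveSpecialLinearGroup (Fin 2) F, FreeGroup.lift f w ≠ 1 := by
  classical
  obtain ⟨n₀, hn₀⟩ := exists_letter_bound w.toWord
  refine ⟨2 * w.toWord.length + 2 + 2 * n₀, ?_⟩
  intro F _ _ hN
  obtain ⟨pt, hpt⟩ := exists_points F
  set q := Fintype.card F with hq
  let x : ℕ → F := fun i => if 2 * i + 1 < q then pt (2 * i) else 1
  let y : ℕ → F := fun i => if 2 * i + 1 < q then pt (2 * i + 1) else 0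
  have hxy : ∀ i, x i ≠ y i := by
    intro i
    by_cases h : 2 * i + 1 < q
    · simp only [x, y, if_pos h]
      intro h'
      have := hpt _ _ (by omega) h h'
      omega
    · simp only [x, y, if_neg h]
      exact one_ne_zero
  have hL : w.toWord ≠ [] := fun h => hw (FreeGroup.toWord_eq_nil_iff.1 h)
  have hgg : ∀ i, gI (x i) (y i) * gM (x i) (y i) = 1 := fun i => gI_mul_gM _ _ (hxy i)
  have hgg' : ∀ i, gM (x i) (y i) * gI (x i) (y i) = 1 := fun i => mul_eq_one_comm.1 (hgg i)
  obtain ⟨k, hk⟩ := exists_nonscalar_conj_torus rIdx (by decide) polyD 2 polyD_deg polyD_top torD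
    (fun _ k => k) polyD_eval (fun i => gM (x i) (y i)) (fun i => gI (x i) (y i)) hgg
    w.toWord hL FreeGroup.isReduced_toWord (by
      intro a ha b hb hab
      have h1 := hn₀ a ha
      have h2 := hn₀ b hb
      have ea : 2 * a.1 + 1 < q := by omega
      have eb : 2 * b.1 + 1 < q := by omega
      apply gI_mul_gM_apply _ _ _ _ (hxy _)
      · simp only [x, y, if_pos ea, if_pos eb]
        intro h'
        have := hpt _ _ (by omega) (by omega) h'
        omega
      · simp only [x, y, if_pos ea, if_pos eb]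
        intro h'
        have := hpt _ _ (by omega) (by omega) h'
        omega
      · simp only [x, y, if_pos ea, if_pos eb]
        intro h'
        have := hpt _ _ (by omega) (by omega) h'
        omega
      · simp only [x, y, if_pos ea, if_pos eb]
        intro h'
        have := hpt _ _ (by omega) (by omega) h'
        omega) (by omega)
  have hk0 : (k : F) ≠ 0 := k.ne_zero
  have hdet : ∀ i, (gM (x i) (y i) * torD true (k : F) * gI (x i) (y i)).det = 1 := by
    intro i
    rw [Matrix.det_mul, Matrix.det_mul, torD_det _ hk0, mul_one, ← Matrix.det_mul, hgg', Matrix.det_one]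
  let f' : ℕ → SpecialLinearGroup (Fin 2) F := fun i => ⟨_, hdet i⟩
  refine ⟨fun i => QuotientGroup.mk' _ (f' i), ?_⟩
  rw [← map_freeGroup_lift]
  intro h1
  have h2 : FreeGroup.lift f' w ∈ Subgroup.center (SpecialLinearGroup (Fin 2) F) :=
    (QuotientGroup.eq_one_iff _).1 h1
  rw [Matrix.SpecialLinearGroup.mem_center_iff] at h2
  obtain ⟨c, -, hc⟩ := h2
  have h3 := lift_word_eq slCoe f'
    (fun ℓ => gM (x ℓ.1) (y ℓ.1) * torD ℓ.2 (k : F) * gI (x ℓ.1) (y ℓ.1)) (fun i => rfl) (by
      intro i
      show gM (x i) (y i) * torD true (k : F) * gI (x i) (y i) *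
        (gM (x i) (y i) * torD false (k : F) * gI (x i) (y i)) = 1
      calc _ = gM (x i) (y i) * (torD true (k : F) * (gI (x i) (y i) * gM (x i) (y i)) * torD false (k : F)) *
            gI (x i) (y i) := by simp only [mul_assoc]
        _ = 1 := by rw [hgg, mul_one, torD_mul _ hk0, mul_one, hgg']) w
  apply hk c
  rw [← h3]
  show (FreeGroup.lift f' w).1 = _
  rw [← hc]
  ext i j
  simp [Matrix.scalar_apply, Matrix.smul_apply, Matrix.one_apply, Matrix.diagonal_apply]

end Cfsg.Agent.S2353
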