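import Cfsg.Statements.S2331
import Cfsg.Agent.Lib.Helper44.FinQuad
-- import your own Cfsg.Agent.* helpers here

set_option autoImplicit false
open Cfsg

namespace Cfsg.Agent.S2331

open Cfsg.Agent.Lib.Helper44 in
/-- Representatives of the conjugacy classes of `SL₂` in characteristic two. -/
noncomputable def rep {F : Type*} [Field F] : Option F → ConjClasses (Matrix.SpecialLinearGroup (Fin 2) F)
  | none => ConjClasses.mk 1
  | some t => ConjClasses.mk (compSL 1 t)

open Cfsg.Agent.Lib.Helper44 in
theorem rep_bijective {F : Type*} [Field F] [Fintype F] [CharP F 2] : Function.Bijective (rep (F := F)) := by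
  have hone : ¬ NonScalar ((1 : Matrix.SpecialLinearGroup (Fin 2) F) : Matrix (Fin 2) (Fin 2) F) :=
    not_nonScalar_iff.mpr ⟨1, by simp⟩
  constructor
  · rintro (_ | t) (_ | t') h
    · rfl
    · exfalso
      simp only [rep, ConjClasses.mk_eq_mk_iff_isConj] at h
      exact hone (sl2_nonScalar_of_isConj h.symm (nonScalar_compMat one_ne_zero _ _))
    · exfalso
      simp only [rep, ConjClasses.mk_eq_mk_iff_isConj] at h
      exact hone (sl2_nonScalar_of_isConj h (nonScalar_compMat one_ne_zero _ _))
    · simp only [rep, ConjClasses.mk_eq_mk_iff_isConj] at h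
      have h1 := sl2_trace_eq_of_isConj h
      rw [coe_compSL, coe_compSL, trace_compMat, trace_compMat] at h1
      rw [h1]
  · intro C
    obtain ⟨g, rfl⟩ := ConjClasses.exists_rep C
    by_cases hg : NonScalar (g : Matrix (Fin 2) (Fin 2) F)
    · obtain ⟨x, y, hxy⟩ := exists_Qf_ne_zero hg
      obtain ⟨x', y', h1⟩ := exists_Qf_eq_one_of_isSquare hxy (isSquare_of_charTwo _)
      refine ⟨some (g : Matrix (Fin 2) (Fin 2) F).trace, (ConjClasses.mk_eq_mk_iff_isConj.mpr ?_).symm⟩
      apply sl2_isConj_of_Qf (x := x') (y := y') (x' := 1) (y' := 0)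
      · rw [coe_compSL, trace_compMat]
      · rw [h1]; exact one_ne_zero
      · rw [h1, coe_compSL, Qf_compMat]; simp
    · obtain ⟨a, ha⟩ := not_nonScalar_iff.mp hg
      refine ⟨none, ?_⟩
      have hd := g.2
      rw [ha] at hd
      simp only [Matrix.det_smul, Fintype.card_fin, Matrix.det_one, mul_one] at hd
      have h2 : (2 : F) = 0 := CharTwo.two_eq_zero
      have : (a - 1) ^ 2 = 0 := by linear_combination hd - a * h2 + h2
      have ha1 : a = 1 := sub_eq_zero.mp (pow_eq_zero_iff two_ne_zero |>.mp this)
      have : g = 1 := by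
        apply Subtype.ext
        rw [ha, ha1]; simp
      rw [this]; rfl

/-- Over a finite field with q elements, q even, the special linear group SL₂ has exactly q + 1 conjugacy classes. -/
theorem result {F : Type*} [Field F] [Fintype F] [CharP F 2] :
    Nat.card (ConjClasses (Matrix.SpecialLinearGroup (Fin 2) F)) = Fintype.card F + 1 := by
  rw [← Nat.card_congr (Equiv.ofBijective _ (rep_bijective (F := F)))]
  rw [Nat.card_eq_fintype_card, Fintype.card_option]

end Cfsg.Agent.S2331
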