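import Cfsg.Statements.S2325
import Cfsg.Agent.Lib.Helper44.FinQuad
-- import your own Cfsg.Agent.* helpers here

set_option autoImplicit false
open Cfsg

namespace Cfsg.Agent.S2325

/-- The sign attached to a boolean. -/
def sgn {F : Type*} [Field F] (b : Bool) : F := if b then 1 else -1

theorem sgn_sq {F : Type*} [Field F] (b : Bool) : (sgn b : F) ^ 2 = 1 := by
  cases b <;> simp [sgn]

theorem sgn_inj {F : Type*} [Field F] (h2 : (2 : F) ≠ 0) {b b' : Bool} (h : (sgn b : F) = sgn b') : b = b' := by
  cases b <;> cases b' <;> simp [sgn] at h ⊢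
  · apply h2; linear_combination -h
  · apply h2; linear_combination h

open Cfsg.Agent.Lib.Helper44 in
/-- The scalar elements of `SL₂`. -/
def scalSL {F : Type*} [Field F] (b : Bool) : Matrix.SpecialLinearGroup (Fin 2) F :=
  mkSL ((sgn b : F) • 1) (by simp [sgn_sq])

open Cfsg.Agent.Lib.Helper44 in
/-- Representatives of the conjugacy classes of `SL₂` in odd characteristic. -/
noncomputable def rep {F : Type*} [Field F] (δ : Fˣ) : F ⊕ (Bool × Bool) → ConjClasses (Matrix.SpecialLinearGroup (Fin 2) F)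
  | Sum.inl t => ConjClasses.mk (compSL 1 t)
  | Sum.inr (b, false) => ConjClasses.mk (scalSL b)
  | Sum.inr (b, true) => ConjClasses.mk (compSL δ (2 * sgn b))

open Cfsg.Agent.Lib.Helper44 in
theorem not_conj_aux {F : Type*} [Field F] (δ : Fˣ) (hδ : ¬ IsSquare (δ : F)) (t : F) (b : Bool)
    (h : IsConj (compSL 1 t) (compSL δ (2 * sgn b))) : False := by
  obtain ⟨x, y, hxy⟩ := sl2_Qf_of_isConj h 1 0
  rw [coe_compSL, coe_compSL, Qf_compMat, Qf_compMat] at hxy
  apply hδ
  refine ⟨x + sgn b * δ * y, ?_⟩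
  have hb : (sgn b : F) ^ 2 = 1 := sgn_sq b
  have hd : (δ : F) ≠ 0 := δ.ne_zero
  simp at hxy
  field_simp at hxy
  linear_combination -hxy - (δ : F) ^ 2 * y ^ 2 * hb

open Cfsg.Agent.Lib.Helper44 in
theorem rep_bijective {F : Type*} [Field F] [Fintype F] (hodd : Odd (Fintype.card F)) (δ : Fˣ) (hδ : ¬ IsSquare (δ : F)) :
    Function.Bijective (rep δ) := by
  have h2 : (2 : F) ≠ 0 := two_ne_zero_of_odd hodd
  have hsc : ∀ b : Bool, ¬ NonScalar ((scalSL b : Matrix.SpecialLinearGroup (Fin 2) F) : Matrix (Fin 2) (Fin 2) F) :=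
    fun b => not_nonScalar_iff.mpr ⟨sgn b, rfl⟩
  constructor
  · rintro (t | ⟨b, _ | _⟩) (t' | ⟨b', _ | _⟩) h <;> simp only [rep, ConjClasses.mk_eq_mk_iff_isConj] at h
    · have h1 := sl2_trace_eq_of_isConj h
      rw [coe_compSL, coe_compSL, trace_compMat, trace_compMat] at h1
      rw [h1]
    · exact absurd (sl2_nonScalar_of_isConj h (nonScalar_compMat one_ne_zero _ _)) (hsc _)
    · exact (not_conj_aux δ hδ _ _ h).elim
    · exact absurd (sl2_nonScalar_of_isConj h.symm (nonScalar_compMat one_ne_zero _ _)) (hsc _)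
    · obtain ⟨c, hc⟩ := isConj_iff.mp h
      have h1 : c * scalSL b * c⁻¹ = scalSL b := by
        rw [mul_inv_eq_iff_eq_mul]
        apply Subtype.ext
        simp [scalSL]
      rw [h1] at hc
      have h3 := congrArg (fun g : Matrix.SpecialLinearGroup (Fin 2) F => (g : Matrix (Fin 2) (Fin 2) F) 0 0) hc
      simp [scalSL] at h3
      rw [sgn_inj h2 h3]
    · exact absurd (sl2_nonScalar_of_isConj h.symm (nonScalar_compMat δ.ne_zero _ _)) (hsc _)
    · exact (not_conj_aux δ hδ _ _ h.symm).elim
    · exact absurd (sl2_nonScalar_of_isConj h (nonScalar_compMat δ.ne_zero _ _)) (hsc _)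
    · have h1 := sl2_trace_eq_of_isConj h
      rw [coe_compSL, coe_compSL, trace_compMat, trace_compMat] at h1
      rw [sgn_inj h2 (mul_left_cancel₀ h2 h1)]
  · intro C
    obtain ⟨g, rfl⟩ := ConjClasses.exists_rep C
    by_cases hg : NonScalar (g : Matrix (Fin 2) (Fin 2) F)
    · by_cases h1 : ∃ x y : F, Qf (g : Matrix (Fin 2) (Fin 2) F) x y = 1
      · obtain ⟨x', y', h1⟩ := h1
        refine ⟨Sum.inl (g : Matrix (Fin 2) (Fin 2) F).trace, (ConjClasses.mk_eq_mk_iff_isConj.mpr ?_).symm⟩
        apply sl2_isConj_of_Qf (x := x') (y := y') (x' := 1) (y' := 0)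
        · rw [coe_compSL, trace_compMat]
        · rw [h1]; exact one_ne_zero
        · rw [h1, coe_compSL, Qf_compMat]; simp
      · have ht : (g : Matrix (Fin 2) (Fin 2) F).trace ^ 2 - 4 * (g : Matrix (Fin 2) (Fin 2) F).det = 0 := by
          by_contra hne
          exact h1 (exists_Qf_eq_one hodd hne)
        rw [g.2] at ht
        have ht' : ((g : Matrix (Fin 2) (Fin 2) F).trace - 2) * ((g : Matrix (Fin 2) (Fin 2) F).trace + 2) = 0 := by
          linear_combination ht
        have hb : ∃ b : Bool, (g : Matrix (Fin 2) (Fin 2) F).trace = 2 * sgn b := by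
          rcases mul_eq_zero.mp ht' with h | h
          · exact ⟨true, by simp [sgn]; linear_combination h⟩
          · exact ⟨false, by simp [sgn]; linear_combination h⟩
        obtain ⟨b, hb⟩ := hb
        obtain ⟨x, y, hxy⟩ := exists_Qf_ne_zero hg
        have hns : ¬ IsSquare (Qf (g : Matrix (Fin 2) (Fin 2) F) x y) := fun hs =>
          h1 (exists_Qf_eq_one_of_isSquare hxy hs)
        obtain ⟨z, hz⟩ := isSquare_mul_of_not_isSquare hodd hns hδ
        have hz0 : z ≠ 0 := by
          rintro rfl
          exact (mul_ne_zero hxy δ.ne_zero) (by simpa using hz)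
        refine ⟨Sum.inr (b, true), (ConjClasses.mk_eq_mk_iff_isConj.mpr ?_).symm⟩
        have hval : Qf (g : Matrix (Fin 2) (Fin 2) F) (z⁻¹ * x) (z⁻¹ * y) = (δ : F)⁻¹ := by
          rw [Qf_smul]
          have hd : (δ : F) ≠ 0 := δ.ne_zero
          field_simp
          linear_combination hz
        apply sl2_isConj_of_Qf (x := z⁻¹ * x) (y := z⁻¹ * y) (x' := 1) (y' := 0)
        · rw [coe_compSL, trace_compMat, hb]
        · rw [hval]; exact inv_ne_zero δ.ne_zero
        · rw [hval, coe_compSL, Qf_compMat]; simp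
    · obtain ⟨a, ha⟩ := not_nonScalar_iff.mp hg
      have hd := g.2
      rw [ha] at hd
      simp only [Matrix.det_smul, Fintype.card_fin, Matrix.det_one, mul_one] at hd
      have : (a - 1) * (a + 1) = 0 := by linear_combination hd
      rcases mul_eq_zero.mp this with h | h
      · refine ⟨Sum.inr (true, false), ?_⟩
        have : g = scalSL true := by
          apply Subtype.ext
          rw [ha, sub_eq_zero.mp h]; simp [scalSL, sgn]
        rw [this]; rfl
      · refine ⟨Sum.inr (false, false), ?_⟩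
        have : g = scalSL false := by
          apply Subtype.ext
          rw [ha, eq_neg_of_add_eq_zero_left h]; simp [scalSL, sgn]
        rw [this]; rfl

/-- Over a finite field with q elements, q odd, the special linear group SL₂ has exactly q + 4 conjugacy classes. -/
theorem result {F : Type*} [Field F] [Fintype F] (hodd : Odd (Fintype.card F)) :
    Nat.card (ConjClasses (Matrix.SpecialLinearGroup (Fin 2) F)) = Fintype.card F + 4 := by
  obtain ⟨d, hd⟩ := FiniteField.exists_nonsquare (Cfsg.Agent.Lib.Helper44.ringChar_ne_two_of_odd hodd)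
  have hd0 : d ≠ 0 := by rintro rfl; exact hd IsSquare.zero
  rw [← Nat.card_congr (Equiv.ofBijective _ (rep_bijective hodd (Units.mk0 d hd0) hd))]
  rw [Nat.card_eq_fintype_card, Fintype.card_sum, Fintype.card_prod, Fintype.card_bool]

end Cfsg.Agent.S2325
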