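import Cfsg.Statements.S2644
-- import your own Cfsg.Agent.* helpers here
import Cfsg.Agent.Lib.Helper17.UnitTransv

set_option autoImplicit false
open Cfsg

namespace Cfsg.Agent.S2644

open Cfsg.Agent.Lib.Helper17 Matrix

/-- In the special unitary group SU_n(q) with n ≥ 3 (isometries of Σ u_i v_i^q of determinant one over the field with q² elements), any two transvections (elements t with t − 1 of rank one and square zero) are conjugate. -/
theorem result {K : Type*} [Field K] [Fintype K] {q n : ℕ} (hK : Fintype.card K = q ^ 2) (hn : 3 ≤ n) (s t : ↥(Cfsg.SU n K q)) (hs : Cfsg.IsTransvection (((s : GL (Fin n) K) : Matrix (Fin n) (Fin n) K))) (ht : Cfsg.IsTransvection (((t : GL (Fin n) K) : Matrix (Fin n) (Fin n) K))) : IsConj s t := by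
  classical
  have hq2 := two_le_of_card_sq hK
  obtain ⟨u, c, hu, hc, hu0, hc1, hs'⟩ := su_rank_one_form hK s hs.1
  obtain ⟨u', c', hu', hc', hu0', hc1', ht'⟩ := su_rank_one_form hK t ht.1
  have hcq : c ^ q = -c := by
    have : c ^ q = c ^ (q - 1) * c := by rw [← pow_succ, Nat.sub_add_cancel (by omega)]
    rw [this, hc1]
    ring
  have hcq' : c' ^ q = -c' := by
    have : c' ^ q = c' ^ (q - 1) * c' := by rw [← pow_succ, Nat.sub_add_cancel (by omega)]
    rw [this, hc1']
    ring
  obtain ⟨μ, hμ⟩ := exists_norm_eq hK (c' / c) (div_ne_zero hc' hc) (by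
    rw [div_pow, hcq, hcq', neg_div_neg_eq])
  have hμ0 : μ ≠ 0 := by
    intro h0
    rw [h0, zero_pow (by omega)] at hμ
    exact div_ne_zero hc' hc hμ.symm
  obtain ⟨g, hg⟩ := su_trans_isotropic hK n hn u (μ • u') hu (smul_ne_zero hμ0 hu') hu0 (by
    rw [hermForm_smul_left, hermForm_smul_right, hu0']
    ring)
  rw [isConj_iff]
  refine ⟨g, ?_⟩
  rw [mul_inv_eq_iff_eq_mul]
  apply Subtype.ext
  apply Subtype.ext
  change ((g : Matrix.SpecialLinearGroup (Fin n) K) : Matrix (Fin n) (Fin n) K) *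
    ((s : Matrix.SpecialLinearGroup (Fin n) K) : Matrix (Fin n) (Fin n) K) =
    ((t : Matrix.SpecialLinearGroup (Fin n) K) : Matrix (Fin n) (Fin n) K) *
    ((g : Matrix.SpecialLinearGroup (Fin n) K) : Matrix (Fin n) (Fin n) K)
  rw [hs', ht', su_mul_transvection, hg, unitaryTransvection_smul, hμ, mul_div_cancel₀ _ hc]

end Cfsg.Agent.S2644
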