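import Cfsg.Statements.S3494
import Mathlib

set_option autoImplicit false
open Cfsg

namespace Cfsg.Agent.S3494

open MulAction Subgroup
open scoped Pointwise

section basics

variable {G : Type*} [Group G] {Ω : Type*} [MulAction G Ω]

/-- pointwise kernel of `G_α` on the `G_α`-orbit of `ω` -/
def pker (G : Type*) [Group G] {Ω : Type*} [MulAction G Ω] (α ω : Ω) : Subgroup G where
  carrier := {g | g • α = α ∧ ∀ h : G, h • α = α → g • h • ω = h • ω}
  mul_mem' := by
    rintro a b ⟨ha, ha'⟩ ⟨hb, hb'⟩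
    exact ⟨by rw [mul_smul, hb, ha], fun h hh => by rw [mul_smul, hb' h hh, ha' h hh]⟩
  one_mem' := ⟨one_smul _ _, fun h _ => one_smul _ _⟩
  inv_mem' := by
    rintro a ⟨ha, ha'⟩
    exact ⟨by rw [inv_smul_eq_iff, ha], fun h hh => by rw [inv_smul_eq_iff, ha' h hh]⟩

theorem mem_pker {α ω : Ω} {g : G} :
    g ∈ pker G α ω ↔ g • α = α ∧ ∀ h : G, h • α = α → g • h • ω = h • ω := Iff.rfl

theorem pker_le (α ω : Ω) : pker G α ω ≤ stabilizer G α := fun _ hg => hg.1

theorem pker_conj {α ω : Ω} {g : G} (c : G) (hg : g ∈ pker G α ω) :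
    c * g * c⁻¹ ∈ pker G (c • α) (c • ω) := by
  refine ⟨by simp [mul_smul, hg.1], fun h hh => ?_⟩
  have h1 : (c⁻¹ * h * c) • α = α := by
    rw [mul_smul, mul_smul, hh, inv_smul_smul]
  have h2 := hg.2 _ h1
  have h3 : h • c • ω = c • (c⁻¹ * h * c) • ω := by simp [mul_smul]
  rw [h3, mul_smul, mul_smul, inv_smul_smul, h2]

theorem pker_normal (α ω : Ω) : stabilizer G α ≤ normalizer (pker G α ω : Set G) := by
  have key : ∀ s : G, s • α = α → ∀ g ∈ pker G α ω, s * g * s⁻¹ ∈ pker G α ω := by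
    intro s hs g hg
    refine ⟨by
      have : s⁻¹ • α = α := by rw [inv_smul_eq_iff, hs]
      rw [mul_smul, mul_smul, this, hg.1, hs], fun h hh => ?_⟩
    have h1 : (s⁻¹ * h) • α = α := by
      rw [mul_smul, hh, inv_smul_eq_iff, hs]
    have h2 := hg.2 _ h1
    rw [mul_smul, mul_smul, ← mul_smul s⁻¹ h, h2, mul_smul, smul_inv_smul]
  intro s hs
  rw [mem_normalizer_iff]
  intro g
  refine ⟨key s hs g, fun h => ?_⟩
  have hs' : s⁻¹ • α = α := by rw [inv_smul_eq_iff]; exact hs.symm
  have := key s⁻¹ hs' _ h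
  simpa [mul_assoc] using this

/-- a subgroup normalised by `G_α` that fixes `ω` lies in the kernel -/
theorem le_pker {α ω : Ω} {N : Subgroup G} (hN : N ≤ stabilizer G α)
    (hNn : stabilizer G α ≤ normalizer (N : Set G)) (hfix : N ≤ stabilizer G ω) :
    N ≤ pker G α ω := by
  intro n hn
  refine ⟨hN hn, fun h hh => ?_⟩
  have h1 : h⁻¹ ∈ stabilizer G α := inv_mem (show h ∈ stabilizer G α from hh)
  have h2 : h⁻¹ * n * h⁻¹⁻¹ ∈ N := (mem_normalizer_iff.mp (hNn h1) n).mp hn
  have h3 := hfix h2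
  rw [mem_stabilizer_iff, inv_inv, mul_smul, mul_smul, inv_smul_eq_iff] at h3
  exact h3

theorem dichotomy
    (hep : ∀ (α : Ω) (ω : Ω), IsPreprimitive (stabilizer G α) (orbit (stabilizer G α) ω))
    (α ω : Ω) (N : Subgroup G) (hN : N ≤ stabilizer G α)
    (hNn : stabilizer G α ≤ normalizer (N : Set G)) :
    N ≤ stabilizer G ω ∨ ∀ s ∈ stabilizer G α, ∃ n ∈ N, n • ω = s • ω := by
  by_cases h : N ≤ stabilizer G ω
  · exact Or.inl h
  · right
    have := hep α ω
    have hnorm : (N.subgroupOf (stabilizer G α)).Normal :=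
      normal_subgroupOf_of_le_normalizer hNn
    have hne : fixedPoints (N.subgroupOf (stabilizer G α)) (orbit (stabilizer G α) ω) ≠ Set.univ := by
      intro hu
      apply h
      intro n hn
      have h1 : (⟨ω, mem_orbit_self ω⟩ : orbit (stabilizer G α) ω) ∈
          fixedPoints (N.subgroupOf (stabilizer G α)) (orbit (stabilizer G α) ω) := hu ▸ Set.mem_univ _
      have h2 := h1 ⟨⟨n, hN hn⟩, hn⟩
      exact congrArg Subtype.val h2
    have htr := IsQuasiPreprimitive.isPretransitive_of_normal (G := stabilizer G α)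
      (X := orbit (stabilizer G α) ω) hne
    intro s hs
    obtain ⟨n, hn⟩ := htr.exists_smul_eq ⟨ω, mem_orbit_self ω⟩
      ⟨s • ω, ⟨⟨s, hs⟩, rfl⟩⟩
    exact ⟨n.1.1, n.2, congrArg Subtype.val hn⟩

theorem normalizer_of_conj {N : Subgroup G} {S : Subgroup G}
    (h : ∀ s ∈ S, ∀ n ∈ N, s * n * s⁻¹ ∈ N) : S ≤ normalizer (N : Set G) := by
  intro s hs
  rw [mem_normalizer_iff]
  intro n
  refine ⟨h s hs n, fun hn => ?_⟩
  have := h s⁻¹ (inv_mem hs) _ hn
  simpa [mul_assoc] using this

theorem normal_le_stabilizer_eq_bot [FaithfulSMul G Ω] [IsPretransitive G Ω] {N : Subgroup G} {α : Ω}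
    (hN : N ≤ stabilizer G α) (hn : normalizer (N : Set G) = ⊤) : N = ⊥ := by
  rw [eq_bot_iff_forall]
  intro n hn'
  apply FaithfulSMul.eq_of_smul_eq_smul (α := Ω)
  intro x
  obtain ⟨g, rfl⟩ := exists_smul_eq G α x
  have h1 : g⁻¹ ∈ normalizer (N : Set G) := hn ▸ mem_top _
  have h2 := hN ((mem_normalizer_iff.mp h1 n).mp hn')
  rw [mem_stabilizer_iff, inv_inv, mul_smul, mul_smul, inv_smul_eq_iff] at h2
  rw [h2, one_smul]

theorem sup_stabilizer_eq_top [FaithfulSMul G Ω] (hprim : IsPreprimitive G Ω)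
    (hH : ∀ α : Ω, stabilizer G α ≠ ⊥) {α β : Ω} (hne : α ≠ β) :
    stabilizer G α ⊔ stabilizer G β = ⊤ := by
  have : Nontrivial Ω := ⟨α, β, hne⟩
  have hcα : IsCoatom (stabilizer G α) := IsPreprimitive.isCoatom_stabilizer_of_isPreprimitive G α
  have hcβ : IsCoatom (stabilizer G β) := IsPreprimitive.isCoatom_stabilizer_of_isPreprimitive G β
  rcases hcα.le_iff.mp (le_sup_left : stabilizer G α ≤ stabilizer G α ⊔ stabilizer G β) with h | h
  · exact h
  · exfalso
    have h1 : stabilizer G β ≤ stabilizer G α := h ▸ le_sup_right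
    rcases hcβ.le_iff.mp h1 with h2 | h2
    · exact hcα.1 h2
    · obtain ⟨g, hg⟩ := exists_smul_eq G α β
      have hgn : g ∈ normalizer (stabilizer G α : Set G) := by
        rw [mem_normalizer_iff]
        intro x
        conv_rhs => rw [h2]
        rw [mem_stabilizer_iff, mem_stabilizer_iff, ← hg]
        simp [mul_smul]
      have hgs : g ∉ stabilizer G α := by
        intro hgs
        rw [mem_stabilizer_iff, hg] at hgs
        exact hne hgs.symm
      rcases hcα.le_iff.mp (le_normalizer : stabilizer G α ≤ normalizer (stabilizer G α : Set G)) with h3 | h3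
      · exact hH α (normal_le_stabilizer_eq_bot le_rfl h3)
      · exact hgs (h3 ▸ hgn)

theorem eq_bot_of_normalized [FaithfulSMul G Ω] (hprim : IsPreprimitive G Ω)
    (hH : ∀ α : Ω, stabilizer G α ≠ ⊥) {α β : Ω} (hne : α ≠ β) {N : Subgroup G}
    (hN : N ≤ stabilizer G α) (h1 : stabilizer G α ≤ normalizer (N : Set G))
    (h2 : stabilizer G β ≤ normalizer (N : Set G)) : N = ⊥ :=
  normal_le_stabilizer_eq_bot hN (top_le_iff.mp (sup_stabilizer_eq_top hprim hH hne ▸ sup_le h1 h2))

/-- the family of conjugates of `K₀ ⊴ G_a`, indexed by points -/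
def fam (a : Ω) (K₀ : Subgroup G) (x : Ω) : Subgroup G where
  carrier := {k | ∀ g : G, g • a = x → g⁻¹ * k * g ∈ K₀}
  mul_mem' := by
    intro k l hk hl g hg
    have := K₀.mul_mem (hk g hg) (hl g hg)
    simpa [mul_assoc] using this
  one_mem' := by
    intro g _
    simp
  inv_mem' := by
    intro k hk g hg
    have := K₀.inv_mem (hk g hg)
    simpa [mul_assoc] using this

theorem mem_fam_iff {a : Ω} {K₀ : Subgroup G} (hn : stabilizer G a ≤ normalizer (K₀ : Set G))
    {x : Ω} {g : G} (hg : g • a = x) {k : G} : k ∈ fam a K₀ x ↔ g⁻¹ * k * g ∈ K₀ := by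
  refine ⟨fun h => h g hg, fun h g' hg' => ?_⟩
  have hs : g'⁻¹ * g ∈ stabilizer G a := by
    rw [mem_stabilizer_iff, mul_smul, hg, ← hg', inv_smul_smul]
  have := (mem_normalizer_iff.mp (hn hs) _).mp h
  simpa [mul_assoc] using this

theorem fam_conj {a : Ω} {K₀ : Subgroup G} (c : G) {k : G} {x : Ω} (hk : k ∈ fam a K₀ x) :
    c * k * c⁻¹ ∈ fam a K₀ (c • x) := by
  intro g hg
  have h1 : (c⁻¹ * g) • a = x := by rw [mul_smul, hg, inv_smul_smul]
  have := hk _ h1
  simpa [mul_assoc] using this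

theorem fam_le [IsPretransitive G Ω] {a : Ω} {K₀ : Subgroup G} (h₀ : K₀ ≤ stabilizer G a) (x : Ω) :
    fam a K₀ x ≤ stabilizer G x := by
  intro k hk
  obtain ⟨g, rfl⟩ := exists_smul_eq G a x
  have := h₀ (hk g rfl)
  rw [mem_stabilizer_iff, mul_smul, mul_smul, inv_smul_eq_iff] at this
  exact this

theorem fam_normal {a : Ω} {K₀ : Subgroup G} (x : Ω) :
    stabilizer G x ≤ normalizer (fam a K₀ x : Set G) := by
  apply normalizer_of_conj
  intro s hs n hn
  have := fam_conj s hn
  rwa [mem_stabilizer_iff.mp hs] at this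

theorem card_fam [IsPretransitive G Ω] {a : Ω} {K₀ : Subgroup G}
    (hn : stabilizer G a ≤ normalizer (K₀ : Set G)) (x : Ω) :
    Nat.card (fam a K₀ x) = Nat.card K₀ := by
  obtain ⟨g, hg⟩ := exists_smul_eq G a x
  have : fam a K₀ x = K₀.map (MulAut.conj g).toMonoidHom := by
    ext k
    rw [mem_fam_iff hn hg, mem_map]
    constructor
    · intro h
      exact ⟨_, h, by simp [mul_assoc]⟩
    · rintro ⟨y, hy, rfl⟩
      simpa [mul_assoc] using hy
  rw [this, card_map_of_injective (MulAut.conj g).injective]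

theorem fam_pker {a w : Ω} (g : G) : fam a (pker G a w) (g • a) = pker G (g • a) (g • w) := by
  ext k
  rw [mem_fam_iff (pker_normal a w) rfl]
  constructor
  · intro h
    have := pker_conj g h
    simpa [mul_assoc] using this
  · intro h
    have := pker_conj g⁻¹ h
    simpa [mul_assoc] using this

end basics

section main

variable {G : Type*} [Group G] [Finite G] {Ω : Type*} [MulAction G Ω] [FaithfulSMul G Ω]

theorem le_stabilizer_set {S : Subgroup G} {O : Set Ω} (h : ∀ s ∈ S, ∀ x ∈ O, s • x ∈ O) :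
    S ≤ stabilizer G O := by
  intro s hs
  rw [mem_stabilizer_set]
  intro b
  refine ⟨fun hb => ?_, h s hs b⟩
  have := h s⁻¹ (inv_mem hs) _ hb
  rwa [inv_smul_smul] at this

theorem fam_ne_bot [IsPretransitive G Ω] {a : Ω} {K₀ : Subgroup G}
    (hn : stabilizer G a ≤ normalizer (K₀ : Set G)) (hne : K₀ ≠ ⊥) (x : Ω) : fam a K₀ x ≠ ⊥ := by
  intro h
  apply hne
  have h1 := card_fam hn x
  rw [h, card_bot] at h1
  exact card_eq_one.mp h1.symm

theorem fam_rel_conj {a : Ω} {K₀ : Subgroup G} {x y : Ω} (c : G)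
    (h : fam a K₀ x ≤ stabilizer G y) : fam a K₀ (c • x) ≤ stabilizer G (c • y) := by
  intro k hk
  have h1 := fam_conj c⁻¹ hk
  rw [inv_smul_smul] at h1
  have h2 := h h1
  rw [mem_stabilizer_iff, inv_inv, mul_smul, mul_smul, inv_smul_eq_iff] at h2
  exact h2

theorem sym_aux (hprim : IsPreprimitive G Ω) (hH : ∀ α : Ω, stabilizer G α ≠ ⊥)
    (hep : ∀ (α : Ω) (ω : Ω), IsPreprimitive (stabilizer G α) (orbit (stabilizer G α) ω))
    {a w : Ω} (hmax : ∀ α ω : Ω, α ≠ ω → Nat.card (pker G α ω) ≤ Nat.card (pker G a w))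
    (hne : pker G a w ≠ ⊥) {α β : Ω} (hαβ : α ≠ β)
    (h : fam a (pker G a w) α ≤ stabilizer G β) : fam a (pker G a w) β ≤ stabilizer G α := by
  set K := fam a (pker G a w) with hK
  have hKle : ∀ x, K x ≤ stabilizer G x := fam_le (pker_le a w)
  have hKn : ∀ x, stabilizer G x ≤ normalizer (K x : Set G) := fam_normal
  have hKc : ∀ x, Nat.card (K x) = Nat.card (pker G a w) := card_fam (pker_normal a w)
  have hKne : ∀ x, K x ≠ ⊥ := fam_ne_bot (pker_normal a w) hne
  by_contra hcon
  have e1 : K α = pker G α β :=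
    eq_of_le_of_card_ge (le_pker (hKle α) (hKn α) h) (by rw [hKc]; exact hmax α β hαβ)
  obtain ⟨g, hg⟩ := exists_smul_eq G α β
  have e2 : K β = pker G β (g • β) := by
    subst hg
    ext k
    constructor
    · intro hk
      have h1 : g⁻¹ * k * g⁻¹⁻¹ ∈ K (g⁻¹ • g • α) := fam_conj g⁻¹ hk
      rw [inv_smul_smul, e1] at h1
      have h2 := pker_conj g h1
      simpa [mul_assoc] using h2
    · intro hk
      have h1 := pker_conj g⁻¹ hk
      rw [inv_smul_smul, inv_smul_smul, ← e1] at h1
      have h2 := fam_conj g h1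
      simpa [mul_assoc] using h2
  set β' := g • β with hβ'
  have hββ' : β ≠ β' := by
    intro e
    apply hαβ
    exact smul_left_cancel g (hg.trans e)
  have tr1 : ∀ s ∈ stabilizer G β, ∃ n ∈ K β, n • α = s • α :=
    (dichotomy hep β α (K β) (hKle β) (hKn β)).resolve_left hcon
  set N := K α ⊔ K β with hN
  have hNle : N ≤ stabilizer G β := sup_le h (hKle β)
  have hNn : stabilizer G β ≤ normalizer (N : Set G) := by
    intro s hs
    obtain ⟨n, hn, hns⟩ := tr1 s hs
    have hd1 : n⁻¹ * s ∈ stabilizer G α := by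
      rw [mem_stabilizer_iff, mul_smul, ← hns, inv_smul_smul]
    have hd2 : n⁻¹ * s ∈ stabilizer G β := mul_mem (inv_mem (hKle β hn)) hs
    have hdN : n⁻¹ * s ∈ normalizer (N : Set G) :=
      normalizer_inf_normalizer_le_normalizer_sup _ _ ⟨hKn α hd1, hKn β hd2⟩
    have hnN : n ∈ normalizer (N : Set G) := le_normalizer ((le_sup_right : K β ≤ N) hn)
    have := mul_mem hnN hdN
    simpa using this
  rcases dichotomy hep β β' N hNle hNn with hfix | htr
  · have h1 : N ≤ pker G β β' := le_pker hNle hNn hfix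
    have h2 : K α ≤ K β := e2 ▸ (le_sup_left.trans h1)
    have h3 : K α = K β := eq_of_le_of_card_ge h2 (by rw [hKc, hKc])
    exact hKne α (eq_bot_of_normalized hprim hH hαβ (hKle α) (hKn α) (h3 ▸ hKn β))
  · have htr' : ∀ s ∈ stabilizer G β, ∃ k ∈ K α, k • β' = s • β' := by
      intro s hs
      obtain ⟨n, hn, hns⟩ := htr s hs
      have hn' : n ∈ ((K α ⊔ K β : Subgroup G) : Set G) := hn
      rw [coe_mul_of_left_le_normalizer_right (K α) (K β) (h.trans (hKn β))] at hn'
      obtain ⟨k, hk, l, hl, rfl⟩ := hn'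
      refine ⟨k, hk, ?_⟩
      have hl' : l • β' = β' := by
        have h1 : l ∈ pker G β β' := e2 ▸ hl
        have := h1.2 1 (one_smul _ _)
        simpa using this
      rw [← hns, mul_smul, hl']
    rcases dichotomy hep α β' (K α) (hKle α) (hKn α) with hfix2 | htr2
    · have h4 : stabilizer G β ≤ stabilizer G β' := by
        intro s hs
        obtain ⟨k, hk, hks⟩ := htr' s hs
        rw [mem_stabilizer_iff, ← hks]
        exact hfix2 hk
      have h5 := sup_stabilizer_eq_top hprim hH hββ'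
      rw [sup_eq_right.mpr h4] at h5
      obtain ⟨c, hc⟩ := exists_smul_eq G β' β
      have h6 : c ∈ stabilizer G β' := h5 ▸ mem_top c
      exact hββ' (hc.symm.trans h6)
    · let O : Set Ω := {x | ∃ k ∈ K α, k • β' = x}
      have hOα : stabilizer G α ≤ stabilizer G O := by
        apply le_stabilizer_set
        rintro s hs _ ⟨k, hk, rfl⟩
        obtain ⟨k', hk', hks⟩ := htr2 (s * k) (mul_mem hs (hKle α hk))
        exact ⟨k', hk', by rw [hks, mul_smul]⟩
      have hOβ : stabilizer G β ≤ stabilizer G O := by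
        apply le_stabilizer_set
        rintro s hs _ ⟨k, hk, rfl⟩
        obtain ⟨k', hk', hks⟩ := htr' (s * k) (mul_mem hs (h hk))
        exact ⟨k', hk', by rw [hks, mul_smul]⟩
      have hO : stabilizer G O = ⊤ :=
        top_le_iff.mp (sup_stabilizer_eq_top hprim hH hαβ ▸ sup_le hOα hOβ)
      obtain ⟨c, hc⟩ := exists_smul_eq G β' β
      have hcO : c ∈ stabilizer G O := hO ▸ mem_top c
      have hβO : β ∈ O := by
        rw [← hc]
        exact (mem_stabilizer_set.mp hcO β').mpr ⟨1, one_mem _, one_smul _ _⟩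
      obtain ⟨k, hk, hkβ⟩ := hβO
      have h7 : k • β = β := h hk
      apply hββ'
      rw [← hkβ] at h7
      exact (hkβ.symm.trans (smul_left_cancel k h7))

theorem trans_aux (hprim : IsPreprimitive G Ω) (hH : ∀ α : Ω, stabilizer G α ≠ ⊥)
    (hep : ∀ (α : Ω) (ω : Ω), IsPreprimitive (stabilizer G α) (orbit (stabilizer G α) ω))
    {a w : Ω} (hmax : ∀ α ω : Ω, α ≠ ω → Nat.card (pker G α ω) ≤ Nat.card (pker G a w))
    (hne : pker G a w ≠ ⊥) {α β γ : Ω}
    (h1 : fam a (pker G a w) α ≤ stabilizer G β) (h2 : fam a (pker G a w) β ≤ stabilizer G γ) :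
    fam a (pker G a w) α ≤ stabilizer G γ := by
  have h3' := fun (hαβ : α ≠ β) => sym_aux hprim hH hep hmax hne hαβ h1
  set K := fam a (pker G a w) with hK
  have hKle : ∀ x, K x ≤ stabilizer G x := fam_le (pker_le a w)
  have hKn : ∀ x, stabilizer G x ≤ normalizer (K x : Set G) := fam_normal
  have hKc : ∀ x, Nat.card (K x) = Nat.card (pker G a w) := card_fam (pker_normal a w)
  have hKne : ∀ x, K x ≠ ⊥ := fam_ne_bot (pker_normal a w) hne
  by_contra hcon
  have hαβ : α ≠ β := by
    rintro rfl; exact hcon h2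
  have hαγ : α ≠ γ := by
    rintro rfl; exact hcon (hKle α)
  have h3 : K β ≤ stabilizer G α := h3' hαβ
  have tr := (dichotomy hep α γ (K α) (hKle α) (hKn α)).resolve_left hcon
  have h4 : K β ≤ pker G α γ := by
    intro l hl
    refine ⟨h3 hl, fun s hs => ?_⟩
    obtain ⟨k, hk, hks⟩ := tr s hs
    rw [← hks]
    exact (le_pker (hKle β) (hKn β) h2 hl).2 k (h1 hk)
  have h5 : K β = pker G α γ := eq_of_le_of_card_ge h4 (by rw [hKc]; exact hmax α γ hαγ)
  exact hKne β (eq_bot_of_normalized hprim hH hαβ.symm (hKle β) (hKn β) (h5 ▸ pker_normal α γ))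

theorem pker_eq_bot [Finite Ω] (hprim : IsPreprimitive G Ω) (hH : ∀ α : Ω, stabilizer G α ≠ ⊥)
    (hep : ∀ (α : Ω) (ω : Ω), IsPreprimitive (stabilizer G α) (orbit (stabilizer G α) ω))
    {α ω : Ω} (hαω : α ≠ ω) : pker G α ω = ⊥ := by
  have : Nonempty {p : Ω × Ω // p.1 ≠ p.2} := ⟨⟨(α, ω), hαω⟩⟩
  obtain ⟨⟨⟨a, w⟩, haw⟩, hmax'⟩ :=
    Finite.exists_max (fun p : {p : Ω × Ω // p.1 ≠ p.2} => Nat.card (pker G p.1.1 p.1.2))
  have haw : a ≠ w := haw
  have hmax : ∀ α ω : Ω, α ≠ ω → Nat.card (pker G α ω) ≤ Nat.card (pker G a w) :=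
    fun α ω h => hmax' ⟨(α, ω), h⟩
  by_cases hne : pker G a w = ⊥
  · have h1 := hmax α ω hαω
    rw [hne, card_bot] at h1
    exact eq_bot_of_card_le _ h1
  · exfalso
    have hsym : ∀ {x y : Ω}, fam a (pker G a w) x ≤ stabilizer G y →
        fam a (pker G a w) y ≤ stabilizer G x := by
      intro x y h
      by_cases hxy : x = y
      · subst hxy; exact h
      · exact sym_aux hprim hH hep hmax hne hxy h
    have htrans : ∀ {x y z : Ω}, fam a (pker G a w) x ≤ stabilizer G y →
        fam a (pker G a w) y ≤ stabilizer G z → fam a (pker G a w) x ≤ stabilizer G z :=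
      fun h1 h2 => trans_aux hprim hH hep hmax hne h1 h2
    set K := fam a (pker G a w) with hK
    have hKle : ∀ x, K x ≤ stabilizer G x := fam_le (pker_le a w)
    have hKne : ∀ x, K x ≠ ⊥ := fam_ne_bot (pker_normal a w) hne
    let L : Subgroup G :=
      { carrier := {g | K a ≤ stabilizer G (g • a)}
        one_mem' := by
          show K a ≤ stabilizer G ((1 : G) • a)
          rw [one_smul]; exact hKle a
        mul_mem' := by
          intro g h hg hh
          show K a ≤ stabilizer G ((g * h) • a)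
          rw [mul_smul]
          exact htrans hg (fam_rel_conj g hh)
        inv_mem' := by
          intro g hg
          show K a ≤ stabilizer G (g⁻¹ • a)
          have := fam_rel_conj g⁻¹ hg
          rw [inv_smul_smul] at this
          exact hsym this }
    have hLge : stabilizer G a ≤ L := by
      intro s hs
      show K a ≤ stabilizer G (s • a)
      rw [mem_stabilizer_iff.mp hs]; exact hKle a
    have : Nontrivial Ω := ⟨a, w, haw⟩
    have hco : IsCoatom (stabilizer G a) := IsPreprimitive.isCoatom_stabilizer_of_isPreprimitive G a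
    obtain ⟨g₀, hg₀⟩ := exists_smul_eq G a w
    have hKa : K a = pker G a w := by
      have := fam_pker (a := a) (w := w) (1 : G)
      simpa using this
    have hg₀L : g₀ ∈ L := by
      show K a ≤ stabilizer G (g₀ • a)
      rw [hg₀, hKa]
      intro k hk
      have := hk.2 1 (one_smul _ _)
      simpa using this
    have hLtop : L = ⊤ := by
      rcases hco.le_iff.mp hLge with h | h
      · exact h
      · exfalso
        have : g₀ ∈ stabilizer G a := h ▸ hg₀L
        rw [mem_stabilizer_iff, hg₀] at this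
        exact haw this.symm
    apply hKne a
    rw [eq_bot_iff_forall]
    intro k hk
    apply FaithfulSMul.eq_of_smul_eq_smul (α := Ω)
    intro x
    obtain ⟨g, rfl⟩ := exists_smul_eq G a x
    have hgL : g ∈ L := hLtop ▸ mem_top g
    rw [one_smul]
    exact hgL hk

end main

/-- Manning's Theorem on extremely primitive groups. Let a finite group G act faithfully and primitively on a finite set Ω with non-trivial point stabilizers, and suppose every point stabilizer G_α acts primitively on each of its orbits. Then G_α acts faithfully on each of its orbits other than {α}: an element of G_α fixing every point of one such orbit is the identity. -/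
theorem result {G : Type*} [Group G] [Finite G] {Ω : Type*} [Fintype Ω] [MulAction G Ω] [FaithfulSMul G Ω] (hprim : MulAction.IsPreprimitive G Ω) (hH : ∀ α : Ω, MulAction.stabilizer G α ≠ ⊥) (hep : ∀ (α : Ω) (ω : Ω), MulAction.IsPreprimitive (MulAction.stabilizer G α) (MulAction.orbit (MulAction.stabilizer G α) ω))
    (α ω : Ω) (hω : ω ≠ α) (h : MulAction.stabilizer G α) (hfix : ∀ x ∈ MulAction.orbit (MulAction.stabilizer G α) ω, h • x = x) : h = 1 := by
  have h1 : (h : G) ∈ pker G α ω :=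
    ⟨h.2, fun s hs => hfix (s • ω) ⟨⟨s, hs⟩, rfl⟩⟩
  rw [pker_eq_bot hprim hH hep hω.symm, mem_bot] at h1
  exact Subtype.ext h1

end Cfsg.Agent.S3494
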