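import Cfsg.Statements.S3680
import Cfsg.Agent.Lib.Helper65.CharSimple

set_option autoImplicit false
open Cfsg

namespace Cfsg.Agent.S3680

open MulAction Cfsg.Agent.Lib.Helper65

section aux

variable {G Ω : Type*} [Group G] [MulAction G Ω]

/-- minimal normal subgroups -/
def MN (V : Subgroup G) : Prop :=
  V.Normal ∧ V ≠ ⊥ ∧ ∀ M : Subgroup G, M.Normal → M ≤ V → M = ⊥ ∨ M = V

theorem eq_one_of_commute [FaithfulSMul G Ω] (V : Subgroup G)
    (hV : ∀ x y : Ω, ∃ v ∈ V, v • x = y) (c : G) (hc : ∀ v ∈ V, v * c = c * v) (ω : Ω)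
    (hω : c • ω = ω) : c = 1 := by
  apply FaithfulSMul.eq_of_smul_eq_smul (α := Ω)
  intro x
  obtain ⟨v, hv, rfl⟩ := hV ω x
  rw [one_smul, ← mul_smul, ← hc v hv, mul_smul, hω]

theorem trans_of_normal [FaithfulSMul G Ω] (hprim : IsPreprimitive G Ω) (V : Subgroup G)
    (hVn : V.Normal) (hV : V ≠ ⊥) : ∀ x y : Ω, ∃ v ∈ V, v • x = y := by
  have hfix : fixedPoints V Ω ≠ Set.univ := by
    intro h
    apply hV
    rw [Subgroup.eq_bot_iff_forall]
    intro v hv
    apply FaithfulSMul.eq_of_smul_eq_smul (α := Ω)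
    intro x
    have : x ∈ fixedPoints V Ω := by rw [h]; trivial
    rw [one_smul]
    exact this ⟨v, hv⟩
  have := IsQuasiPreprimitive.isPretransitive_of_normal (G := G) (X := Ω) (N := V) hfix
  intro x y
  obtain ⟨v, hv⟩ := this.exists_smul_eq x y
  exact ⟨v, v.2, hv⟩

theorem eq_or_commute {V W : Subgroup G} (hV : MN V) (hW : MN W) :
    V = W ∨ ∀ x ∈ V, ∀ y ∈ W, x * y = y * x := by
  have hn : (V ⊓ W).Normal := Subgroup.normal_inf_normal V W (hH := hV.1) (hK := hW.1)
  rcases hV.2.2 (V ⊓ W) hn inf_le_left with h | h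
  · right
    intro x hx y hy
    exact Subgroup.commute_of_normal_of_disjoint V W hV.1 hW.1 (disjoint_iff.mpr h) x y hx hy
  · left
    have hle : V ≤ W := by rw [← h]; exact inf_le_right
    rcases hW.2.2 V hV.1 hle with h' | h'
    · exact absurd h' hV.2.1
    · exact h'

theorem exists_MN [Finite G] (h : ∃ g : G, g ≠ 1) : ∃ V : Subgroup G, MN V := by
  let 𝒮 : Set (Subgroup G) := {V | V.Normal ∧ V ≠ ⊥}
  have hne : 𝒮.Nonempty := by
    refine ⟨⊤, inferInstance, ?_⟩
    intro hb
    obtain ⟨g, hg⟩ := h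
    have : g ∈ (⊤ : Subgroup G) := trivial
    rw [hb, Subgroup.mem_bot] at this
    exact hg this
  obtain ⟨V, hV, hmin⟩ := (Set.toFinite 𝒮).exists_minimal hne
  refine ⟨V, hV.1, hV.2, fun M hM hMV => ?_⟩
  by_cases hb : M = ⊥
  · exact Or.inl hb
  · exact Or.inr (le_antisymm hMV (hmin ⟨hM, hb⟩ hMV))

theorem mem_of_commute [FaithfulSMul G Ω] (V W : Subgroup G)
    (hV : ∀ x y : Ω, ∃ v ∈ V, v • x = y) (hW : ∀ x y : Ω, ∃ v ∈ W, v • x = y)
    (hWV : ∀ v ∈ V, ∀ w ∈ W, v * w = w * v) (ω : Ω) (c : G) (hc : ∀ v ∈ V, v * c = c * v) :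
    c ∈ W := by
  obtain ⟨w, hw, hwω⟩ := hW ω (c • ω)
  have h1 : w⁻¹ * c = 1 := by
    apply eq_one_of_commute V hV _ _ ω
    · rw [mul_smul, ← hwω, inv_smul_smul]
    · intro v hv
      have e1 : v * w⁻¹ = w⁻¹ * v := by
        have := hWV v hv w hw
        calc v * w⁻¹ = w⁻¹ * (w * v) * w⁻¹ := by group
          _ = w⁻¹ * (v * w) * w⁻¹ := by rw [this]
          _ = w⁻¹ * v := by group
      rw [← mul_assoc, e1, mul_assoc, hc v hv, mul_assoc]
  rw [inv_mul_eq_one] at h1
  rw [← h1]; exact hw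

theorem exists_point [FaithfulSMul G Ω] (V : Subgroup G) (hV : V ≠ ⊥) : Nonempty Ω := by
  by_contra hemp
  rw [not_nonempty_iff] at hemp
  apply hV
  rw [Subgroup.eq_bot_iff_forall]
  intro v _
  apply FaithfulSMul.eq_of_smul_eq_smul (α := Ω)
  intro x
  exact hemp.elim x

theorem elem_abelian [Finite G] (V : Subgroup G) (hV : MN V)
    (hab : ∀ x ∈ V, ∀ y ∈ V, x * y = y * x) : ∃ p : ℕ, p.Prime ∧ ∀ x ∈ V, x ^ p = 1 := by
  have hcard : Nat.card V ≠ 1 := by
    intro h
    exact hV.2.1 (Subgroup.card_eq_one.mp h)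
  let p := (Nat.card V).minFac
  have hp : p.Prime := Nat.minFac_prime hcard
  have : Fact p.Prime := ⟨hp⟩
  refine ⟨p, hp, ?_⟩
  let K : Subgroup G :=
    { carrier := {x | x ∈ V ∧ x ^ p = 1}
      mul_mem' := by
        rintro a b ⟨ha, ha'⟩ ⟨hb, hb'⟩
        refine ⟨V.mul_mem ha hb, ?_⟩
        have : Commute a b := hab a ha b hb
        rw [this.mul_pow, ha', hb', one_mul]
      one_mem' := ⟨V.one_mem, one_pow _⟩
      inv_mem' := by
        rintro a ⟨ha, ha'⟩
        exact ⟨V.inv_mem ha, by rw [inv_pow, ha', inv_one]⟩ }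
  have hKn : K.Normal := by
    constructor
    rintro x ⟨hx, hx'⟩ g
    exact ⟨hV.1.conj_mem x hx g, by rw [conj_pow, hx', mul_one, mul_inv_cancel]⟩
  have hKV : K ≤ V := fun x hx => hx.1
  obtain ⟨x, hx⟩ := exists_prime_orderOf_dvd_card' (G := V) p (Nat.minFac_dvd _)
  have hKne : K ≠ ⊥ := by
    intro hb
    have hxK : (x : G) ∈ K := by
      refine ⟨x.2, ?_⟩
      have := pow_orderOf_eq_one x
      rw [hx] at this
      exact_mod_cast congrArg Subtype.val this
    rw [hb, Subgroup.mem_bot] at hxK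
    have : x = 1 := Subtype.ext hxK
    rw [this, orderOf_one] at hx
    exact hp.one_lt.ne hx
  rcases hV.2.2 K hKn hKV with h | h
  · exact absurd h hKne
  · intro y hy
    rw [← h] at hy
    exact hy.2

/-- `T^a × T^b ≃* T^(a+b)` -/
theorem prod_pow (T : Type*) [Group T] (a : ℕ) : ∀ b : ℕ,
    Nonempty ((Fin a → T) × (Fin b → T) ≃* (Fin (a + b) → T)) := by
  intro b
  induction b with
  | zero => exact ⟨MulEquiv.prodUnique⟩
  | succ b ih =>
    obtain ⟨e⟩ := ih
    exact ⟨(((MulEquiv.refl (Fin a → T)).prodCongr (finSuccEquiv T b).symm).trans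
      (MulEquiv.prodAssoc).symm).trans ((e.prodCongr (MulEquiv.refl T)).trans
        (finSuccEquiv T (a + b)))⟩

/-- two commuting regular subgroups are isomorphic -/
theorem regular_iso (V W : Subgroup G) (ω : Ω)
    (hV : ∀ x y : Ω, ∃ v ∈ V, v • x = y) (hW : ∀ x y : Ω, ∃ v ∈ W, v • x = y)
    (hVr : ∀ v ∈ V, v • ω = ω → v = 1) (hWr : ∀ v ∈ W, v • ω = ω → v = 1)
    (hWV : ∀ v ∈ V, ∀ w ∈ W, v * w = w * v) : Nonempty (W ≃* V) := by
  have hbij : ∀ (X : Subgroup G), (∀ x y : Ω, ∃ v ∈ X, v • x = y) → (∀ v ∈ X, v • ω = ω → v = 1) →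
      Function.Bijective (fun v : X => (v : G) • ω) := by
    intro X hX hXr
    constructor
    · intro a b hab
      have hab' : (a : G) • ω = (b : G) • ω := hab
      have : (a : G)⁻¹ * b = 1 := by
        apply hXr _ (X.mul_mem (X.inv_mem a.2) b.2)
        rw [mul_smul, ← hab', inv_smul_smul]
      exact Subtype.ext (inv_mul_eq_one.mp this)
    · intro x
      obtain ⟨v, hv, hvx⟩ := hX ω x
      exact ⟨⟨v, hv⟩, hvx⟩
  let eV : V ≃ Ω := Equiv.ofBijective _ (hbij V hV hVr)
  let eW : W ≃ Ω := Equiv.ofBijective _ (hbij W hW hWr)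
  have heV : ∀ v : V, eV v = (v : G) • ω := fun _ => rfl
  have heW : ∀ w : W, eW w = (w : G) • ω := fun _ => rfl
  have hψ : ∀ w : W, ((eV.symm (eW w) : V) : G) • ω = (w : G) • ω := by
    intro w
    rw [← heV, Equiv.apply_symm_apply, heW]
  have hanti : ∀ w w' : W, eV.symm (eW (w * w')) = eV.symm (eW w') * eV.symm (eW w) := by
    intro w w'
    apply eV.injective
    rw [Equiv.apply_symm_apply, heW, heV]
    push_cast
    rw [mul_smul, mul_smul, hψ, ← hψ w', ← mul_smul, ← mul_smul,
      ← hWV _ (eV.symm (eW w')).2 _ w.2]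
  refine ⟨MulEquiv.mk' ((eW.trans eV.symm).trans (Equiv.inv V)) ?_⟩
  intro w w'
  simp only [Equiv.trans_apply, Equiv.inv_apply]
  rw [hanti, mul_inv_rev]

end aux

/-- The socle of a finite primitive permutation group. Let a finite group G act faithfully and primitively on a set Ω, and let N be the subgroup generated by the minimal normal subgroups of G. Then either N is an elementary abelian p-group for some prime p and acts regularly on Ω (transitively with trivial point stabilizers), or N is isomorphic to a direct product of m ≥ 1 copies of a non-abelian simple group. -/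
theorem result {G Ω : Type*} [Group G] [Finite G] [MulAction G Ω] [FaithfulSMul G Ω] [Finite Ω]
    (hprim : MulAction.IsPreprimitive G Ω) (N : Subgroup G)
    (hN : N = sSup {V : Subgroup G | V.Normal ∧ V ≠ ⊥ ∧ ∀ M : Subgroup G, M.Normal → M ≤ V → M = ⊥ ∨ M = V}) :
    (∃ p : ℕ, p.Prime ∧ IsMulCommutative N ∧ (∀ x : N, x ^ p = 1) ∧
      MulAction.IsPretransitive N Ω ∧ ∀ ω : Ω, MulAction.stabilizer N ω = ⊥) ∨
    (∃ (T : Type) (_ : Group T) (m : ℕ), 1 ≤ m ∧ IsSimpleGroup T ∧ ¬ IsMulCommutative T ∧ Nonempty (N ≃* (Fin m → T))) := by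
  classical
  have hNdef : N = sSup {V : Subgroup G | MN V} := hN
  by_cases hex : ∃ g : G, g ≠ 1
  swap
  · -- trivial group
    push Not at hex
    have hsub : Subsingleton G := ⟨fun a b => by rw [hex a, hex b]⟩
    left
    refine ⟨2, Nat.prime_two, ⟨⟨fun a b => Subsingleton.elim _ _⟩⟩, fun x => Subsingleton.elim _ _,
      ⟨fun x y => ?_⟩, fun ω => Subsingleton.elim _ _⟩
    obtain ⟨g, hg⟩ := hprim.exists_smul_eq x y
    refine ⟨1, ?_⟩
    rw [hex g, one_smul] at hg
    rw [one_smul, hg]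
  obtain ⟨V, hV⟩ := exists_MN hex
  have htV := trans_of_normal hprim V hV.1 hV.2.1
  obtain ⟨ω₀⟩ := exists_point (Ω := Ω) V hV.2.1
  by_cases hab : ∀ x ∈ V, ∀ y ∈ V, x * y = y * x
  · -- abelian case
    left
    have huniq : ∀ W : Subgroup G, MN W → W = V := by
      intro W hW
      rcases eq_or_commute hV hW with h | h
      · exact h.symm
      · have hle : W ≤ V := by
          intro w hw
          exact mem_of_commute V V htV htV hab ω₀ w (fun v hv => h v hv w hw)
        rcases hV.2.2 W hW.1 hle with h' | h'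
        · exact absurd h' hW.2.1
        · exact h'
    have hNV : N = V := by
      rw [hNdef]
      exact le_antisymm (sSup_le fun W hW => (huniq W hW).le) (le_sSup hV)
    subst hNV
    obtain ⟨p, hp, hpow⟩ := elem_abelian N hV hab
    refine ⟨p, hp, ⟨⟨fun a b => Subtype.ext (hab a a.2 b b.2)⟩⟩, fun x => ?_, ⟨fun x y => ?_⟩,
      fun ω => ?_⟩
    · apply Subtype.ext
      push_cast
      exact hpow x x.2
    · obtain ⟨v, hv, hvx⟩ := htV x y
      exact ⟨⟨v, hv⟩, hvx⟩
    · rw [Subgroup.eq_bot_iff_forall]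
      intro v hv
      apply Subtype.ext
      exact eq_one_of_commute N htV v (fun u hu => hab u hu v v.2) ω hv
  · -- non-abelian case
    right
    have := hV.1
    obtain ⟨T, m, hT, hm, ⟨e⟩⟩ := minNormal_power V hV.2.1 hV.2.2
    obtain ⟨T', _, ⟨f⟩⟩ := exists_type_copy T
    have hT' : IsSimpleGroup T' := f.symm.isSimpleGroup
    let e' : V ≃* (Fin m → T') := e.trans (MulEquiv.piCongrRight fun _ => f)
    have hT'na : ¬ IsMulCommutative T' := by
      intro hc
      apply hab
      intro x hx y hy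
      have h1 : e' (⟨x, hx⟩ * ⟨y, hy⟩) = e' (⟨y, hy⟩ * ⟨x, hx⟩) := by
        rw [map_mul, map_mul]
        funext i
        exact hc.is_comm.comm _ _
      exact congrArg Subtype.val (e'.injective h1)
    by_cases huniq : ∀ W : Subgroup G, MN W → W = V
    · have hNV : N = V := by
        rw [hNdef]
        exact le_antisymm (sSup_le fun W hW => (huniq W hW).le) (le_sSup hV)
      subst hNV
      exact ⟨T', inferInstance, m, hm, hT', hT'na, ⟨e'⟩⟩
    · push Not at huniq
      obtain ⟨W, hW, hWV⟩ := huniq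
      have htW := trans_of_normal hprim W hW.1 hW.2.1
      have hcomm : ∀ v ∈ V, ∀ w ∈ W, v * w = w * v := by
        rcases eq_or_commute hV hW with h | h
        · exact absurd h.symm hWV
        · exact h
      have hcomm' : ∀ w ∈ W, ∀ v ∈ V, w * v = v * w := fun w hw v hv => (hcomm v hv w hw).symm
      have hVr : ∀ v ∈ V, v • ω₀ = ω₀ → v = 1 := fun v hv h =>
        eq_one_of_commute W htW v (fun w hw => hcomm' w hw v hv) ω₀ h
      have hWr : ∀ w ∈ W, w • ω₀ = ω₀ → w = 1 := fun w hw h =>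
        eq_one_of_commute V htV w (fun v hv => hcomm v hv w hw) ω₀ h
      obtain ⟨φ⟩ := regular_iso V W ω₀ htV htW hVr hWr hcomm
      have hthird : ∀ U : Subgroup G, MN U → U = V ∨ U = W := by
        intro U hU
        rcases eq_or_commute hV hU with h | h
        · exact Or.inl h.symm
        · right
          have hle : U ≤ W := by
            intro u hu
            exact mem_of_commute V W htV htW hcomm ω₀ u (fun v hv => h v hv u hu)
          rcases hW.2.2 U hU.1 hle with h' | h'
          · exact absurd h' hU.2.1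
          · exact h'
      have hNVW : N = V ⊔ W := by
        rw [hNdef]
        apply le_antisymm
        · apply sSup_le
          intro U hU
          rcases hthird U hU with h | h
          · rw [h]; exact le_sup_left
          · rw [h]; exact le_sup_right
        · exact sup_le (le_sSup hV) (le_sSup hW)
      have hdisj : Disjoint V W := by
        rw [disjoint_iff]
        rcases hV.2.2 (V ⊓ W) (Subgroup.normal_inf_normal V W (hH := hV.1) (hK := hW.1))
          inf_le_left with h | h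
        · exact h
        · exfalso
          have hle : V ≤ W := by rw [← h]; exact inf_le_right
          rcases hW.2.2 V hV.1 hle with h' | h'
          · exact hV.2.1 h'
          · exact hWV h'.symm
      obtain ⟨e1⟩ := sup_equiv_prod V W hV.1 hW.1 hdisj
      obtain ⟨e2⟩ := prod_pow T' m m
      subst hNVW
      refine ⟨T', inferInstance, m + m, by omega, hT', hT'na, ?_⟩
      exact ⟨(e1.trans (e'.prodCongr (φ.trans e'))).trans e2⟩

end Cfsg.Agent.S3680
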