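import Cfsg.Statements.S2299
import Cfsg.Agent.Lib.Helper44.SL2OddCount

set_option autoImplicit false
open Cfsg

namespace Cfsg.Agent.S2299

open Cfsg.Agent.Lib.Helper44 in
/-- Over a finite field F with q elements, q odd, every irreducible complex character of SL₂ has degree 1, q, q + 1, q − 1, (q + 1)/2 or (q − 1)/2; and when q ≥ 5 (so that these six numbers are distinct) there are exactly one irreducible character of degree 1, one of degree q, (q − 3)/2 of degree q + 1, (q − 1)/2 of degree q − 1, two of degree (q + 1)/2 and two of degree (q − 1)/2. -/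
theorem result {F : Type*} [Field F] [Fintype F] (hodd : Odd (Fintype.card F)) :
    (∀ χ : Matrix.SpecialLinearGroup (Fin 2) F → ℂ, Cfsg.IsIrrCharacter (Matrix.SpecialLinearGroup (Fin 2) F) χ →
      χ 1 = 1 ∨ χ 1 = (Fintype.card F : ℂ) ∨ χ 1 = (Fintype.card F : ℂ) + 1 ∨ χ 1 = (Fintype.card F : ℂ) - 1 ∨
        χ 1 = (((Fintype.card F + 1) / 2 : ℕ) : ℂ) ∨ χ 1 = (((Fintype.card F - 1) / 2 : ℕ) : ℂ)) ∧
    (5 ≤ Fintype.card F →
      Nat.card {χ : Cfsg.IrrCharacter (Matrix.SpecialLinearGroup (Fin 2) F) // (χ : Matrix.SpecialLinearGroup (Fin 2) F → ℂ) 1 = 1} = 1 ∧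
      Nat.card {χ : Cfsg.IrrCharacter (Matrix.SpecialLinearGroup (Fin 2) F) // (χ : Matrix.SpecialLinearGroup (Fin 2) F → ℂ) 1 = (Fintype.card F : ℂ)} = 1 ∧
      Nat.card {χ : Cfsg.IrrCharacter (Matrix.SpecialLinearGroup (Fin 2) F) // (χ : Matrix.SpecialLinearGroup (Fin 2) F → ℂ) 1 = (Fintype.card F : ℂ) + 1} = (Fintype.card F - 3) / 2 ∧
      Nat.card {χ : Cfsg.IrrCharacter (Matrix.SpecialLinearGroup (Fin 2) F) // (χ : Matrix.SpecialLinearGroup (Fin 2) F → ℂ) 1 = (Fintype.card F : ℂ) - 1} = (Fintype.card F - 1) / 2 ∧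
      Nat.card {χ : Cfsg.IrrCharacter (Matrix.SpecialLinearGroup (Fin 2) F) // (χ : Matrix.SpecialLinearGroup (Fin 2) F → ℂ) 1 = (((Fintype.card F + 1) / 2 : ℕ) : ℂ)} = 2 ∧
      Nat.card {χ : Cfsg.IrrCharacter (Matrix.SpecialLinearGroup (Fin 2) F) // (χ : Matrix.SpecialLinearGroup (Fin 2) F → ℂ) 1 = (((Fintype.card F - 1) / 2 : ℕ) : ℂ)} = 2) := by
  classical
  obtain ⟨ψ, hψ⟩ := exists_primitive_addChar F
  obtain ⟨ε, hε⟩ := FiniteField.exists_nonsquare (ringChar_ne_two_of_odd hodd)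
  obtain ⟨m₀, a, b, -, -, -, htype, hdeg, -, -, -, g1, g2, g3, g4, g5, g6, g7⟩ := sl2_odd_data hodd hψ hε
  have hq : 1 < Fintype.card F := Fintype.one_lt_card
  obtain ⟨k, hk⟩ := hodd
  constructor
  · intro χ hχ
    have h3 := hdeg ⟨χ, hχ⟩
    change χ 1 = _ at h3
    rw [h3]
    have e1 : (Fintype.card F - 1) / 2 = k := by omega
    have e2 : (Fintype.card F + 1) / 2 = k + 1 := by omega
    rw [e1, e2, hk]
    rcases htype ⟨χ, hχ⟩ with ⟨h0, h1, h2⟩ | ⟨h0, h1, h2⟩ | ⟨h0, h1, h2⟩ | ⟨h0, h1, h2⟩ | ⟨h0, h1, h2⟩ | ⟨h0, h1, h2⟩ |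
        ⟨h0, h1, h2⟩ | ⟨h0, h1, h2⟩ <;> rw [h0, h1, h2] <;>
      push_cast
    · left; ring
    · right; right; right; right; right; ring
    · right; right; right; right; right; ring
    · right; right; right; left; ring
    · right; right; right; right; left; ring
    · right; right; right; right; left; ring
    · right; left; ring
    · right; right; left; ring
  · intro hq5
    obtain ⟨c1, c2, c3, c4, c5, c6, c7, c8⟩ := odd_counts (Fintype.card F) ⟨k, hk⟩ m₀ a b htype g1 g2 g3 g4 g5 g6 g7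
    have hcard : ∀ c : ℕ, ∀ z : ℂ, z = c →
        Nat.card {χ : Cfsg.IrrCharacter (Matrix.SpecialLinearGroup (Fin 2) F) // (χ : Matrix.SpecialLinearGroup (Fin 2) F → ℂ) 1 = z} =
        ∑ χ : IrrSL F, if m₀ χ + (Fintype.card F - 1) / 2 * (a χ + b χ) = c then 1 else 0 := by
      intro c z hz
      rw [Nat.card_congr (Equiv.subtypeEquivRight
        (q := fun χ : IrrSL F => m₀ χ + (Fintype.card F - 1) / 2 * (a χ + b χ) = c) ?_),
        Nat.card_eq_fintype_card, Fintype.card_subtype]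
      · simp
      · intro χ
        rw [hdeg χ, hz]
        exact Nat.cast_inj
    rw [hcard 1 1 (by simp), hcard (Fintype.card F) _ rfl, hcard (Fintype.card F + 1) _ (by simp),
      hcard (Fintype.card F - 1) _ (by rw [Nat.cast_sub hq.le]; simp), hcard ((Fintype.card F + 1) / 2) _ rfl,
      hcard ((Fintype.card F - 1) / 2) _ rfl]
    unfold cntT at c1 c2 c3 c4 c5 c6 c7 c8
    have p1 : ∀ χ : IrrSL F, (if m₀ χ + (Fintype.card F - 1) / 2 * (a χ + b χ) = 1 then 1 else 0) =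
        (if m₀ χ = 1 ∧ a χ = 0 ∧ b χ = 0 then 1 else 0) := by
      intro χ
      rcases htype χ with ⟨h0, h1, h2⟩ | ⟨h0, h1, h2⟩ | ⟨h0, h1, h2⟩ | ⟨h0, h1, h2⟩ | ⟨h0, h1, h2⟩ | ⟨h0, h1, h2⟩ |
        ⟨h0, h1, h2⟩ | ⟨h0, h1, h2⟩ <;> rw [h0, h1, h2] <;> split_ifs <;> first | omega | tauto
    have p2 : ∀ χ : IrrSL F, (if m₀ χ + (Fintype.card F - 1) / 2 * (a χ + b χ) = Fintype.card F then 1 else 0) =
        (if m₀ χ = 1 ∧ a χ = 1 ∧ b χ = 1 then 1 else 0) := by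
      intro χ
      rcases htype χ with ⟨h0, h1, h2⟩ | ⟨h0, h1, h2⟩ | ⟨h0, h1, h2⟩ | ⟨h0, h1, h2⟩ | ⟨h0, h1, h2⟩ | ⟨h0, h1, h2⟩ |
        ⟨h0, h1, h2⟩ | ⟨h0, h1, h2⟩ <;> rw [h0, h1, h2] <;> split_ifs <;> first | omega | tauto
    have p3 : ∀ χ : IrrSL F, (if m₀ χ + (Fintype.card F - 1) / 2 * (a χ + b χ) = Fintype.card F + 1 then 1 else 0) =
        (if m₀ χ = 2 ∧ a χ = 1 ∧ b χ = 1 then 1 else 0) := by
      intro χ
      rcases htype χ with ⟨h0, h1, h2⟩ | ⟨h0, h1, h2⟩ | ⟨h0, h1, h2⟩ | ⟨h0, h1, h2⟩ | ⟨h0, h1, h2⟩ | ⟨h0, h1, h2⟩ |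
        ⟨h0, h1, h2⟩ | ⟨h0, h1, h2⟩ <;> rw [h0, h1, h2] <;> split_ifs <;> first | omega | tauto
    have p4 : ∀ χ : IrrSL F, (if m₀ χ + (Fintype.card F - 1) / 2 * (a χ + b χ) = Fintype.card F - 1 then 1 else 0) =
        (if m₀ χ = 0 ∧ a χ = 1 ∧ b χ = 1 then 1 else 0) := by
      intro χ
      rcases htype χ with ⟨h0, h1, h2⟩ | ⟨h0, h1, h2⟩ | ⟨h0, h1, h2⟩ | ⟨h0, h1, h2⟩ | ⟨h0, h1, h2⟩ | ⟨h0, h1, h2⟩ |
        ⟨h0, h1, h2⟩ | ⟨h0, h1, h2⟩ <;> rw [h0, h1, h2] <;> split_ifs <;> first | omega | tauto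
    have p5 : ∀ χ : IrrSL F, (if m₀ χ + (Fintype.card F - 1) / 2 * (a χ + b χ) = (Fintype.card F + 1) / 2 then 1 else 0) =
        (if m₀ χ = 1 ∧ a χ = 1 ∧ b χ = 0 then 1 else 0) + (if m₀ χ = 1 ∧ a χ = 0 ∧ b χ = 1 then 1 else 0) := by
      intro χ
      rcases htype χ with ⟨h0, h1, h2⟩ | ⟨h0, h1, h2⟩ | ⟨h0, h1, h2⟩ | ⟨h0, h1, h2⟩ | ⟨h0, h1, h2⟩ | ⟨h0, h1, h2⟩ |
        ⟨h0, h1, h2⟩ | ⟨h0, h1, h2⟩ <;> rw [h0, h1, h2] <;> split_ifs <;> first | omega | tauto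
    have p6 : ∀ χ : IrrSL F, (if m₀ χ + (Fintype.card F - 1) / 2 * (a χ + b χ) = (Fintype.card F - 1) / 2 then 1 else 0) =
        (if m₀ χ = 0 ∧ a χ = 1 ∧ b χ = 0 then 1 else 0) + (if m₀ χ = 0 ∧ a χ = 0 ∧ b χ = 1 then 1 else 0) := by
      intro χ
      rcases htype χ with ⟨h0, h1, h2⟩ | ⟨h0, h1, h2⟩ | ⟨h0, h1, h2⟩ | ⟨h0, h1, h2⟩ | ⟨h0, h1, h2⟩ | ⟨h0, h1, h2⟩ |
        ⟨h0, h1, h2⟩ | ⟨h0, h1, h2⟩ <;> rw [h0, h1, h2] <;> split_ifs <;> first | omega | tauto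
    rw [Finset.sum_congr rfl (fun χ _ => p1 χ), Finset.sum_congr rfl (fun χ _ => p2 χ),
      Finset.sum_congr rfl (fun χ _ => p3 χ), Finset.sum_congr rfl (fun χ _ => p4 χ),
      Finset.sum_congr rfl (fun χ _ => p5 χ), Finset.sum_congr rfl (fun χ _ => p6 χ),
      Finset.sum_add_distrib, Finset.sum_add_distrib, c1, c2, c3, c4, c5, c6, c7, c8]
    simp

end Cfsg.Agent.S2299
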