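import Cfsg.Statements.S2300
import Cfsg.Agent.Lib.Helper44.SL2Even

set_option autoImplicit false
open Cfsg

namespace Cfsg.Agent.S2300

open Cfsg.Agent.Lib.Helper44 in
/-- Over a finite field F with q elements, q even, every irreducible complex character of SL₂ has degree 1, q − 1, q or q + 1; and when q ≥ 4 (so that these four numbers are distinct) there are exactly one irreducible character of degree 1, one of degree q, (q − 2)/2 of degree q + 1 and q/2 of degree q − 1. -/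
theorem result {F : Type*} [Field F] [Fintype F] [CharP F 2] :
    (∀ χ : Matrix.SpecialLinearGroup (Fin 2) F → ℂ, Cfsg.IsIrrCharacter (Matrix.SpecialLinearGroup (Fin 2) F) χ →
      χ 1 = 1 ∨ χ 1 = (Fintype.card F : ℂ) - 1 ∨ χ 1 = (Fintype.card F : ℂ) ∨ χ 1 = (Fintype.card F : ℂ) + 1) ∧
    (4 ≤ Fintype.card F →
      Nat.card {χ : Cfsg.IrrCharacter (Matrix.SpecialLinearGroup (Fin 2) F) // (χ : Matrix.SpecialLinearGroup (Fin 2) F → ℂ) 1 = 1} = 1 ∧
      Nat.card {χ : Cfsg.IrrCharacter (Matrix.SpecialLinearGroup (Fin 2) F) // (χ : Matrix.SpecialLinearGroup (Fin 2) F → ℂ) 1 = (Fintype.card F : ℂ)} = 1 ∧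
      Nat.card {χ : Cfsg.IrrCharacter (Matrix.SpecialLinearGroup (Fin 2) F) // (χ : Matrix.SpecialLinearGroup (Fin 2) F → ℂ) 1 = (Fintype.card F : ℂ) + 1} = (Fintype.card F - 2) / 2 ∧
      Nat.card {χ : Cfsg.IrrCharacter (Matrix.SpecialLinearGroup (Fin 2) F) // (χ : Matrix.SpecialLinearGroup (Fin 2) F → ℂ) 1 = (Fintype.card F : ℂ) - 1} = Fintype.card F / 2) := by
  classical
  obtain ⟨ψ, hψ⟩ := exists_primitive_addChar F
  obtain ⟨m₀, m₁, -, -, hm1, hm0, hdeg, -, htriv, -, e1, e2, e3, e4⟩ := sl2_even_data hψ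
  have hq : 1 < Fintype.card F := Fintype.one_lt_card
  have heven : Fintype.card F % 2 = 0 := FiniteField.even_card_of_char_two (ringChar.eq F 2)
  have htype : ∀ χ : IrrSL F, (m₀ χ = 1 ∧ m₁ χ = 0) ∨ (m₀ χ = 0 ∧ m₁ χ = 1) ∨ (m₀ χ = 1 ∧ m₁ χ = 1) ∨
      (m₀ χ = 2 ∧ m₁ χ = 1) := by
    intro χ
    have h1 := hm1 χ
    have h0 := hm0 χ
    by_cases h : m₁ χ = 0
    · left
      refine ⟨?_, h⟩
      have h2 := hdeg χ
      rw [htriv χ h, h] at h2
      have h2' : (1 : ℂ) = ((m₀ χ + (Fintype.card F - 1) * 0 : ℕ) : ℂ) := h2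
      have h3 : 1 = m₀ χ + (Fintype.card F - 1) * 0 := by exact_mod_cast h2'
      omega
    · right
      have : m₁ χ = 1 := by omega
      omega
  constructor
  · intro χ hχ
    have h2 := hdeg ⟨χ, hχ⟩
    change χ 1 = _ at h2
    rw [h2]
    rcases htype ⟨χ, hχ⟩ with ⟨h0, h1⟩ | ⟨h0, h1⟩ | ⟨h0, h1⟩ | ⟨h0, h1⟩ <;> rw [h0, h1] <;>
      push_cast [Nat.cast_sub hq.le]
    · left; ring
    · right; left; ring
    · right; right; left; ring
    · right; right; right; ring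
  · intro hq4
    have hcard : ∀ c : ℕ, ∀ z : ℂ, z = c →
        Nat.card {χ : Cfsg.IrrCharacter (Matrix.SpecialLinearGroup (Fin 2) F) // (χ : Matrix.SpecialLinearGroup (Fin 2) F → ℂ) 1 = z} =
        ∑ χ : IrrSL F, if m₀ χ + (Fintype.card F - 1) * m₁ χ = c then 1 else 0 := by
      intro c z hz
      rw [Nat.card_congr (Equiv.subtypeEquivRight (q := fun χ : IrrSL F => m₀ χ + (Fintype.card F - 1) * m₁ χ = c) ?_),
        Nat.card_eq_fintype_card, Fintype.card_subtype]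
      · simp
      · intro χ
        rw [hdeg χ, hz]
        exact Nat.cast_inj
    rw [hcard 1 1 (by simp), hcard (Fintype.card F) _ rfl, hcard (Fintype.card F + 1) _ (by simp),
      hcard (Fintype.card F - 1) _ (by rw [Nat.cast_sub hq.le]; simp)]
    have p1 : ∀ χ : IrrSL F, m₁ χ ^ 2 =
        (if m₀ χ + (Fintype.card F - 1) * m₁ χ = Fintype.card F then 1 else 0) +
        (if m₀ χ + (Fintype.card F - 1) * m₁ χ = Fintype.card F + 1 then 1 else 0) +
        (if m₀ χ + (Fintype.card F - 1) * m₁ χ = Fintype.card F - 1 then 1 else 0) := by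
      intro χ
      rcases htype χ with ⟨h0, h1⟩ | ⟨h0, h1⟩ | ⟨h0, h1⟩ | ⟨h0, h1⟩ <;> rw [h0, h1] <;> split_ifs <;> omega
    have p2 : ∀ χ : IrrSL F, m₀ χ * m₁ χ =
        (if m₀ χ + (Fintype.card F - 1) * m₁ χ = Fintype.card F then 1 else 0) +
        2 * (if m₀ χ + (Fintype.card F - 1) * m₁ χ = Fintype.card F + 1 then 1 else 0) := by
      intro χ
      rcases htype χ with ⟨h0, h1⟩ | ⟨h0, h1⟩ | ⟨h0, h1⟩ | ⟨h0, h1⟩ <;> rw [h0, h1] <;> split_ifs <;> omega
    have p3 : ∀ χ : IrrSL F, m₀ χ ^ 2 =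
        (if m₀ χ + (Fintype.card F - 1) * m₁ χ = 1 then 1 else 0) +
        (if m₀ χ + (Fintype.card F - 1) * m₁ χ = Fintype.card F then 1 else 0) +
        4 * (if m₀ χ + (Fintype.card F - 1) * m₁ χ = Fintype.card F + 1 then 1 else 0) := by
      intro χ
      rcases htype χ with ⟨h0, h1⟩ | ⟨h0, h1⟩ | ⟨h0, h1⟩ | ⟨h0, h1⟩ <;> rw [h0, h1] <;> split_ifs <;> omega
    have p4 : ∀ χ : IrrSL F, 1 =
        (if m₀ χ + (Fintype.card F - 1) * m₁ χ = 1 then 1 else 0) +
        (if m₀ χ + (Fintype.card F - 1) * m₁ χ = Fintype.card F then 1 else 0) +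
        (if m₀ χ + (Fintype.card F - 1) * m₁ χ = Fintype.card F + 1 then 1 else 0) +
        (if m₀ χ + (Fintype.card F - 1) * m₁ χ = Fintype.card F - 1 then 1 else 0) := by
      intro χ
      rcases htype χ with ⟨h0, h1⟩ | ⟨h0, h1⟩ | ⟨h0, h1⟩ | ⟨h0, h1⟩ <;> rw [h0, h1] <;> split_ifs <;> omega
    rw [Finset.sum_congr rfl (fun χ _ => p1 χ)] at e1
    rw [Finset.sum_congr rfl (fun χ _ => p2 χ)] at e2
    rw [Finset.sum_congr rfl (fun χ _ => p3 χ)] at e3
    have e4' : ∑ _χ : IrrSL F, 1 = Fintype.card F + 1 := by simpa using e4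
    rw [Finset.sum_congr rfl (fun χ _ => p4 χ)] at e4'
    simp only [Finset.sum_add_distrib, ← Finset.mul_sum] at e1 e2 e3 e4'
    generalize (∑ χ : IrrSL F, if m₀ χ + (Fintype.card F - 1) * m₁ χ = 1 then 1 else 0) = n1 at *
    generalize (∑ χ : IrrSL F, if m₀ χ + (Fintype.card F - 1) * m₁ χ = Fintype.card F then 1 else 0) = n2 at *
    generalize (∑ χ : IrrSL F, if m₀ χ + (Fintype.card F - 1) * m₁ χ = Fintype.card F + 1 then 1 else 0) = n3 at *
    generalize (∑ χ : IrrSL F, if m₀ χ + (Fintype.card F - 1) * m₁ χ = Fintype.card F - 1 then 1 else 0) = n4 at *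
    omega

end Cfsg.Agent.S2300
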