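import Cfsg.Statements.S4623
import Mathlib

set_option autoImplicit false
open Cfsg

namespace Cfsg.Agent.S4623

open Equiv Equiv.Perm SemidirectProduct

/-- exponent property -/
def ExT (p : ℕ) (X : Type*) [Group X] : Prop := ∀ x : X, x ^ p ∈ commutator X

theorem map_comm_le {X Y : Type*} [Group X] [Group Y] (f : X →* Y) :
    (commutator X).map f ≤ commutator Y := by
  rw [commutator_def, commutator_def, Subgroup.map_commutator]
  exact Subgroup.commutator_mono le_top le_top

theorem ExT.of_equiv {p : ℕ} {X Y : Type*} [Group X] [Group Y] (e : X ≃* Y) (h : ExT p X) :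
    ExT p Y := by
  intro y
  have h2 : e.toMonoidHom ((e.symm y) ^ p) ∈ (commutator X).map e.toMonoidHom := ⟨_, h (e.symm y), rfl⟩
  have h3 := map_comm_le e.toMonoidHom h2
  simpa using h3

theorem mem_comm_iff {X : Type*} [Group X] (x : X) :
    x ∈ commutator X ↔ Abelianization.of x = 1 := by
  rw [← MonoidHom.mem_ker, Abelianization.ker_of]

theorem mul_pow_mem {X : Type*} [Group X] {p : ℕ} {a b : X} (ha : a ^ p ∈ commutator X)
    (hb : b ^ p ∈ commutator X) : (a * b) ^ p ∈ commutator X := by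
  rw [mem_comm_iff] at *
  rw [map_pow, map_mul, mul_pow, ← map_pow, ← map_pow, ha, hb, one_mul]

theorem ExT_ker {p : ℕ} {N T : Type*} [Group N] [Group T] (φ : T →* MulAut N)
    (hN : ∀ f : N, f ^ p = 1) (hT : ExT p T) {A : Type*} [Group A] (s : N ⋊[φ] T →* A)
    (hs : ∀ t, s (inr t) = 1) : ExT p s.ker := by
  intro x
  have hx : s x.1 = 1 := x.2
  have hdec := inl_left_mul_inr_right x.1
  have ha : s (inl x.1.left) = 1 := by
    rw [← hdec, map_mul, hs, mul_one] at hx; exact hx
  let j : T →* s.ker := (inr : T →* N ⋊[φ] T).codRestrict s.ker (fun t => hs t)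
  have hxe : x = ⟨inl x.1.left, ha⟩ * j x.1.right := Subtype.ext hdec.symm
  rw [hxe]
  apply mul_pow_mem
  · have : (⟨inl x.1.left, ha⟩ : s.ker) ^ p = 1 := by
      apply Subtype.ext
      change (inl x.1.left : N ⋊[φ] T) ^ p = 1
      rw [← map_pow, hN, map_one]
    rw [this]; exact Subgroup.one_mem _
  · rw [← map_pow]
    exact map_comm_le j ⟨_, hT _, rfl⟩

theorem ExT_semi {p : ℕ} {N T : Type*} [Group N] [Group T] (φ : T →* MulAut N)
    (hN : ∀ f : N, f ^ p = 1) (hT : ExT p T) : ExT p (N ⋊[φ] T) := by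
  have h := ExT_ker φ hN hT (1 : N ⋊[φ] T →* Unit) (fun _ => rfl)
  have e : (1 : N ⋊[φ] T →* Unit).ker = ⊤ := MonoidHom.ker_one
  exact ((h.of_equiv (MulEquiv.subgroupCongr e)).of_equiv Subgroup.topEquiv)

def f1 (β : Type) (p : ℕ) : (β → Multiplicative (ZMod p)) →* Equiv.Perm (β × ZMod p) where
  toFun F := Equiv.prodCongrRight (fun b => Equiv.addRight (Multiplicative.toAdd (F b)))
  map_one' := by ext ⟨b, i⟩ <;> simp
  map_mul' F G := by
    ext ⟨b, i⟩
    · simp
    · simp [add_comm, add_left_comm]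

def f2 (β : Type) (p : ℕ) : Equiv.Perm β →* Equiv.Perm (β × ZMod p) where
  toFun σ := Equiv.prodCongrLeft (fun _ => σ)
  map_one' := by ext ⟨b, i⟩ <;> simp
  map_mul' F G := by ext ⟨b, i⟩ <;> simp

theorem sign_pow_eq_one (p : ℕ) [Fact p.Prime] {β : Type} [Fintype β] [DecidableEq β]
    (T0 : Sylow p (Equiv.Perm β)) (t : Equiv.Perm β) (ht : t ∈ T0) : sign t ^ p = 1 := by
  rcases (Fact.out : p.Prime).eq_two_or_odd' with h2 | hodd
  · subst h2; exact Int.units_sq _
  · obtain ⟨k, hk⟩ := T0.2 ⟨t, ht⟩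
    have hk' : t ^ p ^ k = 1 := congrArg Subtype.val hk
    have h1 : sign t ^ p ^ k = 1 := by rw [← map_pow, hk', map_one]
    rcases Int.units_eq_one_or (sign t) with h | h
    · rw [h, one_pow]
    · rw [h, (hodd.pow).neg_one_pow] at h1
      exact absurd h1 (by decide)

theorem struct (p : ℕ) [Fact p.Prime] (n : ℕ)
    (hT : ∀ T : Sylow p (Equiv.Perm (Fin (n / p))), ExT p (T : Subgroup (Equiv.Perm (Fin (n / p)))))
    (P : Sylow p (Equiv.Perm (Fin n))) :
    ∃ (N T : Type) (_ : Group N) (_ : Group T) (φ : T →* MulAut N)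
      (Ψ : N ⋊[φ] T →* Equiv.Perm (Fin n)),
      Function.Injective Ψ ∧ Ψ.range = (P : Subgroup _) ∧ (∀ f : N, f ^ p = 1) ∧ ExT p T ∧
      ∀ t : T, sign (Ψ (inr t)) = 1 := by
  classical
  let β := Fin (n / p)
  let C := ZMod p
  let N := β → Multiplicative C
  obtain ⟨T0⟩ : Nonempty (Sylow p (Equiv.Perm β)) := inferInstance
  let T := (T0 : Subgroup (Equiv.Perm β))
  let φ : T →* MulAut N := mulAutArrow
  have hcomp : ∀ g : T, (f1 β p).comp (φ g).toMonoidHom =
      (MulAut.conj (((f2 β p).comp T.subtype) g)).toMonoidHom.comp (f1 β p) := by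
    intro g
    ext F ⟨b, i⟩
    · simp [f1, f2]
    · simp [f1, f2, φ]
      rfl
  let Ψ0 : N ⋊[φ] T →* Equiv.Perm (β × C) :=
    SemidirectProduct.lift (f1 β p) ((f2 β p).comp T.subtype) hcomp
  have hΨ0 : Function.Injective Ψ0 := by
    rw [injective_iff_map_eq_one]
    intro x hx
    have h1 : ∀ b : β, Ψ0 x (b, 0) = (b, 0) := by intro b; rw [hx]; rfl
    have h2 : ∀ b : β, Ψ0 x (b, 0) = ((x.right : Equiv.Perm β) b,
        0 + Multiplicative.toAdd (x.left ((x.right : Equiv.Perm β) b))) := by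
      intro b; rfl
    have h3 : ∀ b : β, (x.right : Equiv.Perm β) b = b := by
      intro b
      have := (h2 b).symm.trans (h1 b)
      exact congrArg Prod.fst this
    have h4 : ∀ b : β, x.left b = 1 := by
      intro b
      have := (h2 b).symm.trans (h1 b)
      have h5 := congrArg Prod.snd this
      rw [h3 b] at h5
      simpa using h5
    apply SemidirectProduct.ext
    · funext b; exact h4 b
    · apply Subtype.ext; ext b; simp [h3 b]
  have hle : Fintype.card (β × C) ≤ Fintype.card (Fin n) := by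
    simp only [Fintype.card_prod, Fintype.card_fin, β, C, ZMod.card]
    exact Nat.div_mul_le_self n p
  obtain ⟨ι⟩ := Function.Embedding.nonempty_of_card_le hle
  let Ψ1 : N ⋊[φ] T →* Equiv.Perm (Fin n) := (Equiv.Perm.viaEmbeddingHom ι).comp Ψ0
  have hΨ1 : Function.Injective Ψ1 := (Equiv.Perm.viaEmbeddingHom_injective ι).comp hΨ0
  have hcard : Nat.card Ψ1.range = p ^ (Nat.card (Equiv.Perm (Fin n))).factorization p := by
    rw [Nat.card_congr (MonoidHom.ofInjective hΨ1).symm.toEquiv, SemidirectProduct.card,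
      T0.card_eq_multiplicity, Nat.card_perm, Nat.card_perm, Nat.card_fin, Nat.card_fin,
      Nat.factorization_def _ Fact.out, Nat.factorization_def _ Fact.out,
      ← padicValNat_mul_div_factorial n, padicValNat_factorial_mul, Nat.card_fun]
    simp [pow_add, mul_comm, C, β]
  let P0 : Sylow p (Equiv.Perm (Fin n)) := Sylow.ofCard Ψ1.range hcard
  obtain ⟨g, hg⟩ := MulAction.exists_smul_eq (Equiv.Perm (Fin n)) P0 P
  refine ⟨N, T, inferInstance, inferInstance, φ, (MulAut.conj g).toMonoidHom.comp Ψ1, ?_, ?_, ?_,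
    hT T0, ?_⟩
  · exact (MulAut.conj g).injective.comp hΨ1
  · rw [← hg, Sylow.coe_subgroup_smul]
    ext y
    constructor
    · rintro ⟨x, rfl⟩
      exact Subgroup.smul_mem_pointwise_smul _ _ _ ⟨x, rfl⟩
    · intro hy
      obtain ⟨z, ⟨x, rfl⟩, rfl⟩ := Subgroup.mem_smul_pointwise_iff_exists _ _ _ |>.mp hy
      exact ⟨x, rfl⟩
  · intro f
    funext b
    change (f b) ^ p = 1
    have : p • Multiplicative.toAdd (f b) = 0 := by simp
    exact this
  · intro t
    change sign (g * Ψ1 (inr t) * g⁻¹) = 1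
    rw [map_mul, map_mul, map_inv, mul_comm, ← mul_assoc, inv_mul_cancel, one_mul]
    have h1 : Ψ1 (inr t) = (f2 β p (t : Equiv.Perm β)).viaEmbedding ι := by
      change Equiv.Perm.viaEmbeddingHom ι (Ψ0 (inr t)) = _
      rw [SemidirectProduct.lift_inr]; rfl
    rw [h1, Equiv.Perm.viaEmbedding, sign_extendDomain]
    change sign (Equiv.prodCongrLeft (fun _ : ZMod p => (t : Equiv.Perm β))) = 1
    rw [sign_prodCongrLeft, Finset.prod_const, Finset.card_univ, ZMod.card]
    exact sign_pow_eq_one p T0 t t.2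

theorem sym_ExT (p : ℕ) [Fact p.Prime] (n : ℕ) :
    ∀ P : Sylow p (Equiv.Perm (Fin n)), ExT p (P : Subgroup (Equiv.Perm (Fin n))) := by
  induction n using Nat.strong_induction_on with
  | _ n ih =>
    intro P
    have hT : ∀ T : Sylow p (Equiv.Perm (Fin (n / p))),
        ExT p (T : Subgroup (Equiv.Perm (Fin (n / p)))) := by
      rcases Nat.eq_zero_or_pos n with h0 | hpos
      · subst h0
        intro T x
        have : x ^ p = 1 := by
          apply Subtype.ext
          ext i
          exact absurd i.2 (by simp)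
        rw [this]; exact Subgroup.one_mem _
      · exact ih (n / p) (Nat.div_lt_self hpos (Fact.out : p.Prime).one_lt)
    obtain ⟨N, T, _, _, φ, Ψ, hinj, hrange, hN, hTT, _⟩ := struct p n hT P
    exact ((ExT_semi φ hN hTT).of_equiv (MonoidHom.ofInjective hinj)).of_equiv
      (MulEquiv.subgroupCongr hrange)

theorem alt_ExT (p : ℕ) [Fact p.Prime] (n : ℕ) (Q : Sylow p (alternatingGroup (Fin n))) :
    ExT p (Q : Subgroup (alternatingGroup (Fin n))) := by
  have hQ : IsPGroup p ((Q : Subgroup (alternatingGroup (Fin n))).map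
      (alternatingGroup (Fin n)).subtype) := Q.2.map _
  obtain ⟨P₁, hP₁⟩ := hQ.exists_le_sylow
  obtain ⟨N, T, _, _, φ, Ψ, hinj, hrange, hN, hTT, hsign⟩ := struct p n (sym_ExT p (n / p)) P₁
  let s : N ⋊[φ] T →* ℤˣ := sign.comp Ψ
  have hX : IsPGroup p (N ⋊[φ] T) :=
    IsPGroup.of_injective P₁.2 (Ψ.codRestrict (P₁ : Subgroup _) (fun x => hrange ▸ ⟨x, rfl⟩))
      (fun a b hab => hinj (congrArg Subtype.val hab))
  let θ : s.ker →* alternatingGroup (Fin n) :=
    (Ψ.comp s.ker.subtype).codRestrict (alternatingGroup (Fin n))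
      (fun x => Equiv.Perm.mem_alternatingGroup.mpr x.2)
  have hθ : Function.Injective θ := by
    intro a b hab
    exact Subtype.ext (hinj (congrArg Subtype.val hab))
  have hθp : IsPGroup p θ.range :=
    (hX.to_subgroup s.ker).of_surjective θ.rangeRestrict θ.rangeRestrict_surjective
  have hle : (Q : Subgroup (alternatingGroup (Fin n))) ≤ θ.range := by
    intro y hy
    have h1 : (y : Equiv.Perm (Fin n)) ∈ (P₁ : Subgroup _) := hP₁ ⟨y, hy, rfl⟩
    rw [← hrange] at h1
    obtain ⟨x, hx⟩ := h1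
    have hxs : x ∈ s.ker := by
      change sign (Ψ x) = 1
      rw [hx]; exact Equiv.Perm.mem_alternatingGroup.mp y.2
    exact ⟨⟨x, hxs⟩, Subtype.ext hx⟩
  have heq : θ.range = (Q : Subgroup (alternatingGroup (Fin n))) := Q.is_maximal' hθp hle
  exact ((ExT_ker φ hN hTT s hsign).of_equiv (MonoidHom.ofInjective hθ)).of_equiv
    (MulEquiv.subgroupCongr heq)

/-- For every prime p and every n, a Sylow p-subgroup P of the symmetric group on n letters has P/P' elementary abelian (the p-th power of every element of P lies in the derived subgroup of P), and the same holds for a Sylow p-subgroup of the alternating group on n letters. -/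
theorem result (p : ℕ) [Fact p.Prime] (n : ℕ) (P : Sylow p (Equiv.Perm (Fin n))) (Q : Sylow p (alternatingGroup (Fin n))) :
    (∀ x : (P : Subgroup (Equiv.Perm (Fin n))), x ^ p ∈ commutator (P : Subgroup (Equiv.Perm (Fin n)))) ∧
    (∀ x : (Q : Subgroup (alternatingGroup (Fin n))), x ^ p ∈ commutator (Q : Subgroup (alternatingGroup (Fin n)))) := by
  exact ⟨sym_ExT p n P, alt_ExT p n Q⟩

end Cfsg.Agent.S4623
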