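import Cfsg.Statements.S0268
import Mathlib
-- import your own Cfsg.Agent.* helpers here

set_option autoImplicit false
open Cfsg

namespace Cfsg.Agent.S0268

/-- For q odd, -1 is the unique involution of SL_2(q). -/
theorem result {F : Type*} [Field F] [Fintype F] (hF : Odd (Fintype.card F)) (g : Matrix.SpecialLinearGroup (Fin 2) F) (h1 : g ≠ 1) (h2 : g * g = 1) : (g : Matrix (Fin 2) (Fin 2) F) = -1 := by
  have h2F : (2 : F) ≠ 0 := by
    intro h
    have hc : ringChar F = 2 := by
      have : ringChar F ∣ 2 := by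
        rw [← ringChar.spec]; exact_mod_cast h
      rcases (Nat.dvd_prime Nat.prime_two).1 this with h' | h'
      · exact absurd h' (CharP.ringChar_ne_one)
      · exact h'
    have := FiniteField.even_card_of_char_two hc
    rcases hF with ⟨k, hk⟩
    omega
  have hinv : g = g⁻¹ := eq_inv_of_mul_eq_one_left h2
  have hm : (g : Matrix (Fin 2) (Fin 2) F) = ((g⁻¹ : Matrix.SpecialLinearGroup (Fin 2) F) : Matrix (Fin 2) (Fin 2) F) := congrArg _ hinv
  rw [Matrix.SpecialLinearGroup.SL2_inv_expl] at hm
  have hdet := g.det_coe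
  rw [Matrix.det_fin_two] at hdet
  have e00 := congrFun (congrFun hm 0) 0
  have e01 := congrFun (congrFun hm 0) 1
  have e10 := congrFun (congrFun hm 1) 0
  simp at e00 e01 e10
  have hb : (g : Matrix (Fin 2) (Fin 2) F) 0 1 = 0 := by
    have : (2 : F) * (g : Matrix (Fin 2) (Fin 2) F) 0 1 = 0 := by linear_combination e01
    exact (mul_eq_zero.1 this).resolve_left h2F
  have hc : (g : Matrix (Fin 2) (Fin 2) F) 1 0 = 0 := by
    have : (2 : F) * (g : Matrix (Fin 2) (Fin 2) F) 1 0 = 0 := by linear_combination e10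
    exact (mul_eq_zero.1 this).resolve_left h2F
  rw [hb, ← e00] at hdet
  have ha : ((g : Matrix (Fin 2) (Fin 2) F) 0 0 - 1) * ((g : Matrix (Fin 2) (Fin 2) F) 0 0 + 1) = 0 := by
    linear_combination hdet
  rcases mul_eq_zero.1 ha with ha | ha
  · exfalso
    apply h1
    ext i j
    fin_cases i <;> fin_cases j
    · simpa using sub_eq_zero.1 ha
    · simpa using hb
    · simpa using hc
    · simpa [← e00] using sub_eq_zero.1 ha
  · ext i j
    fin_cases i <;> fin_cases j
    · simpa using eq_neg_of_add_eq_zero_left ha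
    · simpa using hb
    · simpa using hc
    · simpa [← e00] using eq_neg_of_add_eq_zero_left ha

end Cfsg.Agent.S0268
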