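import Cfsg.Statements.S0261
import Mathlib
import Cfsg.Agent.Lib.Helper7.SL2Tori
import Cfsg.Agent.Lib.Helper7.SL2Center
import Cfsg.Agent.Lib.Helper7.Quat
import Cfsg.Agent.S0268
-- import your own Cfsg.Agent.* helpers here

set_option autoImplicit false
open Cfsg

namespace Cfsg.Agent.S0261

open Cfsg.Agent.Lib.Helper7 Matrix

theorem v2_eq {j m : ℕ} (hm : Odd m) : (2 ^ j * m).factorization 2 = j := by
  have hnd : ¬ 2 ∣ m := by
    rw [Nat.two_dvd_ne_zero]; exact Nat.odd_iff.1 hm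
  have hm0 : m ≠ 0 := fun h => hnd (h ▸ dvd_zero 2)
  rw [Nat.factorization_mul (by positivity) hm0, Finsupp.add_apply,
    Nat.factorization_eq_zero_of_not_dvd hnd, add_zero, Nat.prime_two.factorization_pow,
    Finsupp.single_eq_same]

theorem sl2_sylow_two_quat {F : Type*} [Field F] [Fintype F] (hF : Odd (Fintype.card F))
    (C : Subgroup (SpecialLinearGroup (Fin 2) F)) [IsCyclic C] (w : SpecialLinearGroup (Fin 2) F)
    (hw : w ^ 2 = negOneSL F) (hconj : ∀ g ∈ C, w * g = g⁻¹ * w) {k m : ℕ} (hk : 1 ≤ k) (hm : Odd m)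
    (hC : Nat.card C = 2 ^ (k + 1) * m)
    (hv : (Nat.card (SpecialLinearGroup (Fin 2) F)).factorization 2 = k + 2)
    (P : Sylow 2 (SpecialLinearGroup (Fin 2) F)) :
    Nonempty (P ≃* QuaternionGroup (2 ^ k)) := by
  obtain ⟨g₀, hg₀⟩ := IsCyclic.exists_ofOrder_eq_natCard (α := C)
  have hm0 : m ≠ 0 := by rintro rfl; simp at hm
  have hx : orderOf ((g₀ ^ m : C) : SpecialLinearGroup (Fin 2) F) = 2 * 2 ^ k := by
    rw [Subgroup.orderOf_coe, orderOf_pow_of_dvd hm0 (by rw [hg₀, hC]; exact Dvd.intro_left _ rfl),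
      hg₀, hC, Nat.mul_div_cancel _ (Nat.pos_of_ne_zero hm0), pow_succ, mul_comm]
  set x : SpecialLinearGroup (Fin 2) F := ((g₀ ^ m : C) : SpecialLinearGroup (Fin 2) F) with hxdef
  have hxC : x ∈ C := (g₀ ^ m).2
  refine sylow_two_quaternion (w := w) hk hx ?_ ?_ hv P
  · rw [hw]
    have h1 : x ^ 2 ^ k ≠ 1 := by
      intro h
      have := orderOf_dvd_of_pow_eq_one h
      rw [hx] at this
      have h2 := Nat.le_of_dvd (by positivity) this
      have : 0 < 2 ^ k := by positivity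
      omega
    have h2 : x ^ 2 ^ k * x ^ 2 ^ k = 1 := by
      rw [← pow_add, ← two_mul, ← hx, pow_orderOf_eq_one]
    have h3 := Cfsg.Agent.S0268.result hF _ h1 h2
    apply sl_ext
    rw [h3, negOneSL_val, Matrix.one_fin_two]
    ext i j
    fin_cases i <;> fin_cases j <;> simp
  · rw [hconj x hxC]; group


/-- For q odd, the Sylow 2-subgroups of SL_2(q) are generalised quaternion. -/
theorem result {F : Type*} [Field F] [Fintype F] (hF : Odd (Fintype.card F)) (P : Sylow 2 (Matrix.SpecialLinearGroup (Fin 2) F)) : ∃ k : ℕ, 1 ≤ k ∧ Nonempty ((P : Subgroup (Matrix.SpecialLinearGroup (Fin 2) F)) ≃* QuaternionGroup (2 ^ k)) := by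
  classical
  have h2F : (2 : F) ≠ 0 := two_ne_zero_of_odd_card hF
  set q := Fintype.card F with hq
  have hq1 : 1 < q := Fintype.one_lt_card
  have hcard : Nat.card (Matrix.SpecialLinearGroup (Fin 2) F) = q * ((q - 1) * (q + 1)) := by
    rw [card_SL2]
    congr 1
    obtain ⟨t, ht⟩ : ∃ t, q = t + 1 := ⟨q - 1, by omega⟩
    rw [← hq, ht]
    simp only [Nat.add_sub_cancel]
    have : (t + 1) ^ 2 = t * (t + 1 + 1) + 1 := by ring
    omega
  have hq4 : q % 4 = 1 ∨ q % 4 = 3 := by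
    have := Nat.odd_iff.1 hF
    omega
  rcases hq4 with hq4 | hq4
  · -- split torus
    obtain ⟨j, m, hm, hjm⟩ := Nat.exists_eq_two_pow_mul_odd (n := q - 1) (by omega)
    obtain ⟨s, hs⟩ : ∃ s, q + 1 = 2 ^ 1 * (2 * s + 1) := ⟨q / 4, by omega⟩
    have hj : 2 ≤ j := by
      by_contra hlt
      have hj' : j = 0 ∨ j = 1 := by omega
      obtain ⟨m', rfl⟩ := hm
      rcases hj' with rfl | rfl <;> omega
    obtain ⟨k, rfl⟩ : ∃ k, j = k + 1 := ⟨j - 1, by omega⟩
    refine ⟨k, by omega, ?_⟩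
    have := isCyclic_range_splitHom (F := F)
    refine sl2_sylow_two_quat hF (splitHom F).range (mkSL !![0, 1; -1, 0] (by simp [det_fin_two]))
      ?_ ?_ (by omega) hm (by rw [card_range_splitHom, ← hq, hjm]) ?_ P
    · apply sl_ext
      rw [Matrix.SpecialLinearGroup.coe_pow, mkSL_val, negOneSL_val, sq, Matrix.mul_fin_two]
      apply mat2_ext <;> simp
    · rintro _ ⟨a, rfl⟩
      rw [← map_inv]
      apply sl_ext
      rw [Matrix.SpecialLinearGroup.coe_mul, Matrix.SpecialLinearGroup.coe_mul, mkSL_val,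
        splitHom_val, splitHom_val, Matrix.mul_fin_two, Matrix.mul_fin_two]
      apply mat2_ext <;> simp
    · rw [hcard, hjm, hs]
      have e : q * (2 ^ (k + 1) * m * (2 ^ 1 * (2 * s + 1))) = 2 ^ (k + 2) * (q * (m * (2 * s + 1))) := by
        ring
      rw [e]
      exact v2_eq (hF.mul (hm.mul ⟨s, rfl⟩))
  · -- nonsplit torus
    obtain ⟨j, m, hm, hjm⟩ := Nat.exists_eq_two_pow_mul_odd (n := q + 1) (by omega)
    obtain ⟨s, hs⟩ : ∃ s, q - 1 = 2 ^ 1 * (2 * s + 1) := ⟨q / 4, by omega⟩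
    have hj : 2 ≤ j := by
      by_contra hlt
      have hj' : j = 0 ∨ j = 1 := by omega
      obtain ⟨m', rfl⟩ := hm
      rcases hj' with rfl | rfl <;> omega
    obtain ⟨k, rfl⟩ : ∃ k, j = k + 1 := ⟨j - 1, by omega⟩
    refine ⟨k, by omega, ?_⟩
    obtain ⟨a, b, hab⟩ := exists_aniso (F := F)
    obtain ⟨y₁, y₂, hy⟩ := exists_aniso_eq hab (-1)
    have := isCyclic_nonsplit hab
    refine sl2_sylow_two_quat hF (nonsplit a b)
      (mkSL !![y₁ + a * y₂, a * y₁ + (a ^ 2 - b) * y₂; -y₂, -(y₁ + a * y₂)] (by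
        rw [det_fin_two_of]; linear_combination -hy))
      ?_ ?_ (by omega) hm (by rw [card_nonsplit hab, ← hq, hjm]) ?_ P
    · apply sl_ext
      rw [Matrix.SpecialLinearGroup.coe_pow, mkSL_val, negOneSL_val, sq, Matrix.mul_fin_two]
      apply mat2_ext
      · linear_combination hy
      · ring
      · ring
      · linear_combination hy
    · intro g hg
      obtain ⟨h1, h2⟩ := mem_nonsplit.1 hg
      have hi : (g⁻¹).1 = !![g.1 1 1, -g.1 0 1; -g.1 1 0, g.1 0 0] := by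
        rw [Matrix.SpecialLinearGroup.SL2_inv_expl]; rfl
      apply sl_ext
      rw [Matrix.SpecialLinearGroup.coe_mul, Matrix.SpecialLinearGroup.coe_mul, mkSL_val, hi]
      conv_lhs => rw [Matrix.eta_fin_two g.1]
      rw [Matrix.mul_fin_two, Matrix.mul_fin_two, h1, h2]
      apply mat2_ext <;> ring
    · rw [hcard, hjm, hs]
      have e : q * (2 ^ 1 * (2 * s + 1) * (2 ^ (k + 1) * m)) = 2 ^ (k + 2) * (q * ((2 * s + 1) * m)) := by
        ring
      rw [e]
      exact v2_eq (hF.mul (Odd.mul ⟨s, rfl⟩ hm))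

end Cfsg.Agent.S0261
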