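import Cfsg.Statements.S4624
import Mathlib
import Cfsg.Agent.S4623
import Cfsg.Agent.S0261
import Cfsg.Agent.S0245
import Cfsg.Agent.Lib.Helper19.Quat
import Cfsg.Agent.Lib.Helper48.SpWreath
import Cfsg.Agent.Lib.Helper48.SylTorus

set_option autoImplicit false
open Cfsg

namespace Cfsg.Agent.S4624

open Cfsg.Agent.S4623 Cfsg.Agent.Lib.Helper48 Cfsg.Agent.Lib.Helper19 SemidirectProduct

theorem ExT_semi' {p : ℕ} {N T : Type*} [Group N] [Group T] (φ : T →* MulAut N)
    (hN : ExT p N) (hT : ExT p T) : ExT p (N ⋊[φ] T) := by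
  intro x
  rw [← inl_left_mul_inr_right x]
  apply mul_pow_mem
  · rw [← map_pow]
    exact map_comm_le _ ⟨_, hN _, rfl⟩
  · rw [← map_pow]
    exact map_comm_le _ ⟨_, hT _, rfl⟩

theorem ExT_pi {p : ℕ} {ι : Type*} [Finite ι] {Q : Type*} [Group Q] (hQ : ExT p Q) :
    ExT p (ι → Q) := by
  intro x
  have h := Subgroup.commutator_pi_pi_of_finite (η := ι) (Gs := fun _ => Q) (fun _ => ⊤) (fun _ => ⊤)
  rw [Subgroup.pi_top] at h
  rw [commutator_def, h, Subgroup.mem_pi]
  intro i _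
  exact hQ (x i)

theorem ExT_quat (k : ℕ) (hk : 1 ≤ k) : ExT 2 (QuaternionGroup (2 ^ k)) := by
  intro x
  rw [quat_commutator, quat_mem_zpowers_a_two]
  rcases x with i | i
  · refine ⟨i, ?_⟩
    rw [pow_two, QuaternionGroup.a_mul_a]
    congr 1
    ring
  · obtain ⟨j, rfl⟩ : ∃ j, k = j + 1 := ⟨k - 1, by omega⟩
    refine ⟨((2 ^ j : ℕ) : ZMod _), ?_⟩
    rw [pow_two, QuaternionGroup.xa_mul_xa]
    congr 1
    push_cast
    ring

theorem v2_pow (q : ℕ) (hq : Odd q) (hq1 : 1 < q) (i : ℕ) :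
    padicValNat 2 (q ^ (2 * (i + 1)) - 1) = padicValNat 2 (q ^ 2 - 1) + padicValNat 2 (i + 1) := by
  have h2 : ¬ 2 ∣ q := by
    rw [Nat.two_dvd_ne_zero]; exact Nat.odd_iff.1 hq
  have h3 : 2 ∣ q - 1 := by
    obtain ⟨t, rfl⟩ := hq
    exact ⟨t, by omega⟩
  have e1 := padicValNat.pow_two_sub_pow (x := q) (y := 1) hq1 h3 h2 (n := 2 * (i + 1))
    (by omega) (even_two_mul _)
  have e2 := padicValNat.pow_two_sub_pow (x := q) (y := 1) hq1 h3 h2 (n := 2)
    (by omega) even_two
  rw [one_pow] at e1 e2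
  rw [padicValNat.mul (by norm_num) (by omega)] at e1
  have e3 : padicValNat 2 2 = 1 := padicValNat.self (by norm_num)
  rw [e3] at e1 e2
  omega

theorem v2_prod (q : ℕ) (hq : Odd q) (hq1 : 1 < q) (n : ℕ) :
    padicValNat 2 (∏ i ∈ Finset.range n, (q ^ (2 * (i + 1)) - 1)) =
      n * padicValNat 2 (q ^ 2 - 1) + padicValNat 2 n.factorial := by
  induction n with
  | zero => simp
  | succ n ih =>
    have hne : ∀ i, q ^ (2 * (i + 1)) - 1 ≠ 0 := by
      intro i
      have : 1 < q ^ (2 * (i + 1)) := Nat.one_lt_pow (by omega) hq1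
      omega
    rw [Finset.prod_range_succ, padicValNat.mul (Finset.prod_ne_zero_iff.2 fun i _ => hne i)
      (hne n), ih, v2_pow q hq hq1, Nat.factorial_succ,
      padicValNat.mul (by omega) (Nat.factorial_ne_zero n)]
    ring

/-- Let F be a finite field of odd order and n ≥ 1. A Sylow 2-subgroup P of the symplectic group Sp_{2n}(F) has P/P' elementary abelian: the square of every element of P lies in the derived subgroup of P. -/
theorem result {F : Type*} [Field F] [Fintype F] (hF : Odd (Fintype.card F)) (n : ℕ) (hn : 1 ≤ n) (P : Sylow 2 (Matrix.symplecticGroup (Fin n) F)) :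
    ∀ x : (P : Subgroup (Matrix.symplecticGroup (Fin n) F)), x ^ 2 ∈ commutator (P : Subgroup (Matrix.symplecticGroup (Fin n) F)) := by
  classical
  set q := Fintype.card F with hq
  have hq1 : 1 < q := Fintype.one_lt_card
  have h2q : ¬ 2 ∣ q := by
    rw [Nat.two_dvd_ne_zero]; exact Nat.odd_iff.1 hF
  obtain ⟨Q⟩ : Nonempty (Sylow 2 (Matrix.SpecialLinearGroup (Fin 2) F)) := inferInstance
  obtain ⟨T⟩ : Nonempty (Sylow 2 (Equiv.Perm (Fin n))) := inferInstance
  obtain ⟨k, hk, ⟨e⟩⟩ := Cfsg.Agent.S0261.result hF Q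
  have hQ : ExT 2 (Q : Subgroup (Matrix.SpecialLinearGroup (Fin 2) F)) :=
    (ExT_quat k hk).of_equiv e.symm
  have hT : ExT 2 (T : Subgroup (Equiv.Perm (Fin n))) := sym_ExT 2 n T
  have hH := ExT_semi' (mulAutArrow : (T : Subgroup (Equiv.Perm (Fin n))) →*
    MulAut (Fin n → (Q : Subgroup (Matrix.SpecialLinearGroup (Fin 2) F)))) (ExT_pi hQ) hT
  have hne : q ^ 2 - 1 ≠ 0 := by
    have : 1 < q ^ 2 := Nat.one_lt_pow (by omega) hq1
    omega
  have hcard : Nat.card ((Fin n → (Q : Subgroup (Matrix.SpecialLinearGroup (Fin 2) F))) ⋊[(mulAutArrow :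
      (T : Subgroup (Equiv.Perm (Fin n))) →* MulAut (Fin n → (Q : Subgroup (Matrix.SpecialLinearGroup (Fin 2) F))))]
      (T : Subgroup (Equiv.Perm (Fin n)))) =
      2 ^ (Nat.card (Matrix.symplecticGroup (Fin n) F)).factorization 2 := by
    rw [SemidirectProduct.card, Nat.card_fun, Q.card_eq_multiplicity, T.card_eq_multiplicity,
      Cfsg.Agent.S0245.result hq.symm n, Cfsg.Agent.Lib.Helper7.card_SL2, Nat.card_perm,
      Nat.card_fin, ← hq]
    simp only [Nat.factorization_def _ Nat.prime_two]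
    have hprod : (∏ i ∈ Finset.range n, (q ^ (2 * (i + 1)) - 1)) ≠ 0 := by
      rw [Finset.prod_ne_zero_iff]
      intro i _
      have : 1 < q ^ (2 * (i + 1)) := Nat.one_lt_pow (by omega) hq1
      omega
    have hqn : padicValNat 2 (q ^ n ^ 2) = 0 :=
      padicValNat.eq_zero_of_not_dvd (fun h => h2q (Nat.prime_two.dvd_of_dvd_pow h))
    rw [padicValNat.mul (by omega) hne, padicValNat.mul (by positivity) hprod,
      hqn, padicValNat.eq_zero_of_not_dvd h2q, v2_prod q hF hq1 n,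
      ← pow_mul, ← pow_add]
    congr 1
    ring
  have : Finite (Matrix.symplecticGroup (Fin n) F) := inferInstance
  obtain ⟨e2⟩ := sylow_mulEquiv_of_injective 2 (spWreath (Q : Subgroup _) (T : Subgroup _))
    (spWreath_injective _ _) hcard P
  exact hH.of_equiv e2.symm

end Cfsg.Agent.S4624
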