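import Cfsg.Statements.S0193
import Cfsg.Agent.Lib.Helper5.Clifford

set_option autoImplicit false
open Cfsg

namespace Cfsg.Agent.S0193

open Cfsg.Agent.Lib.Helper5 Cfsg.Agent.Lib.Helper20

/-- Let H be a normal subgroup of a finite group G and θ an irreducible character of H. Then |H| times the inner product of the induced function of θ with itself equals the number of g in G with θ(g h g⁻¹) = θ(h) for all h in H; in particular the induced character is irreducible when only elements of H stabilise θ. -/
theorem result {G : Type*} [Group G] [Fintype G] (H : Subgroup G) [hN : H.Normal] (θ : H → ℂ) (hθ : Cfsg.IsIrrCharacter H θ) : (Nat.card H : ℂ) * Cfsg.classInner (Cfsg.indFun H θ) (Cfsg.indFun H θ) = (Nat.card {g : G // ∀ h : H, θ ⟨g * h * g⁻¹, hN.conj_mem h h.2 g⟩ = θ h} : ℂ) := by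
  classical
  have : Fintype H := Fintype.ofFinite H
  rw [Cfsg.Agent.Lib.Helper19.frobenius_reciprocity H θ _
    (Cfsg.Agent.Lib.Helper19.indFun_isClassFunction H θ), indFun_restrict_normal hN,
    classInner_smul_right, classInner_sum_right]
  have h1 : ∀ x : G, Cfsg.classInner θ (cjF hN θ x) = if cjF hN θ x = θ then 1 else 0 := by
    intro x
    rw [classInner_irr hθ (isIrrCharacter_cjF hN hθ x)]
    by_cases h : cjF hN θ x = θ
    · rw [if_pos h, if_pos h.symm]
    · rw [if_neg h, if_neg (fun h' => h h'.symm)]
  simp_rw [h1]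
  rw [Finset.sum_boole]
  have hH : (Nat.card H : ℂ) ≠ 0 := by exact_mod_cast Nat.card_pos.ne'
  rw [map_inv₀, Complex.conj_natCast, ← mul_assoc, mul_inv_cancel₀ hH, one_mul]
  congr 1
  rw [Nat.card_eq_fintype_card, Fintype.card_subtype]
  congr 1
  ext g
  simp only [Finset.mem_filter, Finset.mem_univ, true_and]
  constructor
  · intro h x
    exact congrFun h x
  · intro h
    funext x
    exact h x

end Cfsg.Agent.S0193
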