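import Cfsg.Statements.S0200
import Cfsg.Agent.S0199
import Cfsg.Agent.Lib.Helper5.DihedralIso

set_option autoImplicit false
open Cfsg

namespace Cfsg.Agent.S0200

open Cfsg.Agent.Lib.Helper5

/-- An involution lying in no normal 2-subgroup of a finite group inverts a nontrivial element of odd order (a consequence of the Baer–Suzuki Theorem). -/
theorem result {G : Type*} [Group G] [Finite G] (t : G) (ht : orderOf t = 2) (hO : ∀ N : Subgroup G, N.Normal → IsPGroup 2 N → t ∉ N) : ∃ h : G, h ≠ 1 ∧ Odd (orderOf h) ∧ t * h * t⁻¹ = h⁻¹ := by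
  have hX : IsPGroup 2 (Subgroup.zpowers t) :=
    IsPGroup.of_card (n := 1) (by rw [Nat.card_zpowers, ht, pow_one])
  have hex : ∃ g : G, ¬ IsPGroup 2 ↥(Subgroup.zpowers t ⊔ (Subgroup.zpowers t).map (MulAut.conj g).toMonoidHom) := by
    by_contra hcon
    push Not at hcon
    obtain ⟨N, hN1, hN2, hN3⟩ := Cfsg.Agent.S0199.result (p := 2) (Subgroup.zpowers t) hX hcon
    exact hO N hN1 hN2 (hN3 (Subgroup.mem_zpowers t))
  obtain ⟨g, hg⟩ := hex
  obtain ⟨s, hs⟩ : ∃ s, s = g * t * g⁻¹ := ⟨_, rfl⟩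
  have hs2 : orderOf s = 2 := by
    apply order_two_of_mul_self
    · rw [hs]
      calc g * t * g⁻¹ * (g * t * g⁻¹) = g * (t * t) * g⁻¹ := by group
        _ = 1 := by rw [mul_self_of_order_two ht]; group
    · rw [hs]
      intro h
      apply ne_one_of_order_two ht
      calc t = g⁻¹ * (g * t * g⁻¹) * g := by group
        _ = 1 := by rw [h]; group
  have heq : Subgroup.zpowers t ⊔ (Subgroup.zpowers t).map (MulAut.conj g).toMonoidHom
      = Subgroup.closure ({t, s} : Set G) := by
    rw [MonoidHom.map_zpowers, Subgroup.zpowers_eq_closure, Subgroup.zpowers_eq_closure,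
      ← Subgroup.closure_union, hs]
    rfl
  rw [heq] at hg
  have hpos : orderOf (t * s) ≠ 0 := (orderOf_pos _).ne'
  obtain ⟨k, m, hm, hkm⟩ := Nat.exists_eq_two_pow_mul_odd hpos
  have hm1 : m ≠ 1 := by
    rintro rfl
    apply hg
    apply IsPGroup.of_card (n := k + 1)
    rw [dih_card ht hs2, hkm, mul_one, pow_succ, mul_comm]
  have hord : orderOf ((t * s) ^ (2 ^ k)) = m := by
    rw [orderOf_pow_of_dvd (by positivity) (by rw [hkm]; exact Dvd.intro _ rfl), hkm]
    exact Nat.mul_div_cancel_left _ (by positivity)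
  refine ⟨(t * s) ^ (2 ^ k), ?_, hord ▸ hm, ?_⟩
  · intro h
    rw [h, orderOf_one] at hord
    exact hm1 hord.symm
  · have := dih_conj_zpow ht hs2 ((2 ^ k : ℕ) : ℤ)
    rw [zpow_neg, zpow_natCast] at this
    exact this

end Cfsg.Agent.S0200
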