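import Cfsg.Statements.S1946
import Cfsg.Agent.S0071
import Cfsg.Agent.Lib.Helper11.OmegaAut
import Cfsg.Agent.Lib.Helper11.AxB

set_option autoImplicit false
open Cfsg

namespace Cfsg.Agent.S1946

open Cfsg.Agent.Lib.Helper11
open scoped commutatorElement

theorem mem_normalizer_of_conj_mem {G : Type*} [Group G] [Finite G] (D : Subgroup G) (g : G)
    (h : ∀ d ∈ D, g * d * g⁻¹ ∈ D) : g ∈ Subgroup.normalizer (D : Set G) := by
  rw [Subgroup.mem_normalizer_iff]
  intro x
  refine ⟨h x, fun hx => ?_⟩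
  let f : D → D := fun d => ⟨g * d * g⁻¹, h d d.2⟩
  have hf : Function.Injective f := by
    intro a b hab
    have := congrArg Subtype.val hab
    simp only [f] at this
    apply Subtype.ext
    simpa using this
  obtain ⟨d, hd⟩ := (Finite.injective_iff_surjective.1 hf) ⟨_, hx⟩
  have := congrArg Subtype.val hd
  simp only [f] at this
  have hdx : (d : G) = x := by simpa using this
  rw [← hdx]; exact d.2

theorem key {G : Type*} [Group G] [Finite G] {p : ℕ} [Fact p.Prime] (P : Sylow p G)
    (hfus : ∀ a ∈ (P : Subgroup G), (a ^ p = 1 ∨ (p = 2 ∧ a ^ 4 = 1)) → ∀ g : G,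
      g * a * g⁻¹ ∈ (P : Subgroup G) → ∃ x ∈ (P : Subgroup G), g * a * g⁻¹ = x * a * x⁻¹)
    (g : G) (hgp : (orderOf g).Coprime p) (n : ℕ) :
    ∀ Q : Subgroup G, Nat.card Q = n → Q ≤ (P : Subgroup G) →
      g ∈ Subgroup.normalizer (Q : Set G) → g ∈ Subgroup.centralizer (Q : Set G) := by
  induction n using Nat.strong_induction_on with
  | _ n ih =>
  intro Q hn hQP hgN
  have hQp : IsPGroup p Q := P.isPGroup'.to_le hQP
  have hgQ : ∀ y ∈ Q, g * y * g⁻¹ ∈ Q := fun y hy => (Subgroup.mem_normalizer_iff.1 hgN y).1 hy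
  have hcardlt : ∀ R : Subgroup G, R ≤ Q → R ≠ Q → Nat.card R < n := by
    intro R hR hne
    rw [← hn]
    refine lt_of_le_of_ne (Subgroup.card_le_of_le hR) ?_
    intro heq
    exact hne (Subgroup.eq_of_le_of_card_ge hR heq.ge)
  let W : Subgroup G := Subgroup.closure {x | x ∈ Q ∧ (x ^ p = 1 ∨ (p = 2 ∧ x ^ 4 = 1))}
  have hWQ : W ≤ Q := by
    rw [Subgroup.closure_le]
    intro x hx
    exact hx.1
  have hgW : g ∈ Subgroup.normalizer (W : Set G) := by
    apply mem_normalizer_of_conj_mem
    intro d hd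
    induction hd using Subgroup.closure_induction with
    | mem y hy =>
      apply Subgroup.subset_closure
      refine ⟨hgQ y hy.1, ?_⟩
      rcases hy.2 with h1 | ⟨h2, h1⟩
      · left; rw [conj_pow, h1]; group
      · right; refine ⟨h2, ?_⟩; rw [conj_pow, h1]; group
    | one => simp
    | mul y z _ _ hy hz =>
      have : g * (y * z) * g⁻¹ = (g * y * g⁻¹) * (g * z * g⁻¹) := by group
      rw [this]; exact W.mul_mem hy hz
    | inv y _ hy =>
      have : g * y⁻¹ * g⁻¹ = (g * y * g⁻¹)⁻¹ := by group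
      rw [this]; exact W.inv_mem hy
  by_cases hWeq : W = Q
  · -- generated by the small elements: use the lower central series of `P`
    by_cases hQ1 : Q = ⊥
    · rw [hQ1, Subgroup.mem_centralizer_iff]
      intro y hy
      have : y = 1 := by simpa using hy
      rw [this]; simp
    have hnil : Group.IsNilpotent (P : Subgroup G) := P.isPGroup'.isNilpotent
    obtain ⟨m, hm⟩ := (Subgroup.isNilpotent_iff_lowerCentralSeries _).mp hnil
    have hex : ∃ j, ¬ Q ≤ (P : Subgroup G).lowerCentralSeries j :=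
      ⟨m, by rw [hm]; intro h; exact hQ1 (le_bot_iff.1 h)⟩
    classical
    let j0 := Nat.find hex
    have hj0 : ¬ Q ≤ (P : Subgroup G).lowerCentralSeries j0 := Nat.find_spec hex
    have hj0pos : j0 ≠ 0 := by
      intro h0
      rw [h0] at hj0
      exact hj0 hQP
    obtain ⟨i, hi⟩ := Nat.exists_eq_succ_of_ne_zero hj0pos
    have hQi : Q ≤ (P : Subgroup G).lowerCentralSeries i := by
      by_contra hcon
      have := Nat.find_min' hex hcon
      change j0 ≤ i at this
      omega
    set K := (P : Subgroup G).lowerCentralSeries j0 with hK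
    have hKeq : K = ⁅(P : Subgroup G).lowerCentralSeries i, (P : Subgroup G)⁆ := by
      rw [hK, hi]; rfl
    have hPK : (P : Subgroup G) ≤ Subgroup.normalizer (K : Set G) :=
      Subgroup.self_le_normalizer_lowerCentralSeries _ _
    have hcomm : ∀ y ∈ Q, ⁅g, y⁆ ∈ K := by
      intro y hy
      rw [← hWeq] at hy
      induction hy using Subgroup.closure_induction with
      | mem x hx =>
        obtain ⟨u, hu, hux⟩ := hfus x (hQP hx.1) hx.2 g (hQP (hgQ x hx.1))
        have e1 : ⁅g, x⁆ = (⁅x, u⁆)⁻¹ := by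
          rw [commutatorElement_def, commutatorElement_def, hux]; group
        rw [e1, hKeq]
        exact Subgroup.inv_mem _ (Subgroup.commutator_mem_commutator (hQi hx.1) hu)
      | one => simp
      | mul y z hy' _ hy hz =>
        have e1 : ⁅g, y * z⁆ = ⁅g, y⁆ * (y * ⁅g, z⁆ * y⁻¹) := by
          simp only [commutatorElement_def]; group
        rw [e1]
        refine K.mul_mem hy ?_
        exact (Subgroup.mem_normalizer_iff.1 (hPK (hQP (hWQ hy'))) _).1 hz
      | inv y hy' hy =>
        have e1 : ⁅g, y⁻¹⁆ = y⁻¹ * (⁅g, y⁆)⁻¹ * y⁻¹⁻¹ := by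
          simp only [commutatorElement_def]; group
        rw [e1]
        exact (Subgroup.mem_normalizer_iff.1 (hPK (hQP (hWQ (W.inv_mem hy')))) _).1 (K.inv_mem hy)
    have hcommQ : ∀ y ∈ Q, ⁅g, y⁆ ∈ Q := by
      intro y hy
      rw [commutatorElement_def]
      exact Q.mul_mem (hgQ y hy) (Q.inv_mem hy)
    have hg1 : g ∈ Subgroup.normalizer ((Q ⊓ K : Subgroup G) : Set G) := by
      apply mem_normalizer_of_conj_mem
      intro d hd
      refine ⟨hgQ d hd.1, ?_⟩
      have e1 : g * d * g⁻¹ = ⁅g, d⁆ * d := by rw [commutatorElement_def]; group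
      rw [e1]
      exact K.mul_mem (hcomm d hd.1) hd.2
    have hne : Q ⊓ K ≠ Q := by
      intro h
      exact hj0 (h ▸ inf_le_right)
    have hc1 := ih _ (hcardlt _ inf_le_left hne) (Q ⊓ K) rfl (inf_le_left.trans hQP) hg1
    rw [Subgroup.mem_centralizer_iff]
    intro y hy
    symm
    apply commute_of_commute_commutator (p := p) g y _ hgp
    · obtain ⟨j, hj⟩ := hQp ⟨_, hcommQ y hy⟩
      refine ⟨j, ?_⟩
      have := congrArg Subtype.val hj
      simpa using this
    · exact (Subgroup.mem_centralizer_iff.1 hc1 _ ⟨hcommQ y hy, hcomm y hy⟩).symm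
  · have hc1 := ih _ (hcardlt W hWQ hWeq) W rfl (hWQ.trans hQP) hgW
    apply mem_centralizer_of_fix_omega Q hQp g hgN hgp
    intro x hxQ hx
    exact (Subgroup.mem_centralizer_iff.1 hc1 x (Subgroup.subset_closure ⟨hxQ, hx⟩)).symm

/-- Let P be a Sylow p-subgroup of the finite group G. Then G has a normal p-complement if and only if P controls the fusion of its elements of order dividing p (dividing 4 when p = 2): whenever such an element a of P has a G-conjugate g a g⁻¹ in P, that conjugate is already x a x⁻¹ for some x in P. -/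
theorem result {G : Type*} [Group G] [Finite G] {p : ℕ} [Fact p.Prime] (P : Sylow p G) :
    Cfsg.HasNormalPComplement p G ↔
      ∀ a ∈ (P : Subgroup G), (a ^ p = 1 ∨ (p = 2 ∧ a ^ 4 = 1)) → ∀ g : G, g * a * g⁻¹ ∈ (P : Subgroup G) →
        ∃ x ∈ (P : Subgroup G), g * a * g⁻¹ = x * a * x⁻¹ := by
  have hp : p.Prime := Fact.out
  constructor
  · rintro ⟨P', N, hN, hc⟩ a ha _ g hg
    -- `N` is also a complement of `P`
    have hcard : Nat.card (P : Subgroup G) = Nat.card (P' : Subgroup G) := by
      rw [P.card_eq_multiplicity, P'.card_eq_multiplicity]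
    have hNcop : (Nat.card N).Coprime (Nat.card (P : Subgroup G)) := by
      have h8 := hc.card_mul_card
      have h9 := (P' : Subgroup G).card_mul_index
      have h10 : Nat.card N = (P' : Subgroup G).index := by
        have hpos : 0 < Nat.card (P' : Subgroup G) := Nat.card_pos
        have : Nat.card (P' : Subgroup G) * Nat.card N
            = Nat.card (P' : Subgroup G) * (P' : Subgroup G).index := by
          rw [h9, mul_comm, h8]
        exact Nat.eq_of_mul_eq_mul_left hpos this
      rw [h10, hcard]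
      exact (P'.card_coprime_index).symm
    have hc' : N.IsComplement' (P : Subgroup G) :=
      Subgroup.isComplement'_of_coprime (by rw [hcard]; exact hc.card_mul_card) hNcop
    obtain ⟨⟨⟨x, hx⟩, ⟨k, hk⟩⟩, hxk⟩ := hc'.symm.2 g
    have hxk' : x * k = g := hxk
    refine ⟨x, hx, ?_⟩
    have ht : k * a * k⁻¹ ∈ (P : Subgroup G) := by
      have e : k * a * k⁻¹ = x⁻¹ * (g * a * g⁻¹) * x := by rw [← hxk']; group
      rw [e]
      exact (P : Subgroup G).mul_mem ((P : Subgroup G).mul_mem ((P : Subgroup G).inv_mem hx) hg) hx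
    have h1 : a⁻¹ * (k * a * k⁻¹) ∈ N := by
      have e : a⁻¹ * (k * a * k⁻¹) = (a⁻¹ * k * a⁻¹⁻¹) * k⁻¹ := by group
      rw [e]
      exact N.mul_mem (hN.conj_mem k hk a⁻¹) (N.inv_mem hk)
    have h2 : a⁻¹ * (k * a * k⁻¹) ∈ (P : Subgroup G) :=
      (P : Subgroup G).mul_mem ((P : Subgroup G).inv_mem ha) ht
    have h3 : a⁻¹ * (k * a * k⁻¹) = 1 := by
      have := hc'.disjoint.le_bot ⟨h1, h2⟩
      simpa using this
    have h4 : k * a * k⁻¹ = a := by
      have := congrArg (fun t => a * t) h3
      simpa using this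
    calc g * a * g⁻¹ = x * (k * a * k⁻¹) * x⁻¹ := by rw [← hxk']; group
      _ = x * a * x⁻¹ := by rw [h4]
  · intro hfus
    have hkey : ∃ N : Subgroup G, N.Normal ∧ N.IsComplement' (P : Subgroup G) := by
      rw [Cfsg.Agent.S0071.result P]
      intro Q hQP g hgN hgp
      exact key P hfus g hgp _ Q rfl hQP hgN
    obtain ⟨N, hN, hc⟩ := hkey
    exact ⟨P, N, hN, hc⟩

end Cfsg.Agent.S1946
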