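import Cfsg.Statements.S1264
-- import your own Cfsg.Agent.* helpers here
import Cfsg.Agent.Lib.Helper27.Components
import Cfsg.Agent.Lib.Helper28.Cores

set_option autoImplicit false
open Cfsg

namespace Cfsg.Agent.S1264

/-- Let G be finite, C = C_G(F(G)) the centralizer of the Fitting subgroup, and N a solvable subgroup of C normalized by C. Then N ≤ Z(F(G)). -/
theorem result {G : Type*} [Group G] [Finite G] (N : Subgroup G) (hN : N ≤ Subgroup.centralizer (Cfsg.fittingSubgroup G : Set G)) (hnorm : Subgroup.centralizer (Cfsg.fittingSubgroup G : Set G) ≤ Subgroup.normalizer (N : Set G)) (hsolv : Group.IsSolvable ↥N) : N ≤ (Subgroup.center ↥(Cfsg.fittingSubgroup G)).map (Cfsg.fittingSubgroup G).subtype := by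
  classical
  set F := Cfsg.fittingSubgroup G with hF
  set C := Subgroup.centralizer (F : Set G) with hC
  have hFn : F.Normal := Cfsg.Agent.Lib.Helper28.fitting_normal
  have hCn : C.Normal := inferInstance
  have hNsn : N.IsSubnormal :=
    Subgroup.IsSubnormal.trans hN
      ((Subgroup.normal_subgroupOf_iff_le_normalizer hN).2 hnorm).isSubnormal hCn.isSubnormal
  have hNF : N ≤ F := by
    by_contra hcon
    let T : Set (Subgroup G) := {S | S.IsSubnormal ∧ S ≤ N ∧ ¬ S ≤ F}
    have hTne : T.Nonempty := ⟨N, hNsn, le_rfl, hcon⟩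
    obtain ⟨S, hS⟩ := (Set.toFinite T).exists_minimal hTne
    obtain ⟨hSsn, hSN, hSF⟩ := hS.prop
    have hSne : S ≠ ⊥ := by
      intro h; apply hSF; rw [h]; exact bot_le
    have hSsolv : Group.IsSolvable S :=
      Group.isSolvable_of_isSolvable_injective (Subgroup.inclusion_injective hSN)
    have hne : ⁅S, S⁆ ≠ S := by
      intro h
      have hp : Group.IsPerfect S := Subgroup.isPerfect_iff.2 h
      have hnt : Nontrivial S := (Subgroup.nontrivial_iff_ne_bot S).2 hSne
      exact Group.IsPerfect.not_isSolvable S hSsolv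
    have hDsn : (⁅S, S⁆ : Subgroup G).IsSubnormal :=
      Subgroup.IsSubnormal.trans (Subgroup.commutator_le_self S)
        ((Subgroup.normal_subgroupOf_iff_le_normalizer (Subgroup.commutator_le_self S)).2
          (Subgroup.normalizer_commutator_ge_left S S)).isSubnormal hSsn
    have hDF : ⁅S, S⁆ ≤ F := by
      by_contra h
      exact hne (le_antisymm (Subgroup.commutator_le_self S)
        (hS.le_of_le ⟨hDsn, (Subgroup.commutator_le_self S).trans hSN, h⟩
          (Subgroup.commutator_le_self S)))
    have h3 : ⁅⁅S, S⁆, S⁆ = ⊥ := by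
      rw [Subgroup.commutator_comm, Subgroup.commutator_eq_bot_iff_le_centralizer]
      exact (hSN.trans hN).trans (Subgroup.centralizer_le (by exact_mod_cast hDF))
    have hnil : Group.IsNilpotent S := by
      apply Subgroup.isNilpotent_of_lowerCentralSeries_eq_bot (n := 2)
      rw [Subgroup.lowerCentralSeries_succ, Subgroup.lowerCentralSeries_succ,
        Subgroup.lowerCentralSeries_zero]
      exact h3
    exact hSF (Cfsg.Agent.Lib.Helper28.subnormal_le_fitting hSsn hnil)
  intro n hn
  refine ⟨⟨n, hNF hn⟩, ?_, rfl⟩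
  rw [SetLike.mem_coe, Subgroup.mem_center_iff]
  intro f
  apply Subtype.ext
  exact (Subgroup.mem_centralizer_iff.1 (hN hn)) f f.2

end Cfsg.Agent.S1264
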