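import Cfsg.Statements.S0081
-- import your own Cfsg.Agent.* helpers here
import Cfsg.Agent.Lib.Helper2.TateExt

set_option autoImplicit false
open Cfsg

namespace Cfsg.Agent.S0081

open Cfsg.Agent.Lib.Helper2 in
lemma main {G : Type*} [Group G] [Finite G] {p : ℕ} [Fact p.Prime] (P : Sylow p G)
    (N : Subgroup G) [N.Normal]
    (h : N ⊓ (P : Subgroup G) ≤ (frattini P).map (P : Subgroup G).subtype) :
    Cfsg.HasNormalPComplement p N := by
  obtain ⟨K, hKdef⟩ : ∃ K : Subgroup G, K = (Cfsg.pResidual p N).map N.subtype := ⟨_, rfl⟩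
  have hK2 : K = Subgroup.closure {x : G | x ∈ N ∧ Nat.Coprime (orderOf x) p} := by
    rw [hKdef, map_pResidual_subtype]
  have hKN : K ≤ N := by
    rw [hKdef]
    exact Subgroup.map_subtype_le _
  have hKn : K.Normal := by
    rw [hK2]
    apply closure_normal_of_conj_invariant
    intro g x hx
    refine ⟨‹N.Normal›.conj_mem x hx.1 g, ?_⟩
    rw [orderOf_conj]
    exact hx.2
  have hKres : Cfsg.pResidual p K = ⊤ := by
    rw [← Subgroup.map_subtype_inj, map_pResidual_subtype, ← MonoidHom.range_eq_map,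
      Subgroup.range_subtype]
    apply le_antisymm
    · rw [Subgroup.closure_le]
      exact fun x hx => hx.1
    · conv_lhs => rw [hK2]
      apply Subgroup.closure_mono
      intro x hx
      refine ⟨?_, hx.2⟩
      rw [hK2]
      exact Subgroup.subset_closure hx
  have hfr : K.subgroupOf (P : Subgroup G) ≤ frattini (P : Subgroup G) := by
    intro x hx
    have hx' : (x : G) ∈ K := hx
    have h1 : (x : G) ∈ N ⊓ (P : Subgroup G) := Subgroup.mem_inf.mpr ⟨hKN hx', x.2⟩
    obtain ⟨y, hy, hyx⟩ := Subgroup.mem_map.mp (h h1)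
    have : y = x := Subtype.ext hyx
    rwa [← this]
  have hbot := tate_core P K hKres hfr
  rw [hasNormalPComplement_iff_inf_pResidual (sylowInfNormal P N), coe_sylowInfNormal, eq_bot_iff]
  intro x hx
  obtain ⟨hx1, hx2⟩ := Subgroup.mem_inf.mp hx
  have hxP : (x : G) ∈ (P : Subgroup G) := hx1
  have hxK : (x : G) ∈ K := by
    rw [hKdef]
    exact Subgroup.mem_map.mpr ⟨x, hx2, rfl⟩
  have h3 : (⟨x.1, hxP⟩ : (P : Subgroup G)) ∈ K.subgroupOf (P : Subgroup G) := hxK
  rw [hbot, Subgroup.mem_bot] at h3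
  rw [Subgroup.mem_bot]
  apply Subtype.ext
  exact congrArg (fun z : (P : Subgroup G) => (z : G)) h3

/-- If a normal subgroup meets a Sylow p-subgroup P inside the Frattini subgroup of P, then it has a normal p-complement. -/
theorem result {G : Type*} [Group G] [Finite G] {p : ℕ} [Fact p.Prime] (P : Sylow p G) (N : Subgroup G) [N.Normal] (h : N ⊓ (P : Subgroup G) ≤ (frattini P).map (P : Subgroup G).subtype) : Cfsg.HasNormalPComplement p N := by
  exact main P N h

end Cfsg.Agent.S0081
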