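import Cfsg.Statements.S3081
import Cfsg.Agent.Lib.Helper57.FC10
-- import your own Cfsg.Agent.* helpers here

set_option autoImplicit false
open Cfsg

namespace Cfsg.Agent.S3081


/-- Let p be an odd prime, G a finite group in which Qd(p) (the natural semidirect product of an elementary abelian group of order p² by SL₂(p)) is not involved, P a Sylow p-subgroup and D a subgroup of P strongly closed in P with respect to G. Then N_G(Z(J(D))) controls strong G-fusion in P (for every subset A of P and every g ∈ G with gAg⁻¹ ⊆ P, some element of that normalizer acts on A exactly as g does; J(D) is generated by the abelian subgroups of D of largest order), and so does N_G(Ω₁(Z(J_e(D)))) (J_e(D) generated by the elementary abelian subgroups of largest order). -/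
theorem result {G : Type*} [Group G] [Finite G] {p : ℕ} [Fact p.Prime] (hp : p ≠ 2) (P : Sylow p G) (D : Subgroup G) (hD : Cfsg.IsStronglyClosed D (P : Subgroup G)) (hqd : ¬ Cfsg.Involves ↥(Cfsg.qd p) G) : (∀ A : Set G, A ⊆ (P : Subgroup G) → Cfsg.ControlsStrongFusionOf (Subgroup.normalizer ((Cfsg.centerThompsonAOf D) : Set G)) (P : Subgroup G) A) ∧ (∀ A : Set G, A ⊆ (P : Subgroup G) → Cfsg.ControlsStrongFusionOf (Subgroup.normalizer ((Cfsg.omegaOne p (Cfsg.centerThompsonOf p D)) : Set G)) (P : Subgroup G) A) := by
  have hloc : ∀ (X : Type _) [Group X], Cfsg.Agent.Lib.Helper40.IsSec G X →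
      Subgroup.centralizer ((Cfsg.pCore p X : Subgroup X) : Set X) ≤ Cfsg.pCore p X →
      ∀ (S : Sylow p X) (D' : Subgroup X), Cfsg.IsStronglyClosed D' (S : Subgroup X) →
        (Cfsg.centerThompsonAOf D').Normal ∧
          (Cfsg.omegaOne p (Cfsg.centerThompsonOf p D')).Normal := by
    intro X _ hX hc S D' hD'
    have : Finite X := hX.finite
    exact Cfsg.Agent.S3079.result hp S D' hD'
      (Cfsg.Agent.Lib.Helper57.Quad.isNormalizerPStable_of_ps
        (Cfsg.Agent.Lib.Helper57.Quad.ps_of_free hp (Cfsg.Agent.Lib.Helper57.Quad.dicksonStrong hp)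
          (Cfsg.Agent.Lib.Helper68.not_involves_of_isSec hX hqd))) hc
  constructor
  · intro A hA
    have h := Cfsg.Agent.Lib.Helper57.FC.sc_single
      (Cfsg.Agent.Lib.Helper57.WZ_isCharPFunctor (p := p) (e := 0) (Or.inl rfl))
      (fun X _ hX hc S D' hD' => by
        have : Finite X := hX.finite
        rw [Cfsg.Agent.Lib.Helper57.ind_WZ_zero]
        exact (hloc X hX hc S D' hD').1) P D hD A hA
    rwa [Cfsg.Agent.Lib.Helper57.ind_WZ_zero] at h
  · intro A hA
    have h := Cfsg.Agent.Lib.Helper57.FC.sc_single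
      (Cfsg.Agent.Lib.Helper57.WZ_isCharPFunctor (p := p) (e := p) (Or.inr rfl))
      (fun X _ hX hc S D' hD' => by
        have : Finite X := hX.finite
        rw [Cfsg.Agent.Lib.Helper57.FC.ind_WZ_p]
        exact (hloc X hX hc S D' hD').2) P D hD A hA
    rwa [Cfsg.Agent.Lib.Helper57.FC.ind_WZ_p] at h

end Cfsg.Agent.S3081
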