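import Cfsg.Statements.S0646
-- import your own Cfsg.Agent.* helpers here
import Cfsg.Agent.Lib.Helper59.TwoGroupCyc

set_option autoImplicit false
open Cfsg

namespace Cfsg.Agent.S0646

open Cfsg.Agent.Lib.Helper59

/-- Classification of non-abelian 2-groups with a cyclic maximal subgroup: dihedral, generalized quaternion, and for order at least 16 the modular group and the semidihedral group, each given by generators a (of index 2) and b with the stated relations. -/
theorem result {G : Type*} [Group G] [Finite G] (n : ℕ) (hn : 3 ≤ n) (hG : Nat.card G = 2 ^ n) (C : Subgroup G) (hC : IsCyclic C) (hCi : C.index = 2) (hna : ∃ x y : G, x * y ≠ y * x) : ∃ a b : G, orderOf a = 2 ^ (n - 1) ∧ b ∉ Subgroup.zpowers a ∧ ((b ^ 2 = 1 ∧ b * a * b⁻¹ = a⁻¹) ∨ (b ^ 2 = a ^ (2 ^ (n - 2)) ∧ b * a * b⁻¹ = a⁻¹) ∨ (4 ≤ n ∧ b ^ 2 = 1 ∧ b * a * b⁻¹ = a ^ (1 + 2 ^ (n - 2))) ∨ (4 ≤ n ∧ b ^ 2 = 1 ∧ b * a * b⁻¹ = a ^ (2 ^ (n - 2) - 1))) := by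
  obtain ⟨k, rfl⟩ : ∃ k, n = k + 3 := ⟨n - 3, by omega⟩
  obtain ⟨g, hg⟩ := hC.exists_generator
  have hCz : C = Subgroup.zpowers (g : G) := by
    ext x
    constructor
    · intro hx
      obtain ⟨i, hi⟩ := hg ⟨x, hx⟩
      exact ⟨i, by simpa using congrArg Subtype.val hi⟩
    · rintro ⟨i, rfl⟩
      exact C.zpow_mem g.2 i
  have hcardC : Nat.card C = 4 * 2 ^ k := by
    have := C.card_mul_index
    rw [hCi, hG] at this
    have e : 2 ^ (k + 3) = (4 * 2 ^ k) * 2 := by ring
    rw [e] at this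
    exact Nat.eq_of_mul_eq_mul_right (by norm_num) this
  have ha : orderOf (g : G) = 4 * 2 ^ k := by
    rw [← hcardC, Subgroup.orderOf_coe]
    exact orderOf_eq_card_of_forall_mem_zpowers hg
  set a : G := (g : G) with hadef
  have hCn : C.Normal := Subgroup.normal_of_index_eq_two hCi
  obtain ⟨b, hb⟩ : ∃ b, b ∉ C := by
    by_contra h
    push Not at h
    have : C = ⊤ := (Subgroup.eq_top_iff' C).mpr h
    rw [this, Subgroup.index_top] at hCi
    omega
  have haC : a ∈ C := g.2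
  have h1 : b * a * b⁻¹ ∈ Subgroup.zpowers a := hCz ▸ hCn.conj_mem a haC b
  have h2 : b * b ∈ Subgroup.zpowers a := hCz ▸ Subgroup.mul_self_mem_of_index_two hCi b
  have hform : ∀ x : G, (∃ i : ℤ, x = a ^ i) ∨ (∃ i : ℤ, x = a ^ i * b) := by
    intro x
    by_cases hx : x ∈ C
    · left
      rw [hCz] at hx
      obtain ⟨i, hi⟩ := hx
      exact ⟨i, hi.symm⟩
    · right
      have hb' : b⁻¹ ∉ C := fun h => hb (by simpa using C.inv_mem h)
      have : x * b⁻¹ ∈ C := (Subgroup.mul_mem_iff_of_index_two hCi).mpr ⟨fun h => absurd h hx, fun h => absurd h hb'⟩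
      rw [hCz] at this
      obtain ⟨i, hi⟩ := this
      refine ⟨i, ?_⟩
      simp only at hi
      rw [hi]; group
  have h3 : b * a ≠ a * b := by
    intro hcomm
    obtain ⟨x, y, hxy⟩ := hna
    apply hxy
    have hab : Commute a b := hcomm.symm
    have hac : a ∈ Subgroup.center G := by
      rw [Subgroup.mem_center_iff]
      intro z
      rcases hform z with ⟨i, rfl⟩ | ⟨i, rfl⟩
      · exact ((Commute.refl a).zpow_left i).eq
      · exact (((Commute.refl a).zpow_left i).mul_left hab.symm).eq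
    have hbc : b ∈ Subgroup.center G := by
      rw [Subgroup.mem_center_iff]
      intro z
      rcases hform z with ⟨i, rfl⟩ | ⟨i, rfl⟩
      · exact (hab.zpow_left i).eq
      · exact ((hab.zpow_left i).mul_left (Commute.refl b)).eq
    have hxc : x ∈ Subgroup.center G := by
      rcases hform x with ⟨i, rfl⟩ | ⟨i, rfl⟩
      · exact Subgroup.zpow_mem _ hac i
      · exact Subgroup.mul_mem _ (Subgroup.zpow_mem _ hac i) hbc
    exact ((Subgroup.mem_center_iff.mp hxc) y).symm
  obtain ⟨i, hi⟩ := cyc_ext_classify a b k ha h1 h2 h3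
  have e1 : 2 ^ (k + 3 - 1) = 4 * 2 ^ k := by
    have : k + 3 - 1 = k + 2 := by omega
    rw [this]; ring
  have e2 : 2 ^ (k + 3 - 2) = 2 * 2 ^ k := by
    have : k + 3 - 2 = k + 1 := by omega
    rw [this]; ring
  refine ⟨a, a ^ i * b, by rw [e1]; exact ha, ?_, ?_⟩
  · intro h
    apply hb
    rw [hCz]
    have := Subgroup.mul_mem _ (Subgroup.zpow_mem _ (Subgroup.mem_zpowers a) (-i)) h
    simpa using this
  · rw [e2, pow_two]
    rcases hi with h | h | ⟨hk, h⟩ | ⟨hk, h⟩
    · exact Or.inl h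
    · exact Or.inr (Or.inl h)
    · exact Or.inr (Or.inr (Or.inl ⟨by omega, h⟩))
    · exact Or.inr (Or.inr (Or.inr ⟨by omega, h⟩))

end Cfsg.Agent.S0646
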