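import Cfsg.Statements.S5187
import Cfsg.Agent.Lib.Helper16.Ess.Rank2F

set_option autoImplicit false
universe u
open Cfsg

namespace Cfsg.Agent.S5187

open Cfsg.Agent.Lib.Helper16.Ess

/-- Let F be a saturated fusion system over a finite p-group S and H an abelian essential subgroup that can be generated by two elements (its Frattini quotient has order at most p²). Then H is elementary abelian of order p², or p ≤ 3 and H is homocyclic of rank two, that is isomorphic to C_{pᵏ} × C_{pᵏ} for some k. -/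
theorem result {Ω : Type u} [Group Ω] {S : Subgroup Ω} [Finite S] (p : ℕ) [Fact p.Prime] (hS : IsPGroup p S)
    (F : Cfsg.FusionSystem S) (hF : F.IsSaturated p) (H : Subgroup Ω) (hH : F.IsEssential p H) (hab : IsMulCommutative ↥H) (hrk : (frattini ↥H).index ≤ p ^ 2) :
    (Cfsg.IsElementaryAbelian p H ∧ Nat.card H = p ^ 2) ∨
      (p ≤ 3 ∧ ∃ k : ℕ, Nonempty (↥H ≃* Multiplicative (ZMod (p ^ k) × ZMod (p ^ k)))) := by
  have hHS : H ≤ S := hH.1.1
  have hfin : Finite H := Cfsg.Agent.Lib.Helper86.finite_of_le hHS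
  have hHp : IsPGroup p H := hS.to_le hHS
  have hc : ∀ a b : H, a * b = b * a := fun a b => hab.is_comm.comm a b
  have hcl : HasFlag2 p ↥H ∨ ((∀ x : H, x ^ p = 1) ∧ Nat.card H = p ^ 2) ∨
      (∃ a : ℕ, Nonempty (↥H ≃* Multiplicative (ZMod (p ^ a) × ZMod (p ^ a))) ∧
        (∀ x : H, x ^ p = 1 → x ∈ frattini ↥H) ∧ Nat.card H = p ^ 2 * Nat.card (frattini ↥H)) := by
    let _ : CommGroup H := { (inferInstance : Group H) with mul_comm := hc }
    exact rank2_classify (P := ↥H) hHp hrk
  rcases hcl with h | ⟨h1, h2⟩ | ⟨a, hiso, hΩ, hcard⟩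
  · exact absurd h (no_flag2 hS F hF hH)
  · left
    refine ⟨⟨hab, fun a ha => ?_⟩, h2⟩
    exact congrArg Subtype.val (h1 ⟨a, ha⟩)
  · right
    by_cases h3 : p ≤ 3
    · exact ⟨h3, a, hiso⟩
    · exfalso
      have hp : p.Prime := Fact.out
      have h5 : 5 ≤ p := by
        rcases Nat.lt_or_ge p 5 with h | h
        · have : p = 4 := by omega
          subst this
          exact absurd hp (by norm_num)
        · exact h
      exact no_homocyclic hS F hF hH hc h5 hΩ hcard

end Cfsg.Agent.S5187
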