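import Cfsg.Statements.S4419
import Cfsg.Agent.Lib.Helper77.Frobenius
import Cfsg.Agent.Lib.Helper77.CoprimeAut
import Cfsg.Agent.Lib.Helper28.Cores
import Cfsg.Agent.S0072

set_option autoImplicit false
open Cfsg

namespace Cfsg.Agent.S4419

open Cfsg.Agent.Lib.Helper77 Subgroup

/-- Subgroups of metacyclic groups are generated by two elements. -/
theorem two_gen_of_metacyclic {T : Type*} [Group T] (hT : Cfsg.IsMetacyclic T) (Q : Subgroup T) :
    ∃ x y : T, Q = closure {x, y} := by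
  obtain ⟨N, hN, hNc, hTN⟩ := hT
  have h1 : IsCyclic (Q ⊓ N : Subgroup T) := Subgroup.isCyclic_of_le inf_le_right
  obtain ⟨x, hx⟩ := (Subgroup.isCyclic_iff_exists_zpowers_eq_top _).1 h1
  have h2 : IsCyclic (Q.map (QuotientGroup.mk' N)) := inferInstance
  obtain ⟨y', hy'⟩ := (Subgroup.isCyclic_iff_exists_zpowers_eq_top _).1 h2
  have hy'mem : y' ∈ Q.map (QuotientGroup.mk' N) := hy' ▸ mem_zpowers y'
  obtain ⟨y, hyQ, rfl⟩ := hy'mem
  have hxQ : x ∈ Q ⊓ N := hx ▸ mem_zpowers x
  refine ⟨x, y, le_antisymm ?_ ?_⟩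
  · intro q hq
    have h3 : QuotientGroup.mk' N q ∈ zpowers (QuotientGroup.mk' N y) := hy' ▸ mem_map_of_mem _ hq
    obtain ⟨k, hk⟩ := mem_zpowers_iff.1 h3
    have h4 : (y ^ k)⁻¹ * q ∈ N := by
      rw [← QuotientGroup.eq, ← QuotientGroup.mk'_apply, map_zpow, hk]; rfl
    have h5 : (y ^ k)⁻¹ * q ∈ Q ⊓ N := Subgroup.mem_inf.2 ⟨mul_mem (inv_mem (zpow_mem hyQ k)) hq, h4⟩
    rw [← hx] at h5
    have hxc : x ∈ closure ({x, y} : Set T) := subset_closure (by simp)
    have hyc : y ∈ closure ({x, y} : Set T) := subset_closure (by simp)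
    have h6 : (y ^ k)⁻¹ * q ∈ closure ({x, y} : Set T) := (zpowers_le.2 hxc) h5
    have h7 : q = y ^ k * ((y ^ k)⁻¹ * q) := by group
    rw [h7]
    exact mul_mem (zpow_mem hyc k) h6
  · rw [closure_le]
    rintro z (rfl | rfl)
    · exact hxQ.1
    · exact hyQ

/-- An `r`-element normalizing a two-generator `p`-subgroup centralizes it unless `r ∣ p (p^2-1)`. -/
theorem core {G : Type*} [Group G] [Finite G] (p r : ℕ) [hp : Fact p.Prime] [hr : Fact r.Prime]
    (Q : Subgroup G) (hQ : IsPGroup p Q) (x y : G) (hxy : Q = closure {x, y})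
    (g : G) (hg : g ∈ normalizer (Q : Set G)) (a : ℕ) (hga : orderOf g = r ^ a) (hrp : r ≠ p)
    (hr2 : ¬ r ∣ p ^ 2 - 1) : g ∈ centralizer (Q : Set G) := by
  have hxQ : x ∈ Q := hxy ▸ subset_closure (by simp)
  have hyQ : y ∈ Q := hxy ▸ subset_closure (by simp)
  have htop : closure ({⟨x, hxQ⟩, ⟨y, hyQ⟩} : Set Q) = ⊤ := by
    apply Subgroup.map_injective Q.subtype_injective
    rw [MonoidHom.map_closure, Set.image_pair, ← MonoidHom.range_eq_map, Subgroup.range_subtype]
    exact hxy.symm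
  have hcard := card_frattini_quotient_le_of_two_gen hQ _ _ htop
  let α : MulAut Q := Q.normalizerMonoidHom ⟨g, hg⟩
  have hα : α ^ (r ^ a) = 1 := by
    rw [← map_pow]
    have : (⟨g, hg⟩ : normalizer (Q : Set G)) ^ (r ^ a) = 1 := by
      apply Subtype.ext
      rw [Subgroup.coe_pow, ← hga]
      exact pow_orderOf_eq_one g
    rw [this, map_one]
  have hR : IsPGroup r (zpowers α) := by
    rintro ⟨β, hβ⟩
    obtain ⟨k, rfl⟩ := mem_zpowers_iff.1 hβ
    refine ⟨a, Subtype.ext ?_⟩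
    rw [Subgroup.coe_pow, Subgroup.coe_one]
    show (α ^ k) ^ (r ^ a) = 1
    rw [← zpow_natCast, ← zpow_mul, mul_comm, zpow_mul, zpow_natCast, hα, one_zpow]
  have hrD : ∀ i, 1 ≤ i → i ≤ 2 → ¬ r ∣ p ^ i - 1 := by
    intro i h1 h2 hdvd
    have hi : i = 1 ∨ i = 2 := by omega
    rcases hi with rfl | rfl
    · apply hr2
      refine dvd_trans hdvd ?_
      have := Nat.sub_dvd_pow_sub_pow p 1 2
      simpa using this
    · exact hr2 hdvd
  have h1 := aut_trivial_of_card_frattini_quotient hQ (zpowers α) hR hrp 2 hcard hrD α (mem_zpowers α)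
  have h2 : (⟨g, hg⟩ : normalizer (Q : Set G)) ∈ Q.normalizerMonoidHom.ker := h1
  rw [normalizerMonoidHom_ker] at h2
  exact mem_subgroupOf.1 h2

theorem mem_centralizer_of_mem_normal_coprime {G : Type*} [Group G] [Finite G] (p : ℕ)
    (K : Subgroup G) [hKn : K.Normal] (hKc : (Nat.card K).Coprime p) (Q : Subgroup G) (hQ : IsPGroup p Q)
    (g : G) (hg : g ∈ normalizer (Q : Set G)) (hgK : g ∈ K) : g ∈ centralizer (Q : Set G) := by
  rw [mem_centralizer_iff]
  intro q hq
  have h1 : g * q * g⁻¹ * q⁻¹ ∈ K := by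
    have : g * q * g⁻¹ * q⁻¹ = g * (q * g⁻¹ * q⁻¹) := by group
    rw [this]
    exact mul_mem hgK (hKn.conj_mem _ (inv_mem hgK) q)
  have h2 : g * q * g⁻¹ * q⁻¹ ∈ Q := mul_mem ((mem_normalizer_iff.1 hg q).1 hq) (inv_mem hq)
  have h3 : orderOf (g * q * g⁻¹ * q⁻¹) ∣ Nat.card K := by
    have := orderOf_dvd_natCard (⟨_, h1⟩ : K)
    rwa [← Subgroup.orderOf_coe] at this
  obtain ⟨j, hj⟩ := hQ ⟨_, h2⟩
  have h4 : orderOf (g * q * g⁻¹ * q⁻¹) ∣ p ^ j := by
    apply orderOf_dvd_of_pow_eq_one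
    exact congrArg Subtype.val hj
  have h5 : orderOf (g * q * g⁻¹ * q⁻¹) = 1 :=
    Nat.eq_one_of_dvd_coprimes (Nat.Coprime.pow_right j hKc) h3 h4
  rw [orderOf_eq_one_iff] at h5
  have h6 : g * q = q * g := by
    calc g * q = (g * q * g⁻¹ * q⁻¹) * (q * g) := by group
      _ = q * g := by rw [h5, one_mul]
  exact h6.symm

theorem mem_of_orderOf_coprime_index {G : Type*} [Group G] (L : Subgroup G) [L.Normal] (g : G)
    (h : (orderOf g).Coprime L.index) : g ∈ L := by
  have h1 : g ^ L.index ∈ L := L.pow_index_mem g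
  obtain ⟨m, hm⟩ := exists_pow_eq_self_of_coprime h.symm
  rw [← hm]
  exact L.pow_mem h1 m

theorem pPrimePCore_normal' (p : ℕ) (G : Type*) [Group G] : (Cfsg.pPrimePCore p G).Normal := by
  unfold Cfsg.pPrimePCore
  infer_instance

theorem backward {G : Type*} [Group G] [Finite G] (p : ℕ) [hp : Fact p.Prime] (S : Sylow p G)
    (hS : Cfsg.IsMetacyclic ↥(S : Subgroup G))
    (hcop : Nat.Coprime (Cfsg.pPrimePCore p G).index (p ^ 2 - 1)) : FrobCond p G := by
  apply frobCond_of_sylow S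
  intro Q hQS
  have hQ : IsPGroup p Q := S.2.to_le hQS
  obtain ⟨x', y', hxy'⟩ := two_gen_of_metacyclic hS (Q.subgroupOf S)
  have hxy : Q = closure {(x' : G), (y' : G)} := by
    have h1 := congrArg (Subgroup.map (S : Subgroup G).subtype) hxy'
    rw [subgroupOf_map_subtype, inf_eq_left.2 hQS, MonoidHom.map_closure, Set.image_pair] at h1
    exact h1
  have key : ∀ n : ℕ, ∀ g ∈ normalizer (Q : Set G), orderOf g = n → n.Coprime p → g ∈ centralizer (Q : Set G) := by
    intro n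
    induction n using Nat.recOnPrimeCoprime with
    | zero =>
      intro g _ h0 _
      exact absurd h0 (orderOf_pos g).ne'
    | prime_pow r a hr =>
      intro g hg hga hc
      have : Fact r.Prime := ⟨hr⟩
      rcases Nat.eq_zero_or_pos a with rfl | ha
      · rw [pow_zero, orderOf_eq_one_iff] at hga
        rw [hga]; exact one_mem _
      have hrp : r ≠ p := by
        rintro rfl
        have := Nat.Coprime.coprime_dvd_left (dvd_pow_self r ha.ne') hc
        rw [Nat.coprime_self] at this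
        exact hr.one_lt.ne' this
      by_cases hr2 : r ∣ p ^ 2 - 1
      · -- g lies in O_{p',p}(G), hence in O_{p'}(G)
        have := pPrimePCore_normal' p G
        have hrL : Nat.Coprime r (Cfsg.pPrimePCore p G).index :=
          (Nat.Coprime.coprime_dvd_right hr2 hcop).symm
        have hgL : g ∈ Cfsg.pPrimePCore p G :=
          mem_of_orderOf_coprime_index _ g (by rw [hga]; exact Nat.Coprime.pow_left a hrL)
        have h1 : QuotientGroup.mk' (Cfsg.pPrimeCore p G) g ∈ Cfsg.pCore p (G ⧸ Cfsg.pPrimeCore p G) := hgL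
        obtain ⟨j, hj⟩ := (Cfsg.Agent.Lib.Helper28.pCore_isPGroup p (G := G ⧸ Cfsg.pPrimeCore p G)) ⟨_, h1⟩
        have h2 : orderOf (QuotientGroup.mk' (Cfsg.pPrimeCore p G) g) ∣ p ^ j :=
          orderOf_dvd_of_pow_eq_one (congrArg Subtype.val hj)
        have h3 : orderOf (QuotientGroup.mk' (Cfsg.pPrimeCore p G) g) ∣ r ^ a := hga ▸ orderOf_map_dvd _ g
        have h4 : Nat.Coprime (p ^ j) (r ^ a) :=
          Nat.Coprime.pow _ _ ((Nat.coprime_primes hp.out hr).2 hrp.symm)
        have h5 := Nat.eq_one_of_dvd_coprimes h4 h2 h3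
        rw [orderOf_eq_one_iff] at h5
        have hgK : g ∈ Cfsg.pPrimeCore p G := (QuotientGroup.eq_one_iff g).1 h5
        exact mem_centralizer_of_mem_normal_coprime p _ (Cfsg.Agent.Lib.Helper28.pPrimeCore_coprime p) Q hQ g hg hgK
      · exact core p r Q hQ _ _ hxy g hg a hga hrp hr2
    | coprime a b ha hb hab iha ihb =>
      intro g hg hgab hc
      have h1 : orderOf (g ^ a) = b := by
        rw [orderOf_pow_of_dvd (by omega) (hgab ▸ Dvd.intro _ rfl), hgab, Nat.mul_div_cancel_left _ (by omega)]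
      have h2 : orderOf (g ^ b) = a := by
        rw [orderOf_pow_of_dvd (by omega) (hgab ▸ Dvd.intro_left _ rfl), hgab, Nat.mul_div_cancel _ (by omega)]
      have h3 := ihb (g ^ a) (pow_mem hg a) h1 (Nat.Coprime.coprime_dvd_left (Dvd.intro_left _ rfl) hc)
      have h4 := iha (g ^ b) (pow_mem hg b) h2 (Nat.Coprime.coprime_dvd_left (Dvd.intro _ rfl) hc)
      have h5 : g = (g ^ a) ^ (Nat.gcdA a b) * (g ^ b) ^ (Nat.gcdB a b) := by
        rw [← zpow_natCast g a, ← zpow_natCast g b, ← zpow_mul, ← zpow_mul, ← zpow_add, ← Nat.gcd_eq_gcd_ab,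
          hab.gcd_eq_one]
        simp
      rw [h5]
      exact mul_mem (zpow_mem h3 _) (zpow_mem h4 _)
  intro g hg hgo
  exact key _ g hg rfl hgo

/-- Let p be a prime and G a finite group whose Sylow p-subgroups are metacyclic (a cyclic normal subgroup with cyclic quotient). Then G has a normal p-complement if and only if the order of G/O_{p′,p}(G) is coprime to p² − 1. -/
theorem result {G : Type*} [Group G] [Finite G] (p : ℕ) [Fact p.Prime] (S : Sylow p G) (hS : Cfsg.IsMetacyclic ↥(S : Subgroup G)) : Cfsg.HasNormalPComplement p G ↔ Nat.Coprime (Nat.card (G ⧸ Cfsg.pPrimePCore p G)) (p ^ 2 - 1) := by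
  constructor
  · intro h
    obtain ⟨K, hKn, hKc, k, hk⟩ := (Cfsg.Agent.S0072.hasNPC_iff p).1 h
    have h1 : K ≤ Cfsg.pPrimeCore p G := Cfsg.Agent.Lib.Helper28.le_pPrimeCore hKn hKc
    have h2 : IsPGroup p (G ⧸ Cfsg.pPrimeCore p G) := by
      have h3 : (Cfsg.pPrimeCore p G).index ∣ p ^ k := hk ▸ index_dvd_of_le h1
      exact IsPGroup.of_card_dvd_pow h3
    have h4 : Cfsg.pPrimePCore p G = ⊤ := by
      unfold Cfsg.pPrimePCore
      rw [Cfsg.Agent.Lib.Helper28.pCore_eq_top_of h2, comap_top]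
    have h5 : Nat.card (G ⧸ Cfsg.pPrimePCore p G) = 1 := by
      show (Cfsg.pPrimePCore p G).index = 1
      rw [h4, index_top]
    rw [h5]
    exact Nat.coprime_one_left _
  · intro h
    rw [Cfsg.Agent.S0072.hasNPC_iff, npc_iff_frobCond]
    exact backward p S hS h

end Cfsg.Agent.S4419
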