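import Cfsg.Statements.S4143
import Cfsg.Agent.S0112
import Cfsg.Agent.Lib.Helper3.NormalSeries

set_option autoImplicit false
open Cfsg

namespace Cfsg.Agent.S4143

theorem lt_card {X : Type*} [Group X] [Finite X] {p : ℕ} [Fact p.Prime] (hX : IsPGroup p X)
    {H K : Subgroup X} (h : H < K) : p * Nat.card H ≤ Nat.card K := by
  have hp : p.Prime := Fact.out
  have h1 : Nat.card H * H.relIndex K = Nat.card K := by
    have := Subgroup.relIndex_mul_relIndex ⊥ H K bot_le h.le
    rwa [Subgroup.relIndex_bot_left, Subgroup.relIndex_bot_left] at this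
  obtain ⟨n, hn⟩ := IsPGroup.iff_card.mp (hX.to_subgroup K)
  have h2 : H.relIndex K ∣ p ^ n := hn ▸ Dvd.intro_left _ h1
  obtain ⟨j, _, hj⟩ := (Nat.dvd_prime_pow hp).mp h2
  have hj0 : j ≠ 0 := by
    rintro rfl
    rw [pow_zero, Subgroup.relIndex_eq_one] at hj
    exact absurd h (not_lt_of_ge hj)
  have h3 : p ≤ H.relIndex K := by
    rw [hj]
    calc p = p ^ 1 := (pow_one p).symm
      _ ≤ p ^ j := Nat.pow_le_pow_right hp.pos (Nat.one_le_iff_ne_zero.mpr hj0)
  calc p * Nat.card H ≤ H.relIndex K * Nat.card H := Nat.mul_le_mul_right _ h3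
    _ = Nat.card K := by rw [mul_comm, h1]

/-- Let X be a finite p-group of order p^n containing a non-abelian subgroup B of order p³ with C_X(B) ≤ B. Then X has nilpotency class n − 1 (maximal class). -/
theorem result {X : Type*} [Group X] [Finite X] {p : ℕ} [Fact p.Prime] (n : ℕ) (hX : Nat.card X = p ^ n)
    (B : Subgroup X) (hB : Nat.card B = p ^ 3) (hBna : ¬ IsMulCommutative B) (hC : Subgroup.centralizer (B : Set X) ≤ B) :
    Group.nilpotencyClass X = n - 1 := by
  have hp : p.Prime := Fact.out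
  have hXp : IsPGroup p X := IsPGroup.of_card hX
  obtain ⟨b1, hb1, b2, hb2, hb12⟩ : ∃ b1 ∈ B, ∃ b2 ∈ B, b1 * b2 ≠ b2 * b1 := by
    by_contra h
    push Not at h
    exact hBna ⟨⟨fun a b => Subtype.ext (h a a.2 b b.2)⟩⟩
  have hnt : Nontrivial X := ⟨⟨b1 * b2, b2 * b1, hb12⟩⟩
  set Z := Subgroup.center X with hZ
  set ZB := Subgroup.centralizer (B : Set X) with hZB
  have hZZB : Z ≤ ZB := Subgroup.center_le_centralizer _
  -- chain
  set A1 := ZB ⊔ Subgroup.zpowers b1 with hA1
  set A2 := A1 ⊔ Subgroup.zpowers b2 with hA2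
  have hA1c : A1 ≤ Subgroup.centralizer ({b1} : Set X) := by
    rw [hA1, sup_le_iff]
    constructor
    · intro c hc
      rw [Subgroup.mem_centralizer_singleton_iff]
      exact ((Subgroup.mem_centralizer_iff.mp hc) b1 hb1).symm
    · rw [Subgroup.zpowers_le, Subgroup.mem_centralizer_singleton_iff]
  have h1 : ZB < A1 := by
    refine lt_of_le_of_ne le_sup_left ?_
    intro h
    have : b1 ∈ ZB := by rw [h]; exact (le_sup_right : _ ≤ A1) (Subgroup.mem_zpowers b1)
    exact hb12 ((Subgroup.mem_centralizer_iff.mp this) b2 hb2).symm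
  have h2 : A1 < A2 := by
    refine lt_of_le_of_ne le_sup_left ?_
    intro h
    have : b2 ∈ A1 := by rw [h]; exact (le_sup_right : _ ≤ A2) (Subgroup.mem_zpowers b2)
    exact hb12 (Subgroup.mem_centralizer_singleton_iff.mp (hA1c this)).symm
  have hA2B : A2 ≤ B := by
    rw [hA2, hA1]
    exact sup_le (sup_le hC (by rwa [Subgroup.zpowers_le])) (by rwa [Subgroup.zpowers_le])
  have c1 := lt_card hXp h1
  have c2 := lt_card hXp h2
  have c3 : Nat.card A2 ≤ p ^ 3 := hB ▸ Subgroup.card_le_of_le hA2B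
  have hZnt : Nontrivial Z := hXp.center_nontrivial
  have hZbot : (⊥ : Subgroup X) < Z := by
    rw [bot_lt_iff_ne_bot]
    exact (Subgroup.nontrivial_iff_ne_bot Z).mp hZnt
  have c0 := lt_card hXp hZbot
  rw [Subgroup.card_bot, mul_one] at c0
  have c4 : Nat.card Z ≤ Nat.card ZB := Subgroup.card_le_of_le hZZB
  have hpp : 0 < p := hp.pos
  have hZBp : Nat.card ZB ≤ p := by
    have : p * (p * Nat.card ZB) ≤ p * (p * p) := by
      calc p * (p * Nat.card ZB) ≤ p * Nat.card A1 := Nat.mul_le_mul_left _ c1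
        _ ≤ Nat.card A2 := c2
        _ ≤ p ^ 3 := c3
        _ = p * (p * p) := by ring
    exact Nat.le_of_mul_le_mul_left (Nat.le_of_mul_le_mul_left this hpp) hpp
  have hZcard : Nat.card Z = p := le_antisymm (c4.trans hZBp) c0
  have hZeq : Z = ZB := Subgroup.eq_of_le_of_card_ge hZZB (by rw [hZcard]; exact hZBp)
  have hA2eq : A2 = B := by
    apply Subgroup.eq_of_le_of_card_ge hA2B
    rw [hB]
    calc p ^ 3 = p * (p * p) := by ring
      _ = p * (p * Nat.card ZB) := by rw [← hZeq, hZcard]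
      _ ≤ p * Nat.card A1 := Nat.mul_le_mul_left _ c1
      _ ≤ Nat.card A2 := c2
  have hZB' : Z ≤ B := hZeq ▸ hC
  -- the image of B
  set Bb := B.map (QuotientGroup.mk' Z) with hBb
  have hcomapBb : Bb.comap (QuotientGroup.mk' Z) = B := by
    rw [hBb, Subgroup.comap_map_eq, QuotientGroup.ker_mk']
    exact sup_eq_left.mpr hZB'
  have hBbcard : Nat.card Bb = p ^ 2 := by
    have := Cfsg.Agent.Lib.Helper3.card_comap_mk' Z Bb
    rw [hcomapBb, hB, hZcard] at this
    have h3 : p ^ 2 * p = Nat.card Bb * p := by rw [← this]; ring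
    exact (Nat.eq_of_mul_eq_mul_right hpp h3).symm
  have hBbcomm : IsMulCommutative Bb := IsPGroup.isMulCommutative_of_card_eq_prime_sq hBbcard
  set T := (Subgroup.centralizer (Bb : Set (X ⧸ Z))).comap (QuotientGroup.mk' Z) with hT
  have hTmem : ∀ y ∈ T, ∀ b ∈ B, y * b * y⁻¹ * b⁻¹ ∈ Z := by
    intro y hy b hb
    rw [hT, Subgroup.mem_comap, Subgroup.mem_centralizer_iff] at hy
    have h3 := hy _ (Subgroup.mem_map_of_mem (QuotientGroup.mk' Z) hb)
    rw [← QuotientGroup.eq_one_iff]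
    have h4 : ((y * b * y⁻¹ * b⁻¹ : X) : X ⧸ Z) =
        (QuotientGroup.mk' Z y) * (QuotientGroup.mk' Z b) * (QuotientGroup.mk' Z y)⁻¹ *
          (QuotientGroup.mk' Z b)⁻¹ := by simp
    rw [h4, ← h3]; group
  have hBT : B ≤ T := by
    intro b hb
    rw [hT, Subgroup.mem_comap, Subgroup.mem_centralizer_iff]
    intro y hy
    have := hBbcomm.is_comm.comm ⟨y, hy⟩ ⟨_, Subgroup.mem_map_of_mem (QuotientGroup.mk' Z) hb⟩
    exact congrArg Subtype.val this
  -- the commutator homomorphisms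
  let φ : ∀ b ∈ B, T →* Z := fun b hb => MonoidHom.mk' (fun y => ⟨y * b * (y : X)⁻¹ * b⁻¹, hTmem y y.2 b hb⟩) (by
    intro y y'
    apply Subtype.ext
    simp only [Subgroup.coe_mul]
    have hz : (y' : X) * b * (y' : X)⁻¹ * b⁻¹ ∈ Z := hTmem y' y'.2 b hb
    have hzc := Subgroup.mem_center_iff.mp hz
    calc (y : X) * y' * b * ((y : X) * y')⁻¹ * b⁻¹
        = y * ((y' : X) * b * (y' : X)⁻¹ * b⁻¹) * (b * (y : X)⁻¹ * b⁻¹) := by group
      _ = ((y' : X) * b * (y' : X)⁻¹ * b⁻¹) * y * (b * (y : X)⁻¹ * b⁻¹) := by rw [hzc y]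
      _ = ((y' : X) * b * (y' : X)⁻¹ * b⁻¹) * (y * b * (y : X)⁻¹ * b⁻¹) := by group
      _ = (y * b * (y : X)⁻¹ * b⁻¹) * ((y' : X) * b * (y' : X)⁻¹ * b⁻¹) := (hzc _).symm)
  let ψ : T →* Z × Z := (φ b1 hb1).prod (φ b2 hb2)
  have hker : ψ.ker ≤ Z.subgroupOf T := by
    intro y hy
    rw [MonoidHom.mem_ker] at hy
    have e1 : (y : X) * b1 * (y : X)⁻¹ * b1⁻¹ = 1 := congrArg (fun w => ((Prod.fst w : Z) : X)) hy
    have e2 : (y : X) * b2 * (y : X)⁻¹ * b2⁻¹ = 1 := congrArg (fun w => ((Prod.snd w : Z) : X)) hy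
    rw [Subgroup.mem_subgroupOf, hZeq, hZB, ← hA2eq]
    have hle : A2 ≤ Subgroup.centralizer ({(y : X)} : Set X) := by
      rw [hA2, hA1, sup_le_iff, sup_le_iff]
      refine ⟨⟨?_, ?_⟩, ?_⟩
      · rw [← hZeq]
        exact Subgroup.center_le_centralizer _
      · rw [Subgroup.zpowers_le, Subgroup.mem_centralizer_singleton_iff]
        rw [mul_inv_eq_one, mul_inv_eq_iff_eq_mul] at e1
        exact e1.symm
      · rw [Subgroup.zpowers_le, Subgroup.mem_centralizer_singleton_iff]
        rw [mul_inv_eq_one, mul_inv_eq_iff_eq_mul] at e2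
        exact e2.symm
    rw [Subgroup.mem_centralizer_iff]
    intro a ha
    exact Subgroup.mem_centralizer_singleton_iff.mp (hle ha)
  have hTcard : Nat.card T ≤ p ^ 3 := by
    have e1 := ψ.ker.card_mul_index
    rw [Subgroup.index_ker] at e1
    have e2 : Nat.card ψ.ker ≤ p := by
      calc Nat.card ψ.ker ≤ Nat.card (Z.subgroupOf T) := Subgroup.card_le_of_le hker
        _ ≤ Nat.card Z := by
            rw [← Subgroup.card_map_of_injective T.subtype_injective, Subgroup.subgroupOf_map_subtype]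
            exact Subgroup.card_le_of_le inf_le_left
        _ = p := hZcard
    have e3 : Nat.card ψ.range ≤ p * p := by
      calc Nat.card ψ.range ≤ Nat.card (Z × Z) := Subgroup.card_le_card_group _
        _ = p * p := by rw [Nat.card_prod, hZcard]
    calc Nat.card T = Nat.card ψ.ker * Nat.card ψ.range := e1.symm
      _ ≤ p * (p * p) := Nat.mul_le_mul e2 e3
      _ = p ^ 3 := by ring
  have hTB : B = T := Subgroup.eq_of_le_of_card_ge hBT (by rw [hB]; exact hTcard)
  have hcent : Subgroup.centralizer (Bb : Set (X ⧸ Z)) = Bb := by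
    have := Subgroup.map_comap_eq_self_of_surjective (QuotientGroup.mk'_surjective Z)
      (Subgroup.centralizer (Bb : Set (X ⧸ Z)))
    rw [← this, ← hT, ← hTB]
  have hn3 : 3 ≤ n := by
    have h3 : p ^ 3 ∣ p ^ n := by
      rw [← hB, ← hX]; exact Subgroup.card_subgroup_dvd_card B
    exact (Nat.pow_dvd_pow_iff_le_right hp.one_lt).mp h3
  have hq : Nat.card (X ⧸ Z) = p ^ (n - 1) := by
    have := Subgroup.card_eq_card_quotient_mul_card_subgroup Z
    rw [hX, hZcard] at this
    have h3 : p ^ (n - 1) * p = Nat.card (X ⧸ Z) * p := by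
      rw [← this, ← pow_succ]; congr 1; omega
    exact (Nat.eq_of_mul_eq_mul_right hpp h3).symm
  have hcl := Cfsg.Agent.S0112.result (X := X ⧸ Z) (p := p) (n - 1) hq Bb hBbcard hcent
  have hnil : Group.IsNilpotent X := hXp.isNilpotent
  rw [Group.nilpotencyClass_eq_quotient_center_plus_one, hcl]
  omega

end Cfsg.Agent.S4143
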