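import Cfsg.Statements.S1896
import Cfsg.Agent.Lib.Helper68.MT7
import Cfsg.Agent.Lib.Helper89.StabSubgroup

set_option autoImplicit false
open Cfsg

namespace Cfsg.Agent.S1896

open Subgroup Cfsg.Agent.Lib.Helper68.MT Cfsg.Agent.Lib.Helper59

/-- A finite group that is not a `p`-group has an element of prime order `r ≠ p`. -/
theorem exists_prime_order {A : Type*} [Group A] [Finite A] {p : ℕ} [Fact p.Prime]
    (hA : ¬ IsPGroup p A) : ∃ (δ : A) (r : ℕ), r.Prime ∧ r ≠ p ∧ δ ^ r = 1 ∧ δ ≠ 1 := by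
  by_contra hno
  push Not at hno
  apply hA
  apply Cfsg.Agent.Lib.Helper89.isPGroup_of_coprime_trivial
  intro g hcop
  by_contra hg
  have h1 : orderOf g ≠ 1 := fun h => hg (orderOf_eq_one_iff.1 h)
  obtain ⟨r, hr, hrd⟩ := Nat.exists_prime_and_dvd h1
  have hrp : r ≠ p := by
    rintro rfl
    have := Nat.eq_one_of_dvd_coprimes hcop hrd dvd_rfl
    exact hr.one_lt.ne' this
  have ho : orderOf (g ^ (orderOf g / r)) = r := orderOf_pow_orderOf_div (orderOf_pos g).ne' hrd
  have h2 := hno (g ^ (orderOf g / r)) r hr hrp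
    (by rw [← pow_mul, Nat.div_mul_cancel hrd, pow_orderOf_eq_one])
  rw [h2, orderOf_one] at ho
  exact hr.one_lt.ne ho

theorem Pair.comm_of_commute {U : Type*} [Group U] {a a' : U} (hp : Pair a a') (h : Commute a a')
    (u v : U) : u * v = v * u := by
  have h1 : ∀ w : U, Commute w a := by
    intro w
    have hle : zpowers a ⊔ zpowers a' ≤ centralizer {a} := by
      refine sup_le (zpowers_le.2 ?_) (zpowers_le.2 ?_)
      · rw [mem_centralizer_singleton_iff]
      · rw [mem_centralizer_singleton_iff]; exact h.symm.eq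
    rw [hp.top] at hle
    exact mem_centralizer_singleton_iff.1 (hle (mem_top w))
  have h2 : ∀ w : U, Commute w a' := by
    intro w
    have hle : zpowers a ⊔ zpowers a' ≤ centralizer {a'} := by
      refine sup_le (zpowers_le.2 ?_) (zpowers_le.2 ?_)
      · rw [mem_centralizer_singleton_iff]; exact h.eq
      · rw [mem_centralizer_singleton_iff]
    rw [hp.top] at hle
    exact mem_centralizer_singleton_iff.1 (hle (mem_top w))
  have hle : zpowers a ⊔ zpowers a' ≤ centralizer {v} := by
    refine sup_le (zpowers_le.2 ?_) (zpowers_le.2 ?_)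
    · rw [mem_centralizer_singleton_iff]; exact (h1 v).symm.eq
    · rw [mem_centralizer_singleton_iff]; exact (h2 v).symm.eq
  rw [hp.top] at hle
  exact mem_centralizer_singleton_iff.1 (hle (mem_top u))

/-- The homocyclic case. -/
theorem homocyclic_of_pair {X : Type*} [Group X] [Finite X] {a a' : X} (hp : Pair a a')
    (hinf : zpowers a ⊓ zpowers a' = ⊥) {N : ℕ} (h1 : orderOf a = N) (h2 : orderOf a' = N) :
    Nonempty (X ≃* Multiplicative (ZMod N) × Multiplicative (ZMod N)) := by
  have hcomm : ∀ w w' : X, w' * w = w * w' := by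
    intro w w'
    have := hp.comm_mem w w'
    rw [hinf, mem_bot] at this
    calc w' * w = (w' * w * w'⁻¹ * w⁻¹) * (w * w') := by group
      _ = w * w' := by rw [this, one_mul]
  let f : ↥(zpowers a) × ↥(zpowers a') →* X :=
    MonoidHom.noncommCoprod (zpowers a).subtype (zpowers a').subtype (fun m n => hcomm _ _)
  have hf : ∀ z, f z = (z.1 : X) * (z.2 : X) := fun z => rfl
  have hinj : Function.Injective f := by
    rw [injective_iff_map_eq_one]
    rintro ⟨x, y⟩ hxy
    rw [hf] at hxy
    have hx : (x : X) = (y : X)⁻¹ := eq_inv_of_mul_eq_one_left hxy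
    have hx' : (x : X) ∈ zpowers a ⊓ zpowers a' := ⟨x.2, hx ▸ (zpowers a').inv_mem y.2⟩
    rw [hinf, mem_bot] at hx'
    have hy' : (y : X) = 1 := by
      rw [hx'] at hx
      exact inv_eq_one.1 hx.symm
    exact Prod.ext (Subtype.ext hx') (Subtype.ext hy')
  have hsurj : Function.Surjective f := by
    intro w
    have hn : zpowers a' ≤ normalizer (zpowers a : Set X) := by
      have := hp.n0
      rw [Subgroup.normalizer_eq_top]; exact le_top
    obtain ⟨x, hx, y, hy, rfl⟩ := (Cfsg.Agent.Lib.Helper14.mem_sup_of_le_normalizer hn).1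
      (hp.top ▸ mem_top w)
    exact ⟨(⟨x, hx⟩, ⟨y, hy⟩), rfl⟩
  have e1 : Multiplicative (ZMod N) ≃* ↥(zpowers a) := by
    have hc : Nat.card (zpowers a) = N := by rw [Nat.card_zpowers, h1]
    rw [← hc]
    exact zmodCyclicMulEquiv inferInstance
  have e2 : Multiplicative (ZMod N) ≃* ↥(zpowers a') := by
    have hc : Nat.card (zpowers a') = N := by rw [Nat.card_zpowers, h2]
    rw [← hc]
    exact zmodCyclicMulEquiv inferInstance
  exact ⟨(MulEquiv.ofBijective f ⟨hinj, hsurj⟩).symm.trans (MulEquiv.prodCongr e1.symm e2.symm)⟩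

/-- The quaternion case. -/
theorem quaternion_of_pair {X : Type*} [Group X] [Finite X] (hX : IsPGroup 2 X) {a a' : X}
    (hp : Pair a a') (hord : orderOf a' = orderOf a) (ha4 : a ^ 4 = 1) (hcard : Nat.card X ≤ 8)
    {u v : X} (huv : u * v ≠ v * u) : Nonempty (X ≃* QuaternionGroup 2) := by
  have hc8 := card_eq_eight_of_le hX hcard huv
  have hn0 := hp.n0
  have hn1 := hp.n1
  have hDn : (zpowers a ⊓ zpowers a').Normal := inferInstance
  have e := Cfsg.Agent.Lib.Helper14.card_mul_card_eq_of_le_normalizer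
    (H := zpowers a) (K := zpowers a') (by rw [Subgroup.normalizer_eq_top]; exact le_top)
  rw [hp.top, Nat.card_zpowers, Nat.card_zpowers, hord, Subgroup.card_top, hc8] at e
  have hd4 : orderOf a ∣ 4 := orderOf_dvd_of_pow_eq_one ha4
  have hle : orderOf a ≤ 4 := Nat.le_of_dvd (by norm_num) hd4
  have hDpos : 0 < Nat.card ↥(zpowers a ⊓ zpowers a') := Nat.card_pos
  have ho4 : orderOf a = 4 := by
    interval_cases h : orderOf a <;> omega
  rw [ho4] at e
  have hD2 : Nat.card ↥(zpowers a ⊓ zpowers a') = 2 := by omega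
  have q1 := card_mul_orderOf (zpowers a ⊓ zpowers a') a inf_le_left
  have q2 := card_mul_orderOf (zpowers a ⊓ zpowers a') a' inf_le_right
  rw [hD2, ho4] at q1
  rw [hD2, hord, ho4] at q2
  have q1' : orderOf (a : X ⧸ (zpowers a ⊓ zpowers a')) = 2 := by omega
  have q2' : orderOf (a' : X ⧸ (zpowers a ⊓ zpowers a')) = 2 := by omega
  have d1 := eq_zpowers_of_le (zpowers a ⊓ zpowers a') a inf_le_left
  have d2 := eq_zpowers_of_le (zpowers a ⊓ zpowers a') a' inf_le_right
  rw [q1'] at d1
  rw [q2'] at d2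
  have hsq : (a ^ 2) ^ 2 = 1 := by rw [← pow_mul]; exact ha4
  have ha'2 : a' ^ 2 = a ^ 2 := by
    have hmem : a' ^ 2 ∈ zpowers (a ^ 2) := by rw [← d1, d2]; exact mem_zpowers _
    rcases mem_zpowers_of_sq hsq hmem with h | h
    · exfalso
      have := orderOf_dvd_of_pow_eq_one h
      rw [hord, ho4] at this
      omega
    · exact h
  have hconj : a' * a * a'⁻¹ = a⁻¹ := by
    have hmem : a' * a * a'⁻¹ * a⁻¹ ∈ zpowers (a ^ 2) := by rw [← d1]; exact hp.comm_mem a a'
    rcases mem_zpowers_of_sq hsq hmem with h | h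
    · exfalso
      apply huv
      apply Pair.comm_of_commute hp
      show a * a' = a' * a
      calc a * a' = (a' * a * a'⁻¹ * a⁻¹)⁻¹ * (a' * a) := by group
        _ = a' * a := by rw [h, inv_one, one_mul]
    · calc a' * a * a'⁻¹ = (a' * a * a'⁻¹ * a⁻¹) * a := by group
        _ = a ^ 4 * a⁻¹ := by rw [h]; group
        _ = a⁻¹ := by rw [ha4, one_mul]
  refine quaternion_recog 2 (by norm_num) a a' (by rw [ho4]) (by rw [← pow_two, ha'2]) hconj ?_
    (by rw [hc8]; norm_num)
  intro hmem
  have htop : zpowers a = ⊤ := by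
    rw [← hp.top]
    exact (sup_eq_left.2 (zpowers_le.2 hmem)).symm
  have : Nat.card (zpowers a) = 8 := by rw [htop, Subgroup.card_top, hc8]; norm_num
  rw [Nat.card_zpowers, ho4] at this
  omega

/-- A finite metacyclic 2-group whose automorphism group is not a 2-group is isomorphic to the quaternion group of order 8 or to a homocyclic abelian group Z_{2^n} × Z_{2^n}. -/
theorem result {X : Type*} [Group X] [Finite X] (hX : IsPGroup 2 X)
    (hm : Cfsg.IsMetacyclic X) (hA : ¬ IsPGroup 2 (MulAut X)) :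
    Nonempty (X ≃* QuaternionGroup 2) ∨
      ∃ n : ℕ, Nonempty (X ≃* Multiplicative (ZMod (2 ^ n)) × Multiplicative (ZMod (2 ^ n))) := by
  have : Fact (Nat.Prime 2) := ⟨Nat.prime_two⟩
  obtain ⟨δ, r, hr, hr2, hδr, hδ⟩ := exists_prime_order hA
  have : Fact r.Prime := ⟨hr⟩
  obtain ⟨a, hp, hcase⟩ := meta_dichotomy hX hm δ hr2 hδr hδ
  have hord : orderOf (δ a) = orderOf a := MulEquiv.orderOf_eq δ a
  rcases hcase with hinf | ⟨ha4, hcard, u, v, huv⟩
  · right
    obtain ⟨e, he⟩ := (IsPGroup.iff_orderOf.1 hX) a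
    exact ⟨e, homocyclic_of_pair hp hinf he (hord.trans he)⟩
  · left
    exact quaternion_of_pair hX hp hord ha4 hcard huv

end Cfsg.Agent.S1896
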