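import Cfsg.Statements.S5235
import Cfsg.Agent.S5086
import Cfsg.Agent.Lib.Helper89.FusionAux
import Cfsg.Agent.Lib.Helper92.ESEquiv
import Cfsg.Agent.Lib.Helper68.MT7
import Cfsg.Agent.Lib.Helper68.MT8

set_option autoImplicit false
open Cfsg

namespace Cfsg.Agent.S5235

open Cfsg.FusionSystem Cfsg.Agent.Lib.Helper87 Cfsg.Agent.Lib.Helper89 Cfsg.Agent.Lib.Helper68.MT

/-- The two incarnations of `P ⊓ R`. -/
def swapEquiv {Ω : Type*} [Group Ω] (P R : Subgroup Ω) :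
    ↥(P.subgroupOf R) ≃* ↥(R.subgroupOf P) where
  toFun x := ⟨⟨x.1.1, x.2⟩, x.1.2⟩
  invFun y := ⟨⟨y.1.1, y.2⟩, y.1.2⟩
  left_inv _ := rfl
  right_inv _ := rfl
  map_mul' _ _ := rfl

theorem le_of_centric_radical {Ω : Type*} [Group Ω] {S : Subgroup Ω} [Finite S]
    (hS : IsPGroup 2 S) (F : Cfsg.FusionSystem S) (P : Subgroup Ω) (hP : F.StronglyClosed P)
    (hm : Cfsg.IsMetacyclic ↥P) (hd : ¬ ∃ m : ℕ, Nonempty (↥P ≃* DihedralGroup m))
    (hq : ¬ ∃ m : ℕ, Nonempty (↥P ≃* QuaternionGroup m)) (hsd : ¬ Cfsg.IsQuasiDihedral ↥P)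
    (R : Subgroup Ω) (hc : F.IsCentric R) (hr : F.IsRadical 2 R) : P ≤ R := by
  have : Fact (Nat.Prime 2) := ⟨Nat.prime_two⟩
  have hR : R ≤ S := hc.1
  have hfin : Finite R := finite_of_le hR
  have hfinP : Finite P := finite_of_le hP.1
  have hRp : IsPGroup 2 R := hS.to_le hR
  have hPp : IsPGroup 2 P := hS.to_le hP.1
  have hPn := stronglyClosed_le_normalizer hP
  apply le_of_normalizer_inter_le hS hR hP.1 (hR.trans hPn)
  by_contra hcon
  push Not at hcon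
  obtain ⟨g0, hg0P, hg0N, hg0R⟩ := hcon
  obtain ⟨g, hgP, hgN, hgR, hg2⟩ : ∃ g ∈ P, g ∈ Subgroup.normalizer (R : Set Ω) ∧ g ∉ R ∧
      g ^ 2 ∈ R := by
    classical
    obtain ⟨m, hm'⟩ := hPp ⟨g0, hg0P⟩
    have hm'' : g0 ^ (2 ^ m) = 1 := congrArg Subtype.val hm'
    have hex : ∃ j, g0 ^ (2 ^ j) ∈ R := ⟨m, hm'' ▸ one_mem R⟩
    have hj : g0 ^ (2 ^ (Nat.find hex)) ∈ R := Nat.find_spec hex
    have hj0 : Nat.find hex ≠ 0 := by
      intro h
      rw [h] at hj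
      simp only [pow_zero, pow_one] at hj
      exact hg0R hj
    obtain ⟨j', hj'⟩ := Nat.exists_eq_succ_of_ne_zero hj0
    refine ⟨g0 ^ (2 ^ j'), pow_mem hg0P _, pow_mem hg0N _, Nat.find_min hex (by omega), ?_⟩
    rw [← pow_mul, ← pow_succ]
    rw [hj'] at hj
    exact hj
  have hgS : g ∈ S := hP.1 hgP
  obtain ⟨β, hβ, e⟩ := exists_conj_aut F hR (g := g) ⟨hgS, hgN⟩
  have hnot : β ∉ (pCore 2 (F.autGroup R)).map (F.autGroup R).subtype :=
    fun h => hgR (mem_of_conj_mem_pCore hc hr hgS β h e)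
  have hH : ∀ α ∈ F.autGroup R, ∀ x ∈ P.subgroupOf R, α x ∈ P.subgroupOf R := by
    intro α hα x hx
    have hmor : Mor F R (autFun α) := (mem_autGroup_iff F hR α).1 hα
    rw [Subgroup.mem_subgroupOf] at hx ⊢
    rw [← autFun_coe]
    exact StronglyClosed.mor_mem hP hmor x.2 hx
  have hstab : ∀ x : R, x⁻¹ * β x ∈ P.subgroupOf R := by
    intro x
    rw [Subgroup.mem_subgroupOf]
    show (x : Ω)⁻¹ * ((β x : R) : Ω) ∈ P
    rw [e]
    have h4 : (x : Ω)⁻¹ * g * (x : Ω)⁻¹⁻¹ ∈ P :=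
      (Subgroup.mem_normalizer_iff.1 (hPn (S.inv_mem (hR x.2))) g).1 hgP
    have h5 := P.mul_mem h4 (P.inv_mem hgP)
    have e5 : (x : Ω)⁻¹ * g * (x : Ω)⁻¹⁻¹ * g⁻¹ = (x : Ω)⁻¹ * (g * x * g⁻¹) := by group
    rwa [e5] at h5
  obtain ⟨⟨h, hh⟩, δ, r, hrp, hr2, hδr, hδ⟩ :=
    exists_of_not_mem_pCore hRp (F.autGroup R) (P.subgroupOf R) hH β hβ hstab hnot
  have : Fact r.Prime := ⟨hrp⟩
  have hxU : ∀ u ∈ R.subgroupOf P, MulAut.conj (⟨g, hgP⟩ : P) u ∈ R.subgroupOf P := by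
    intro u hu
    rw [Subgroup.mem_subgroupOf] at hu ⊢
    exact (Subgroup.mem_normalizer_iff.1 hgN _).1 hu
  have hx2 : (⟨g, hgP⟩ : P) ^ 2 ∈ R.subgroupOf P := by
    rw [Subgroup.mem_subgroupOf]
    exact hg2
  have hh' : (swapEquiv P R h)⁻¹ * restrictAut (MulAut.conj (⟨g, hgP⟩ : P)) (R.subgroupOf P) hxU
      (swapEquiv P R h) ∉ frattini ↥(R.subgroupOf P) := by
    intro hmem
    apply hh
    rw [← Cfsg.Agent.Lib.Helper92.frattini_map_equiv (swapEquiv P R)] at hmem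
    obtain ⟨φ, hφ, eφ⟩ := hmem
    have : φ = h⁻¹ * restrictAut β (P.subgroupOf R) (hH β hβ) h := by
      apply (swapEquiv P R).injective
      have eφ' : swapEquiv P R φ = _ := eφ
      rw [eφ', map_mul, map_inv]
      congr 1
      apply Subtype.ext
      apply Subtype.ext
      exact (e h.1).symm
    rw [← this]
    exact hφ
  obtain ⟨B, hB, hBna⟩ := exists_order_eight_of_aut hPp hm (R.subgroupOf P) ⟨g, hgP⟩ hxU hx2
    (swapEquiv P R h) hh' (MulAut.congr (swapEquiv P R) δ) hr2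
    (by rw [← map_pow, hδr, map_one])
    (by
      intro h1
      apply hδ
      apply (MulAut.congr (swapEquiv P R)).injective
      rw [h1, map_one])
  rcases classify_of_order_eight hPp hm B hB hBna with h1 | h1 | h1
  exacts [hd h1, hq h1, hsd h1]

/-- Let F be a saturated fusion system over a finite 2-group S (p = 2) and P a metacyclic subgroup of S strongly closed in F that is not dihedral, not semidihedral and not generalized quaternion (here the group of order 2, the Klein four-group and the cyclic group of order 4 also count as excluded). Then P is normal in F. -/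
theorem result {Ω : Type*} [Group Ω] {S : Subgroup Ω} [Finite S] (p : ℕ) [Fact p.Prime] (hS : IsPGroup p S) (F : Cfsg.FusionSystem S) (hF : F.IsSaturated p) (P : Subgroup Ω) (hP : F.StronglyClosed P) (hp : p = 2) (hm : Cfsg.IsMetacyclic ↥P) (hd : ¬ ∃ m : ℕ, Nonempty (↥P ≃* DihedralGroup m)) (hq : ¬ ∃ m : ℕ, Nonempty (↥P ≃* QuaternionGroup m)) (hsd : ¬ Cfsg.IsQuasiDihedral ↥P) : F.IsNormal P := by
  subst hp
  rw [Cfsg.Agent.S5086.result 2 hS F hF P]
  exact ⟨hP, fun R hc hr => le_of_centric_radical hS F P hP hm hd hq hsd R hc hr⟩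

end Cfsg.Agent.S5235
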