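import Cfsg.Statements.S0228
import Mathlib
import Cfsg.Agent.Lib.Helper6.ExtCent
import Cfsg.Agent.Lib.Helper6.AltRec

set_option autoImplicit false
open Cfsg

namespace Cfsg.Agent.S0228

open Cfsg.Agent.Lib.Helper6

/-- A group of order 12 in which no involution is central is isomorphic to the alternating group on four letters. -/
theorem result {G : Type*} [Group G] [Finite G] (hG : Nat.card G = 12) (hz : ∀ z : G, orderOf z = 2 → z ∉ Subgroup.center G) : Nonempty (G ≃* alternatingGroup (Fin 4)) := by
  classical
  have hf2 : Fact (Nat.Prime 2) := ⟨Nat.prime_two⟩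
  have hf3 : Fact (Nat.Prime 3) := ⟨Nat.prime_three⟩
  obtain ⟨P⟩ : Nonempty (Sylow 3 G) := inferInstance
  -- |P| = 3
  have hP3 : Nat.card (P : Subgroup G) = 3 := by
    obtain ⟨k, hk⟩ := P.2.exists_card_eq
    have h1 := (P : Subgroup G).card_mul_index
    have h2 := P.not_dvd_index
    rw [hG, hk] at h1
    have hk3 : k < 3 := by
      by_contra h
      have : 3 ^ 3 ≤ 3 ^ k := Nat.pow_le_pow_right (by norm_num) (by omega)
      have h3 : 0 < (P : Subgroup G).index := Nat.pos_of_ne_zero Subgroup.index_ne_zero_of_finite
      nlinarith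
    interval_cases k
    · exfalso; apply h2; simp at h1; rw [h1]; norm_num
    · simpa using hk
    · omega
  have hidx : (P : Subgroup G).index = 4 := by
    have h1 := (P : Subgroup G).card_mul_index
    rw [hG, hP3] at h1
    omega
  by_cases hcore : (P : Subgroup G).normalCore = ⊥
  · refine mulEquiv_alternatingGroup_of_injective (MulAction.toPermHom G (G ⧸ (P : Subgroup G))) ?_ 4
      hidx ?_
    · rw [← MonoidHom.ker_eq_bot_iff, ← Subgroup.normalCore_eq_ker]; exact hcore
    · rw [hG]; rfl
  · exfalso
    -- P is normal
    have hPn : (P : Subgroup G).Normal := by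
      have h1 : Nat.card (P : Subgroup G).normalCore ∣ 3 := by
        have := Subgroup.card_dvd_of_le (Subgroup.normalCore_le (P : Subgroup G))
        rwa [hP3] at this
      rcases (Nat.dvd_prime Nat.prime_three).mp h1 with h | h
      · exact absurd (Subgroup.card_eq_one.mp h) hcore
      · have h2 : (P : Subgroup G).normalCore = P :=
          Subgroup.eq_of_le_of_card_ge (Subgroup.normalCore_le _) (by rw [h, hP3])
        rw [← h2]; infer_instance
    -- a generator of P
    obtain ⟨a', ha'⟩ := exists_prime_orderOf_dvd_card' (G := (P : Subgroup G)) 3 (by rw [hP3])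
    set a : G := a'.1 with ha
    have haP : a ∈ (P : Subgroup G) := a'.2
    have hao : orderOf a = 3 := by rw [ha, Subgroup.orderOf_coe]; exact ha'
    have hPa : (P : Subgroup G) = Subgroup.zpowers a := by
      symm
      apply Subgroup.eq_of_le_of_card_ge (Subgroup.zpowers_le.mpr haP)
      rw [Nat.card_zpowers, hao, hP3]
    have ha3 : a ^ 3 = 1 := by rw [← hao]; exact pow_orderOf_eq_one a
    have ha1 : a ≠ 1 := by
      intro h; rw [h, orderOf_one] at hao; omega
    have hasq : a ^ 2 ≠ 1 := by
      intro h
      have : orderOf a ∣ 2 := orderOf_dvd_of_pow_eq_one h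
      rw [hao] at this
      omega
    have hainv : a⁻¹ = a ^ 2 := by
      rw [inv_eq_iff_mul_eq_one, ← pow_succ', ha3]
    have hall : ∀ g : G, g * a * g⁻¹ = a ∨ g * a * g⁻¹ = a⁻¹ := by
      intro g
      have h1 : g * a * g⁻¹ ∈ Subgroup.zpowers a := hPa ▸ hPn.conj_mem a haP g
      rw [← mem_powers_iff_mem_zpowers, mem_powers_iff_mem_range_orderOf, hao] at h1
      obtain ⟨k, hk, hk2⟩ := Finset.mem_image.mp h1
      rw [Finset.mem_range] at hk
      interval_cases k
      · exfalso
        apply ha1
        rw [pow_zero] at hk2
        have : a = g⁻¹ * (g * a * g⁻¹) * g := by group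
        rw [this, ← hk2]; group
      · left; rw [← hk2, pow_one]
      · right; rw [← hk2, hainv]
    -- the centralizer of a has even order
    have hCeven : 2 ∣ Nat.card (Subgroup.centralizer ({a} : Set G)) := by
      by_cases hinv : ∃ g₀ : G, g₀ * a * g₀⁻¹ = a⁻¹
      · obtain ⟨g₀, h0⟩ := hinv
        have h1 := card_extCentralizer hasq h0
        have h2 : extCentralizer a = ⊤ := by
          rw [eq_top_iff]; intro g _; exact hall g
        rw [h2, Subgroup.card_top, hG] at h1
        exact ⟨3, by omega⟩
      · push Not at hinv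
        have h2 : Subgroup.centralizer ({a} : Set G) = ⊤ := by
          rw [eq_top_iff]; intro g _
          rw [Subgroup.mem_centralizer_singleton_iff]
          exact mul_inv_eq_iff_eq_mul.mp ((hall g).resolve_right (hinv g))
        rw [h2, Subgroup.card_top, hG]; norm_num
    obtain ⟨z', hz'⟩ := exists_prime_orderOf_dvd_card' (G := Subgroup.centralizer ({a} : Set G)) 2 hCeven
    set z : G := z'.1 with hzdef
    have hzo : orderOf z = 2 := by rw [hzdef, Subgroup.orderOf_coe]; exact hz'
    have hza : z * a = a * z := Subgroup.mem_centralizer_singleton_iff.mp z'.2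
    -- a Sylow 2-subgroup containing z
    have hzp : IsPGroup 2 (Subgroup.zpowers z) := by
      apply IsPGroup.of_card (n := 1)
      rw [Nat.card_zpowers, hzo, pow_one]
    obtain ⟨T, hT⟩ := hzp.exists_le_sylow
    have hzT : z ∈ (T : Subgroup G) := hT (Subgroup.mem_zpowers z)
    have hT4 : Nat.card (T : Subgroup G) = 2 ^ 2 := by
      obtain ⟨k, hk⟩ := T.2.exists_card_eq
      have h1 := (T : Subgroup G).card_mul_index
      have h2 := T.not_dvd_index
      rw [hG, hk] at h1
      have hk3 : k < 4 := by
        by_contra h
        have : 2 ^ 4 ≤ 2 ^ k := Nat.pow_le_pow_right (by norm_num) (by omega)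
        have h3 : 0 < (T : Subgroup G).index := Nat.pos_of_ne_zero Subgroup.index_ne_zero_of_finite
        nlinarith
      interval_cases k
      · exfalso; apply h2; simp at h1; rw [h1]; norm_num
      · exfalso; apply h2; exact ⟨3, by omega⟩
      · exact hk
      · omega
    have hTc : IsMulCommutative (T : Subgroup G) := IsPGroup.isMulCommutative_of_card_eq_prime_sq hT4
    -- the centralizer of z contains T and a
    have h4 : 4 ∣ Nat.card (Subgroup.centralizer ({z} : Set G)) := by
      have : (T : Subgroup G) ≤ Subgroup.centralizer ({z} : Set G) := by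
        intro t ht
        rw [Subgroup.mem_centralizer_singleton_iff]
        have := mul_comm' (⟨t, ht⟩ : (T : Subgroup G)) ⟨z, hzT⟩
        exact congrArg Subtype.val this
      have h5 := Subgroup.card_dvd_of_le this
      rw [hT4] at h5
      exact h5
    have h3 : 3 ∣ Nat.card (Subgroup.centralizer ({z} : Set G)) := by
      have : Subgroup.zpowers a ≤ Subgroup.centralizer ({z} : Set G) := by
        rw [Subgroup.zpowers_le, Subgroup.mem_centralizer_singleton_iff]
        exact hza.symm
      have h5 := Subgroup.card_dvd_of_le this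
      rw [Nat.card_zpowers, hao] at h5
      exact h5
    have h12 : 12 ∣ Nat.card (Subgroup.centralizer ({z} : Set G)) :=
      Nat.Coprime.mul_dvd_of_dvd_of_dvd (by norm_num : Nat.Coprime 4 3) h4 h3
    have htop : Subgroup.centralizer ({z} : Set G) = ⊤ := by
      apply Subgroup.eq_top_of_card_eq
      rw [hG]
      have h6 : Nat.card (Subgroup.centralizer ({z} : Set G)) ≤ 12 :=
        hG ▸ Subgroup.card_le_card_group _
      have h7 := Nat.le_of_dvd Nat.card_pos h12
      omega
    apply hz z hzo
    rw [Subgroup.mem_center_iff]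
    intro g
    have : g ∈ Subgroup.centralizer ({z} : Set G) := by rw [htop]; trivial
    exact Subgroup.mem_centralizer_singleton_iff.mp this

end Cfsg.Agent.S0228
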