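import Cfsg.Statements.S5892
import Cfsg.Agent.Lib.Helper7.PSL2OddH
import Cfsg.Agent.Lib.Helper7.PSL2TorMax
import Cfsg.Agent.Lib.Helper7.PSL2Sub4
-- import your own Cfsg.Agent.* helpers here

set_option autoImplicit false
open Cfsg

namespace Cfsg.Agent.S5892

open Matrix MatrixGroups Subgroup Cfsg.Agent.Lib.Helper46 Cfsg.Agent.Lib.Helper18.SL2
open Cfsg.Agent.Lib.Helper7 Cfsg.Agent.Lib.Helper7.PMax

theorem of_goalS {A B C G4 G5 R : Prop} (h : G4 ∨ G5) : A ∨ B ∨ C ∨ G4 ∨ G5 ∨ R := by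
  rcases h with h4 | h5
  · exact Or.inr (Or.inr (Or.inr (Or.inl h4)))
  · exact Or.inr (Or.inr (Or.inr (Or.inr (Or.inl h5))))

/-- Let F be a finite field of odd order q ≥ 5 and characteristic p, and let M be a maximal subgroup of PSL₂(F). Then one of the following holds: |M| = q(q − 1)/2 (the stabiliser of a point of the projective line); q ≥ 13 and M is dihedral of order q − 1; q ∉ {7, 9} and M is dihedral of order q + 1; q = q₀² and M ≅ PGL₂(F₀) with |F₀| = q₀; q = q₀^r for an odd prime r and M ≅ PSL₂(F₀) with |F₀| = q₀; q ≡ ±1 (mod 10) with q = p or q = p², p ≡ ±3 (mod 10), and M ≅ A₅; q = p ≡ ±3 (mod 8), q ≢ ±1 (mod 10), and M ≅ A₄; or q = p ≡ ±1 (mod 8) and M ≅ S₄. -/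
theorem result {F : Type*} [Field F] [Fintype F] (p : ℕ)
    [Fact p.Prime] [CharP F p] (hodd : Odd (Fintype.card F)) (h5 : 5 ≤ Fintype.card F)
    (M : Subgroup (Matrix.ProjectiveSpecialLinearGroup (Fin 2) F)) (hM : IsCoatom M) :
    2 * Nat.card M = Fintype.card F * (Fintype.card F - 1) ∨
    (13 ≤ Fintype.card F ∧ (∃ k : ℕ, 2 * k = Fintype.card F - 1 ∧ Nonempty (M ≃* DihedralGroup k))) ∨
    (Fintype.card F ≠ 7 ∧ Fintype.card F ≠ 9 ∧ (∃ k : ℕ, 2 * k = Fintype.card F + 1 ∧ Nonempty (M ≃* DihedralGroup k))) ∨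
    (∃ (F₀ : Type) (_ : Field F₀) (_ : Fintype F₀), Fintype.card F = Fintype.card F₀ ^ 2 ∧
        Nonempty (M ≃* Matrix.ProjGenLinGroup (Fin 2) F₀)) ∨
    (∃ (F₀ : Type) (_ : Field F₀) (_ : Fintype F₀) (r : ℕ), r.Prime ∧ Odd r ∧ Fintype.card F = Fintype.card F₀ ^ r ∧
        Nonempty (M ≃* Matrix.ProjectiveSpecialLinearGroup (Fin 2) F₀)) ∨
    ((Fintype.card F % 10 = 1 ∨ Fintype.card F % 10 = 9) ∧
        (Fintype.card F = p ∨ (Fintype.card F = p ^ 2 ∧ (p % 10 = 3 ∨ p % 10 = 7))) ∧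
        Nonempty (M ≃* alternatingGroup (Fin 5))) ∨
    (Fintype.card F = p ∧ (p % 8 = 3 ∨ p % 8 = 5) ∧ ¬ (p % 10 = 1 ∨ p % 10 = 9) ∧
        Nonempty (M ≃* alternatingGroup (Fin 4))) ∨
    (Fintype.card F = p ∧ (p % 8 = 1 ∨ p % 8 = 7) ∧ Nonempty (M ≃* Equiv.Perm (Fin 4))) := by
  classical
  have h2 : (2 : F) ≠ 0 := PSub.two_ne_zero_of_odd_card hodd
  have hz : zc F = 2 := zc_of_two_ne h2
  have hodd' := Nat.odd_iff.1 hodd
  rcases coatom_cases p (by omega) hM with h | ⟨x, hs, hMx⟩ | ⟨hE, -⟩ | ⟨L, D, l, hl, hL3, hL, hML⟩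
  · left
    rw [hz] at h
    exact h
  · subst hMx
    rcases card_centralizer_ss hs with hc | hc
    · obtain ⟨k, hk⟩ : ∃ k, Fintype.card F + 1 = 2 * k := ⟨(Fintype.card F + 1) / 2, by omega⟩
      obtain ⟨e⟩ := (img_torN_dihedral hs (by omega) (n := k) (by rw [hc, hz, hk])
        (by rw [hc]; omega)).2
      right; right; left
      refine ⟨?_, ?_, k, hk.symm, ⟨e⟩⟩
      · intro h7
        obtain rfl : k = 4 := by omega
        exact no_dih4 h2 h5 hM e
      · intro h9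
        obtain rfl : k = 5 := by omega
        exact no_dih5 p h2 (Or.inl h9) hM e
    · obtain ⟨k, hk⟩ : ∃ k, Fintype.card F - 1 = 2 * k := ⟨(Fintype.card F - 1) / 2, by omega⟩
      obtain ⟨e⟩ := (img_torN_dihedral hs (by omega) (n := k) (by rw [hc, hz, hk])
        (by rw [hc]; omega)).2
      right; left
      refine ⟨?_, k, hk.symm, ⟨e⟩⟩
      by_contra hlt
      have hcases : Fintype.card F = 5 ∨ Fintype.card F = 7 ∨ Fintype.card F = 9 ∨
          Fintype.card F = 11 := by omega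
      rcases hcases with h | h | h | h
      · obtain rfl : k = 2 := by omega
        exact no_dih2 h2 h5 hM e
      · obtain rfl : k = 3 := by omega
        exact no_dih3 p h2 h hM e
      · obtain rfl : k = 4 := by omega
        exact no_dih4 h2 h5 hM e
      · obtain rfl : k = 5 := by omega
        exact no_dih5 p h2 (Or.inr h) hM e
  · rcases exc_recog hE with ⟨⟨e⟩⟩ | ⟨⟨e⟩⟩ | ⟨⟨e⟩⟩
    · rcases case_A4 p h2 h5 hM e with h | ⟨h1, h3, h4⟩
      · exact of_goalS h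
      · exact Or.inr (Or.inr (Or.inr (Or.inr (Or.inr (Or.inr (Or.inl ⟨h1, h3, h4, ⟨e⟩⟩))))))
    · rcases case_S4 p h2 h5 hM e with h | ⟨h1, h3⟩
      · exact of_goalS h
      · exact Or.inr (Or.inr (Or.inr (Or.inr (Or.inr (Or.inr (Or.inr ⟨h1, h3, ⟨e⟩⟩))))))
    · rcases case_A5 p h2 h5 hM e with h | ⟨h1, h3⟩
      · exact of_goalS h
      · exact Or.inr (Or.inr (Or.inr (Or.inr (Or.inr (Or.inl ⟨h1, h3, ⟨e⟩⟩)))))
  · have h : GoalS F M := by
      rw [hML]
      exact sub_case h2 D hl hL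
    exact of_goalS h

end Cfsg.Agent.S5892
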