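import Cfsg.Statements.S3360
-- import your own Cfsg.Agent.* helpers here
import Cfsg.Agent.Lib.Helper76.Hup.Defs
import Cfsg.Agent.Lib.Helper76.Hup.Basic
import Cfsg.Agent.Lib.Helper76.Hup.Arith
import Cfsg.Agent.Lib.Helper76.Hup.Local
import Cfsg.Agent.Lib.Helper76.Hup.Global
import Cfsg.Agent.Lib.Helper76.Hup.N26
import Cfsg.Agent.Lib.Helper41.HupSEMI
import Cfsg.Agent.Lib.Helper41.HupN2
import Cfsg.Agent.S2904

set_option autoImplicit false
open Cfsg

namespace Cfsg.Agent.S3360

open Cfsg.Agent.Lib.Helper76.Hup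
open Cfsg.Agent.Lib.Helper41.Hup (semi_of_hasIAN case_two)

/-- the subgroup form -/
theorem main {q : ℕ} [Fact q.Prime] {V : Type*} [AddCommGroup V] [Module (ZMod q) V] [Finite V]
    [Nontrivial V] (G : Subgroup (V ≃ₗ[ZMod q] V)) (hsol : Group.IsSolvable G) (htr : Trans G) :
    Semi G ∨ Nat.card V ∈ ({9, 25, 49, 121, 529, 81} : Set ℕ) := by
  classical
  have hqq : q.Prime := Fact.out
  by_cases hI : HasIAN G
  · exact Or.inl (semi_of_hasIAN G hI)
  right
  -- `|V| = q ^ n`
  obtain ⟨n, hV⟩ : ∃ n, Nat.card V = q ^ n := by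
    let _ : Fintype V := Fintype.ofFinite V
    refine ⟨Module.finrank (ZMod q) V, ?_⟩
    have h := Module.card_eq_pow_finrank (K := ZMod q) (V := V)
    rwa [ZMod.card, ← Nat.card_eq_fintype_card] at h
  have hn0 : n ≠ 0 := by
    rintro rfl
    rw [pow_zero] at hV
    have := Finite.one_lt_card_iff_nontrivial.mpr (inferInstance : Nontrivial V)
    omega
  by_cases hn1 : n = 1
  · -- the trivial group is irreducible
    exfalso
    subst hn1
    apply hI
    refine ⟨⊥, ⟨bot_le, ?_, ?_⟩, ?_⟩
    · intro g _ a ha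
      rw [Subgroup.mem_bot] at ha
      subst ha
      simp
    · intro a ha b hb
      rw [Subgroup.mem_bot] at ha hb
      rw [ha, hb]
    · intro W _
      have hfr : Module.finrank (ZMod q) V = 1 := finrank_eq_of_card hV
      have hle : Module.finrank (ZMod q) W ≤ 1 := hfr ▸ Submodule.finrank_le W
      rcases Nat.le_one_iff_eq_zero_or_eq_one.mp hle with h | h
      · left; exact Submodule.finrank_eq_zero.mp h
      · right; exact Submodule.eq_top_of_finrank_eq (by rw [h, hfr])
  by_cases hn2 : n = 2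
  · subst hn2
    rcases case_two hV G hsol htr hI with h | h | h | h | h <;> subst h <;> rw [hV] <;> simp
  have hn3 : 3 ≤ n := by omega
  by_cases h26 : q = 2 ∧ n = 6
  · obtain ⟨rfl, rfl⟩ := h26
    exact absurd (case_two_six hV G hsol htr) hI
  obtain ⟨p, hp1, hp2, hp3⟩ := Cfsg.Agent.S2904.result q n hqq.one_lt (by omega) h26 (by omega)
  have hp : IsPPD p q n := ⟨hp1, hp2, hp3⟩
  obtain ⟨_, _, hq2, k, hk⟩ := global_lemma (by omega) hV G hsol htr hI hp
  have hn4 : 4 ≤ n := by
    rcases Nat.lt_or_ge k 2 with h | h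
    · interval_cases k <;> omega
    · calc 4 = 2 ^ 2 := rfl
        _ ≤ 2 ^ k := Nat.pow_le_pow_right (by norm_num) h
        _ = n := hk.symm
  obtain ⟨rfl, rfl⟩ := arith_final hqq hq2 hk hn4 (fun p' hp' => by
    obtain ⟨h1, h2, _, _⟩ := global_lemma (by omega) hV G hsol htr hI hp'
    exact ⟨h1, h2⟩)
  rw [hV]; simp

/-- Let q be a prime and V a non-trivial finite vector space over the field with q elements, and let G be a finite solvable group acting faithfully and linearly on V and transitively on the non-zero vectors. Then either V can be identified with the additive group of a finite field F in such a way that every element of G acts as x ↦ a·σ(x) for some a ∈ F and some field automorphism σ, or the number of elements of V is one of 3^2, 5^2, 7^2, 11^2, 23^2, 3^4. -/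
theorem result
    (q : ℕ) [Fact q.Prime] {V : Type*} [AddCommGroup V] [Module (ZMod q) V] [Finite V] [Nontrivial V]
    {G : Type*} [Group G] [Finite G] (hsol : Group.IsSolvable G)
    (ρ : G →* (V ≃ₗ[ZMod q] V)) (hρ : Function.Injective ρ)
    (htrans : ∀ v w : V, v ≠ 0 → w ≠ 0 → ∃ g : G, ρ g v = w) :
    (∃ (F : Type) (_ : Field F) (_ : Fintype F) (e : V ≃+ F),
        ∀ g : G, ∃ (a : F) (σ : F ≃+* F), ∀ v : V, e (ρ g v) = a * σ (e v)) ∨
    Nat.card V ∈ ({9, 25, 49, 121, 529, 81} : Set ℕ) := by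
  have hsol' : Group.IsSolvable ρ.range :=
    Group.isSolvable_of_surjective ρ.rangeRestrict_surjective
  have htr : Trans ρ.range := by
    intro v w hv hw
    obtain ⟨g, hg⟩ := htrans v w hv hw
    exact ⟨ρ g, ⟨g, rfl⟩, hg⟩
  rcases main ρ.range hsol' htr with h | h
  · left
    obtain ⟨F, i1, i2, e, he⟩ := h
    exact ⟨F, i1, i2, e, fun g => he (ρ g) ⟨g, rfl⟩⟩
  · exact Or.inr h

end Cfsg.Agent.S3360
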