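import Cfsg.Statements.S4032
import Mathlib
import Cfsg.Agent.Lib.Helper71.Basic
import Cfsg.Agent.Lib.Helper71.Irr

set_option autoImplicit false
open Cfsg

namespace Cfsg.Agent.S4032

open Cfsg.Agent.Lib.Helper71

/-- a `p`-element of `P N` is conjugate into the Sylow subgroup `P` by an element of `N` -/
theorem conj_into {G : Type*} [Group G] [Finite G] {p : ℕ} [Fact p.Prime] (P : Sylow p G)
    (N : Subgroup G) [N.Normal] (v : G) (hv : v ∈ (P : Subgroup G) ⊔ N) {a : ℕ}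
    (hva : orderOf v = p ^ a) : ∃ n ∈ N, n * v * n⁻¹ ∈ P := by
  let K : Subgroup G := (P : Subgroup G) ⊔ N
  let P' : Sylow p K := P.subtype le_sup_left
  have hpg : IsPGroup p (Subgroup.zpowers (⟨v, hv⟩ : K)) :=
    IsPGroup.of_card (n := a) (by rw [Nat.card_zpowers, Subgroup.orderOf_mk, hva])
  obtain ⟨c, hc⟩ := exists_conj_mem_sylow P' _ hpg
  have hc1 := hc _ (Subgroup.mem_zpowers _)
  have hc2 : (c : G) * v * (c : G)⁻¹ ∈ P := by
    have : c * ⟨v, hv⟩ * c⁻¹ ∈ (P : Subgroup G).subgroupOf K := hc1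
    rw [Subgroup.mem_subgroupOf] at this
    exact this
  have hcK : (c : G) ∈ ((P : Subgroup G) ⊔ N : Subgroup G) := c.2
  rw [← SetLike.mem_coe, Subgroup.mul_normal] at hcK
  obtain ⟨s, hs, n, hn, hsn⟩ := Set.mem_mul.mp hcK
  refine ⟨n, hn, ?_⟩
  have : n * v * n⁻¹ = s⁻¹ * ((c : G) * v * (c : G)⁻¹) * s := by
    rw [← hsn]; group
  rw [this]
  exact (P : Subgroup G).mul_mem ((P : Subgroup G).mul_mem ((P : Subgroup G).inv_mem hs) hc2) hs

theorem primePow {G : Type*} [Group G] [Finite G] {p : ℕ} [Fact p.Prime] (N : Subgroup G) [N.Normal]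
    (hpN : ¬ p ∣ Nat.card N)
    (hirr : ∀ x : G, (∃ k : ℕ, orderOf x = p ^ k) →
      Subgroup.normalizer ((Subgroup.zpowers x : Subgroup G) : Set G) ≤ Subgroup.centralizer {x})
    (y g' : G ⧸ N) (k : ℕ) (hy : orderOf y = p ^ k) (hg : g' * y * g'⁻¹ ∈ Subgroup.zpowers y) :
    y ∈ Subgroup.centralizer ({g'} : Set (G ⧸ N)) := by
  have hp : p.Prime := Fact.out
  obtain ⟨x0, rfl⟩ := QuotientGroup.mk_surjective y
  obtain ⟨g, rfl⟩ := QuotientGroup.mk_surjective g'
  obtain ⟨a, m, hm, hx0⟩ := Nat.exists_eq_pow_mul_and_not_dvd (orderOf_pos x0).ne' p hp.ne_one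
  have hm0 : m ≠ 0 := by rintro rfl; simp at hm
  set x := x0 ^ m with hxdef
  have hxord : orderOf x = p ^ a := by
    rw [hxdef, orderOf_pow_of_dvd hm0 (by rw [hx0]; exact Dvd.intro_left _ rfl), hx0,
      Nat.mul_div_cancel _ (Nat.pos_of_ne_zero hm0)]
  obtain ⟨j, hj⟩ := Subgroup.mem_zpowers_iff.mp hg
  have hjx : ((x ^ j : G) : G ⧸ N) = ((g * x * g⁻¹ : G) : G ⧸ N) := by
    have h1 : ((g * x * g⁻¹ : G) : G ⧸ N) = ((g : G ⧸ N) * (x0 : G ⧸ N) * (g : G ⧸ N)⁻¹) ^ m := by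
      rw [conj_pow, hxdef]; rfl
    rw [h1, ← hj, hxdef]
    simp only [QuotientGroup.mk_zpow, QuotientGroup.mk_pow]
    rw [← zpow_natCast, ← zpow_natCast, ← zpow_mul, ← zpow_mul, mul_comm]
  have hpgx : IsPGroup p (Subgroup.zpowers x) :=
    IsPGroup.of_card (n := a) (by rw [Nat.card_zpowers, hxord])
  obtain ⟨P, hP⟩ := hpgx.exists_le_sylow
  have hxP : x ∈ P := hP (Subgroup.mem_zpowers x)
  have hxjP : x ^ j ∈ P := (P : Subgroup G).zpow_mem hxP j
  set v := g * x * g⁻¹ with hvdef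
  have hvN : (x ^ j)⁻¹ * v ∈ N := QuotientGroup.eq.mp hjx
  have hv : v ∈ (P : Subgroup G) ⊔ N := by
    have : v = x ^ j * ((x ^ j)⁻¹ * v) := by group
    rw [this]
    exact Subgroup.mul_mem_sup hxjP hvN
  have hs : SemiconjBy g x v := by unfold SemiconjBy; rw [hvdef]; group
  obtain ⟨n, hn, hnv⟩ := conj_into P N v hv (a := a) (by rw [← hs.orderOf_eq, hxord])
  -- the conjugate equals x ^ j
  have hmemN : (x ^ j)⁻¹ * (n * v * n⁻¹) ∈ N := by
    apply QuotientGroup.eq.mp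
    rw [hjx]
    have : ((n * v * n⁻¹ : G) : G ⧸ N) = (n : G ⧸ N) * (v : G ⧸ N) * (n : G ⧸ N)⁻¹ := rfl
    rw [this, (QuotientGroup.eq_one_iff n).mpr hn]
    simp
  have hmemP : (x ^ j)⁻¹ * (n * v * n⁻¹) ∈ P :=
    (P : Subgroup G).mul_mem ((P : Subgroup G).inv_mem hxjP) hnv
  have hone : (x ^ j)⁻¹ * (n * v * n⁻¹) = 1 := by
    set w := (x ^ j)⁻¹ * (n * v * n⁻¹) with hw
    obtain ⟨b, hb⟩ := P.isPGroup' ⟨w, hmemP⟩
    have hb' : w ^ p ^ b = 1 := by
      have := congrArg Subtype.val hb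
      simpa using this
    have h1 : w ^ Nat.card N = 1 := by
      have h0 : (⟨w, hmemN⟩ : N) ^ Nat.card N = 1 := pow_card_eq_one'
      exact congrArg Subtype.val h0
    have hcop : Nat.Coprime (p ^ b) (Nat.card N) :=
      Nat.Coprime.pow_left _ ((Nat.Prime.coprime_iff_not_dvd hp).mpr hpN)
    have := pow_gcd_eq_one.mpr ⟨hb', h1⟩
    rwa [hcop.gcd_eq_one, pow_one] at this
  have hconj : (n * g) * x * (n * g)⁻¹ = x ^ j := by
    have h1 : (n * g) * x * (n * g)⁻¹ = n * v * n⁻¹ := by rw [hvdef]; group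
    rw [h1]
    exact (inv_mul_eq_one.mp hone).symm
  have hcent := hirr x ⟨a, hxord⟩ ((mem_normalizer_zpowers_iff (n * g) x).mpr
    (by rw [hconj]; exact Subgroup.zpow_mem_zpowers x j))
  rw [Subgroup.mem_centralizer_singleton_iff] at hcent
  have hq : (g : G ⧸ N) * (x : G ⧸ N) = (x : G ⧸ N) * (g : G ⧸ N) := by
    have h1 := congrArg (QuotientGroup.mk (s := N)) hcent
    simp only [QuotientGroup.mk_mul, (QuotientGroup.eq_one_iff n).mpr hn, one_mul] at h1
    exact h1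
  apply mem_of_pow_mem_of_coprime _ (x0 : G ⧸ N) (a := m) (b := p ^ k)
  · exact Nat.Coprime.pow_right _ ((Nat.coprime_comm.mp ((Nat.Prime.coprime_iff_not_dvd hp).mpr hm)))
  · rw [Subgroup.mem_centralizer_singleton_iff]
    exact hq.symm
  · rw [← hy, pow_orderOf_eq_one]
    exact Subgroup.one_mem _

theorem general {G : Type*} [Group G] [Finite G] (π : Set ℕ)
    (hirr : ∀ x : G, (∀ r : ℕ, r.Prime → r ∣ orderOf x → r ∈ π) →
      Subgroup.normalizer ((Subgroup.zpowers x : Subgroup G) : Set G) ≤ Subgroup.centralizer {x})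
    (N : Subgroup G) [N.Normal] (hN : ∀ r : ℕ, r.Prime → r ∣ Nat.card N → r ∉ π) (g' : G ⧸ N) :
    ∀ (n : ℕ) (y : G ⧸ N), orderOf y = n → (∀ r : ℕ, r.Prime → r ∣ orderOf y → r ∈ π) →
      g' * y * g'⁻¹ ∈ Subgroup.zpowers y → y ∈ Subgroup.centralizer ({g'} : Set (G ⧸ N)) := by
  intro n
  induction n using Nat.strong_induction_on with
  | _ n ih =>
    intro y hy hπ hg
    by_cases hn1 : n = 1
    · rw [hn1, orderOf_eq_one_iff] at hy
      rw [hy]; exact Subgroup.one_mem _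
    have hn0 : n ≠ 0 := by rw [← hy]; exact (orderOf_pos y).ne'
    let p := n.minFac
    have hp : p.Prime := Nat.minFac_prime hn1
    have : Fact p.Prime := ⟨hp⟩
    have hpn : p ∣ n := Nat.minFac_dvd n
    have hpπ : p ∈ π := hπ p hp (by rw [hy]; exact hpn)
    obtain ⟨k, m, hm, hnk⟩ := Nat.exists_eq_pow_mul_and_not_dvd hn0 p hp.ne_one
    have hm0 : m ≠ 0 := by rintro rfl; simp at hm
    have hk0 : k ≠ 0 := by
      rintro rfl
      rw [pow_zero, one_mul] at hnk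
      exact hm (hnk ▸ hpn)
    obtain ⟨j, hj⟩ := Subgroup.mem_zpowers_iff.mp hg
    have hpow : ∀ e : ℕ, g' * y ^ e * g'⁻¹ ∈ Subgroup.zpowers (y ^ e) := by
      intro e
      rw [← conj_pow, ← hj, Subgroup.mem_zpowers_iff]
      refine ⟨j, ?_⟩
      rw [← zpow_natCast, ← zpow_natCast, ← zpow_mul, ← zpow_mul, mul_comm]
    have ho1 : orderOf (y ^ m) = p ^ k := by
      rw [orderOf_pow_of_dvd hm0 (by rw [hy, hnk]; exact Dvd.intro_left _ rfl), hy, hnk,
        Nat.mul_div_cancel _ (Nat.pos_of_ne_zero hm0)]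
    have ho2 : orderOf (y ^ p ^ k) = m := by
      rw [orderOf_pow_of_dvd (pow_ne_zero _ hp.ne_zero) (by rw [hy, hnk]; exact Dvd.intro _ rfl), hy, hnk,
        Nat.mul_div_cancel_left _ (pow_pos hp.pos _)]
    apply mem_of_pow_mem_of_coprime _ y (a := m) (b := p ^ k)
    · exact Nat.Coprime.pow_right _ ((Nat.coprime_comm.mp ((Nat.Prime.coprime_iff_not_dvd hp).mpr hm)))
    · apply primePow N (fun h => hN p hp h hpπ) _ (y ^ m) g' k ho1 (hpow m)
      rintro x ⟨e, he⟩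
      apply hirr
      intro r hr hrx
      rw [forall_prime_of_orderOf_eq_prime_pow hp x he r hr hrx]
      exact hpπ
    · apply ih m _ (y ^ p ^ k) ho2 _ (hpow _)
      · rw [hnk]
        have : 1 < p ^ k := Nat.one_lt_pow hk0 hp.one_lt
        nlinarith [Nat.pos_of_ne_zero hm0]
      · intro r hr hrx
        apply hπ r hr
        rw [ho2] at hrx
        rw [hy, hnk]
        exact hrx.trans (Dvd.intro_left _ rfl)

/-- Let π be a set of primes and G a finite group in which N_G(⟨x⟩) = C_G(x) for every π-element x. If N is a normal subgroup of G whose order is divisible by no prime of π, then G/N has the same property: N_{G/N}(⟨y⟩) = C_{G/N}(y) for every π-element y of G/N. -/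
theorem result {G : Type*} [Group G] [Finite G] (π : Set ℕ)
    (hirr : ∀ x : G, (∀ r : ℕ, r.Prime → r ∣ orderOf x → r ∈ π) →
      Subgroup.normalizer ((Subgroup.zpowers x : Subgroup G) : Set G) ≤ Subgroup.centralizer {x})
    (N : Subgroup G) [N.Normal] (hN : ∀ r : ℕ, r.Prime → r ∣ Nat.card N → r ∉ π) :
    ∀ y : G ⧸ N, (∀ r : ℕ, r.Prime → r ∣ orderOf y → r ∈ π) →
      Subgroup.normalizer ((Subgroup.zpowers y : Subgroup (G ⧸ N)) : Set (G ⧸ N)) ≤ Subgroup.centralizer {y} := by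
  intro y hy g' hg'
  rw [mem_normalizer_zpowers_iff] at hg'
  have := general π hirr N hN g' _ y rfl hy hg'
  rw [Subgroup.mem_centralizer_singleton_iff] at this ⊢
  exact this.symm

end Cfsg.Agent.S4032
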