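import Cfsg.Statements.S0856
import Mathlib
import Cfsg.Agent.Lib.Helper19.CharMisc

set_option autoImplicit false
open Cfsg

namespace Cfsg.Agent.S0856

open Cfsg.Agent.Lib.Helper19 Cfsg.Agent.Lib.Helper20


/-- Let N be a normal subgroup of the finite group G and φ, ϑ irreducible characters of N that are invariant under conjugation by G, such that the pointwise product φ * ϑ is irreducible and ϑ is the restriction of an irreducible character χ of G. Then multiplication by χ is a bijection from the set of irreducible characters of G having nonzero inner product with the function induced from φ onto the set of those having nonzero inner product with the function induced from φ * ϑ. -/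
theorem result {G : Type*} [Group G] [Fintype G] (N : Subgroup G) [hN : N.Normal] (φ ϑ : N → ℂ) (hφ : Cfsg.IsIrrCharacter N φ) (hϑ : Cfsg.IsIrrCharacter N ϑ) (hφinv : ∀ (g : G) (n : N), φ ⟨g * n * g⁻¹, hN.conj_mem (n : G) n.2 g⟩ = φ n) (hϑinv : ∀ (g : G) (n : N), ϑ ⟨g * n * g⁻¹, hN.conj_mem (n : G) n.2 g⟩ = ϑ n) (hprod : Cfsg.IsIrrCharacter N (φ * ϑ)) (χ : G → ℂ) (hχ : Cfsg.IsIrrCharacter G χ) (hext : ∀ n : N, χ n = ϑ n) : Set.BijOn (fun β : G → ℂ => β * χ) {β : G → ℂ | Cfsg.IsIrrCharacter G β ∧ Cfsg.classInner (Cfsg.indFun N φ) β ≠ 0} {ψ : G → ℂ | Cfsg.IsIrrCharacter G ψ ∧ Cfsg.classInner (Cfsg.indFun N (φ * ϑ)) ψ ≠ 0} := by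
  classical
  haveI := finite_irrCharacter (G := G)
  haveI := Fintype.ofFinite (IrrCharacter G)
  have hχc := isCharacter_of_isIrrCharacter hχ
  have hχcl := isClassFunction_of_isCharacter hχc
  have hφc := isCharacter_of_isIrrCharacter hφ
  have hϑeq : ϑ = fun n : N => χ n := by funext n; exact (hext n).symm
  have F1 : indFun N (φ * ϑ) = indFun N φ * χ := by
    rw [hϑeq]; exact indFun_mul_restrict N φ χ hχcl
  have hindc : IsCharacter G (indFun N φ) := isCharacter_indFun N φ hφc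
  have he : ∀ β : IrrCharacter G, ∃ n : ℕ, classInner (indFun N φ) (β : G → ℂ) = n :=
    fun β => isCharacter_classInner_nat hindc β.2
  choose e he using he
  have hβχ : ∀ β : IrrCharacter G, IsCharacter G ((β : G → ℂ) * χ) :=
    fun β => isCharacter_mul (isCharacter_of_isIrrCharacter β.2) hχc
  have hm : ∀ β γ : IrrCharacter G, ∃ n : ℕ,
      classInner ((β : G → ℂ) * χ) ((γ : G → ℂ) * χ) = n :=
    fun β γ => isCharacter_classInner_nat' (hβχ β) (hβχ γ)
  choose m hm using hm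
  have hexp : indFun N φ = ∑ β : IrrCharacter G, (e β : ℂ) • (β : G → ℂ) := by
    conv_lhs => rw [eq_sum_classInner_smul (indFun_isClassFunction N φ)]
    simp only [he]
  have hexp2 : indFun N (φ * ϑ) = ∑ β : IrrCharacter G, (e β : ℂ) • ((β : G → ℂ) * χ) := by
    rw [F1, hexp, Finset.sum_mul]
    simp only [smul_mul_assoc]
  have n1 : ∑ β : IrrCharacter G, (e β) ^ 2 = N.index := by
    apply Nat.cast_injective (R := ℂ)
    rw [← classInner_indFun_self_of_invariant N φ hφ hφinv]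
    conv_rhs => rw [hexp, classInner_sum_left]
    push_cast
    apply Finset.sum_congr rfl
    intro β _
    rw [classInner_smul_left, ← hexp, ← classInner_conj_symm, he]
    simp [pow_two]
  have hinv2 : ∀ (g : G) (n : N),
      (φ * ϑ) ⟨g * n * g⁻¹, hN.conj_mem (n : G) n.2 g⟩ = (φ * ϑ) n := by
    intro g n
    rw [Pi.mul_apply, Pi.mul_apply, hφinv, hϑinv]
  have n2 : ∑ β : IrrCharacter G, ∑ γ : IrrCharacter G, e β * e γ * m β γ = N.index := by
    apply Nat.cast_injective (R := ℂ)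
    rw [← classInner_indFun_self_of_invariant N (φ * ϑ) hprod hinv2]
    rw [hexp2, classInner_sum_left]
    push_cast
    apply Finset.sum_congr rfl
    intro β _
    rw [classInner_sum_right]
    apply Finset.sum_congr rfl
    intro γ _
    rw [classInner_smul_left, classInner_smul_right, hm]
    simp
    ring
  have hm1 : ∀ β : IrrCharacter G, 1 ≤ m β β := by
    intro β
    by_contra h
    have h0 : m β β = 0 := by omega
    have h1 := hm β β
    rw [h0, Nat.cast_zero] at h1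
    have h2 := congrFun (classInner_self_eq_zero h1) 1
    rw [Pi.mul_apply, Pi.zero_apply] at h2
    rcases mul_eq_zero.mp h2 with h3 | h3
    · exact irr_one_ne_zero β.2 h3
    · exact irr_one_ne_zero hχ h3
  have hle : ∀ β ∈ (Finset.univ : Finset (IrrCharacter G)),
      (e β) ^ 2 ≤ ∑ γ : IrrCharacter G, e β * e γ * m β γ := by
    intro β _
    have h1 : e β * e β * m β β ≤ ∑ γ : IrrCharacter G, e β * e γ * m β γ :=
      Finset.single_le_sum (f := fun γ => e β * e γ * m β γ) (fun _ _ => Nat.zero_le _)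
        (Finset.mem_univ β)
    have h2 : (e β) ^ 2 ≤ e β * e β * m β β := by
      rw [pow_two]
      exact Nat.le_mul_of_pos_right _ (hm1 β)
    exact h2.trans h1
  have key : ∀ β : IrrCharacter G, (e β) ^ 2 = ∑ γ : IrrCharacter G, e β * e γ * m β γ := by
    intro β
    exact (Finset.sum_eq_sum_iff_of_le hle).mp (n1.trans n2.symm) β (Finset.mem_univ β)
  have hmm : ∀ β : IrrCharacter G, e β ≠ 0 →
      m β β = 1 ∧ ∀ γ : IrrCharacter G, γ ≠ β → e γ ≠ 0 → m β γ = 0 := by
    intro β hβ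
    have hs := key β
    rw [← Finset.add_sum_erase _ _ (Finset.mem_univ β)] at hs
    have h2 : (e β) ^ 2 ≤ e β * e β * m β β := by
      rw [pow_two]
      exact Nat.le_mul_of_pos_right _ (hm1 β)
    have h3 : ∑ γ ∈ Finset.univ.erase β, e β * e γ * m β γ = 0 := by omega
    have h4 : e β * e β * m β β = (e β) ^ 2 := by omega
    constructor
    · have hpos : 0 < e β * e β := Nat.mul_pos (Nat.pos_of_ne_zero hβ) (Nat.pos_of_ne_zero hβ)
      apply Nat.eq_of_mul_eq_mul_left hpos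
      rw [h4, pow_two, mul_one]
    · intro γ hγ heγ
      have h5 := (Finset.sum_eq_zero_iff.mp h3) γ (Finset.mem_erase.mpr ⟨hγ, Finset.mem_univ γ⟩)
      rcases Nat.mul_eq_zero.mp h5 with h6 | h6
      · rcases Nat.mul_eq_zero.mp h6 with h7 | h7
        · exact absurd h7 hβ
        · exact absurd h7 heγ
      · exact h6
  have hirr : ∀ β : IrrCharacter G, e β ≠ 0 → IsIrrCharacter G ((β : G → ℂ) * χ) := by
    intro β hβ
    apply isIrrCharacter_of_classInner_self (hβχ β)
    rw [hm, (hmm β hβ).1, Nat.cast_one]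
  have he0 : ∀ β : IrrCharacter G, classInner (indFun N φ) (β : G → ℂ) ≠ 0 ↔ e β ≠ 0 := by
    intro β
    rw [he]
    exact Nat.cast_ne_zero
  refine ⟨?_, ?_, ?_⟩
  · rintro β ⟨hβ, hβ0⟩
    have hβe : e ⟨β, hβ⟩ ≠ 0 := (he0 ⟨β, hβ⟩).mp hβ0
    refine ⟨hirr ⟨β, hβ⟩ hβe, ?_⟩
    show classInner (indFun N (φ * ϑ)) (β * χ) ≠ 0
    rw [hexp2, classInner_sum_left, Finset.sum_eq_single (⟨β, hβ⟩ : IrrCharacter G)]
    · rw [classInner_smul_left]
      have := hm ⟨β, hβ⟩ ⟨β, hβ⟩
      simp only at this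
      rw [this, (hmm ⟨β, hβ⟩ hβe).1]
      simpa using hβe
    · intro γ _ hγ
      rw [classInner_smul_left]
      by_cases hγe : e γ = 0
      · rw [hγe]; simp
      · have := hm γ ⟨β, hβ⟩
        simp only at this
        rw [this, (hmm γ hγe).2 ⟨β, hβ⟩ (Ne.symm hγ) hβe]
        simp
    · intro h; exact absurd (Finset.mem_univ _) h
  · rintro β ⟨hβ, hβ0⟩ γ ⟨hγ, hγ0⟩ heq
    have hβe : e ⟨β, hβ⟩ ≠ 0 := (he0 ⟨β, hβ⟩).mp hβ0
    have hγe : e ⟨γ, hγ⟩ ≠ 0 := (he0 ⟨γ, hγ⟩).mp hγ0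
    by_contra hne
    have hne' : (⟨γ, hγ⟩ : IrrCharacter G) ≠ ⟨β, hβ⟩ := fun h => hne (congrArg Subtype.val h).symm
    have h1 := hm ⟨β, hβ⟩ ⟨γ, hγ⟩
    have h2 := hm ⟨β, hβ⟩ ⟨β, hβ⟩
    simp only at h1 h2 heq
    rw [← heq, h2, (hmm ⟨β, hβ⟩ hβe).1, (hmm ⟨β, hβ⟩ hβe).2 _ hne' hγe] at h1
    simp at h1
  · rintro ψ ⟨hψ, hψ0⟩
    rw [hexp2, classInner_sum_left] at hψ0
    obtain ⟨γ, _, hγ⟩ := Finset.exists_ne_zero_of_sum_ne_zero hψ0
    rw [classInner_smul_left] at hγ
    have hγe : e γ ≠ 0 := by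
      intro h
      apply hγ
      rw [h]; simp
    have hγ2 : classInner ((γ : G → ℂ) * χ) ψ ≠ 0 := right_ne_zero_of_mul hγ
    refine ⟨γ, ⟨γ.2, (he0 γ).mpr hγe⟩, ?_⟩
    by_contra hne
    exact hγ2 (classInner_irr_ne (hirr γ hγe) hψ hne)

end Cfsg.Agent.S0856
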