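import Cfsg.Statements.S0868
import Mathlib
import Cfsg.Agent.Lib.Helper19.NormalKer
import Cfsg.Agent.S0856

set_option autoImplicit false
open scoped ComplexConjugate
open Cfsg

namespace Cfsg.Agent.S0868

open Cfsg.Agent.Lib.Helper19 Cfsg.Agent.Lib.Helper20

theorem isIrr_one {G : Type*} [Group G] [Finite G] : IsIrrCharacter G (fun _ => (1 : ℂ)) := by
  classical
  haveI := Fintype.ofFinite G
  apply isIrrCharacter_of_classInner_self isCharacter_one
  unfold classInner
  simp only [mul_one, map_one, Finset.sum_const, Finset.card_univ, nsmul_eq_mul]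
  rw [← Nat.card_eq_fintype_card]
  exact inv_mul_cancel₀ Cfsg.Agent.Lib.Helper20.card_ne_zero_complex

/-- constituents of the character induced from the trivial character of a normal subgroup -/
theorem mem_S_iff {G : Type*} [Group G] [Fintype G] (N : Subgroup G) [N.Normal] [Fintype N]
    {β : G → ℂ} (hβ : IsIrrCharacter G β) :
    classInner (indFun N (fun _ => (1 : ℂ))) β ≠ 0 ↔ ∀ n ∈ N, β n = β 1 := by
  have hβc := isCharacter_of_isIrrCharacter hβ
  rw [frobenius_reciprocity N _ β (isClassFunction_of_isCharacter hβc)]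
  unfold classInner
  simp only [one_mul]
  rw [← map_sum]
  constructor
  · intro h
    rcases irr_ker_or_sum_zero N hβ with h1 | h1
    · exact h1
    · exfalso
      apply h
      have := h1 1
      simp only [mul_one] at this
      rw [this]
      simp
  · intro h
    have : ∑ n : N, β (n : G) = (Nat.card N : ℂ) * β 1 := by
      rw [Finset.sum_congr rfl (fun (n : N) _ => h (n : G) n.2), Finset.sum_const, Finset.card_univ,
        nsmul_eq_mul, Nat.card_eq_fintype_card]
    rw [this]
    have h1 : (Nat.card N : ℂ) ≠ 0 := Cfsg.Agent.Lib.Helper19.card_ne_zero_complex N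
    have h2 := irr_one_ne_zero hβ
    simp [h2]

theorem inner_eta {G : Type*} [Group G] [Fintype G] (N : Subgroup G) [Fintype N]
    (χ ψ β : G → ℂ) :
    classInner (fun g => (Nat.card N : ℂ)⁻¹ * ∑ n : N, ψ ((n : G) * g) * conj (χ ((n : G) * g))) β
      = (Nat.card G : ℂ)⁻¹ * ∑ g : G, ψ g * conj (χ g) *
          conj ((Nat.card N : ℂ)⁻¹ * ∑ n : N, β ((n : G) * g)) := by
  unfold classInner
  congr 1
  have h1 : ∀ g : G, (Nat.card N : ℂ)⁻¹ * (∑ n : N, ψ ((n : G) * g) * conj (χ ((n : G) * g))) * conj (β g)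
      = ∑ n : N, (Nat.card N : ℂ)⁻¹ * (ψ ((n : G) * g) * conj (χ ((n : G) * g)) * conj (β g)) := by
    intro g
    rw [mul_assoc, Finset.sum_mul, Finset.mul_sum]
  have h2 : ∀ g : G, ψ g * conj (χ g) * conj ((Nat.card N : ℂ)⁻¹ * ∑ n : N, β ((n : G) * g))
      = ∑ n : N, (Nat.card N : ℂ)⁻¹ * (ψ g * conj (χ g) * conj (β ((n : G) * g))) := by
    intro g
    rw [map_mul, map_sum, map_inv₀, map_natCast, Finset.mul_sum, Finset.mul_sum]
    apply Finset.sum_congr rfl
    intro n _
    ring
  simp only [h1, h2]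
  rw [Finset.sum_comm]
  conv_rhs => rw [Finset.sum_comm]
  refine Fintype.sum_equiv (Equiv.inv N) _ _ ?_
  intro n
  refine Fintype.sum_equiv (Equiv.mulLeft (n : G)) _ _ ?_
  intro g
  simp only [Equiv.coe_mulLeft, Equiv.inv_apply, InvMemClass.coe_inv, inv_mul_cancel_left]


/-- Let N be a normal subgroup of the finite group G, χ an irreducible character of G whose restriction ϑ to N is irreducible, and ψ an irreducible character of G. Define η on G by η g = (1 / order of N) * Σ over n in N of ψ (n * g) * conj (χ (n * g)). Then: if the restriction of ψ to N has nonzero inner product with ϑ, η is an irreducible character of G; if that inner product is zero, η vanishes identically; and if ψ = χ then η is identically 1. -/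
theorem result {G : Type*} [Group G] [Fintype G] (N : Subgroup G) [N.Normal] [Fintype N] (χ : G → ℂ) (hχ : Cfsg.IsIrrCharacter G χ) (hχN : Cfsg.IsIrrCharacter N (fun n : N => χ n)) (ψ : G → ℂ) (hψ : Cfsg.IsIrrCharacter G ψ) (η : G → ℂ) (hη : η = fun g => (Nat.card N : ℂ)⁻¹ * ∑ n : N, ψ ((n : G) * g) * conj (χ ((n : G) * g))) : (Cfsg.classInner (fun n : N => ψ n) (fun n : N => χ n) ≠ 0 → Cfsg.IsIrrCharacter G η) ∧ (Cfsg.classInner (fun n : N => ψ n) (fun n : N => χ n) = 0 → η = 0) ∧ (ψ = χ → η = fun _ => 1) := by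
  classical
  have hχc := isCharacter_of_isIrrCharacter hχ
  have hχcl := isClassFunction_of_isCharacter hχc
  have hψc := isCharacter_of_isIrrCharacter hψ
  have hψcl := isClassFunction_of_isCharacter hψc
  have hNne : (Nat.card N : ℂ) ≠ 0 := Cfsg.Agent.Lib.Helper19.card_ne_zero_complex N
  have hNn : N.Normal := inferInstance
  -- Gallagher
  have hone_mul : ((fun _ => 1 : N → ℂ) * fun n : N => χ n) = fun n : N => χ n := by
    funext n; simp
  have hG := Cfsg.Agent.S0856.result N (fun _ => 1) (fun n : N => χ n) isIrr_one hχN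
    (fun _ _ => rfl) (fun g n => hχcl n g) (by rw [hone_mul]; exact hχN) χ hχ (fun _ => rfl)
  rw [hone_mul] at hG
  obtain ⟨hmaps, hinj, hsurj⟩ := hG
  -- class function
  have hηcl : IsClassFunction G η := by
    intro g h
    rw [hη]
    simp only
    congr 1
    refine Fintype.sum_equiv (MulAut.conjNormal h⁻¹ : N ≃* N).toEquiv _ _ ?_
    intro n
    have e1 : ((MulAut.conjNormal h⁻¹ : N ≃* N).toEquiv n : G) = h⁻¹ * n * h := by
      simp
    rw [e1]
    have e2 : (n : G) * (h * g * h⁻¹) = h * (h⁻¹ * n * h * g) * h⁻¹ := by group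
    rw [e2, hψcl, hχcl]
  -- inner products
  have hin1 : ∀ β : G → ℂ, IsIrrCharacter G β → (∀ n ∈ N, β n = β 1) →
      classInner η β = classInner ψ (β * χ) := by
    intro β hβ hker
    rw [hη, inner_eta N χ ψ β]
    unfold classInner
    congr 1
    apply Finset.sum_congr rfl
    intro g _
    have : ∑ n : N, β ((n : G) * g) = (Nat.card N : ℂ) * β g := by
      rw [Finset.sum_congr rfl (fun (n : N) _ =>
        char_mul_of_ker (isCharacter_of_isIrrCharacter hβ) (hker n n.2) g), Finset.sum_const,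
        Finset.card_univ, nsmul_eq_mul, Nat.card_eq_fintype_card]
    rw [this, ← mul_assoc, inv_mul_cancel₀ hNne, one_mul, Pi.mul_apply, map_mul]
    ring
  have hin0 : ∀ β : G → ℂ, IsIrrCharacter G β → ¬ (∀ n ∈ N, β n = β 1) → classInner η β = 0 := by
    intro β hβ hker
    rw [hη, inner_eta N χ ψ β]
    have h0 := (irr_ker_or_sum_zero N hβ).resolve_left hker
    simp [h0]
  have hT : classInner (indFun N (fun n : N => χ n)) ψ
      = conj (classInner (fun n : N => ψ n) (fun n : N => χ n)) := by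
    rw [frobenius_reciprocity N _ ψ hψcl, classInner_conj_symm]
  -- main lemma
  have main : ∀ β₀ : G → ℂ, IsIrrCharacter G β₀ → (∀ n ∈ N, β₀ n = β₀ 1) → ψ = β₀ * χ → η = β₀ := by
    intro β₀ hβ₀ hker₀ hψeq
    have hβ₀S : β₀ ∈ {β : G → ℂ | IsIrrCharacter G β ∧ classInner (indFun N (fun _ => (1 : ℂ))) β ≠ 0} :=
      ⟨hβ₀, (mem_S_iff N hβ₀).mpr hker₀⟩
    rw [← sub_eq_zero]
    apply eq_zero_of_orthogonal
      (isClassFunction_sub hηcl (isClassFunction_of_isCharacter (isCharacter_of_isIrrCharacter hβ₀)))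
    intro β hβ
    rw [classInner_sub_left]
    by_cases hker : ∀ n ∈ N, β n = β 1
    · have hβS : β ∈ {β : G → ℂ | IsIrrCharacter G β ∧ classInner (indFun N (fun _ => (1 : ℂ))) β ≠ 0} :=
        ⟨hβ, (mem_S_iff N hβ).mpr hker⟩
      rw [hin1 β hβ hker, hψeq, classInner_irr (hmaps hβ₀S).1 (hmaps hβS).1, classInner_irr hβ₀ hβ]
      by_cases hb : β₀ = β
      · rw [if_pos hb, if_pos (by rw [hb]), sub_self]
      · rw [if_neg hb, if_neg (fun h => hb (hinj hβ₀S hβS h)), sub_self]
    · rw [hin0 β hβ hker, classInner_irr_ne hβ₀ hβ (fun h => hker (h ▸ hker₀)), sub_self]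
  refine ⟨?_, ?_, ?_⟩
  · intro hne
    have hψT : ψ ∈ {ψ : G → ℂ | IsIrrCharacter G ψ ∧ classInner (indFun N (fun n : N => χ n)) ψ ≠ 0} := by
      refine ⟨hψ, ?_⟩
      rw [hT]
      exact (map_ne_zero _).mpr hne
    obtain ⟨β₀, ⟨hβ₀, hβ₀S⟩, hβ₀eq⟩ := hsurj hψT
    rw [main β₀ hβ₀ ((mem_S_iff N hβ₀).mp hβ₀S) hβ₀eq.symm]
    exact hβ₀
  · intro h0
    apply eq_zero_of_orthogonal hηcl
    intro β hβ
    by_cases hker : ∀ n ∈ N, β n = β 1
    · have hβS : β ∈ {β : G → ℂ | IsIrrCharacter G β ∧ classInner (indFun N (fun _ => (1 : ℂ))) β ≠ 0} :=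
        ⟨hβ, (mem_S_iff N hβ).mpr hker⟩
      rw [hin1 β hβ hker]
      apply classInner_irr_ne hψ (hmaps hβS).1
      intro heq
      have := (hmaps hβS).2
      have heq' : ψ = β * χ := heq
      simp only at this
      rw [← heq', hT, h0] at this
      simp at this
    · exact hin0 β hβ hker
  · intro heq
    apply main (fun _ => 1) isIrr_one (fun _ _ => rfl)
    rw [heq]
    funext g
    simp

end Cfsg.Agent.S0868
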