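import Cfsg.Statements.S0862
import Mathlib
import Cfsg.Agent.Lib.Helper19.DetChar
import Cfsg.Agent.Lib.Helper82.Linear
import Cfsg.Agent.S0868

set_option autoImplicit false
open Cfsg

namespace Cfsg.Agent.S0862

open Cfsg.Agent.Lib.Helper19 Cfsg.Agent.Lib.Helper20

theorem pow_index_eq_one {G : Type*} [Group G] (N : Subgroup G) [N.Normal] (δ : G →* ℂˣ)
    (h : ∀ n : N, δ n = 1) : δ ^ N.index = 1 := by
  ext g
  have e1 : (δ ^ N.index) g = δ (g ^ N.index) := by
    rw [MonoidHom.pow_apply, map_pow]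
  rw [e1, h ⟨g ^ N.index, Subgroup.pow_index_mem N g⟩]
  rfl

theorem homFun_mul {G : Type*} [Group G] (a b : G →* ℂˣ) : homFun a * homFun b = homFun (a * b) := by
  funext g
  simp [homFun]


/-- Let N be a normal subgroup of the finite group G and ϑ an irreducible character of N of degree d coprime to the index of N, which is the restriction of some irreducible character of G. Let μ be a character of G of degree 1 whose restriction to N is the determinantal character of ϑ. Then there is exactly one irreducible character χ of G restricting to ϑ whose determinantal character is μ. -/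
theorem result {G : Type*} [Group G] [Finite G] (N : Subgroup G) [N.Normal] (ϑ : N → ℂ) (hϑ : Cfsg.IsIrrCharacter N ϑ) (d : ℕ) (hd : ϑ 1 = d) (hcop : Nat.Coprime N.index d) (hext : ∃ η : G → ℂ, Cfsg.IsIrrCharacter G η ∧ (∀ n : N, η n = ϑ n)) (μ : G → ℂ) (hμ : Cfsg.IsCharacter G μ ∧ μ 1 = 1) (hμN : ∀ n : N, μ n = Cfsg.detChar ϑ n) : ∃! χ : G → ℂ, Cfsg.IsIrrCharacter G χ ∧ (∀ n : N, χ n = ϑ n) ∧ Cfsg.detChar χ = μ := by
  classical
  haveI := Fintype.ofFinite G
  haveI : Fintype N := Fintype.ofFinite N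
  obtain ⟨η, hη, hηN⟩ := hext
  have hηc := isCharacter_of_isIrrCharacter hη
  have hηcl := isClassFunction_of_isCharacter hηc
  obtain ⟨m, rfl⟩ := exists_hom_of_linear μ hμ
  obtain ⟨h, hh⟩ := exists_detChar_hom hηc
  have hη1 : η 1 = d := by
    have := hηN 1
    rw [hd] at this
    exact this
  have hd0 : (d : ℂ) ≠ 0 := by
    rw [← hη1]; exact irr_one_ne_zero hη
  have hϑeq : ϑ = fun n : N => η n := by funext n; exact (hηN n).symm
  have hdetN : ∀ n : N, h n = m n := by
    intro n
    have h1 := hμN n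
    rw [hϑeq, detChar_restrict hηc N, hh] at h1
    exact (Units.ext h1).symm
  set δ : G →* ℂˣ := m * h⁻¹ with hδ
  have hδN : ∀ n : N, δ n = 1 := by
    intro n
    rw [hδ, MonoidHom.mul_apply, MonoidHom.inv_apply, hdetN n, mul_inv_cancel]
  have hδidx : δ ^ N.index = 1 := pow_index_eq_one N δ hδN
  obtain ⟨u, v, huv⟩ := Nat.isCoprime_iff_coprime.mpr hcop
  set b : G →* ℂˣ := δ ^ v with hb
  have hbd : b ^ d = δ := by
    ext g
    have e1 : (b ^ d) g = (δ g ^ v) ^ d := rfl
    have e3 : δ g ^ N.index = 1 := DFunLike.congr_fun hδidx g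
    have e2 : v * (d : ℤ) = 1 - u * (N.index : ℤ) := by linarith
    rw [e1, ← zpow_natCast, ← zpow_mul, e2, zpow_sub, zpow_one, mul_comm u, zpow_mul, zpow_natCast, e3]
    simp
  have hbN : ∀ n : N, b n = 1 := by
    intro n
    have e1 : b (n : G) = δ (n : G) ^ v := rfl
    rw [e1, hδN n, one_zpow]
  have hδh : δ * h = m := by
    ext g
    simp [hδ]
  refine ⟨homFun b * η, ⟨?_, ?_, ?_⟩, ?_⟩
  · exact Cfsg.Agent.Lib.Helper82.isIrr_linear_mul (isCharacter_homFun b).1 (isCharacter_homFun b).2 hη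
  · intro n
    rw [Pi.mul_apply, homFun_apply, hbN n, hηN n]
    simp
  · rw [detChar_twist b hηc d hη1, hbd, hh, homFun_mul, hδh]
  · rintro χ' ⟨hχ', hχ'N, hχ'det⟩
    have hχ'cl := isClassFunction_of_isCharacter (isCharacter_of_isIrrCharacter hχ')
    have hone_mul : ((fun _ => 1 : N → ℂ) * fun n : N => η n) = fun n : N => η n := by
      funext n; simp
    have hηNirr : IsIrrCharacter N (fun n : N => η n) := hϑeq ▸ hϑ
    have hG := Cfsg.Agent.S0856.result N (fun _ => 1) (fun n : N => η n) Cfsg.Agent.S0868.isIrr_one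
      hηNirr (fun _ _ => rfl) (fun g n => hηcl n g) (by rw [hone_mul]; exact hηNirr) η hη
      (fun _ => rfl)
    rw [hone_mul] at hG
    obtain ⟨-, -, hsurj⟩ := hG
    have hχ'T : χ' ∈ {ψ : G → ℂ | IsIrrCharacter G ψ ∧ classInner (indFun N (fun n : N => η n)) ψ ≠ 0} := by
      refine ⟨hχ', ?_⟩
      rw [frobenius_reciprocity N _ χ' hχ'cl]
      have : (fun n : N => χ' n) = fun n : N => η n := by
        funext n; rw [hχ'N n, hηN n]
      rw [this, classInner_irr_self hηNirr]
      exact one_ne_zero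
    obtain ⟨β', ⟨hβ', hβ'S⟩, hβ'eq⟩ := hsurj hχ'T
    have hβ'eq' : β' * η = χ' := hβ'eq
    have hker := (Cfsg.Agent.S0868.mem_S_iff N hβ').mp hβ'S
    have hβ'1 : β' 1 = 1 := by
      have h1 := congrFun hβ'eq' 1
      have h2 := hχ'N 1
      rw [hd] at h2
      have h3 : χ' 1 = d := h2
      rw [Pi.mul_apply, hη1, h3] at h1
      exact mul_right_cancel₀ hd0 (by rw [h1, one_mul])
    obtain ⟨b', rfl⟩ := exists_hom_of_linear β' ⟨isCharacter_of_isIrrCharacter hβ', hβ'1⟩
    have hb'N : ∀ n : N, b' n = 1 := by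
      intro n
      have h1 := hker n n.2
      rw [hβ'1] at h1
      exact Units.ext h1
    have hb'd : b' ^ d = δ := by
      rw [← hβ'eq', detChar_twist b' hηc d hη1, hh, homFun_mul] at hχ'det
      have h1 := homFun_injective hχ'det
      ext g
      have h2 : (b' ^ d) g * h g = m g := DFunLike.congr_fun h1 g
      have h3 : δ g = m g * (h g)⁻¹ := rfl
      rw [h3, ← h2]
      simp
    rw [← hβ'eq']
    congr 2
    set γ : G →* ℂˣ := b' * b⁻¹ with hγ
    have hγN : ∀ n : N, γ n = 1 := by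
      intro n
      rw [hγ, MonoidHom.mul_apply, MonoidHom.inv_apply, hb'N n, hbN n, mul_inv_cancel]
    have h1 : orderOf γ ∣ N.index := orderOf_dvd_of_pow_eq_one (pow_index_eq_one N γ hγN)
    have h2 : orderOf γ ∣ d := by
      apply orderOf_dvd_of_pow_eq_one
      ext g
      have e1 : (γ ^ d) g = (b' ^ d) g * ((b ^ d) g)⁻¹ := by
        simp only [hγ, MonoidHom.pow_apply, MonoidHom.mul_apply, MonoidHom.inv_apply, mul_pow, inv_pow]
      rw [e1, hb'd, hbd, mul_inv_cancel]
      rfl
    have h4 : orderOf γ = 1 := Nat.eq_one_of_dvd_coprimes hcop h1 h2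
    have h5 : γ = 1 := orderOf_eq_one_iff.mp h4
    rw [hγ] at h5
    exact mul_inv_eq_one.mp h5

end Cfsg.Agent.S0862
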