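import Cfsg.Statements.S0865
import Mathlib
import Cfsg.Agent.Lib.Helper19.LinExt

set_option autoImplicit false
open Cfsg

namespace Cfsg.Agent.S0865

theorem hom_version {G : Type*} [Group G] [Finite G] (N : Subgroup G) [hN : N.Normal]
    (f : N →* ℂˣ)
    (hinv : ∀ (g : G) (n : N), f ⟨g * n * g⁻¹, hN.conj_mem (n : G) n.2 g⟩ = f n)
    (hcop : Nat.Coprime N.index (orderOf f)) :
    ∃ μ : G →* ℂˣ, ((∀ n : N, μ n = f n) ∧ orderOf μ = orderOf f) ∧
      ∀ μ' : G →* ℂˣ, (∀ n : N, μ' n = f n) → Nat.Coprime N.index (orderOf μ') → μ' = μ := by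
  classical
  obtain ⟨u, v, huv⟩ := (Nat.isCoprime_iff_coprime.mpr hcop)
  have hfo : ∀ n : N, f n ^ (orderOf f) = 1 := by
    intro n
    rw [← MonoidHom.pow_apply, pow_orderOf_eq_one]; rfl
  let τ : G →* ℂˣ := MonoidHom.transfer f
  have hτ : ∀ n : N, τ (n : G) = f n ^ N.index :=
    Cfsg.Agent.Lib.Helper19.transfer_restrict N le_rfl f f (fun n => rfl) hinv
  have hτo : ∀ g : G, τ g ^ (orderOf f) = 1 :=
    Cfsg.Agent.Lib.Helper19.transfer_pow_eq_one f (orderOf f) hfo
  let μ : G →* ℂˣ := τ ^ u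
  have hμN : ∀ n : N, μ n = f n := by
    intro n
    show (τ ^ u) (n : G) = f n
    have e1 : (τ ^ u) (n : G) = τ (n : G) ^ u := rfl
    rw [e1, hτ n, ← zpow_natCast, ← zpow_mul]
    have e2 : (N.index : ℤ) * u = 1 - v * (orderOf f : ℤ) := by linarith
    rw [e2, zpow_sub, zpow_one, mul_comm v, zpow_mul, zpow_natCast, hfo n]
    simp
  have hμo : orderOf μ = orderOf f := by
    apply Nat.dvd_antisymm
    · apply orderOf_dvd_of_pow_eq_one
      ext g
      have e1 : (μ ^ orderOf f) g = (τ g ^ u) ^ orderOf f := rfl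
      rw [e1, ← zpow_natCast, ← zpow_mul, mul_comm, zpow_mul, zpow_natCast, hτo g]
      simp
    · apply orderOf_dvd_of_pow_eq_one
      ext n
      have e1 : (f ^ orderOf μ) n = f n ^ orderOf μ := rfl
      rw [e1, ← hμN n, ← MonoidHom.pow_apply, pow_orderOf_eq_one]
      rfl
  refine ⟨μ, ⟨hμN, hμo⟩, ?_⟩
  intro μ' hμ'N hcop'
  set δ : G →* ℂˣ := μ' * μ⁻¹ with hδ
  have hδN : ∀ n : N, δ n = 1 := by
    intro n
    rw [hδ, MonoidHom.mul_apply, MonoidHom.inv_apply, hμ'N, hμN, mul_inv_cancel]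
  have h1 : orderOf δ ∣ N.index := by
    apply orderOf_dvd_of_pow_eq_one
    ext g
    have e1 : (δ ^ N.index) g = δ (g ^ N.index) := by
      rw [MonoidHom.pow_apply, map_pow]
    rw [e1]
    have := hδN ⟨g ^ N.index, Subgroup.pow_index_mem N g⟩
    rw [this]; rfl
  have h2 : orderOf δ ∣ orderOf μ' * orderOf μ := by
    apply orderOf_dvd_of_pow_eq_one
    ext g
    have e1 : (δ ^ (orderOf μ' * orderOf μ)) g = (μ' g * (μ g)⁻¹) ^ (orderOf μ' * orderOf μ) := rfl
    have e2 : μ' g ^ orderOf μ' = 1 := by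
      rw [← MonoidHom.pow_apply, pow_orderOf_eq_one]; rfl
    have e3 : μ g ^ orderOf μ = 1 := by
      rw [← MonoidHom.pow_apply, pow_orderOf_eq_one]; rfl
    rw [e1, mul_pow, inv_pow, pow_mul, e2, one_pow, mul_comm (orderOf μ'), pow_mul, e3, one_pow]
    simp
  have h3 : Nat.Coprime N.index (orderOf μ' * orderOf μ) :=
    Nat.Coprime.mul_right hcop' (hμo ▸ hcop)
  have h4 : orderOf δ = 1 := Nat.eq_one_of_dvd_coprimes h3 h1 h2
  have h5 : δ = 1 := orderOf_eq_one_iff.mp h4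
  rw [hδ] at h5
  exact mul_inv_eq_one.mp h5


/-- Let N be a normal subgroup of the finite group G and λ a character of N of degree 1, invariant under conjugation by G, whose order (under pointwise multiplication) is coprime to the index of N. Then there is a character μ of G of degree 1 restricting to λ with the same order as λ, and μ is the only degree-1 character of G restricting to λ whose order is coprime to the index of N. -/
theorem result {G : Type*} [Group G] [Finite G] (N : Subgroup G) [hN : N.Normal] (lam : N → ℂ) (hlam : Cfsg.IsCharacter N lam ∧ lam 1 = 1) (hinv : ∀ (g : G) (n : N), lam ⟨g * n * g⁻¹, hN.conj_mem (n : G) n.2 g⟩ = lam n) (hcop : Nat.Coprime N.index (orderOf lam)) : ∃ μ : G → ℂ, (Cfsg.IsCharacter G μ ∧ μ 1 = 1 ∧ (∀ n : N, μ n = lam n) ∧ orderOf μ = orderOf lam) ∧ ∀ μ' : G → ℂ, Cfsg.IsCharacter G μ' ∧ μ' 1 = 1 → (∀ n : N, μ' n = lam n) → Nat.Coprime N.index (orderOf μ') → μ' = μ := by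
  classical
  obtain ⟨f, rfl⟩ := Cfsg.Agent.Lib.Helper19.exists_hom_of_linear lam hlam
  have hinv' : ∀ (g : G) (n : N), f ⟨g * n * g⁻¹, hN.conj_mem (n : G) n.2 g⟩ = f n := by
    intro g n
    have := hinv g n
    simp only [Cfsg.Agent.Lib.Helper19.homFun_apply] at this
    exact Units.ext this
  rw [Cfsg.Agent.Lib.Helper19.orderOf_homFun] at hcop
  obtain ⟨μ, ⟨hμN, hμo⟩, huniq⟩ := hom_version N f hinv' hcop
  refine ⟨Cfsg.Agent.Lib.Helper19.homFun μ, ⟨(Cfsg.Agent.Lib.Helper19.isCharacter_homFun μ).1,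
    (Cfsg.Agent.Lib.Helper19.isCharacter_homFun μ).2, fun n => ?_, ?_⟩, ?_⟩
  · simp only [Cfsg.Agent.Lib.Helper19.homFun_apply, hμN n]
  · rw [Cfsg.Agent.Lib.Helper19.orderOf_homFun, Cfsg.Agent.Lib.Helper19.orderOf_homFun, hμo]
  · intro μ' hμ' hμ'N hcop'
    obtain ⟨g', rfl⟩ := Cfsg.Agent.Lib.Helper19.exists_hom_of_linear μ' hμ'
    rw [Cfsg.Agent.Lib.Helper19.orderOf_homFun] at hcop'
    congr 1
    apply huniq g' _ hcop'
    intro n
    have := hμ'N n
    simp only [Cfsg.Agent.Lib.Helper19.homFun_apply] at this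
    exact Units.ext this

end Cfsg.Agent.S0865
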