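import Cfsg.Statements.S0866
import Cfsg.Agent.Lib.Helper19.ExtConstr
import Cfsg.Agent.Lib.Helper19.DetChar

set_option autoImplicit false
open Cfsg

namespace Cfsg.Agent.S0866

/-- Let N be a normal subgroup of the finite group G and ϑ an irreducible character of N, invariant under conjugation by G, of degree d coprime to the index of N. Then ϑ is the restriction of an irreducible character of G if and only if the determinantal character of ϑ is the restriction of a character of G of degree 1. -/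
theorem result {G : Type*} [Group G] [Finite G] (N : Subgroup G) [hN : N.Normal] (ϑ : N → ℂ) (hϑ : Cfsg.IsIrrCharacter N ϑ) (hinv : ∀ (g : G) (n : N), ϑ ⟨g * n * g⁻¹, hN.conj_mem (n : G) n.2 g⟩ = ϑ n) (d : ℕ) (hd : ϑ 1 = d) (hcop : Nat.Coprime N.index d) : (∃ χ : G → ℂ, Cfsg.IsIrrCharacter G χ ∧ (∀ n : N, χ n = ϑ n)) ↔ ∃ μ : G → ℂ, Cfsg.IsCharacter G μ ∧ μ 1 = 1 ∧ ∀ n : N, μ n = Cfsg.detChar ϑ n := by
  classical
  constructor
  · rintro ⟨χ, hχ, hres⟩
    have hχc := Cfsg.Agent.Lib.Helper20.isCharacter_of_isIrrCharacter hχ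
    obtain ⟨f, hf⟩ := Cfsg.Agent.Lib.Helper19.exists_detChar_hom hχc
    refine ⟨Cfsg.detChar χ, ?_, ?_, ?_⟩
    · rw [hf]; exact (Cfsg.Agent.Lib.Helper19.isCharacter_homFun f).1
    · rw [hf]; exact (Cfsg.Agent.Lib.Helper19.isCharacter_homFun f).2
    · intro n
      have h1 := Cfsg.Agent.Lib.Helper19.detChar_restrict hχc N
      have h2 : (fun n : N => χ n) = ϑ := funext hres
      rw [h2] at h1
      rw [h1]
  · rintro ⟨μ, hμ, hμ1, hμN⟩
    obtain ⟨m, rfl⟩ := Cfsg.Agent.Lib.Helper19.exists_hom_of_linear μ ⟨hμ, hμ1⟩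
    obtain ⟨k, ρ, hρ, rfl⟩ := hϑ
    have hk : k = d := by
      rw [Representation.char_one] at hd
      simpa using hd
    subst hk
    have hm : ∀ n : N, Cfsg.Agent.Lib.Helper19.detU k (ρ.asGroupHom n) = m n := by
      intro n
      apply Units.ext
      have h1 := hμN n
      rw [Cfsg.Agent.Lib.Helper19.detChar_eq ρ] at h1
      exact h1.symm
    obtain ⟨R, hR⟩ := Cfsg.Agent.Lib.Helper19.exists_extension_rep N ρ m hρ
      (fun g n => hinv g n) hm hcop
    refine ⟨R.character, ⟨k, R, Cfsg.Agent.Lib.Helper19.irreducible_of_restrict N R ρ hR hρ, rfl⟩, ?_⟩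
    intro n
    show LinearMap.trace ℂ _ (R n) = LinearMap.trace ℂ _ (ρ n)
    rw [hR n]

end Cfsg.Agent.S0866
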