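import Cfsg.Statements.S0867
import Cfsg.Agent.S0866
import Cfsg.Agent.S0865
import Cfsg.Agent.S0862

set_option autoImplicit false
open Cfsg

namespace Cfsg.Agent.S0867

/-- Let N be a normal subgroup of the finite group G and ϑ an irreducible character of N of degree d, invariant under conjugation by G, such that the index of N is coprime to the product of d and the determinantal order of ϑ. Then there is an irreducible character χ of G restricting to ϑ whose determinantal order equals that of ϑ, and χ is the only irreducible character of G restricting to ϑ whose determinantal order is coprime to the index of N. -/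
theorem result {G : Type*} [Group G] [Finite G] (N : Subgroup G) [hN : N.Normal] (ϑ : N → ℂ) (hϑ : Cfsg.IsIrrCharacter N ϑ) (hinv : ∀ (g : G) (n : N), ϑ ⟨g * n * g⁻¹, hN.conj_mem (n : G) n.2 g⟩ = ϑ n) (d : ℕ) (hd : ϑ 1 = d) (hcop : Nat.Coprime N.index (Cfsg.detOrder ϑ * d)) : ∃ χ : G → ℂ, (Cfsg.IsIrrCharacter G χ ∧ (∀ n : N, χ n = ϑ n) ∧ Cfsg.detOrder χ = Cfsg.detOrder ϑ) ∧ ∀ χ' : G → ℂ, Cfsg.IsIrrCharacter G χ' → (∀ n : N, χ' n = ϑ n) → Nat.Coprime N.index (Cfsg.detOrder χ') → χ' = χ := by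
  classical
  have hϑc := Cfsg.Agent.Lib.Helper20.isCharacter_of_isIrrCharacter hϑ
  have hcop1 : Nat.Coprime N.index (Cfsg.detOrder ϑ) := Nat.Coprime.coprime_mul_right_right hcop
  have hcop2 : Nat.Coprime N.index d := Nat.Coprime.coprime_mul_left_right hcop
  -- the determinant is an invariant linear character
  obtain ⟨f, hf⟩ := Cfsg.Agent.Lib.Helper19.exists_detChar_hom hϑc
  have hlin : Cfsg.IsCharacter N (Cfsg.detChar ϑ) ∧ Cfsg.detChar ϑ 1 = 1 := by
    rw [hf]; exact Cfsg.Agent.Lib.Helper19.isCharacter_homFun f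
  have hdinv : ∀ (g : G) (n : N),
      Cfsg.detChar ϑ ⟨g * n * g⁻¹, hN.conj_mem (n : G) n.2 g⟩ = Cfsg.detChar ϑ n := by
    intro g n
    obtain ⟨k, ρ, rfl⟩ := hϑc
    let σ : Representation ℂ N (Fin k → ℂ) := MonoidHom.comp ρ (MulAut.conjNormal g).toMonoidHom
    have h1 : σ.character = ρ.character := by
      funext n
      exact hinv g n
    have h2 := Cfsg.Agent.Lib.Helper19.detChar_eq σ
    rw [h1] at h2
    have h3 := congrFun h2 n
    have h4 := Cfsg.Agent.Lib.Helper19.detChar_eq ρ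
    rw [h3]
    rw [h4]
    rfl
  obtain ⟨μ, ⟨hμ, hμ1, hμN, hμo⟩, hμu⟩ := Cfsg.Agent.S0865.result N (Cfsg.detChar ϑ) hlin hdinv hcop1
  have hext := (Cfsg.Agent.S0866.result N ϑ hϑ hinv d hd hcop2).mpr ⟨μ, hμ, hμ1, hμN⟩
  obtain ⟨χ, ⟨hχ, hχN, hχd⟩, hχu⟩ := Cfsg.Agent.S0862.result N ϑ hϑ d hd hcop2 hext μ ⟨hμ, hμ1⟩ hμN
  refine ⟨χ, ⟨hχ, hχN, ?_⟩, ?_⟩
  · unfold Cfsg.detOrder
    rw [hχd, hμo]
  · intro χ' hχ' hχ'N hc
    apply hχu χ' ⟨hχ', hχ'N, ?_⟩
    have hχ'c := Cfsg.Agent.Lib.Helper20.isCharacter_of_isIrrCharacter hχ'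
    obtain ⟨f', hf'⟩ := Cfsg.Agent.Lib.Helper19.exists_detChar_hom hχ'c
    apply hμu
    · rw [hf']; exact Cfsg.Agent.Lib.Helper19.isCharacter_homFun f'
    · intro n
      have h1 := Cfsg.Agent.Lib.Helper19.detChar_restrict hχ'c N
      have h2 : (fun n : N => χ' n) = ϑ := funext hχ'N
      rw [h2] at h1
      rw [h1]
    · exact hc

end Cfsg.Agent.S0867
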