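import Cfsg.Statements.S4996
import Cfsg.Agent.Lib.Helper79.NAverage
import Cfsg.Agent.Lib.Helper19.LinChar

set_option autoImplicit false
open Cfsg

namespace Cfsg.Agent.S4996

/-- Let N be a normal subgroup of the finite group G and χ an irreducible complex character of G. Then the restriction of χ to N is not irreducible if and only if χ vanishes on some whole coset Nx of N in G. -/
theorem result {G : Type*} [Group G] [Finite G] (N : Subgroup G) [N.Normal] (χ : Cfsg.IrrCharacter G) : ¬ Cfsg.IsIrrCharacter ↥N (fun n : ↥N => (χ : G → ℂ) n) ↔ ∃ x : G, ∀ n : ↥N, (χ : G → ℂ) ((n : G) * x) = 0 := by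
  classical
  have := Fintype.ofFinite G
  have := Fintype.ofFinite N
  have hc : Cfsg.IsCharacter G (χ : G → ℂ) := Cfsg.Agent.Lib.Helper79.IsIrrCharacter.isCharacter χ.2
  set φ : G → ℂ := fun g => (χ : G → ℂ) g * (starRingEnd ℂ) ((χ : G → ℂ) g) with hφdef
  have hφ : Cfsg.IsCharacter G φ :=
    Cfsg.Agent.Lib.Helper20.isCharacter_mul hc (Cfsg.Agent.Lib.Helper20.isCharacter_conj hc)
  set f := Cfsg.Agent.Lib.Helper79.navg N φ with hfdef
  have hf : Cfsg.IsCharacter G f := Cfsg.Agent.Lib.Helper79.navg_isCharacter N hφ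
  have hNpos : (0 : ℝ) < (Nat.card N : ℝ) := by exact_mod_cast Nat.card_pos
  let r : G → ℝ := fun g => (Nat.card N : ℝ)⁻¹ * ∑ n : N, ‖(χ : G → ℂ) ((n : G) * g)‖ ^ 2
  have hr : ∀ g, f g = ((r g : ℝ) : ℂ) := by
    intro g
    simp only [hfdef, Cfsg.Agent.Lib.Helper79.navg, hφdef, r, Complex.mul_conj,
      Complex.normSq_eq_norm_sq]
    push_cast
    rfl
  have hr0 : ∀ g, 0 ≤ r g := by
    intro g
    apply mul_nonneg (inv_nonneg.mpr hNpos.le)
    exact Finset.sum_nonneg fun n _ => by positivity
  have hf1 : f 1 = Cfsg.classInner (fun n : N => (χ : G → ℂ) n) (fun n : N => (χ : G → ℂ) n) :=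
    Cfsg.Agent.Lib.Helper79.navg_mul_conj_one N _ _
  constructor
  · intro hnirr
    by_contra hno
    push Not at hno
    have hfne : ∀ g, f g ≠ 0 := by
      intro g
      obtain ⟨n, hn⟩ := hno g
      rw [hr g]
      have : 0 < r g := by
        apply mul_pos (inv_pos.mpr hNpos)
        apply Finset.sum_pos' (fun n _ => by positivity)
        exact ⟨n, Finset.mem_univ _, by positivity⟩
      exact_mod_cast this.ne'
    have h1 := Cfsg.Agent.Lib.Helper79.IsCharacter.card_le_sum_norm hf (Finset.univ.erase (1 : G))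
      (Cfsg.Agent.Lib.Helper79.pow_mem_erase_one_iff) (fun g _ => hfne g)
    have hnorm : ∀ g, ‖f g‖ = r g := by
      intro g
      rw [hr g, Complex.norm_real, Real.norm_of_nonneg (hr0 g)]
    simp_rw [hnorm] at h1
    have hsum : Cfsg.classInner f (fun _ => 1) = 1 := by
      rw [hfdef, Cfsg.Agent.Lib.Helper79.classInner_navg_left N φ (fun _ => 1) (fun _ _ => rfl)]
      have := Cfsg.Agent.Lib.Helper20.classInner_irr_self χ.2
      refine Eq.trans ?_ this
      unfold Cfsg.classInner
      simp only [hφdef, map_one, mul_one]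
    have hGne : (Nat.card G : ℂ) ≠ 0 := by exact_mod_cast Nat.card_pos.ne'
    have hsum2 : ∑ g : G, r g = (Nat.card G : ℝ) := by
      unfold Cfsg.classInner at hsum
      simp only [map_one, mul_one] at hsum
      simp_rw [hr] at hsum
      rw [inv_mul_eq_one₀ hGne] at hsum
      exact_mod_cast hsum.symm
    obtain ⟨t, ht⟩ := Cfsg.Agent.Lib.Helper20.isCharacter_classInner_nat'
      (Cfsg.Agent.Lib.Helper20.isCharacter_restrict hc N)
      (Cfsg.Agent.Lib.Helper20.isCharacter_restrict hc N)
    have ht' : Cfsg.classInner (fun n : N => (χ : G → ℂ) n) (fun n : N => (χ : G → ℂ) n) = t := ht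
    have ht1 : t ≠ 1 := by
      intro h
      apply hnirr
      apply Cfsg.Agent.Lib.Helper20.isIrrCharacter_of_classInner_self
        (Cfsg.Agent.Lib.Helper20.isCharacter_restrict hc N)
      rw [ht', h]; simp
    have ht0 : t ≠ 0 := by
      intro h
      apply hfne 1
      rw [hf1, ht', h]; simp
    have hr1 : r 1 = (t : ℝ) := by
      have := hr 1
      rw [hf1, ht'] at this
      exact_mod_cast this.symm
    have ht2 : (2 : ℝ) ≤ (t : ℝ) := by
      have : 2 ≤ t := by omega
      exact_mod_cast this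
    rw [← Finset.add_sum_erase Finset.univ _ (Finset.mem_univ (1 : G)), hr1] at hsum2
    rw [Finset.card_erase_of_mem (Finset.mem_univ _), Finset.card_univ, ← Nat.card_eq_fintype_card,
      Nat.cast_sub Nat.card_pos] at h1
    push_cast at h1
    linarith
  · rintro ⟨x, hx⟩ hirr
    have h1 : f 1 = 1 := by
      rw [hf1]
      exact Cfsg.Agent.Lib.Helper20.classInner_irr_self hirr
    obtain ⟨h, hh⟩ := Cfsg.Agent.Lib.Helper19.exists_hom_of_linear f ⟨hf, h1⟩
    have h2 : f x = 0 := by
      rw [hr x]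
      simp [r, hx]
    rw [hh] at h2
    simp [Cfsg.Agent.Lib.Helper19.homFun] at h2

end Cfsg.Agent.S4996
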