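import Cfsg.Statements.S2426
import Cfsg.Agent.Lib.Helper85.St2Rel

set_option autoImplicit false
open Cfsg

namespace Cfsg.Agent.S2426

/-- The rank-one Steinberg presentation of `SL₂` over a finite field `K`: generators `x(t)`, `y(t)` (`t ∈ K`; the two opposite root subgroups) subject to additivity `x(t)x(u) = x(t+u)`, `y(t)y(u) = y(t+u)` and, with `w(t) = x(t) y(−t⁻¹) x(t)` and `w'(t) = y(t) x(−t⁻¹) y(t)` for `t ≠ 0`, the relations `w(t) x(u) w(t)⁻¹ = y(−t⁻² u)` and `w'(t) y(u) w'(t)⁻¹ = x(−t⁻² u)`, present `SL₂(K)`, with `x(t) ↦ (1 t; 0 1)` and `y(t) ↦ (1 0; t 1)`. -/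
theorem result {K : Type*} [Field K] [Finite K] :
    ∃ e : PresentedGroup
        ({g : FreeGroup (Bool × K) | ∃ (b : Bool) (t u : K), g = FreeGroup.of (b, t) * FreeGroup.of (b, u) * (FreeGroup.of (b, t + u))⁻¹} ∪
          {g | ∃ (b : Bool) (t u : K), t ≠ 0 ∧
            g = (FreeGroup.of (b, t) * FreeGroup.of (!b, -t⁻¹) * FreeGroup.of (b, t)) * FreeGroup.of (b, u) *
                  (FreeGroup.of (b, t) * FreeGroup.of (!b, -t⁻¹) * FreeGroup.of (b, t))⁻¹ * (FreeGroup.of (!b, -(t⁻¹ ^ 2 * u)))⁻¹})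
        ≃* Matrix.SpecialLinearGroup (Fin 2) K,
      (∀ t : K, ((e (PresentedGroup.of (true, t)) : Matrix (Fin 2) (Fin 2) K)) = !![1, t; 0, 1]) ∧
      (∀ t : K, ((e (PresentedGroup.of (false, t)) : Matrix (Fin 2) (Fin 2) K)) = !![1, 0; t, 1]) := by
  open Cfsg.Agent.Lib.Helper85 in
  classical
  obtain ⟨rels, hrels⟩ : ∃ rels : Set (FreeGroup (Bool × K)), rels =
      ({g : FreeGroup (Bool × K) | ∃ (b : Bool) (t u : K), g = FreeGroup.of (b, t) * FreeGroup.of (b, u) * (FreeGroup.of (b, t + u))⁻¹} ∪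
          {g | ∃ (b : Bool) (t u : K), t ≠ 0 ∧
            g = (FreeGroup.of (b, t) * FreeGroup.of (!b, -t⁻¹) * FreeGroup.of (b, t)) * FreeGroup.of (b, u) *
                  (FreeGroup.of (b, t) * FreeGroup.of (!b, -t⁻¹) * FreeGroup.of (b, t))⁻¹ * (FreeGroup.of (!b, -(t⁻¹ ^ 2 * u)))⁻¹}) :=
    ⟨_, rfl⟩
  rw [← hrels]
  let f : Bool × K → Matrix.SpecialLinearGroup (Fin 2) K :=
    fun p => if p.1 then SL2.up p.2 else SL2.lo p.2
  have hrel : ∀ r ∈ rels, FreeGroup.lift f r = 1 := by
    intro r hr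
    rw [hrels] at hr
    rcases hr with ⟨b, t, u, rfl⟩ | ⟨b, t, u, ht, rfl⟩
    · cases b
      · simp [f, SL2.lo_add]
      · simp [f, SL2.up_add]
    · cases b
      · have := SL2.rel_lo ht u
        simp only [map_mul, map_inv, FreeGroup.lift_apply_of, f, Bool.not_false, if_true,
          Bool.false_eq_true, if_false]
        rw [this, mul_inv_cancel]
      · have := SL2.rel_up ht u
        simp only [map_mul, map_inv, FreeGroup.lift_apply_of, f, Bool.not_true, if_true,
          Bool.false_eq_true, if_false]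
        rw [this, mul_inv_cancel]
  have hadd : ∀ (b : Bool) (t u : K), (PresentedGroup.of (b, t) : PresentedGroup rels) *
      PresentedGroup.of (b, u) = PresentedGroup.of (b, t + u) := by
    intro b t u
    have hm : FreeGroup.of (b, t) * FreeGroup.of (b, u) * (FreeGroup.of (b, t + u))⁻¹ ∈ rels := by
      rw [hrels]; exact Or.inl ⟨b, t, u, rfl⟩
    have := PresentedGroup.one_of_mem hm
    rw [map_mul, map_mul, map_inv, mul_inv_eq_one] at this
    exact this
  let D : St2 K (PresentedGroup rels) :=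
    { x := fun t => PresentedGroup.of (true, t)
      y := fun t => PresentedGroup.of (false, t)
      x_add := hadd true
      y_add := hadd false
      rel := by
        intro t u ht
        have hm : (FreeGroup.of (true, t) * FreeGroup.of (!true, -t⁻¹) * FreeGroup.of (true, t)) * FreeGroup.of (true, u) *
                  (FreeGroup.of (true, t) * FreeGroup.of (!true, -t⁻¹) * FreeGroup.of (true, t))⁻¹ * (FreeGroup.of (!true, -(t⁻¹ ^ 2 * u)))⁻¹ ∈ rels := by
          rw [hrels]; exact Or.inr ⟨true, t, u, ht, rfl⟩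
        have := PresentedGroup.one_of_mem hm
        rw [map_mul, map_inv, mul_inv_eq_one] at this
        simp only [map_mul, map_inv] at this
        exact this }
  have hgen : Subgroup.closure (Set.range D.x ∪ Set.range D.y) = ⊤ := by
    rw [eq_top_iff, ← PresentedGroup.closure_range_of rels]
    apply Subgroup.closure_mono
    rintro _ ⟨⟨b, t⟩, rfl⟩
    cases b
    · exact Or.inr ⟨t, rfl⟩
    · exact Or.inl ⟨t, rfl⟩
  have hx : ∀ t, PresentedGroup.toGroup hrel (D.x t) = SL2.up t := by
    intro t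
    show PresentedGroup.toGroup hrel (PresentedGroup.of (true, t)) = _
    rw [PresentedGroup.toGroup.of]
    simp [f]
  have hy : ∀ t, PresentedGroup.toGroup hrel (D.y t) = SL2.lo t := by
    intro t
    show PresentedGroup.toGroup hrel (PresentedGroup.of (false, t)) = _
    rw [PresentedGroup.toGroup.of]
    simp [f]
  refine ⟨MulEquiv.ofBijective (PresentedGroup.toGroup hrel)
    ⟨D.pi_injective _ hx hy hgen, D.pi_surjective _ hx hy⟩, ?_, ?_⟩
  · intro t
    show ((PresentedGroup.toGroup hrel (D.x t) : Matrix.SpecialLinearGroup (Fin 2) K) :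
      Matrix (Fin 2) (Fin 2) K) = _
    rw [hx]; rfl
  · intro t
    show ((PresentedGroup.toGroup hrel (D.y t) : Matrix.SpecialLinearGroup (Fin 2) K) :
      Matrix (Fin 2) (Fin 2) K) = _
    rw [hy]; rfl

end Cfsg.Agent.S2426
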