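import Cfsg.Statements.S4508
import Mathlib
import Cfsg.Agent.Lib.Helper25.DefOneP
import Cfsg.Agent.Lib.Helper80.DefOne
import Cfsg.Agent.Lib.Helper78.SelfCent2
import Cfsg.Agent.Lib.Helper78.DefectZero
import Cfsg.Agent.Lib.Helper78.DegPm1
import Cfsg.Agent.Lib.Helper20.CharCongr
import Cfsg.Agent.Lib.Helper81.BlockOrth

set_option autoImplicit false
open Cfsg

namespace Cfsg.Agent.S4508

open scoped ComplexConjugate
open Cfsg.Agent.Lib.Helper78 Cfsg.Agent.Lib.Helper81 Cfsg.Agent.Lib.Helper83

/-- with a self-centralising element of order `p`, the characters of degree prime to `p` lie in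
the principal block. -/
theorem mem_principal {G : Type*} [Group G] [Finite G] {p : ℕ} (hp : p.Prime) {M : Ideal AlgInt}
    (hM : IsPModular p M) {x : G} (hx : orderOf x = p)
    (hC : Subgroup.centralizer ({x} : Set G) = Subgroup.zpowers x) (χ : IrrCharacter G)
    (hχ : ¬ p ∣ charDegree (χ : G → ℂ)) : χ ∈ principalBlock M G := by
  intro g
  have : Fact p.Prime := ⟨hp⟩
  have := Fintype.ofFinite G
  have hc : IsCharacter G (χ : G → ℂ) := IsIrr.isChar χ.2
  have hdeg : (χ : G → ℂ) 1 = (charDegree (χ : G → ℂ) : ℂ) := irr_one_eq χ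
  have hunit : ¬ MemLocalIdeal M ((χ : G → ℂ) 1) := by
    rw [hdeg, memLocalIdeal_natCast_iff hM]; exact hχ
  have hring1 : MemLocalRing M ((χ : G → ℂ) 1) := by rw [hdeg]; exact memLocalRing_natCast hM _
  have hne : (χ : G → ℂ) 1 ≠ 0 := ne_zero_of_not_memLocalIdeal hM hunit
  have hval : ∀ g, MemLocalRing M ((χ : G → ℂ) g) := fun g =>
    memLocalRing_of_isIntegral hM (Cfsg.Agent.Lib.Helper20.isCharacter_isIntegral hc g)
  unfold centralChar
  have heq : (((Subgroup.centralizer ({g} : Set G)).index : ℂ) * 1 / 1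
      - ((Subgroup.centralizer ({g} : Set G)).index : ℂ) * (χ : G → ℂ) g / (χ : G → ℂ) 1)
      = ((Subgroup.centralizer ({g} : Set G)).index : ℂ)
        * (((χ : G → ℂ) 1 - (χ : G → ℂ) g) / (χ : G → ℂ) 1) := by
    field_simp
  rw [heq]
  by_cases hdiv : p ∣ (Subgroup.centralizer ({g} : Set G)).index
  · exact memLocalIdeal_mul_right hM ((memLocalIdeal_natCast_iff hM _).2 hdiv)
      (memLocalRing_div hM (memLocalRing_sub hM hring1 (hval g)) hring1 hunit)
  · apply memLocalIdeal_mul_left hM (memLocalRing_natCast hM _)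
    refine memLocalIdeal_div hM ?_ hring1 hunit
    have hpG : p ∣ Nat.card G := hx ▸ orderOf_dvd_natCard x
    rw [← Subgroup.card_mul_index (Subgroup.centralizer ({g} : Set G))] at hpG
    have hpC := (hp.dvd_mul.1 hpG).resolve_right hdiv
    obtain ⟨y, hy⟩ := exists_prime_orderOf_dvd_card' p hpC
    have hy' : orderOf (y : G) = p := by rw [Subgroup.orderOf_coe, hy]
    obtain ⟨a, ha⟩ := sc_pgroup_conj hp hx hC (Subgroup.zpowers (y : G))
      (sc_isPGroup_zpowers hp hy')
    have h1 := ha y (Subgroup.mem_zpowers _)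
    have h2 : a⁻¹ * (y : G) * a ≠ 1 := by
      intro h
      have h3 : (y : G) = 1 := by
        have := congrArg (fun z => a * z * a⁻¹) h
        simpa [mul_assoc] using this
      rw [h3, orderOf_one] at hy'
      exact hp.one_lt.ne hy'
    have h3 := sc_centralizer_of_mem hp hx hC h1 h2
    have hcomm : (y : G) * g = g * y := Subgroup.mem_centralizer_singleton_iff.1 y.2
    have h4 : a⁻¹ * g * a ∈ Subgroup.zpowers x := by
      rw [← h3, Subgroup.mem_centralizer_singleton_iff]
      calc a⁻¹ * g * a * (a⁻¹ * (y : G) * a) = a⁻¹ * (g * y) * a := by group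
        _ = a⁻¹ * ((y : G) * g) * a := by rw [hcomm]
        _ = a⁻¹ * (y : G) * a * (a⁻¹ * g * a) := by group
    have h5 : (a⁻¹ * g * a) ^ (p ^ 1) = 1 := by
      obtain ⟨k, hk⟩ := Subgroup.mem_zpowers_iff.1 h4
      rw [← hk, pow_one, ← zpow_natCast, ← zpow_mul, mul_comm, zpow_mul, zpow_natCast, ← hx,
        pow_orderOf_eq_one, one_zpow]
    have h6 := Cfsg.Agent.Lib.Helper20.isCharacter_mul_sub_memLocalIdeal hM hc
      (Commute.one_right (a⁻¹ * g * a)) h5 (by rw [orderOf_one]; exact hp.one_lt.not_ge ∘ Nat.le_of_dvd one_pos)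
    rw [mul_one] at h6
    have h7 : (χ : G → ℂ) (a⁻¹ * g * a) = (χ : G → ℂ) g := by
      have := isChar_conj hc g a⁻¹
      rwa [inv_inv] at this
    rw [h7] at h6
    have := memLocalIdeal_neg h6
    rwa [neg_sub] at this

/-- Let the finite group G contain an element x of prime order p with C_G(x) = ⟨x⟩, and let t be the number of conjugacy classes of elements of order p. If G has an irreducible character of degree p − 1, then t is even or the commutator subgroup has even index. -/
theorem result {G : Type*} [Group G] [Finite G] (p : ℕ) (hp : p.Prime) (x : G) (hx : orderOf x = p) (hC : Subgroup.centralizer ({x} : Set G) = Subgroup.zpowers x) (t : ℕ) (ht : Nat.card {C : ConjClasses G // ∃ g ∈ C.carrier, orderOf g = p} = t) (χ : Cfsg.IrrCharacter G) (hχ : Cfsg.charDegree (χ : G → ℂ) + 1 = p) : Even t ∨ Even (commutator G).index := by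
  classical
  have : Fact p.Prime := ⟨hp⟩
  have := Fintype.ofFinite G
  have hc : IsCharacter G (χ : G → ℂ) := IsIrr.isChar χ.2
  obtain ⟨q, hq⟩ : ∃ q, q = (Subgroup.zpowers x).relIndex
      (Subgroup.normalizer ((Subgroup.zpowers x : Subgroup G) : Set G)) := ⟨_, rfl⟩
  have htq : t * q = p - 1 := by rw [← ht, hq]; exact sc_card_classes hp hx hC
  by_contra hcon
  obtain ⟨ht', hidx⟩ := not_or.1 hcon
  have htodd : Odd t := Nat.not_even_iff_odd.1 ht'
  have hp2 : p ≠ 2 := by
    rintro rfl
    have hq1 : q = 1 := Nat.eq_one_of_mul_eq_one_left htq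
    obtain ⟨K, hKn, hK1, hK2, hK3⟩ := sc_exists_normal_complement hp hx hC (hq ▸ hq1)
    apply hidx
    have h1 : K.index = 2 := by
      have h2 := Subgroup.card_mul_index K
      rw [← hK1] at h2
      exact Nat.eq_of_mul_eq_mul_left Nat.card_pos h2
    have h2 := Subgroup.index_dvd_of_le hK3
    rw [h1] at h2
    exact even_iff_two_dvd.2 h2
  have hpodd : Odd p := hp.odd_of_ne_two hp2
  have hp3 : 3 ≤ p := by
    have := hp.two_le
    omega
  have hqeven : Even q := by
    have h1 : Even (t * q) := by rw [htq]; exact Nat.Odd.sub_odd hpodd odd_one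
    exact (Nat.even_mul.1 h1).resolve_left ht'
  have hq0 : 0 < q := by
    rcases Nat.eq_zero_or_pos q with h | h
    · rw [h, mul_zero] at htq; omega
    · exact h
  have hqle : q ≤ p - 1 := by
    rw [← htq]
    exact Nat.le_mul_of_pos_left q htodd.pos
  obtain ⟨M, hM⟩ := exists_isPModular hp
  obtain ⟨P, hP⟩ := sc_exists_sylow hp hx hC
  have hPcard : Nat.card P = p := by
    rw [show Nat.card P = Nat.card (P : Subgroup G) from rfl, hP, Nat.card_zpowers, hx]
  have hCP : Subgroup.centralizer ((P : Subgroup G) : Set G) = Subgroup.zpowers x := by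
    rw [hP, Subgroup.zpowers_eq_closure, Subgroup.centralizer_closure,
      ← Subgroup.zpowers_eq_closure]
    simpa using hC
  have he : (Subgroup.centralizer ((P : Subgroup G) : Set G)).relIndex
      (Subgroup.normalizer ((P : Subgroup G) : Set G)) = q := by rw [hCP, hP, hq]
  obtain ⟨X, Y, hXY, hdisj, hXc, hYc, εX, ε, hX, hε, hYdeg, hYag, hrel⟩ :=
    Cfsg.Agent.Lib.Helper25.principal_defect_one p M hM P hPcard q he
      (he ▸ Cfsg.Agent.Lib.Helper80.le_blockRank_principal p M hM P hPcard)
  have hdeg : charDegree (χ : G → ℂ) = p - 1 := by omega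
  have hχ1 : (χ : G → ℂ) 1 = (p : ℂ) - 1 := by
    rw [irr_one_eq χ, hdeg, Nat.cast_sub hp.one_lt.le, Nat.cast_one]
  have hχB : χ ∈ principalBlock M G := by
    apply mem_principal hp hM hx hC
    rw [hdeg]
    intro h
    have := Nat.le_of_dvd (by omega) h
    omega
  have hpZ : ((p - 1 : ℕ) : ℤ) = (p : ℤ) - 1 := by
    rw [Nat.cast_sub hp.one_lt.le, Nat.cast_one]
  -- the values on the nonidentity elements of `P`
  have hval : ∀ u ∈ Subgroup.zpowers x, u ≠ 1 → (χ : G → ℂ) u = -1 := by
    intro u hu hu1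
    rw [hXY] at hχB
    rcases hχB with hχX | hχY
    · obtain ⟨h1, h2, h3⟩ := hX χ hχX
      have h4 := h3 u (hP ▸ hu) hu1 1 (Subgroup.one_mem _)
        (by rw [orderOf_one]; exact fun h => hp.one_lt.not_ge (Nat.le_of_dvd one_pos h))
      rw [mul_one] at h4
      rw [h4]
      rcases h1 with h1 | h1
      · exfalso
        rw [h1, hdeg, hpZ, Int.modEq_iff_dvd] at h2
        have h5 : (p : ℤ) ∣ 2 := by
          have h6 : (p : ℤ) ∣ (1 - ((p : ℤ) - 1)) + p := dvd_add h2 (dvd_refl _)
          have h7 : (1 - ((p : ℤ) - 1)) + p = 2 := by ring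
          rwa [h7] at h6
        have h6 := Int.le_of_dvd (by norm_num) h5
        omega
      · rw [h1]; norm_num
    · have h2 := hYdeg χ hχY
      rw [hdeg, hpZ, Int.modEq_iff_dvd] at h2
      have hε1 : ε = 1 := by
        rcases hε with h | h
        · exact h
        · exfalso
          rw [h] at h2
          have h5 : (p : ℤ) ∣ (q : ℤ) - 1 := by
            have h6 : (p : ℤ) ∣ -((-1 * (q : ℤ) - ((p : ℤ) - 1)) + p) :=
              (dvd_neg).2 (dvd_add h2 (dvd_refl _))
            have h7 : -((-1 * (q : ℤ) - ((p : ℤ) - 1)) + p) = (q : ℤ) - 1 := by ring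
            rwa [h7] at h6
          have hq2 : 2 ≤ q := by
            obtain ⟨r, hr⟩ := hqeven
            omega
          have h6 := Int.le_of_dvd (by omega) h5
          omega
      have hq1 : q = p - 1 := by
        rw [hε1] at h2
        have h5 : (p : ℤ) ∣ (q : ℤ) + 1 := by
          have h6 : (p : ℤ) ∣ (1 * (q : ℤ) - ((p : ℤ) - 1)) + p := dvd_add h2 (dvd_refl _)
          have h7 : (1 * (q : ℤ) - ((p : ℤ) - 1)) + p = (q : ℤ) + 1 := by ring
          rwa [h7] at h6
        have h6 := Int.le_of_dvd (by omega) h5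
        omega
      have hY1 : Y = {χ} := by
        rw [hq1, Nat.div_self (by omega)] at hYc
        obtain ⟨a, ha⟩ := Nat.card_eq_one_iff_exists.1 hYc
        ext ψ
        constructor
        · intro hψ
          have h5 := ha ⟨ψ, hψ⟩
          have h6 := ha ⟨χ, hχY⟩
          exact congrArg Subtype.val (h5.trans h6.symm)
        · intro hψ
          rw [Set.mem_singleton_iff.1 hψ]; exact hχY
      have hord : orderOf u = p := by
        have h5 := sc_zpowers_eq_of_mem hp hx hu hu1
        rw [← Nat.card_zpowers, h5, Nat.card_zpowers, hx]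
      have hB0 : IsPBlock M (principalBlock M G) :=
        ⟨Cfsg.Agent.Lib.Helper80.trivIrr G, rfl⟩
      have horth := block_orth hM (principalBlock M G) hB0 (g := u) (h := 1) (x := u) (y := 1)
        ⟨1, mul_one u, Commute.one_right u, ⟨1, by rw [hord, pow_one]⟩,
          by rw [orderOf_one]; exact fun h => hp.one_lt.not_ge (Nat.le_of_dvd one_pos h)⟩
        ⟨1, mul_one 1, Commute.one_right 1, ⟨0, by rw [orderOf_one, pow_zero]⟩,
          by rw [orderOf_one]; exact fun h => hp.one_lt.not_ge (Nat.le_of_dvd one_pos h)⟩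
        (fun h => hu1 (isConj_one_left.1 h))
      have hfin : ∀ S : Set (IrrCharacter G), S.Finite := fun S => Set.toFinite S
      rw [hXY, finsum_mem_union hdisj (hfin _) (hfin _), hY1, finsum_mem_singleton] at horth
      have h5 := hrel χ hχY 1
        (by rw [orderOf_one]; exact fun h => hp.one_lt.not_ge (Nat.le_of_dvd one_pos h))
      have h6 : ∑ᶠ ψ ∈ X, (ψ : G → ℂ) u * conj ((ψ : G → ℂ) 1)
          = ∑ᶠ ψ ∈ X, (εX ψ : ℂ) * (ψ : G → ℂ) 1 := by
        apply finsum_mem_congr rfl
        intro ψ hψ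
        obtain ⟨_, _, h3⟩ := hX ψ hψ
        have h4 := h3 u (hP ▸ hu) hu1 1 (Subgroup.one_mem _)
          (by rw [orderOf_one]; exact fun h => hp.one_lt.not_ge (Nat.le_of_dvd one_pos h))
        rw [mul_one] at h4
        rw [h4, irr_one_eq ψ, Complex.conj_natCast]
      rw [h6, ← h5, hε1, hχ1] at horth
      have h7 : conj ((p : ℂ) - 1) = (p : ℂ) - 1 := by
        rw [map_sub, Complex.conj_natCast, map_one]
      rw [h7] at horth
      have h8 : ((p : ℂ) - 1) ≠ 0 := by
        intro h
        have h9 : (p : ℂ) = 1 := by linear_combination h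
        have h10 : p = 1 := by exact_mod_cast h9
        omega
      have h9 : ((p : ℂ) - 1) * (1 + (χ : G → ℂ) u) = 0 := by
        push_cast at horth
        linear_combination horth
      have h10 := (mul_eq_zero.1 h9).resolve_left h8
      linear_combination h10
  -- the restriction to `P` does not contain the trivial character
  have hsum : ∑ u : Subgroup.zpowers x, (χ : G → ℂ) u = 0 := by
    have h1 : ∀ u : Subgroup.zpowers x, (χ : G → ℂ) u = (if u = 1 then (p : ℂ) else 0) - 1 := by
      intro u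
      split_ifs with h
      · rw [h]; exact hχ1
      · rw [hval u u.2 (fun h' => h (Subtype.ext h'))]; ring
    rw [Finset.sum_congr rfl (fun u _ => h1 u), Finset.sum_sub_distrib,
      Finset.sum_ite_eq' Finset.univ 1, if_pos (Finset.mem_univ _), Finset.sum_const,
      Finset.card_univ, ← Nat.card_eq_fintype_card, Nat.card_zpowers, hx]
    simp
  -- the complement
  have hZcard : Nat.card (Subgroup.zpowers x) = p := by rw [Nat.card_zpowers, hx]
  obtain ⟨H, hHN, hN, hPH, hH⟩ := Cfsg.Agent.Lib.Helper80.exists_compl_Nn hZcard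
    (hP ▸ P.not_dvd_index)
  have hHcard : Nat.card H = q := by
    have h1 := Cfsg.Agent.Lib.Helper80.card_eq_mul_card_inf hZcard hN hPH
      (L := Subgroup.normalizer ((Subgroup.zpowers x : Subgroup G) : Set G))
      Subgroup.le_normalizer le_rfl
    rw [Subgroup.subgroupOf_eq_top.2 hHN, Subgroup.card_top] at h1
    have h2 := Subgroup.relIndex_mul_relIndex ⊥ (Subgroup.zpowers x)
      (Subgroup.normalizer ((Subgroup.zpowers x : Subgroup G) : Set G)) bot_le
      Subgroup.le_normalizer
    rw [Subgroup.relIndex_bot_left, Subgroup.relIndex_bot_left, ← hq, hZcard, h1] at h2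
    exact (Nat.eq_of_mul_eq_mul_left hp.pos h2).symm
  have hcyc : IsCyclic H := by
    have := Cfsg.Agent.Lib.Helper80.isCyclic_mulAut_of_prime_card hZcard
    apply isCyclic_of_injective (Cfsg.Agent.Lib.Helper80.actP hHN)
    rw [← MonoidHom.ker_eq_bot_iff, Cfsg.Agent.Lib.Helper80.actP_ker, eq_bot_iff]
    intro z hz
    rw [Subgroup.mem_subgroupOf] at hz
    have h1 : (z : G) ∈ Subgroup.zpowers x := by
      rw [← hCP, hP]; exact hz
    exact Subgroup.mem_bot.2 (Subtype.ext (hPH _ h1 z.2))
  obtain ⟨h, hh⟩ := hcyc.exists_generator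
  have hord : orderOf (h : G) = q := by
    rw [Subgroup.orderOf_coe, orderOf_eq_card_of_forall_mem_zpowers hh, hHcard]
  have hvan : ∀ k, 0 < k → k < q → (χ : G → ℂ) ((h : G) ^ k) = 0 := by
    intro k hk0 hkq
    have hk1 : (h : G) ^ k ≠ 1 := pow_ne_one_of_lt_orderOf hk0.ne' (hord ▸ hkq)
    apply eq_zero_of_free χ.2 (Subgroup.zpowers x) hsum _ (hHN (H.pow_mem h.2 k))
    intro u hu hcomm
    by_contra hu1
    have h1 := sc_centralizer_of_mem hp hx hC hu hu1
    have h2 : (h : G) ^ k ∈ Subgroup.zpowers x := by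
      rw [← h1, Subgroup.mem_centralizer_singleton_iff]; exact hcomm
    exact hk1 (hPH _ h2 (H.pow_mem h.2 k))
  obtain ⟨D, hD⟩ := exists_det_hom hc
  obtain ⟨ι, _, d, h1, h2, h3⟩ := hD (h : G) q hq0 (hord ▸ pow_orderOf_eq_one _)
  have hcard : Fintype.card ι = t * q := by
    have h4 := h2 0
    simp only [pow_zero, Finset.sum_const, Finset.card_univ, nsmul_eq_mul, mul_one] at h4
    rw [irr_one_eq χ, hdeg, ← htq] at h4
    exact_mod_cast h4.symm
  have hDh : D (h : G) = -1 := by
    rw [h3]
    exact prod_eq_neg_one_of_powerSums d q t hq0 hqeven htodd h1 hcard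
      (fun k hk0 hkq => (h2 k).symm.trans (hvan k hk0 hkq))
  have hodd : Odd (commutator G).index := Nat.not_even_iff_odd.1 hidx
  have hmem : (h : G) ^ (commutator G).index ∈ commutator G := Subgroup.pow_index_mem _ _
  have hker : commutator G ≤ D.toHomUnits.ker := Abelianization.commutator_subset_ker _
  have h4 := congrArg Units.val (MonoidHom.mem_ker.1 (hker hmem))
  have h5 : D ((h : G) ^ (commutator G).index) = 1 := by simpa using h4
  rw [map_pow, hDh, hodd.neg_one_pow] at h5
  norm_num at h5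

end Cfsg.Agent.S4508
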