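import Cfsg.Statements.S0223
import Mathlib
import Cfsg.Agent.Lib.Helper6.Pairs

set_option autoImplicit false
open Cfsg

namespace Cfsg.Agent.S0223

open Cfsg.Agent.Lib.Helper6

/-- Let H be a proper subgroup of even order of the finite group G. Then H is strongly embedded if and only if (i) C_G(t) ≤ H for every involution t of H and (ii) H controls fusion of its involutions: involutions of H conjugate in G are conjugate in H. -/
theorem result {G : Type*} [Group G] [Finite G] (H : Subgroup G) (hH : H ≠ ⊤) (heven : Even (Nat.card H)) : Cfsg.IsStronglyEmbedded H ↔ ((∀ t ∈ H, orderOf t = 2 → Subgroup.centralizer ({t} : Set G) ≤ H) ∧ (∀ t ∈ H, ∀ s ∈ H, orderOf t = 2 → orderOf s = 2 → IsConj t s → ∃ h ∈ H, h * t * h⁻¹ = s)) := by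
  have hinv : ∀ K : Subgroup G, Even (Nat.card K) → ∃ s ∈ K, orderOf s = 2 := by
    intro K hK
    have : Fact (Nat.Prime 2) := ⟨Nat.prime_two⟩
    obtain ⟨s, hs⟩ := exists_prime_orderOf_dvd_card' (G := K) 2 (even_iff_two_dvd.mp hK)
    exact ⟨s.1, s.2, by rw [Subgroup.orderOf_coe]; exact hs⟩
  have hev : ∀ (K : Subgroup G) (s : G), s ∈ K → orderOf s = 2 → Even (Nat.card K) := by
    intro K s hs h2
    have h1 : orderOf (⟨s, hs⟩ : K) ∣ Nat.card K := orderOf_dvd_natCard _
    have h3 : orderOf (⟨s, hs⟩ : K) = orderOf s := by rw [← Subgroup.orderOf_coe]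
    rw [h3, h2] at h1
    exact even_iff_two_dvd.mpr h1
  constructor
  · rintro ⟨-, -, h⟩
    refine ⟨?_, ?_⟩
    · intro t htH ht c hc
      by_contra hcH
      have h1 := h c hcH
      apply (Nat.not_even_iff_odd.mpr h1)
      apply hev _ t _ ht
      refine ⟨htH, ?_⟩
      refine ⟨t, htH, ?_⟩
      have := Subgroup.mem_centralizer_singleton_iff.mp hc
      simp only [MulEquiv.coe_toMonoidHom, MulAut.conj_apply]
      rw [this]; group
    · intro t htH s hsH ht hs hconj
      obtain ⟨g, hg⟩ := isConj_iff.mp hconj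
      refine ⟨g, ?_, hg⟩
      by_contra hgH
      have h1 := h g hgH
      apply (Nat.not_even_iff_odd.mpr h1)
      apply hev _ s _ hs
      refine ⟨hsH, ?_⟩
      exact ⟨t, htH, by simpa using hg⟩
  · rintro ⟨hc, hf⟩
    refine ⟨hH, heven, ?_⟩
    intro g hg
    by_contra hodd
    rw [Nat.not_odd_iff_even] at hodd
    obtain ⟨s, hsK, hs⟩ := hinv _ hodd
    obtain ⟨hsH, t, htH, hts⟩ := hsK
    simp only [MulEquiv.coe_toMonoidHom, MulAut.conj_apply] at hts
    have ht : orderOf t = 2 := by
      have : t = g⁻¹ * s * g⁻¹⁻¹ := by rw [← hts]; group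
      rw [this]; exact invol_conj hs _
    obtain ⟨h, hhH, hh⟩ := hf t htH s hsH ht hs (isConj_iff.mpr ⟨g, hts⟩)
    have h1 : h⁻¹ * g ∈ Subgroup.centralizer ({t} : Set G) := by
      rw [Subgroup.mem_centralizer_singleton_iff]
      have e1 : g * t = s * g := mul_inv_eq_iff_eq_mul.mp hts
      have e2 : h * t = s * h := mul_inv_eq_iff_eq_mul.mp hh
      have e3 : h⁻¹ * s = t * h⁻¹ := by
        rw [inv_mul_eq_iff_eq_mul, ← mul_assoc, e2]; group
      rw [mul_assoc, e1, ← mul_assoc, e3, mul_assoc]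
    have h2 := hc t htH ht h1
    apply hg
    have : g = h * (h⁻¹ * g) := by group
    rw [this]
    exact H.mul_mem hhH h2

end Cfsg.Agent.S0223
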