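import Cfsg.Statements.S0164
import Cfsg.Agent.Lib.Helper4.Brauer3
import Cfsg.Agent.Lib.Helper32.GenChar

set_option autoImplicit false
open Cfsg

namespace Cfsg.Agent.S0164

/-- Brauer's characterisation of characters: a class function on a finite group whose restriction to every elementary subgroup is a generalized character is a generalized character. -/
theorem result {G : Type*} [Group G] [Finite G] (θ : G → ℂ) (hθ : Cfsg.IsClassFunction G θ) (hE : ∀ (E : Subgroup G) (p : ℕ), p.Prime → Cfsg.IsElementary p E → Cfsg.IsGeneralizedCharacter E (fun e : E => θ e)) : Cfsg.IsGeneralizedCharacter G θ := by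
  classical
  have := Fintype.ofFinite G
  have key : ∀ f ∈ Cfsg.Agent.Lib.Helper4.indSpan (Cfsg.Agent.Lib.Helper4.IsElem (G := G)),
      Cfsg.IsGeneralizedCharacter G (f * θ) := by
    intro f hf
    induction hf using AddSubgroup.closure_induction with
    | mem φ hφ =>
      obtain ⟨E, ψ, ⟨p, hp, hEl⟩, hψ, rfl⟩ := hφ
      obtain ⟨a, b, ha, hb, hab⟩ := hE E p hp hEl
      rw [← Cfsg.Agent.Lib.Helper19.indFun_mul_restrict E ψ θ hθ, hab, mul_sub,
        Cfsg.Agent.Lib.Helper4.indFun_sub]
      exact ⟨_, _, Cfsg.Agent.Lib.Helper19.isCharacter_indFun E _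
          (Cfsg.Agent.Lib.Helper4.isCharacter_mul hψ ha),
        Cfsg.Agent.Lib.Helper19.isCharacter_indFun E _
          (Cfsg.Agent.Lib.Helper4.isCharacter_mul hψ hb), rfl⟩
    | zero =>
      rw [zero_mul]
      exact Cfsg.Agent.Lib.Helper32.genChar_zero
    | add a b _ _ ha hb =>
      rw [add_mul]
      exact Cfsg.Agent.Lib.Helper32.genChar_add ha hb
    | neg a _ ha =>
      rw [neg_mul]
      exact Cfsg.Agent.Lib.Helper32.genChar_neg ha
  have h := key _ Cfsg.Agent.Lib.Helper4.one_mem_indSpan_isElem
  have h3 : (fun _ => 1 : G → ℂ) * θ = θ := by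
    funext t
    simp
  rwa [h3] at h

end Cfsg.Agent.S0164
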