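import Cfsg.Statements.S0961
import Cfsg.Agent.Lib.Helper81.PRegChar
import Cfsg.Agent.S0164

set_option autoImplicit false
open Cfsg Cfsg.Agent.Lib.Helper81 Cfsg.Agent.Lib.Helper20

namespace Cfsg.Agent.S0961

/-- Let χ be an irreducible character of the finite group G and let p ^ a be the largest power of the prime p dividing the order of G. Then the function equal to p ^ a * χ x at elements x of order prime to p and to 0 elsewhere is a generalized character (a difference of characters). -/
theorem result {G : Type*} [Group G] [Finite G] (p : ℕ) [Fact p.Prime] (χ : Cfsg.IrrCharacter G) : Cfsg.IsGeneralizedCharacter G (fun x : G => if p ∣ orderOf x then 0 else ((p ^ (Nat.card G).factorization p : ℕ) : ℂ) * (χ : G → ℂ) x) := by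
  classical
  have hp : p.Prime := Fact.out
  apply Cfsg.Agent.S0164.result
  · intro g t
    have : orderOf (t * g * t⁻¹) = orderOf g := by
      have := orderOf_injective (MulAut.conj t).toMonoidHom (MulAut.conj t).injective g
      simpa using this
    simp only [this, isClassFunction_of_isCharacter (isCharacter_of_isIrrCharacter χ.2) g t]
  · intro E q hq hE
    exact ⟨_, 0, isCharacter_pReg_restrict hp hq (isCharacter_of_isIrrCharacter χ.2) E hE,
      isCharacter_zero, by simp⟩

end Cfsg.Agent.S0961
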