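import Cfsg.Statements.S4517
import Cfsg.Agent.Lib.Helper78.RealBlock
import Cfsg.Agent.Lib.Helper82.Codegree
import Cfsg.Agent.Lib.Helper21.KeyLemma
-- import your own Cfsg.Agent.* helpers here

set_option autoImplicit false
open Cfsg
open scoped ComplexConjugate
open Cfsg.Agent.Lib.Helper20 Cfsg.Agent.Lib.Helper81 Cfsg.Agent.Lib.Helper21 Cfsg.Agent.Lib.Helper78

namespace Cfsg.Agent.S4517

/-- Two irreducible characters which agree on the `p`-regular elements lie in the same block. -/
theorem mem_block_of_eq_on_regular {G : Type*} [Group G] [Fintype G] {p : ℕ} {M : Ideal AlgInt}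
    (hM : IsPModular p M) (B : Set (IrrCharacter G)) (hB : IsPBlock M B) {χ ψ : IrrCharacter G}
    (hχ : χ ∈ B) (h : ∀ g : G, ¬ p ∣ orderOf g → (ψ : G → ℂ) g = (χ : G → ℂ) g) : ψ ∈ B := by
  classical
  by_contra hψ
  have h1 : omega (ψ : G → ℂ) (blockCoeff B) = omega (χ : G → ℂ) (blockCoeff B) := by
    simp only [omega]
    apply Finset.sum_congr rfl
    intro g _
    by_cases hg : p ∣ orderOf g
    · rw [blockCoeff_eq_zero_of_singular hM B hB hg]; simp
    · rw [h g hg, h 1 (by rw [orderOf_one]; exact hM.1.one_lt.ne' ∘ Nat.dvd_one.1)]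
  rw [omega_blockCoeff, omega_blockCoeff, if_neg hψ, if_pos hχ] at h1
  exact zero_ne_one h1


/-- Let G be a finite group, M a maximal ideal of the algebraic integers containing 2, and k a natural number coprime to the order of G with g ^ k = g⁻¹ for every element g of odd order (so that g ↦ g ^ k induces a field automorphism of the character values inverting the roots of unity of odd order). If B is a 2-block of full defect (its defect equals the exponent of 2 in the order of G) that is stable under χ ↦ χ ∘ (· ^ k), then B is the principal 2-block. -/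
theorem result {G : Type*} [Group G] [Finite G] (M : Ideal Cfsg.AlgInt) (hM : Cfsg.IsPModular 2 M) (k : ℕ) (hk : Nat.Coprime k (Nat.card G)) (hk₂ : ∀ g : G, Odd (orderOf g) → g ^ k = g⁻¹) (B : Set (Cfsg.IrrCharacter G)) (hB : Cfsg.IsPBlock M B) (hdef : Cfsg.blockDefect 2 B = (Nat.card G).factorization 2) (hstab : ∀ χ ∈ B, ∃ ψ ∈ B, ∀ g : G, (ψ : G → ℂ) g = (χ : G → ℂ) (g ^ k)) : B = Cfsg.principalBlock M G := by
  classical
  have : Fintype G := Fintype.ofFinite G
  have hBc : ∀ χ, χ ∈ B → conjIrr χ ∈ B := by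
    intro χ hχ
    obtain ⟨ψ, hψ, hψk⟩ := hstab χ hχ
    apply mem_block_of_eq_on_regular hM B hB hψ
    intro g hg
    rw [hψk g, hk₂ g (Nat.not_even_iff_odd.1 (fun h => hg (even_iff_two_dvd.1 h))),
      isCharacter_inv (isCharacter_of_isIrrCharacter χ.2), conjIrr_apply]
  obtain ⟨χ₀, hχ₀, h1, _⟩ := exists_height_zero 2 B (isPBlock_nonempty hM hB)
  have hd := hdef.symm
  rw [blockDefect, ← h1] at hd
  have hdvd := Cfsg.Agent.Lib.Helper82.isIrr_charDegree_dvd_card χ₀.2
  have hpos := Cfsg.Agent.Lib.Helper82.isIrr_charDegree_pos χ₀.2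
  have hle : (charDegree (χ₀ : G → ℂ)).factorization 2 ≤ (Nat.card G).factorization 2 :=
    (Nat.factorization_le_iff_dvd hpos.ne' Nat.card_pos.ne').2 hdvd 2
  have h0 : (charDegree (χ₀ : G → ℂ)).factorization 2 = 0 := by omega
  have hodd : Odd (charDegree (χ₀ : G → ℂ)) := by
    rw [← Nat.not_even_iff_odd, even_iff_two_dvd]
    intro h2
    have := (Nat.prime_two.dvd_iff_one_le_factorization hpos.ne').1 h2
    omega
  have htriv := trivIrr_mem_of_self_conj hM B hB hBc χ₀ hχ₀ hodd
  have h9 : B = blockOf M (Cfsg.Agent.Lib.Helper82.trivIrr G : G → ℂ) :=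
    isPBlock_eq_blockOf hM hB htriv
  exact h9

end Cfsg.Agent.S4517
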