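import Cfsg.Statements.S4520
import Cfsg.Agent.S4438
import Cfsg.Agent.S4517
import Cfsg.Agent.Lib.Helper21.Cover3
import Cfsg.Agent.Lib.Helper84.Induced
import Cfsg.Agent.Lib.Helper21.DefectCard
-- import your own Cfsg.Agent.* helpers here

set_option autoImplicit false
open Cfsg
open scoped ComplexConjugate
open Cfsg.Agent.Lib.Helper20 Cfsg.Agent.Lib.Helper81 Cfsg.Agent.Lib.Helper21 Cfsg.Agent.Lib.Helper78 Cfsg.Agent.Lib.Helper84 Cfsg.Agent.Lib.Helper5

namespace Cfsg.Agent.S4520

/-- A constituent of the restriction to a normal subgroup of a character of the principal block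
lies in the principal block. -/
theorem mem_principalBlock_of_constituent {G : Type*} [Group G] [Fintype G] {p : ℕ} [Fact p.Prime]
    {M : Ideal AlgInt} (hM : IsPModular p M) {N : Subgroup G} (hN : N.Normal) [Fintype N]
    (χ : IrrCharacter G) (θ : IrrCharacter N)
    (hover : classInner (fun n : N => (χ : G → ℂ) n) (θ : N → ℂ) ≠ 0)
    (h : χ ∈ principalBlock M G) : θ ∈ principalBlock M N := by
  classical
  rw [mem_principalBlock_iff hM]
  have hinv : ∀ g : G, cjF hN (pRegInd p N) g = pRegInd p N := by
    intro g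
    rw [← pRegInd_res p N]
    exact cjF_res hN (pRegInd_classFunction p) g
  have h1 := omega_ext0_eq_of_constituent hN χ θ hover hinv
  rw [← h1]
  let t : IrrCharacter G := ⟨fun _ => 1, Cfsg.Agent.Lib.Helper4.isIrrCharacter_one⟩
  have h2 : SameBlock M (χ : G → ℂ) (t : G → ℂ) := sameBlock_symm h
  have hR : ∀ g, MemLocalRing M (ext0 N (pRegInd p N) g) := by
    intro g
    by_cases hg : g ∈ N
    · rw [ext0_of_mem N _ hg]; exact pRegInd_memLocalRing hM _
    · rw [ext0_of_not_mem N _ hg]; exact memLocalRing_zero hM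
  have h3 := omega_sub_memLocalIdeal hM h2 (ext0_classFunction hN hinv) hR
  apply not_memLocalIdeal_of_sub hM h3
  have h4 : omega (t : G → ℂ) (ext0 N (pRegInd p N)) = omega (fun _ : N => (1 : ℂ)) (pRegInd p N) := by
    rw [omega_ext0, omega]
  rw [h4, omega_one_pRegInd]
  exact not_memLocalIdeal_card_pReg hM


/-- Let N be a normal subgroup of odd index in the finite group G, M a maximal ideal of the algebraic integers containing 2, and k coprime to the order of G with k ^ (2 ^ e) ≡ 1 modulo the order of G for some e and g ^ k = g⁻¹ for every element g of odd order. Let θ be an irreducible character of N and χ an irreducible character of G over θ, both unchanged by composing with g ↦ g ^ k. Then χ lies in the principal 2-block of G if and only if θ lies in the principal 2-block of N. -/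
theorem result {G : Type*} [Group G] [Fintype G] (M : Ideal Cfsg.AlgInt) (hM : Cfsg.IsPModular 2 M) (N : Subgroup G) [N.Normal] [Fintype N] (hidx : Odd N.index) (k e : ℕ) (hk : Nat.Coprime k (Nat.card G)) (hke : k ^ (2 ^ e) ≡ 1 [MOD Nat.card G]) (hk₂ : ∀ g : G, Odd (orderOf g) → g ^ k = g⁻¹) (θ : Cfsg.IrrCharacter N) (hθ : ∀ n : N, (θ : N → ℂ) (n ^ k) = (θ : N → ℂ) n) (χ : Cfsg.IrrCharacter G) (hχ : ∀ g : G, (χ : G → ℂ) (g ^ k) = (χ : G → ℂ) g) (hover : Cfsg.classInner (fun n : N => (χ : G → ℂ) n) (θ : N → ℂ) ≠ 0) : χ ∈ Cfsg.principalBlock M G ↔ θ ∈ Cfsg.principalBlock M N := by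
  classical
  have : Fact (Nat.Prime 2) := ⟨Nat.prime_two⟩
  have hN : N.Normal := inferInstance
  constructor
  · exact mem_principalBlock_of_constituent hM hN χ θ hover
  · intro h
    set B := blockOf M (χ : G → ℂ) with hBdef
    have hB : IsPBlock M B := ⟨χ, rfl⟩
    have hχB : χ ∈ B := mem_blockOf_self hM χ
    -- `B` is self-conjugate
    have hcχ : conjIrr χ ∈ B := by
      apply Cfsg.Agent.S4517.mem_block_of_eq_on_regular hM B hB hχB
      intro g hg
      rw [conjIrr_apply, ← isCharacter_inv (isCharacter_of_isIrrCharacter χ.2),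
        ← hk₂ g (Nat.not_even_iff_odd.1 (fun h => hg (even_iff_two_dvd.1 h))), hχ]
    have hBc : ∀ ψ, ψ ∈ B → conjIrr ψ ∈ B := by
      intro ψ hψ
      have h1 : SameBlock M (χ : G → ℂ) (ψ : G → ℂ) := hψ
      have h2 := sameBlock_conjIrr h1
      have h3 : SameBlock M (χ : G → ℂ) (conjIrr χ : G → ℂ) := hcχ
      exact sameBlock_trans hM h3 h2
    -- defect
    let tN : IrrCharacter N := ⟨fun _ => 1, Cfsg.Agent.Lib.Helper4.isIrrCharacter_one⟩
    have hb : IsPBlock M (principalBlock M N) := ⟨tN, rfl⟩
    obtain ⟨Q₀, hQ₀⟩ := exists_isDefectGroup hM _ hb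
    have hQsub : (Q₀.map N.subtype).subgroupOf N = Q₀ :=
      Subgroup.comap_map_eq_self_of_injective N.subtype_injective Q₀
    have hQN : Q₀.map N.subtype ≤ N := by
      rintro _ ⟨x, _, rfl⟩
      exact x.2
    obtain ⟨P, hP, hPN⟩ := Cfsg.Agent.S4438.result 2 M hM N (principalBlock M N) hb
      (Q₀.map N.subtype) hQN (by rw [hQsub]; exact hQ₀) B hB ⟨χ, hχB, θ, h, hover⟩
    have hcP := card_defectGroup hM B hB P hP
    have hcQ := card_defectGroup hM _ hb Q₀ hQ₀
    have hdb : blockDefect 2 (principalBlock M N) = (Nat.card N).factorization 2 := by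
      rw [blockDefect]
      have h0 : sInf ((fun χ : IrrCharacter N => (charDegree (χ : N → ℂ)).factorization 2) ''
          (principalBlock M N)) = 0 := by
        apply Nat.sInf_eq_zero.2
        left
        refine ⟨tN, mem_blockOf_self hM tN, ?_⟩
        simp [charDegree, tN]
      rw [h0, Nat.sub_zero]
    have hle : Nat.card Q₀ ∣ Nat.card P := by
      rw [← Subgroup.card_map_of_injective (K := Q₀) (f := N.subtype) N.subtype_injective, ← hPN]
      exact Subgroup.card_dvd_of_le inf_le_left
    rw [hcP, hcQ, hdb] at hle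
    have hle2 := (Nat.pow_dvd_pow_iff_le_right (by norm_num : 1 < 2)).1 hle
    have hGN : (Nat.card G).factorization 2 = (Nat.card N).factorization 2 := by
      rw [← N.card_mul_index, Nat.factorization_mul Nat.card_pos.ne' hidx.pos.ne']
      have : (N.index).factorization 2 = 0 := by
        apply Nat.factorization_eq_zero_of_not_dvd
        rw [← even_iff_two_dvd, Nat.not_even_iff_odd]
        exact hidx
      simp [this]
    have hdef : blockDefect 2 B = (Nat.card G).factorization 2 := by
      apply le_antisymm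
      · rw [blockDefect]; exact Nat.sub_le _ _
      · rw [hGN]; exact hle2
    obtain ⟨χ₀, hχ₀, h1, _⟩ := exists_height_zero 2 B (isPBlock_nonempty hM hB)
    have hd := hdef.symm
    rw [blockDefect, ← h1] at hd
    have hdvd := Cfsg.Agent.Lib.Helper82.isIrr_charDegree_dvd_card χ₀.2
    have hpos := Cfsg.Agent.Lib.Helper82.isIrr_charDegree_pos χ₀.2
    have hle : (charDegree (χ₀ : G → ℂ)).factorization 2 ≤ (Nat.card G).factorization 2 :=
      (Nat.factorization_le_iff_dvd hpos.ne' Nat.card_pos.ne').2 hdvd 2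
    have h0 : (charDegree (χ₀ : G → ℂ)).factorization 2 = 0 := by omega
    have hodd : Odd (charDegree (χ₀ : G → ℂ)) := by
      rw [← Nat.not_even_iff_odd, even_iff_two_dvd]
      intro h2
      have := (Nat.prime_two.dvd_iff_one_le_factorization hpos.ne').1 h2
      omega
    have htriv := trivIrr_mem_of_self_conj hM B hB hBc χ₀ hχ₀ hodd
    exact sameBlock_symm htriv

end Cfsg.Agent.S4520
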