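import Cfsg.Statements.S4722
-- import your own Cfsg.Agent.* helpers here
import Cfsg.Agent.Lib.Helper51.BlockCol

set_option autoImplicit false
open Cfsg

namespace Cfsg.Agent.S4722

open Cfsg.Agent.Lib.Helper20 Cfsg.Agent.Lib.Helper81 Cfsg.Agent.Lib.Helper82
  Cfsg.Agent.Lib.Helper51

/-- Interchange of summation: a relation for every column `y` with `θ y⁻¹ ≠ 0` gives the relation
for the coefficients `a_χ`. -/
theorem col_sum_zero {G : Type*} [Group G] [Finite G] (B : Set (IrrCharacter G)) (P : Subgroup G)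
    (θ : ↥P → ℂ) (c : IrrCharacter G → ℂ)
    (hc : ∀ y : ↥P, θ y⁻¹ ≠ 0 → ∑ᶠ χ ∈ B, (χ : G → ℂ) (y : G) * c χ = 0) :
    ∑ᶠ χ ∈ B, ((Nat.card ↥P : ℂ)⁻¹ * ∑ᶠ y : ↥P, (χ : G → ℂ) (y : G) * θ y⁻¹) * c χ = 0 := by
  classical
  have := Fintype.ofFinite G
  have : Finite (IrrCharacter G) := Cfsg.Agent.Lib.Helper20.finite_irrCharacter
  have : Fintype (IrrCharacter G) := Fintype.ofFinite _
  have : Fintype P := Fintype.ofFinite _
  rw [finsum_mem_irr]
  simp only [finsum_eq_sum_of_fintype]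
  have h1 : ∀ χ : IrrCharacter G,
      (if χ ∈ B then ((Nat.card ↥P : ℂ)⁻¹ * ∑ y : ↥P, (χ : G → ℂ) (y : G) * θ y⁻¹) * c χ else 0)
     = ∑ y : ↥P, (Nat.card ↥P : ℂ)⁻¹ * θ y⁻¹ *
        (if χ ∈ B then (χ : G → ℂ) (y : G) * c χ else 0) := by
    intro χ
    split_ifs
    · rw [Finset.mul_sum, Finset.sum_mul]; apply Finset.sum_congr rfl; intro y _; ring
    · simp
  rw [Finset.sum_congr rfl (fun χ _ => h1 χ), Finset.sum_comm]
  apply Finset.sum_eq_zero
  intro y _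
  rw [← Finset.mul_sum]
  by_cases hy : θ y⁻¹ = 0
  · rw [hy]; simp
  · rw [← finsum_mem_irr, hc y hy, mul_zero]

/-- Let M be a maximal ideal of the algebraic integers containing 2, P a 2-subgroup of the finite group G, U a subset of P, and t an involution of G such that no element of U is inverted by any conjugate of t. Let θ be a generalized character of P vanishing outside U, and for χ in the principal 2-block B₀ put a_χ = #P⁻¹ Σ_{y ∈ P} χ(y) θ(y⁻¹). Then Σ_{χ ∈ B₀} a_χ χ(t)^2/χ(1) = 0, Σ_{χ ∈ B₀} a_χ χ(1) = 0 and Σ_{χ ∈ B₀} a_χ χ(t) = 0. If moreover #P⁻¹ Σ_{y ∈ P} θ(y) ≠ 0, then either at least two of the a_χ have positive real part and at least two have negative real part, or G has a proper normal subgroup containing O_2'(G) and t. -/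
theorem result {G : Type*} [Group G] [Finite G] (M : Ideal Cfsg.AlgInt) (hM : Cfsg.IsPModular 2 M) (P : Subgroup G) (hP : IsPGroup 2 P) (U : Set G) (hUP : U ⊆ (P : Set G)) (t : G) (ht : orderOf t = 2) (hinv : ∀ u ∈ U, ∀ g : G, (g * t * g⁻¹) * u * (g * t * g⁻¹)⁻¹ ≠ u⁻¹) (θ : ↥P → ℂ) (hθ : Cfsg.IsGeneralizedCharacter ↥P θ) (hθU : ∀ y : ↥P, (y : G) ∉ U → θ y = 0) : (∑ᶠ χ ∈ Cfsg.principalBlock M G, ((Nat.card ↥P : ℂ)⁻¹ * ∑ᶠ y : ↥P, (χ : G → ℂ) (y : G) * θ y⁻¹) * (χ : G → ℂ) t ^ 2 / (χ : G → ℂ) 1 = 0) ∧ (∑ᶠ χ ∈ Cfsg.principalBlock M G, ((Nat.card ↥P : ℂ)⁻¹ * ∑ᶠ y : ↥P, (χ : G → ℂ) (y : G) * θ y⁻¹) * (χ : G → ℂ) 1 = 0) ∧ (∑ᶠ χ ∈ Cfsg.principalBlock M G, ((Nat.card ↥P : ℂ)⁻¹ * ∑ᶠ y : ↥P, (χ : G → ℂ) (y : G) * θ y⁻¹) * (χ : G → ℂ) t = 0) ∧ ((Nat.card ↥P : ℂ)⁻¹ * ∑ᶠ y : ↥P, θ y ≠ 0 → (2 ≤ Nat.card {χ : Cfsg.IrrCharacter G // χ ∈ Cfsg.principalBlock M G ∧ 0 < (((Nat.card ↥P : ℂ)⁻¹ * ∑ᶠ y : ↥P, (χ : G → ℂ) (y : G) * θ y⁻¹)).re}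 ∧ 2 ≤ Nat.card {χ : Cfsg.IrrCharacter G // χ ∈ Cfsg.principalBlock M G ∧ (((Nat.card ↥P : ℂ)⁻¹ * ∑ᶠ y : ↥P, (χ : G → ℂ) (y : G) * θ y⁻¹)).re < 0}) ∨ ∃ K : Subgroup G, K.Normal ∧ K ≠ ⊤ ∧ Cfsg.pPrimeCore 2 G ≤ K ∧ t ∈ K) := by
  classical
  have := Fintype.ofFinite G
  have : Finite (IrrCharacter G) := Cfsg.Agent.Lib.Helper20.finite_irrCharacter
  have : Fintype (IrrCharacter G) := Fintype.ofFinite _
  have hB := Cfsg.Agent.S0936.isPBlock_principal (G := G) M
  have htt : t * t = 1 := by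
    have : t ^ 2 = 1 := ht ▸ pow_orderOf_eq_one t
    rwa [sq] at this
  have htinv : t⁻¹ = t := inv_eq_of_mul_eq_one_left htt
  have hyord : ∀ y : P, ∃ k : ℕ, orderOf (y : G) = 2 ^ k := by
    intro y
    obtain ⟨k, hk⟩ := (IsPGroup.iff_orderOf.1 hP) y
    exact ⟨k, by rw [Subgroup.orderOf_coe]; exact hk⟩
  have hyU : ∀ y : P, θ y⁻¹ ≠ 0 → (y : G)⁻¹ ∈ U := by
    intro y hy
    by_contra h
    exact hy (hθU y⁻¹ (by simpa using h))
  -- orthogonality against any `h` inverted by `t`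
  have key : ∀ y : P, θ y⁻¹ ≠ 0 → ∀ h : G, t * h * t⁻¹ = h⁻¹ →
      ∑ᶠ χ ∈ principalBlock M G, (χ : G → ℂ) (y : G) * (χ : G → ℂ) h⁻¹ = 0 := by
    intro y hy h hth
    obtain ⟨z, hz⟩ := exists_isPPart hM.1 h
    apply orth_pelem hM _ hB (hyord y) h z hz
    intro hconj
    obtain ⟨n, hn, -⟩ := exists_zpow_eq_pPart hM.1 hz hz (i := 1) (by norm_num)
    rw [zpow_one] at hn
    have htz : t * z * t⁻¹ = z⁻¹ := by
      rw [← hn, ← conj_zpow, hth, inv_zpow]
    obtain ⟨c, hc⟩ := isConj_iff.1 hconj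
    apply hinv (y : G)⁻¹ (hyU y hy) c⁻¹
    have hy' : (y : G) = c⁻¹ * z * c := by rw [← hc]; group
    have htz' : t * z⁻¹ * t⁻¹ = z := by
      have := congrArg (·⁻¹) htz
      simpa [mul_assoc] using this
    calc (c⁻¹ * t * c⁻¹⁻¹) * (y : G)⁻¹ * (c⁻¹ * t * c⁻¹⁻¹)⁻¹
        = c⁻¹ * (t * z⁻¹ * t⁻¹) * c := by rw [hy']; group
      _ = (y : G)⁻¹⁻¹ := by rw [htz', inv_inv, hy']
  have R2 : ∑ᶠ χ ∈ Cfsg.principalBlock M G, ((Nat.card ↥P : ℂ)⁻¹ *
      ∑ᶠ y : ↥P, (χ : G → ℂ) (y : G) * θ y⁻¹) * (χ : G → ℂ) 1 = 0 :=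
    col_sum_zero _ P θ (fun χ => (χ : G → ℂ) 1) (fun y hy => by
      simpa using key y hy 1 (by simp))
  have R3 : ∑ᶠ χ ∈ Cfsg.principalBlock M G, ((Nat.card ↥P : ℂ)⁻¹ *
      ∑ᶠ y : ↥P, (χ : G → ℂ) (y : G) * θ y⁻¹) * (χ : G → ℂ) t = 0 :=
    col_sum_zero _ P θ (fun χ => (χ : G → ℂ) t) (fun y hy => by
      have := key y hy t (by rw [mul_inv_cancel_right, htinv])
      rwa [htinv] at this)
  have R1 : ∑ᶠ χ ∈ Cfsg.principalBlock M G, ((Nat.card ↥P : ℂ)⁻¹ *
      ∑ᶠ y : ↥P, (χ : G → ℂ) (y : G) * θ y⁻¹) * ((χ : G → ℂ) t ^ 2 / (χ : G → ℂ) 1) = 0 := by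
    apply col_sum_zero _ P θ (fun χ => (χ : G → ℂ) t ^ 2 / (χ : G → ℂ) 1)
    intro y hy
    have h1 : ∀ χ : IrrCharacter G, (χ : G → ℂ) t ^ 2 / (χ : G → ℂ) 1
        = (Nat.card G : ℂ)⁻¹ * ∑ g : G, (χ : G → ℂ) (t * (g * t * g⁻¹)) := by
      intro χ
      rw [sum_char_conj_mul χ.2]
      have := card_ne_zero_complex (G := G)
      field_simp
    simp only [h1]
    rw [finsum_mem_irr]
    have h2 : ∀ χ : IrrCharacter G, (if χ ∈ principalBlock M G then (χ : G → ℂ) (y : G) *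
          ((Nat.card G : ℂ)⁻¹ * ∑ g : G, (χ : G → ℂ) (t * (g * t * g⁻¹))) else 0)
        = ∑ g : G, (Nat.card G : ℂ)⁻¹ * (if χ ∈ principalBlock M G then
            (χ : G → ℂ) (y : G) * (χ : G → ℂ) (t * (g * t * g⁻¹)) else 0) := by
      intro χ
      split_ifs
      · rw [Finset.mul_sum, Finset.mul_sum]; apply Finset.sum_congr rfl; intro g _; ring
      · simp
    rw [Finset.sum_congr rfl (fun χ _ => h2 χ), Finset.sum_comm]
    apply Finset.sum_eq_zero
    intro g _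
    rw [← Finset.mul_sum, ← finsum_mem_irr]
    have := key y hy (t * (g * t * g⁻¹))⁻¹ (by
      simp only [mul_inv_rev, inv_inv, htinv, mul_assoc, htt, mul_one])
    rw [inv_inv] at this
    rw [this, mul_zero]
  refine ⟨by simpa only [mul_div_assoc] using R1, R2, R3, ?_⟩
  intro ha1
  rw [or_iff_not_imp_left]
  intro hnot
  set a : IrrCharacter G → ℂ := fun χ => (Nat.card ↥P : ℂ)⁻¹ *
      ∑ᶠ y : ↥P, (χ : G → ℂ) (y : G) * θ y⁻¹ with ha
  let α : IrrCharacter G → ℝ := fun χ => if χ ∈ principalBlock M G then (a χ).re else 0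
  let x : IrrCharacter G → ℝ := fun χ => ((χ : G → ℂ) 1).re
  let r : IrrCharacter G → ℝ := fun χ => ((χ : G → ℂ) t).re
  have hx1 : ∀ χ : IrrCharacter G, (χ : G → ℂ) 1 = (x χ : ℂ) := by
    intro χ
    obtain ⟨n, hn⟩ := isCharacter_apply_one (isCharacter_of_isIrrCharacter χ.2)
    simp only [x, hn]; simp
  have hxpos : ∀ χ : IrrCharacter G, 0 < x χ := by
    intro χ
    obtain ⟨n, hn⟩ := isCharacter_apply_one (isCharacter_of_isIrrCharacter χ.2)
    have h0 := irr_one_ne_zero χ.2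
    rw [hn] at h0
    simp only [x, hn, Complex.natCast_re]
    exact Nat.cast_pos.2 (Nat.pos_of_ne_zero (by exact_mod_cast h0))
  have hr : ∀ χ : IrrCharacter G, (χ : G → ℂ) t = (r χ : ℂ) := by
    intro χ
    have := isCharacter_inv (isCharacter_of_isIrrCharacter χ.2) t
    rw [htinv] at this
    exact (Complex.conj_eq_iff_re.1 this.symm).symm
  have S1 : ∑ χ, α χ * x χ = 0 := by
    have := congrArg Complex.re R2
    rw [finsum_mem_irr, Complex.re_sum, Complex.zero_re] at this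
    rw [← this]
    apply Finset.sum_congr rfl; intro χ _
    simp only [α]
    split_ifs
    · rw [hx1 χ, Complex.re_mul_ofReal]
    · simp
  have S2 : ∑ χ, α χ * r χ = 0 := by
    have := congrArg Complex.re R3
    rw [finsum_mem_irr, Complex.re_sum, Complex.zero_re] at this
    rw [← this]
    apply Finset.sum_congr rfl; intro χ _
    simp only [α]
    split_ifs
    · rw [hr χ, Complex.re_mul_ofReal]
    · simp
  have S3 : ∑ χ, α χ * (r χ ^ 2 / x χ) = 0 := by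
    have := congrArg Complex.re R1
    rw [finsum_mem_irr, Complex.re_sum, Complex.zero_re] at this
    rw [← this]
    apply Finset.sum_congr rfl; intro χ _
    simp only [α]
    split_ifs
    · rw [hr χ, hx1 χ, ← Complex.ofReal_pow, ← Complex.ofReal_div, Complex.re_mul_ofReal]
    · simp
  have E2 : ∑ χ, α χ * (x χ - r χ) = 0 := by
    simp only [mul_sub, Finset.sum_sub_distrib, S1, S2, sub_zero]
  have E3 : ∑ χ, α χ * ((x χ - r χ) ^ 2 / x χ) = 0 := by
    have : ∀ χ, α χ * ((x χ - r χ) ^ 2 / x χ)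
        = α χ * x χ - 2 * (α χ * r χ) + α χ * (r χ ^ 2 / x χ) := by
      intro χ
      have := (hxpos χ).ne'
      field_simp
      ring
    simp only [this, Finset.sum_add_distrib, Finset.sum_sub_distrib, ← Finset.mul_sum, S1, S2, S3]
    ring
  -- the coefficient of the trivial character
  have hθinv : ∀ y : P, θ y⁻¹ = (starRingEnd ℂ) (θ y) := by
    intro y
    obtain ⟨χ, ψ, hχ, hψ, rfl⟩ := hθ
    simp only [Pi.sub_apply, map_sub, isCharacter_inv hχ, isCharacter_inv hψ]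
  have hsum : ∑ᶠ y : ↥P, θ y⁻¹ = ∑ᶠ y : ↥P, θ y := finsum_comp_equiv (Equiv.inv P)
  have ha1' : a (oneIrr G) = (Nat.card ↥P : ℂ)⁻¹ * ∑ᶠ y : ↥P, θ y := by
    simp only [ha, oneIrr, one_mul]
    rw [hsum]
  have hreal : (starRingEnd ℂ) (a (oneIrr G)) = a (oneIrr G) := by
    have : Fintype P := Fintype.ofFinite _
    rw [ha1', map_mul, map_inv₀, Complex.conj_natCast]
    congr 1
    rw [← hsum]
    simp only [finsum_eq_sum_of_fintype, map_sum, hθinv, Complex.conj_conj]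
    rw [← finsum_eq_sum_of_fintype, ← finsum_eq_sum_of_fintype]
    simp only [← hθinv]
    exact hsum.symm
  have hα1 : α (oneIrr G) ≠ 0 := by
    simp only [α, if_pos (oneIrr_mem (G := G) hM)]
    intro h0
    apply ha1
    rw [← ha1', ← Complex.conj_eq_iff_re.1 hreal, h0, Complex.ofReal_zero]
  have he1 : x (oneIrr G) - r (oneIrr G) = 0 := by simp [x, r, oneIrr]
  have fin : ∀ j : IrrCharacter G, j ≠ oneIrr G → α j ≠ 0 → x j - r j = 0 →
      ∃ K : Subgroup G, K.Normal ∧ K ≠ ⊤ ∧ Cfsg.pPrimeCore 2 G ≤ K ∧ t ∈ K := by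
    intro j hj hαj hej
    have hjB : j ∈ principalBlock M G := by
      by_contra h
      exact hαj (by simp only [α, if_neg h])
    refine ⟨charKer (j : G → ℂ) (isCharacter_of_isIrrCharacter j.2), inferInstance,
      irr_ker_ne_top j hj, fun n hn => principal_ker hM j hjB n hn, ?_⟩
    show (j : G → ℂ) t = (j : G → ℂ) 1
    rw [hr j, hx1 j]
    congr 1
    linarith
  have hcases : Nat.card {χ : Cfsg.IrrCharacter G // χ ∈ Cfsg.principalBlock M G ∧ 0 < (a χ).re} ≤ 1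
      ∨ Nat.card {χ : Cfsg.IrrCharacter G // χ ∈ Cfsg.principalBlock M G ∧ (a χ).re < 0} ≤ 1 := by
    by_contra h
    push Not at h
    exact hnot ⟨h.1, h.2⟩
  rcases hcases with hc | hc
  · rw [Finite.card_le_one_iff_subsingleton] at hc
    obtain ⟨j, hj, hαj, hej⟩ := arith_one_sign α x (fun χ => x χ - r χ) hxpos S1 E2 E3
      (oneIrr G) hα1 he1 (by
        intro i j hi hj
        have hi' : i ∈ principalBlock M G ∧ 0 < (a i).re := by
          by_cases h : i ∈ principalBlock M G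
          · simp only [α, if_pos h] at hi; exact ⟨h, hi⟩
          · simp only [α, if_neg h] at hi; exact absurd hi (lt_irrefl _)
        have hj' : j ∈ principalBlock M G ∧ 0 < (a j).re := by
          by_cases h : j ∈ principalBlock M G
          · simp only [α, if_pos h] at hj; exact ⟨h, hj⟩
          · simp only [α, if_neg h] at hj; exact absurd hj (lt_irrefl _)
        exact congrArg Subtype.val (hc.elim ⟨i, hi'⟩ ⟨j, hj'⟩))
    exact fin j hj hαj hej
  · rw [Finite.card_le_one_iff_subsingleton] at hc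
    obtain ⟨j, hj, hαj, hej⟩ := arith_one_sign (fun χ => - α χ) x (fun χ => x χ - r χ) hxpos
      (by simp only [neg_mul, Finset.sum_neg_distrib, S1, neg_zero])
      (by simp only [neg_mul, Finset.sum_neg_distrib, E2, neg_zero])
      (by simp only [neg_mul, Finset.sum_neg_distrib, E3, neg_zero])
      (oneIrr G) (neg_ne_zero.2 hα1) he1 (by
        intro i j hi hj
        have hi' : i ∈ principalBlock M G ∧ (a i).re < 0 := by
          by_cases h : i ∈ principalBlock M G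
          · simp only [α, if_pos h] at hi; exact ⟨h, by linarith⟩
          · simp only [α, if_neg h] at hi; exact absurd hi (by simp)
        have hj' : j ∈ principalBlock M G ∧ (a j).re < 0 := by
          by_cases h : j ∈ principalBlock M G
          · simp only [α, if_pos h] at hj; exact ⟨h, by linarith⟩
          · simp only [α, if_neg h] at hj; exact absurd hj (by simp)
        exact congrArg Subtype.val (hc.elim ⟨i, hi'⟩ ⟨j, hj'⟩))
    exact fin j hj (neg_ne_zero.1 hαj) hej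

end Cfsg.Agent.S4722
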