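import Cfsg.Statements.S5185
import Cfsg.Agent.Lib.Helper55.AutPP
import Cfsg.Agent.Lib.Helper86.StronglyEmbedded

set_option autoImplicit false
universe u
open Cfsg

namespace Cfsg.Agent.S5185

/-- Let F be a saturated fusion system over a finite p-group S and H an essential subgroup of order p². Then H is elementary abelian (isomorphic to C_p × C_p) and its F-automorphism group contains a subgroup isomorphic to SL(2,p). -/
theorem result {Ω : Type u} [Group Ω] {S : Subgroup Ω} [Finite S] (p : ℕ) [Fact p.Prime] (hS : IsPGroup p S)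
    (F : Cfsg.FusionSystem S) (hF : F.IsSaturated p) (H : Subgroup Ω) (hH : F.IsEssential p H) (hcard : Nat.card H = p ^ 2) :
    Cfsg.IsElementaryAbelian p H ∧
      ∃ K : Subgroup ↥(F.autGroup H), Nonempty (↥K ≃* Matrix.SpecialLinearGroup (Fin 2) (ZMod p)) := by
  open Cfsg.Agent.Lib Cfsg.Agent.Lib.Helper55 in
  have hfin : Finite ↥H := Nat.finite_of_card_ne_zero (by
    rw [hcard]; exact pow_ne_zero _ (Fact.out : p.Prime).ne_zero)
  obtain ⟨-, -, hN, E, hE⟩ := hH
  have hcomm : ∀ x y : ↥H, x * y = y * x := IsPGroup.commutative_of_card_eq_prime_sq hcard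
  have hInn : Cfsg.Inn ↥H = ⊥ := by
    rw [eq_bot_iff]
    rintro _ ⟨x, rfl⟩
    rw [Subgroup.mem_bot]
    ext y
    simp only [MulAut.conj_apply, MulAut.one_apply]
    rw [hcomm x y, mul_inv_cancel_right]
  have hNbot : (Cfsg.Inn ↥H).subgroupOf (F.autGroup H) = ⊥ := by
    rw [hInn, Subgroup.bot_subgroupOf]
  have hpA : p ∣ Nat.card ↥(F.autGroup H) :=
    hE.1.trans (Subgroup.card_quotient_dvd_card _)
  have hOp : ∀ M : Subgroup ↥(F.autGroup H), M.Normal → IsPGroup p ↥M → M = ⊥ := by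
    intro M hM hMp
    have h1 : M.map (QuotientGroup.mk' ((Cfsg.Inn ↥H).subgroupOf (F.autGroup H))) = ⊥ :=
      Helper86.eq_bot_of_normal_of_stronglyPEmbedded hE
        (hM.map _ (QuotientGroup.mk'_surjective _)) (hMp.map _)
    rw [Subgroup.map_eq_bot_iff, QuotientGroup.ker_mk', hNbot] at h1
    exact le_bot_iff.1 h1
  obtain ⟨h1, h2, h3⟩ := exists_SL2_of_aut hcard (F.autGroup H) hpA hOp
  refine ⟨⟨⟨⟨fun x y => h1 x y⟩⟩, fun a ha => ?_⟩, h3⟩
  exact congrArg Subtype.val (h2 ⟨a, ha⟩)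

end Cfsg.Agent.S5185
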