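import Cfsg.Statements.S5092
import Cfsg.Agent.Lib.Helper87.Hyperfocal
open Cfsg.Agent.Lib.Helper87
open scoped commutatorElement

set_option autoImplicit false
open Cfsg

namespace Cfsg.Agent.S5092

/-- For a saturated fusion system over a finite p-group S, the focal subgroup is the product of the hyperfocal subgroup and the derived subgroup of S. -/
theorem result {Ω : Type*} [Group Ω] {S : Subgroup Ω} [Finite S] (p : ℕ) [Fact p.Prime] (hS : IsPGroup p S) (F : Cfsg.FusionSystem S) (hF : F.IsSaturated p) : F.focalSubgroup = F.hyperfocalSubgroup p ⊔ ⁅(S : Subgroup Ω), (S : Subgroup Ω)⁆ := by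
  apply le_antisymm
  · unfold Cfsg.FusionSystem.focalSubgroup
    rw [Subgroup.closure_le]
    rintro _ ⟨P, φ, x, hφ, rfl⟩
    have := focal_le hS hF P _ (Mor.of_hom hφ) x x.2
    rw [ext_coe] at this
    exact this
  · refine sup_le ?_ ?_
    · unfold Cfsg.FusionSystem.hyperfocalSubgroup
      rw [Subgroup.closure_le]
      rintro _ ⟨P, α, x, hP, -, rfl⟩
      exact Subgroup.subset_closure ⟨P, P.subtype.comp (α : MulAut P).toMonoidHom, x,
        (mem_autGroup_iff' F hP _).1 α.2, rfl⟩
    · rw [Subgroup.commutator_le]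
      intro a ha b hb
      refine Subgroup.subset_closure ⟨S, Cfsg.conjHom S b, ⟨a⁻¹, S.inv_mem ha⟩,
        F.conj_mem le_rfl hb, ?_⟩
      show ⁅a, b⁆ = (a⁻¹)⁻¹ * (b * a⁻¹ * b⁻¹)
      rw [commutatorElement_def]
      group

end Cfsg.Agent.S5092
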