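import Cfsg.Statements.S5104
import Cfsg.Agent.Lib.Helper87.Alperin
open Cfsg.Agent.Lib.Helper87

set_option autoImplicit false
open Cfsg

namespace Cfsg.Agent.S5104

/-- In a saturated fusion system over a finite p-group S, a fully centralized subgroup U with C_S(U) ≤ U is centric. -/
theorem result {Ω : Type*} [Group Ω] {S : Subgroup Ω} [Finite S] (p : ℕ) [Fact p.Prime] (hS : IsPGroup p S) (F : Cfsg.FusionSystem S) (hF : F.IsSaturated p) (U : Subgroup Ω) (hU : F.IsFullyCentralized U) (hC : Cfsg.FusionSystem.centralizerIn S U ≤ U) : F.IsCentric U := by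
  have hr := fullyCentralized_receptive hS hF hU
  refine ⟨hU.1, fun Q hQ c hc => ?_⟩
  obtain ⟨f, hf⟩ := (isConj_iff F Q U).1 (isConj_symm hQ)
  obtain ⟨f', hf', hag, hcc⟩ := receptive_extend_centralizer hr hf
  obtain ⟨x, hx, e⟩ := hf.surj (hC (hcc c hc))
  rw [← hag x hx] at e
  have := hf'.inj ((le_sup_left : Q ≤ Q ⊔ _) hx) ((le_sup_right : _ ≤ Q ⊔ _) hc) e
  rw [← this]
  exact hx

end Cfsg.Agent.S5104
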