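import Cfsg.Statements.S2530
-- import your own Cfsg.Agent.* helpers here
import Mathlib

set_option autoImplicit false
open Cfsg

namespace Cfsg.Agent.S2530

open CoxeterMatrix

theorem comm_of_sq {G : Type*} [Group G] {a b : G} (ha : a * a = 1) (hb : b * b = 1)
    (h : (a * b) ^ 2 = 1) : a * b = b * a := by
  have h1 : a * b * (a * b) = 1 := by rw [← pow_two]; exact h
  have h2 : a * b = (a * b)⁻¹ := eq_inv_of_mul_eq_one_left h1
  have ha' : a⁻¹ = a := (eq_inv_of_mul_eq_one_left ha).symm
  have hb' : b⁻¹ = b := (eq_inv_of_mul_eq_one_left hb).symm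
  rw [h2, mul_inv_rev, ha', hb']

theorem braid_of_cube {G : Type*} [Group G] {a b : G} (ha : a * a = 1) (hb : b * b = 1)
    (h : (a * b) ^ 3 = 1) : a * b * a = b * a * b := by
  have h1 : (a * b * a) * (b * a * b) = 1 := by
    rw [← h, pow_succ, pow_two]; group
  have h2 : a * b * a = (b * a * b)⁻¹ := eq_inv_of_mul_eq_one_left h1
  have ha' : a⁻¹ = a := (eq_inv_of_mul_eq_one_left ha).symm
  have hb' : b⁻¹ = b := (eq_inv_of_mul_eq_one_left hb).symm
  rw [h2, mul_inv_rev, mul_inv_rev, ha', hb', mul_assoc]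

abbrev W (n : ℕ) := (CoxeterMatrix.A n).Group

abbrev cs (n : ℕ) : CoxeterSystem (CoxeterMatrix.A n) (W n) := (CoxeterMatrix.A n).toCoxeterSystem

theorem A_apply (n : ℕ) (i j : Fin n) : CoxeterMatrix.A n i j =
    if i = j then 1 else (if (j : ℕ) + 1 = i ∨ (i : ℕ) + 1 = j then 3 else 2) := rfl

noncomputable def t (n : ℕ) (k : ℕ) : W n := if h : k < n then (cs n).simple ⟨k, h⟩ else 1

theorem t_of_lt (n k : ℕ) (h : k < n) : t n k = (cs n).simple ⟨k, h⟩ := by simp [t, h]

theorem t_of_ge (n k : ℕ) (h : n ≤ k) : t n k = 1 := by simp [t, Nat.not_lt.mpr h]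

theorem t_sq (n k : ℕ) : t n k * t n k = 1 := by
  by_cases h : k < n
  · rw [t_of_lt n k h]; exact (cs n).simple_mul_simple_self _
  · rw [t_of_ge n k (Nat.not_lt.mp h)]; simp

theorem t_comm (n k l : ℕ) (hkl : k + 2 ≤ l) : t n k * t n l = t n l * t n k := by
  by_cases hl : l < n
  · have hk : k < n := by omega
    rw [t_of_lt n k hk, t_of_lt n l hl]
    apply comm_of_sq ((cs n).simple_mul_simple_self _) ((cs n).simple_mul_simple_self _)
    have := (cs n).simple_mul_simple_pow ⟨k, hk⟩ ⟨l, hl⟩
    rw [A_apply] at this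
    have h1 : (⟨k, hk⟩ : Fin n) ≠ ⟨l, hl⟩ := by
      intro h; have := congrArg Fin.val h; simp at this; omega
    have h2 : ¬ (((⟨l, hl⟩ : Fin n) : ℕ) + 1 = ((⟨k, hk⟩ : Fin n) : ℕ) ∨
        ((⟨k, hk⟩ : Fin n) : ℕ) + 1 = ((⟨l, hl⟩ : Fin n) : ℕ)) := by
      simp; omega
    rwa [if_neg h1, if_neg h2] at this
  · rw [t_of_ge n l (Nat.not_lt.mp hl)]; simp

theorem t_braid (n k : ℕ) (hk : k + 1 < n) :
    t n k * t n (k + 1) * t n k = t n (k + 1) * t n k * t n (k + 1) := by
  have hk' : k < n := by omega
  rw [t_of_lt n k hk', t_of_lt n (k + 1) hk]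
  apply braid_of_cube ((cs n).simple_mul_simple_self _) ((cs n).simple_mul_simple_self _)
  have := (cs n).simple_mul_simple_pow ⟨k, hk'⟩ ⟨k + 1, hk⟩
  rw [A_apply] at this
  have h1 : (⟨k, hk'⟩ : Fin n) ≠ ⟨k + 1, hk⟩ := by
    intro h; have := congrArg Fin.val h; simp at this
  have h2 : (((⟨k + 1, hk⟩ : Fin n) : ℕ) + 1 = ((⟨k, hk'⟩ : Fin n) : ℕ) ∨
      ((⟨k, hk'⟩ : Fin n) : ℕ) + 1 = ((⟨k + 1, hk⟩ : Fin n) : ℕ)) := Or.inr rfl
  rwa [if_neg h1, if_pos h2] at this

noncomputable def c (n : ℕ) : ℕ → W n
  | 0 => 1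
  | (j + 1) => c n j * t n j

theorem c_zero (n : ℕ) : c n 0 = 1 := rfl

theorem c_succ (n j : ℕ) : c n (j + 1) = c n j * t n j := rfl

theorem lemC (n j k : ℕ) (h : j + 1 ≤ k) : c n j * t n k = t n k * c n j := by
  induction j with
  | zero => simp [c_zero]
  | succ j ih =>
    rw [c_succ, mul_assoc, t_comm n j k (by omega), ← mul_assoc, ih (by omega), mul_assoc]

theorem lemD (n i j : ℕ) (hij : i + 2 ≤ j) (hj : j ≤ n) :
    c n j * t n i = t n (i + 1) * c n j := by
  induction j, hij using Nat.le_induction with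
  | base =>
    rw [c_succ, c_succ]
    calc c n i * t n i * t n (i + 1) * t n i = c n i * (t n i * t n (i + 1) * t n i) := by group
      _ = c n i * (t n (i + 1) * t n i * t n (i + 1)) := by rw [t_braid n i (by omega)]
      _ = (c n i * t n (i + 1)) * t n i * t n (i + 1) := by group
      _ = t n (i + 1) * (c n i * t n i * t n (i + 1)) := by rw [lemC n i (i + 1) le_rfl]; group
  | succ j hij ih =>
    rw [c_succ, mul_assoc, ← t_comm n i j hij, ← mul_assoc, ih (by omega), mul_assoc]

theorem liftable_succ (n : ℕ) :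
    IsLiftable (CoxeterMatrix.A n) (fun i : Fin n => (cs (n + 1)).simple i.succ) := by
  intro i i'
  have h : CoxeterMatrix.A n i i' = CoxeterMatrix.A (n + 1) i.succ i'.succ := by
    rw [A_apply, A_apply]
    simp [Fin.succ_inj]
  rw [h]
  exact (cs (n + 1)).simple_mul_simple_pow _ _

noncomputable def psi (n : ℕ) : W n →* W (n + 1) := (cs n).lift ⟨_, liftable_succ n⟩

theorem psi_simple (n : ℕ) (i : Fin n) : psi n ((cs n).simple i) = (cs (n + 1)).simple i.succ :=
  (cs n).lift_apply_simple (liftable_succ n) i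

theorem psi_t (n k : ℕ) : psi n (t n k) = t (n + 1) (k + 1) := by
  by_cases h : k < n
  · rw [t_of_lt n k h, t_of_lt (n + 1) (k + 1) (by omega), psi_simple]; rfl
  · rw [t_of_ge n k (Nat.not_lt.mp h), t_of_ge (n + 1) (k + 1) (by omega), map_one]

theorem cover (n : ℕ) (g : W (n + 1)) : ∃ (w : W n) (j : ℕ), j ≤ n + 1 ∧ g = psi n w * c (n + 1) j := by
  induction g using (cs (n + 1)).simple_induction_right with
  | one => exact ⟨1, 0, by omega, by simp [c_zero]⟩
  | mul_simple_right g i ih =>
    obtain ⟨w, j, hj, rfl⟩ := ih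
    have hi : (cs (n + 1)).simple i = t (n + 1) i.val := by
      rw [t_of_lt (n + 1) i.val i.isLt]
    rw [hi]
    have hlt := i.isLt
    rcases lt_trichotomy i.val j with h | h | h
    · rcases Nat.lt_or_ge (i.val + 1) j with h' | h'
      · refine ⟨w * t n i.val, j, hj, ?_⟩
        rw [mul_assoc, lemD (n + 1) i.val j h' hj, map_mul, psi_t, mul_assoc]
      · have hj' : j = i.val + 1 := by omega
        refine ⟨w, i.val, by omega, ?_⟩
        rw [hj', c_succ, mul_assoc, mul_assoc, t_sq, mul_one]
    · refine ⟨w, j + 1, by omega, ?_⟩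
      rw [c_succ, h, mul_assoc]
    · obtain ⟨i', hi'⟩ : ∃ i', i.val = i' + 1 := ⟨i.val - 1, by omega⟩
      refine ⟨w * t n i', j, hj, ?_⟩
      rw [mul_assoc, lemC (n + 1) j i.val h, map_mul, psi_t, hi', mul_assoc]

theorem card_le (n : ℕ) : Finite (W n) ∧ Nat.card (W n) ≤ (n + 1).factorial := by
  induction n with
  | zero =>
    have hsub : Subsingleton (W 0) := by
      refine ⟨fun a b => ?_⟩
      have h1 : ∀ g : W 0, g = 1 := by
        intro g
        induction g using (cs 0).simple_induction_right with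
        | one => rfl
        | mul_simple_right g i ih => exact i.elim0
      rw [h1 a, h1 b]
    refine ⟨inferInstance, ?_⟩
    simp
  | succ n ih =>
    obtain ⟨hfin, hcard⟩ := ih
    let F : W n × Fin (n + 2) → W (n + 1) := fun p => psi n p.1 * c (n + 1) p.2.val
    have hF : Function.Surjective F := by
      intro g
      obtain ⟨w, j, hj, rfl⟩ := cover n g
      exact ⟨(w, ⟨j, by omega⟩), rfl⟩
    have hfin' : Finite (W (n + 1)) := Finite.of_surjective F hF
    refine ⟨hfin', ?_⟩
    calc Nat.card (W (n + 1)) ≤ Nat.card (W n × Fin (n + 2)) := Nat.card_le_card_of_surjective F hF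
      _ = Nat.card (W n) * (n + 2) := by rw [Nat.card_prod, Nat.card_fin]
      _ ≤ (n + 1).factorial * (n + 2) := Nat.mul_le_mul_right _ hcard
      _ = (n + 1 + 1).factorial := by rw [Nat.factorial_succ (n + 1)]; ring

theorem liftable_swap (n : ℕ) :
    IsLiftable (CoxeterMatrix.A n) (fun i : Fin n => Equiv.swap i.castSucc i.succ) := by
  intro i j
  rw [A_apply]
  beta_reduce
  by_cases hij : i = j
  · subst hij; simp
  · rw [if_neg hij]
    have hne : (i : ℕ) ≠ j := fun h => hij (Fin.ext h)
    by_cases h : (j : ℕ) + 1 = i ∨ (i : ℕ) + 1 = j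
    · rw [if_pos h]
      rcases h with h | h
      · have e1 : i.castSucc = j.succ := by ext; simp [h]
        rw [e1, Equiv.swap_comm j.castSucc j.succ]
        have h3 := Equiv.Perm.isThreeCycle_swap_mul_swap_same (a := j.succ) (b := i.succ)
          (c := j.castSucc) (by intro h'; have := congrArg Fin.val h'; simp at this; omega)
          (by intro h'; have := congrArg Fin.val h'; simp at this)
          (by intro h'; have := congrArg Fin.val h'; simp at this; omega)
        rw [← h3.orderOf]; exact pow_orderOf_eq_one _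
      · have e1 : j.castSucc = i.succ := by ext; simp [h]
        rw [e1, Equiv.swap_comm i.castSucc i.succ]
        have h3 := Equiv.Perm.isThreeCycle_swap_mul_swap_same (a := i.succ) (b := i.castSucc)
          (c := j.succ) (by intro h'; have := congrArg Fin.val h'; simp at this)
          (by intro h'; have := congrArg Fin.val h'; simp at this; omega)
          (by intro h'; have := congrArg Fin.val h'; simp at this; omega)
        rw [← h3.orderOf]; exact pow_orderOf_eq_one _
    · rw [if_neg h]
      push Not at h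
      have hd : Equiv.Perm.Disjoint (Equiv.swap i.castSucc i.succ) (Equiv.swap j.castSucc j.succ) := by
        apply Equiv.Perm.disjoint_swap_swap
        simp only [List.nodup_cons, List.mem_cons, List.not_mem_nil, or_false, not_or,
          List.nodup_nil, and_true, not_false_eq_true]
        refine ⟨⟨?_, ?_, ?_⟩, ⟨?_, ?_⟩, ?_⟩ <;>
        · intro h'
          have := congrArg Fin.val h'
          simp only [Fin.val_castSucc, Fin.val_succ] at this
          omega
      rw [hd.commute.mul_pow]
      simp [pow_two]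

noncomputable def phi (n : ℕ) : W n →* Equiv.Perm (Fin (n + 1)) := (cs n).lift ⟨_, liftable_swap n⟩

theorem phi_simple (n : ℕ) (i : Fin n) : phi n ((cs n).simple i) = Equiv.swap i.castSucc i.succ :=
  (cs n).lift_apply_simple (liftable_swap n) i

theorem phi_surjective (n : ℕ) : Function.Surjective (phi n) := by
  rw [← MonoidHom.mrange_eq_top, eq_top_iff, ← Equiv.Perm.mclosure_swap_castSucc_succ n,
    Submonoid.closure_le]
  rintro _ ⟨i, rfl⟩
  exact ⟨(cs n).simple i, phi_simple n i⟩

theorem phi_bijective (n : ℕ) : Function.Bijective (phi n) := by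
  obtain ⟨hfin, hcard⟩ := card_le n
  apply (phi_surjective n).bijective_of_nat_card_le
  rw [Nat.card_eq_fintype_card (α := Equiv.Perm (Fin (n + 1))), Fintype.card_perm, Fintype.card_fin]
  exact hcard

/-- The Coxeter presentation of the symmetric group: for every n, the symmetric group on n+1 letters is the Coxeter group of type A_n with the adjacent transpositions (i, i+1) as simple reflections; that is, it is presented by generators r_1, …, r_n subject to r_i² = 1, (r_i r_j)² = 1 for |i − j| > 1 and (r_i r_{i+1})³ = 1, with r_i mapping to (i, i+1). -/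
theorem result (n : ℕ) :
    ∃ cs : CoxeterSystem (CoxeterMatrix.A n) (Equiv.Perm (Fin (n + 1))), ∀ i : Fin n, cs.simple i = Equiv.swap i.castSucc i.succ := by
  refine ⟨(cs n).map (MulEquiv.ofBijective (phi n) (phi_bijective n)), ?_⟩
  intro i
  rw [CoxeterSystem.map_simple]
  exact phi_simple n i

end Cfsg.Agent.S2530
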