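import Cfsg.Statements.S5421
-- import your own Cfsg.Agent.* helpers here
import Cfsg.Agent.Lib.Helper92.LargeES

set_option autoImplicit false
open Cfsg

namespace Cfsg.Agent.S5421

open Cfsg.Agent.Lib.Helper92

/-- Let Q be an extraspecial 2-subgroup of the finite group G whose centralizer in G is its centre Z and which is normal in the centralizer of Z. If some involution b of Q outside Z has Z inside the largest normal 2-subgroup of the centralizer of b, then Q is a large extraspecial 2-subgroup of G. -/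
theorem result {G : Type*} [Group G] [Finite G] (Q : Subgroup G) (hL1 : Cfsg.IsExtraspecial 2 ↥Q) (hL2 : Subgroup.centralizer (Q : Set G) = ((Subgroup.center ↥Q).map Q.subtype)) (hL3 : Subgroup.centralizer (((Subgroup.center ↥Q).map Q.subtype) : Set G) ≤ Subgroup.normalizer (Q : Set G)) (b : G) (hbQ : b ∈ Q) (hbZ : b ∉ ((Subgroup.center ↥Q).map Q.subtype)) (hb : orderOf b = 2) (hZ : ((Subgroup.center ↥Q).map Q.subtype) ≤ (Cfsg.pCore 2 ↥(Subgroup.centralizer ({b} : Set G))).map (Subgroup.centralizer ({b} : Set G)).subtype) : Cfsg.IsLargeExtraspecial Q := by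
  refine ⟨hL1, hL2, hL3, ?_⟩
  intro K hK hQK
  obtain ⟨z, hzZ, hz1, hzord, hzall, hZz⟩ := exists_gen_of_card_two _ (card_ZZ hL1)
  have hzQ : z ∈ Q := ZZ_le Q hzZ
  have hfin : Finite K := finite_of_odd_card hK
  have hzz : z * z = 1 := mul_self_eq_one_of_orderOf_two hzord
  have hbb : b * b = 1 := mul_self_eq_one_of_orderOf_two hb
  have hnorm : ∀ q ∈ Q, ∀ k ∈ K, q * k * q⁻¹ ∈ K := fun q hq k hk =>
    conj_mem_of_le_normalizer hQK hq hk
  have hCz : ∀ k ∈ K, z * k * z⁻¹ = k → k = 1 := by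
    intro k hk hzk
    have hbot : K ⊓ Subgroup.centralizer ((ZZ Q : Subgroup G) : Set G) = ⊥ := by
      apply eq_bot_of_odd_of_le_centralizer_ZZ hL1 hL2 hL3 (odd_card_of_le hK inf_le_left) _
        inf_le_right
      apply le_normalizer_of_conj_mem
      intro q hq x hx
      rw [Subgroup.mem_inf] at hx ⊢
      refine ⟨hnorm q hq x hx.1, ?_⟩
      have hqC := le_centralizer_ZZ Q hq
      exact mul_mem (mul_mem hqC hx.2) (inv_mem hqC)
    have hmem : k ∈ K ⊓ Subgroup.centralizer ((ZZ Q : Subgroup G) : Set G) := by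
      rw [Subgroup.mem_inf]
      refine ⟨hk, ?_⟩
      rw [Subgroup.mem_centralizer_iff]
      intro x hx
      rcases hzall x hx with rfl | rfl
      · simp
      · calc x * k = (x * k * x⁻¹) * x := by group
          _ = k * x := by rw [hzk]
    rw [hbot] at hmem
    exact hmem
  have hCb : ∀ k ∈ K, b * k * b⁻¹ = k → k = 1 := by
    intro k hk hbk
    apply hCz k hk
    have hkC : k ∈ Subgroup.centralizer ({b} : Set G) := by
      rw [Subgroup.mem_centralizer_singleton_iff]
      calc k * b = (b * k * b⁻¹) * b := by rw [hbk]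
        _ = b * k := by group
    have h1 : z * k * z⁻¹ * k⁻¹ ∈ K := K.mul_mem (hnorm z hzQ k hk) (K.inv_mem hk)
    have h2 : z * k * z⁻¹ * k⁻¹ ∈ (Cfsg.pCore 2 ↥(Subgroup.centralizer ({b} : Set G))).map
        (Subgroup.centralizer ({b} : Set G)).subtype := by
      obtain ⟨z', hz', hzz'⟩ := hZ hzZ
      refine ⟨z' * (⟨k, hkC⟩ * z'⁻¹ * ⟨k, hkC⟩⁻¹), mul_mem hz'
        ((inferInstance : (Cfsg.pCore 2 ↥(Subgroup.centralizer ({b} : Set G))).Normal).conj_mem _
          (inv_mem hz') _), ?_⟩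
      have hzz'' : (z' : G) = z := hzz'
      simp only [Subgroup.subtype_apply, Subgroup.coe_mul, Subgroup.coe_inv, hzz'']
      group
    have h3 := eq_one_of_mem_odd_of_mem_two_group hK ((pCore_isPGroup 2 _).map _) h1 h2
    calc z * k * z⁻¹ = (z * k * z⁻¹ * k⁻¹) * k := by group
      _ = k := by rw [h3, one_mul]
  have hinvz := inverts_of_fixedPointFree hzz (hnorm z hzQ) hCz
  have hinvb := inverts_of_fixedPointFree hbb (hnorm b hbQ) hCb
  obtain ⟨q, hq, hqb⟩ := exists_conj_eq_mul hL1 hzall hbQ hbZ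
  rw [eq_bot_iff]
  intro k hk
  have hk' : q⁻¹ * k * q ∈ K := by
    have := hnorm q⁻¹ (Q.inv_mem hq) k hk
    rwa [inv_inv] at this
  have e1 : (z * b) * k * (z * b)⁻¹ = k⁻¹ := by
    rw [← hqb]
    calc q * b * q⁻¹ * k * (q * b * q⁻¹)⁻¹ = q * (b * (q⁻¹ * k * q) * b⁻¹) * q⁻¹ := by group
      _ = q * (q⁻¹ * k * q)⁻¹ * q⁻¹ := by rw [hinvb _ hk']
      _ = k⁻¹ := by group
  have e2 : (z * b) * k * (z * b)⁻¹ = k := by
    calc (z * b) * k * (z * b)⁻¹ = z * (b * k * b⁻¹) * z⁻¹ := by group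
      _ = z * k⁻¹ * z⁻¹ := by rw [hinvb k hk]
      _ = k := by rw [hinvz _ (K.inv_mem hk), inv_inv]
  have e3 : k⁻¹ = k := e1.symm.trans e2
  exact hCb k hk (by rw [hinvb k hk, e3])

end Cfsg.Agent.S5421
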