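import Cfsg.Statements.S5422
-- import your own Cfsg.Agent.* helpers here
import Cfsg.Agent.Lib.Helper92.ESPair
import Cfsg.Agent.Lib.Helper92.FourGroup
import Cfsg.Agent.S5421

set_option autoImplicit false
open Cfsg

namespace Cfsg.Agent.S5422

open Cfsg.Agent.Lib.Helper92

/-- Let Q be an extraspecial 2-subgroup of the finite group G whose centralizer in G is its centre Z and which is normal in the centralizer of Z; suppose Q has width at least 2 (order 2^(2w+1) with w ≥ 2) and g is an element of G not normalizing Z with g Z g⁻¹ inside Q. Then Z lies inside g Q g⁻¹; writing V for the subgroup generated by Z and g Z g⁻¹ (a four-group), the normalizer of V induces on V its full automorphism group, that is, the centralizer of V has index 6 in the normalizer of V; and Q is a large extraspecial 2-subgroup of G. -/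
theorem result {G : Type*} [Group G] [Finite G] (Q : Subgroup G) (hL1 : Cfsg.IsExtraspecial 2 ↥Q) (hL2 : Subgroup.centralizer (Q : Set G) = ((Subgroup.center ↥Q).map Q.subtype)) (hL3 : Subgroup.centralizer (((Subgroup.center ↥Q).map Q.subtype) : Set G) ≤ Subgroup.normalizer (Q : Set G)) (w : ℕ) (hw : 2 ≤ w) (hcard : Nat.card ↥Q = 2 ^ (2 * w + 1)) (g : G) (hg : g ∉ Subgroup.normalizer (((Subgroup.center ↥Q).map Q.subtype) : Set G)) (hZg : (((Subgroup.center ↥Q).map Q.subtype)).map (MulAut.conj g).toMonoidHom ≤ Q) : ((Subgroup.center ↥Q).map Q.subtype) ≤ (Q).map (MulAut.conj g).toMonoidHom ∧ (Subgroup.centralizer ((((Subgroup.center ↥Q).map Q.subtype) ⊔ (((Subgroup.center ↥Q).map Q.subtype)).map (MulAut.conj g).toMonoidHom : Subgroup G) : Set G)).relIndex (Subgroup.normalizer ((((Subgroup.center ↥Q).map Q.subtype) ⊔ (((Subgroup.center ↥Q).map Q.subtype)).map (MulAut.conj g).toMonoidHom : Subgroup G) : Set G)) = 6 ∧ Cfsg.IsLargeExtraspecial Q := by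
  obtain ⟨z, h, hzZ, hzord, hzall, hZz⟩ := ESData.exists_of hL1 hL2 hL3
  have hsQ : g * z * g⁻¹ ∈ Q := hZg (conj_mem_map_conj hzZ)
  have hne : g * z * g⁻¹ ≠ z := by
    intro he
    apply hg
    apply mem_normalizer_of_conj_mem
    intro v hv
    rcases hzall v hv with rfl | rfl
    · simp
    · rw [he]; exact hzZ
  obtain ⟨x, hxs, hxz⟩ := h.exists_swap g hsQ hne
  have hP := h.conj g
  have hsmem : g * z * g⁻¹ ∈ (ZZ Q).map (MulAut.conj g).toMonoidHom := conj_mem_map_conj hzZ
  have hsall : ∀ v ∈ (ZZ Q).map (MulAut.conj g).toMonoidHom, v = 1 ∨ v = g * z * g⁻¹ := by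
    rintro _ ⟨v, hv, rfl⟩
    rcases hzall v hv with rfl | rfl
    · left; simp
    · right; rfl
  have hgz : g⁻¹ * (g * z * g⁻¹) * g = z := by group
  generalize g * z * g⁻¹ = s at *
  have hs1 : s ≠ 1 := hP.z1
  have hss : s * s = 1 := hP.zz
  obtain ⟨q, hqQ, hq⟩ := h.exists_q hsQ hs1 hne
  have hzs : Commute z s := (h.zc s hsQ).symm
  have hqz : q * z * q⁻¹ = z := conj_eq_of_commute (h.zc q hqQ)
  have hqz' : q⁻¹ * z * q = z := by
    have := conj_eq_of_commute (h.zc q hqQ).inv_left
    rwa [inv_inv] at this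
  have hzP : z ∈ Q.map (MulAut.conj g).toMonoidHom := by
    have e1 : (q * x * q⁻¹) * z * (q * x * q⁻¹)⁻¹ = s := by
      calc (q * x * q⁻¹) * z * (q * x * q⁻¹)⁻¹ = q * (x * (q⁻¹ * z * q) * x⁻¹) * q⁻¹ := by group
        _ = q * (x * z * x⁻¹) * q⁻¹ := by rw [hqz']
        _ = q * (z * s) * q⁻¹ := by rw [hxz]
        _ = (q * z * q⁻¹) * (q * s * q⁻¹) := by group
        _ = z * (z * s) := by rw [hqz, hq]
        _ = (z * z) * s := by group
        _ = s := by rw [h.zz, one_mul]
    have e2 : (q * x * q⁻¹) * s * (q * x * q⁻¹)⁻¹ = z := by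
      calc (q * x * q⁻¹) * s * (q * x * q⁻¹)⁻¹ = q * (x * (q⁻¹ * s * q) * x⁻¹) * q⁻¹ := by group
        _ = q * (x * (z * s) * x⁻¹) * q⁻¹ := by rw [h.rel_qinv hqQ hq]
        _ = q * ((x * z * x⁻¹) * (x * s * x⁻¹)) * q⁻¹ := by group
        _ = q * ((z * s) * s) * q⁻¹ := by rw [hxz, conj_eq_of_commute hxs]
        _ = q * z * q⁻¹ := by rw [mul_assoc z, hss, mul_one]
        _ = z := hqz
    generalize q * x * q⁻¹ = hh at e1 e2
    have hn : Commute (g⁻¹ * hh) z := by
      apply commute_of_conj_eq
      calc g⁻¹ * hh * z * (g⁻¹ * hh)⁻¹ = g⁻¹ * (hh * z * hh⁻¹) * g := by group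
        _ = g⁻¹ * s * g := by rw [e1]
        _ = z := hgz
    have h1 := h.norm _ hn s hsQ
    rw [mem_map_conj_iff]
    have e3 : g⁻¹ * z * g = g⁻¹ * hh * s * (g⁻¹ * hh)⁻¹ := by
      rw [← e2]; group
    rw [e3]; exact h1
  refine ⟨?_, ?_, ?_⟩
  · intro v hv
    rcases hzall v hv with rfl | rfl
    · exact one_mem _
    · exact hzP
  · have hVeq : (ZZ Q ⊔ (ZZ Q).map (MulAut.conj g).toMonoidHom : Subgroup G) =
        fourGroup z s h.zz hss hzs := by
      apply le_antisymm
      · apply sup_le
        · intro v hv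
          rcases hzall v hv with rfl | rfl
          · exact one_mem _
          · exact Or.inr (Or.inl rfl)
        · intro v hv
          rcases hsall v hv with rfl | rfl
          · exact one_mem _
          · exact Or.inr (Or.inr (Or.inl rfl))
      · rintro v (rfl | rfl | rfl | rfl)
        · exact one_mem _
        · exact Subgroup.mem_sup_left hzZ
        · exact Subgroup.mem_sup_right hsmem
        · exact mul_mem (Subgroup.mem_sup_left hzZ) (Subgroup.mem_sup_right hsmem)
    exact relIndex_eq_six (fun v => by rw [hVeq]; exact mem_fourGroup) h.z1 hs1 hne.symm h.zz hqz hq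
      (conj_eq_of_commute hxs) hxz
  · apply Cfsg.Agent.S5421.result Q hL1 hL2 hL3 s hsQ
    · intro hsZ
      rcases hzall s hsZ with h1 | h1
      · exact hs1 h1
      · exact hne h1
    · apply orderOf_eq_prime
      · rw [sq]; exact hss
      · exact hs1
    · have hPC : Q.map (MulAut.conj g).toMonoidHom ≤ Subgroup.centralizer ({s} : Set G) :=
        fun a ha => Subgroup.mem_centralizer_singleton_iff.2 (hP.zc a ha)
      have hnorm : ((Q.map (MulAut.conj g).toMonoidHom).subgroupOf
          (Subgroup.centralizer ({s} : Set G))).Normal := by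
        constructor
        intro n hn c
        rw [Subgroup.mem_subgroupOf] at hn ⊢
        exact hP.norm c (Subgroup.mem_centralizer_singleton_iff.1 c.2) n hn
      have hle : (Q.map (MulAut.conj g).toMonoidHom).subgroupOf
          (Subgroup.centralizer ({s} : Set G)) ≤ Cfsg.pCore 2 _ :=
        le_sSup ⟨hnorm, hP.two.comap_subtype⟩
      intro v hv
      rcases hzall v hv with rfl | rfl
      · exact one_mem _
      · exact ⟨⟨v, hPC hzP⟩, hle (by rw [Subgroup.mem_subgroupOf]; exact hzP), rfl⟩

end Cfsg.Agent.S5422
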