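import Cfsg.Statements.S5436
-- import your own Cfsg.Agent.* helpers here
import Cfsg.Agent.Lib.Helper92.FStarES
import Cfsg.Agent.Lib.Helper92.ESEquiv
import Cfsg.Agent.S5422

set_option autoImplicit false
open Cfsg

namespace Cfsg.Agent.S5436

open Cfsg.Agent.Lib.Helper92

/-- the hypotheses of S5422 from ESData and a conjugate of `z` in `Q` -/
theorem large_of_conj {G : Type*} [Group G] [Finite G] (Q : Subgroup G)
    (hL1 : Cfsg.IsExtraspecial 2 ↥Q)
    (hL2 : Subgroup.centralizer (Q : Set G) = ((Subgroup.center ↥Q).map Q.subtype))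
    (hL3 : Subgroup.centralizer (((Subgroup.center ↥Q).map Q.subtype) : Set G) ≤
      Subgroup.normalizer (Q : Set G)) (w : ℕ) (hw : 2 ≤ w)
    (hcard : Nat.card ↥Q = 2 ^ (2 * w + 1)) {z : G} (h : ESData Q z)
    (hzall : ∀ x ∈ ZZ Q, x = 1 ∨ x = z) (hzZ : z ∈ ZZ Q) (g : G) (hgQ : g * z * g⁻¹ ∈ Q)
    (hne : g * z * g⁻¹ ≠ z) : Cfsg.IsLargeExtraspecial Q := by
  have hgN : g ∉ Subgroup.normalizer (((Subgroup.center ↥Q).map Q.subtype) : Set G) := by
    intro hg
    have h1 : g * z * g⁻¹ ∈ ZZ Q := (Subgroup.mem_normalizer_iff.1 hg z).1 hzZ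
    rcases hzall _ h1 with h2 | h2
    · exact (h.conj g).z1 h2
    · exact hne h2
  have hZg : (((Subgroup.center ↥Q).map Q.subtype)).map (MulAut.conj g).toMonoidHom ≤ Q := by
    rintro _ ⟨x, hx, rfl⟩
    rcases hzall x hx with rfl | rfl
    · simp
    · exact hgQ
  exact (Cfsg.Agent.S5422.result Q hL1 hL2 hL3 w hw hcard g hgN hZg).2.2

/-- Let z be an involution of the finite group G with centralizer H whose generalized Fitting subgroup Q is extraspecial of width at least 2 (order 2^(2w+1), w ≥ 2); suppose some conjugate of z other than z lies in Q, H/Q is a non-abelian simple group, H acts irreducibly by conjugation on Q modulo the subgroup generated by z (the only H-invariant subgroups of Q containing z are that subgroup and Q), and Q is not the subgroup generated by the conjugates of z lying in H. Then G is simple. -/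
theorem result {G : Type*} [Group G] [Finite G] (z : G) (hz : orderOf z = 2) (Q : Subgroup (Subgroup.centralizer ({z} : Set G))) [Q.Normal] (hF : Cfsg.generalizedFittingSubgroup ↥(Subgroup.centralizer ({z} : Set G)) = Q) (hQ : Cfsg.IsExtraspecial 2 ↥Q) (w : ℕ) (hw : 2 ≤ w) (hcard : Nat.card ↥Q = 2 ^ (2 * w + 1)) (hnwc : ∃ g : G, (∃ hq : g * z * g⁻¹ ∈ Subgroup.centralizer ({z} : Set G), (⟨g * z * g⁻¹, hq⟩ : Subgroup.centralizer ({z} : Set G)) ∈ Q) ∧ g * z * g⁻¹ ≠ z) (hsimp : IsSimpleGroup (↥(Subgroup.centralizer ({z} : Set G)) ⧸ Q)) (hna : ¬ IsMulCommutative (↥(Subgroup.centralizer ({z} : Set G)) ⧸ Q)) (hirr : ∀ W : Subgroup (Subgroup.centralizer ({z} : Set G)), W.Normal → W ≤ Q → (W = Q ∨ ∀ x ∈ W, (x : G) ∈ Subgroup.zpowers z)) (hwcl : Subgroup.closure {x : Subgroup.centralizer ({z} : Set G) | IsConj z (x : G)} ≠ Q) : IsSimpleGroup G := by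
  have hF' : (Cfsg.generalizedFittingSubgroup ↥(Subgroup.centralizer ({z} : Set G))).map (Subgroup.centralizer ({z} : Set G)).subtype = Q.map (Subgroup.centralizer ({z} : Set G)).subtype := by rw [hF]
  have e := Q.equivMapOfInjective (Subgroup.centralizer ({z} : Set G)).subtype (Subgroup.centralizer ({z} : Set G)).subtype_injective
  have hQ' : Cfsg.IsExtraspecial 2 ↥(Q.map (Subgroup.centralizer ({z} : Set G)).subtype) := isExtraspecial_of_equiv e hQ
  have hcard' : Nat.card ↥(Q.map (Subgroup.centralizer ({z} : Set G)).subtype) = 2 ^ (2 * w + 1) := by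
    rw [← hcard]; exact Nat.card_congr e.symm.toEquiv
  obtain ⟨hL2, hL3, hZ, hES, hzall⟩ := es_of_fstar z hz (Q.map (Subgroup.centralizer ({z} : Set G)).subtype) hF' hQ'
  obtain ⟨g, ⟨hq, hgQ⟩, hne⟩ := hnwc
  have hzZ : z ∈ ZZ (Q.map (Subgroup.centralizer ({z} : Set G)).subtype) := by
    show z ∈ (Subgroup.center ↥(Q.map (Subgroup.centralizer ({z} : Set G)).subtype)).map (Q.map (Subgroup.centralizer ({z} : Set G)).subtype).subtype
    rw [hZ]; exact Subgroup.mem_zpowers z
  have hlarge := large_of_conj (Q.map (Subgroup.centralizer ({z} : Set G)).subtype) hQ' hL2 hL3 w hw hcard' hES hzall hzZ g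
    ⟨_, hgQ, rfl⟩ hne
  refine isSimpleGroup_of_large hES hlarge.2.2.2 ?_
  intro N hN hzN
  -- the subgroup generated by the conjugates of `z` in `C`
  set W := Subgroup.closure {x : ↥(Subgroup.centralizer ({z} : Set G)) | IsConj z (x : G)} with hW
  have hWn : W.Normal := by
    refine ⟨fun n hn c => ?_⟩
    have h1 : W.map (MulAut.conj c).toMonoidHom ≤ W := by
      rw [hW, MonoidHom.map_closure, Subgroup.closure_le]
      rintro _ ⟨x, hx, rfl⟩
      apply Subgroup.subset_closure
      show IsConj z ((c * x * c⁻¹ : ↥(Subgroup.centralizer ({z} : Set G))) : G)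
      have hx' : IsConj z (x : G) := hx
      exact hx'.trans (isConj_iff.2 ⟨(c : G), rfl⟩)
    exact h1 ⟨n, hn, rfl⟩
  have hWN : W ≤ N.subgroupOf (Subgroup.centralizer ({z} : Set G)) := by
    rw [hW, Subgroup.closure_le]
    intro x hx
    obtain ⟨c, hc⟩ := isConj_iff.1 (show IsConj z (x : G) from hx)
    show (x : G) ∈ N
    rw [← hc]
    exact hN.conj_mem z hzN c
  have hQW : Q ≤ W := by
    have h1 : (W ⊓ Q).Normal := inferInstance
    rcases hirr (W ⊓ Q) h1 inf_le_right with h2 | h2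
    · rw [← h2]; exact inf_le_left
    · exfalso
      have h3 : (⟨g * z * g⁻¹, hq⟩ : ↥(Subgroup.centralizer ({z} : Set G))) ∈ W ⊓ Q :=
        Subgroup.mem_inf.2 ⟨Subgroup.subset_closure (isConj_iff.2 ⟨g, rfl⟩), hgQ⟩
      rcases mem_zpowers_of_orderOf_two hz (h2 _ h3) with h4 | h4
      · exact (hES.conj g).z1 h4
      · exact hne h4
  have hWtop : W = ⊤ := by
    have h1 : (W.map (QuotientGroup.mk' Q)).Normal := hWn.map _ (QuotientGroup.mk'_surjective Q)
    rcases hsimp.eq_bot_or_eq_top_of_normal _ h1 with h2 | h2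
    · exfalso
      apply hwcl
      apply le_antisymm _ hQW
      intro x hx
      have h3 : QuotientGroup.mk' Q x ∈ W.map (QuotientGroup.mk' Q) := ⟨x, hx, rfl⟩
      rw [h2, Subgroup.mem_bot, QuotientGroup.mk'_apply, QuotientGroup.eq_one_iff] at h3
      exact h3
    · rw [eq_top_iff]
      intro c _
      have h3 : QuotientGroup.mk' Q c ∈ W.map (QuotientGroup.mk' Q) := by rw [h2]; trivial
      obtain ⟨x, hx, hxc⟩ := h3
      rw [QuotientGroup.mk'_apply, QuotientGroup.mk'_apply, QuotientGroup.eq] at hxc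
      have : c = x * (x⁻¹ * c) := by group
      rw [this]
      exact W.mul_mem hx (hQW hxc)
  intro c hc
  have h1 : (⟨c, hc⟩ : ↥(Subgroup.centralizer ({z} : Set G))) ∈ W := by rw [hWtop]; trivial
  exact hWN h1

end Cfsg.Agent.S5436
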