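import Cfsg.Statements.S5427
-- import your own Cfsg.Agent.* helpers here
import Cfsg.Agent.Lib.Helper92.FStarES
import Cfsg.Agent.Lib.Helper92.CommClosure
import Cfsg.Agent.Lib.Helper1.Cores
import Cfsg.Agent.S5436

set_option autoImplicit false
open Cfsg

namespace Cfsg.Agent.S5427

open Cfsg.Agent.Lib.Helper92

theorem large_of_core {G : Type*} [Group G] [Finite G] {Q : Subgroup G} {z u : G}
    (h : ESData Q z) (huQ : u ∈ Q) (huu : u * u = 1) (hu1 : u ≠ 1) (huz : u ≠ z)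
    (hz' : z ∈ Subgroup.centralizer ({u} : Set G))
    (hcore : (⟨z, hz'⟩ : ↥(Subgroup.centralizer ({u} : Set G))) ∈
      Cfsg.pCore 2 ↥(Subgroup.centralizer ({u} : Set G))) :
    ∀ D : Subgroup G, Odd (Nat.card D) → Q ≤ Subgroup.normalizer (D : Set G) → D = ⊥ := by
  intro D hD hQD
  have hconj : ∀ a ∈ Q, ∀ d ∈ D, a * d * a⁻¹ ∈ D := fun a ha d hd =>
    conj_mem_of_le_normalizer hQD ha hd
  have hfz : ∀ d ∈ D, z * d * z⁻¹ = d → d = 1 := by
    intro d hd hzd
    have hdz : Commute d z := (commute_of_conj_eq hzd).symm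
    have hall : ∀ a ∈ Q, Commute a d := by
      intro a ha
      have h1 : a * d * a⁻¹ * d⁻¹ ∈ D := D.mul_mem (hconj a ha d hd) (D.inv_mem hd)
      have h2 : a * d * a⁻¹ * d⁻¹ ∈ Q := by
        have e : a * d * a⁻¹ * d⁻¹ = a * (d * a⁻¹ * d⁻¹) := by group
        rw [e]
        exact Q.mul_mem ha (h.norm d hdz _ (Q.inv_mem ha))
      have h3 := eq_one_of_mem_odd_of_mem_two_group hD h.two h1 h2
      apply commute_of_conj_eq
      calc a * d * a⁻¹ = (a * d * a⁻¹ * d⁻¹) * d := by group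
        _ = d := by rw [h3, one_mul]
    rcases h.cent d hall with h1 | h1
    · exact h1
    · exact eq_one_of_mem_odd_of_mem_two_group hD h.two hd (h1 ▸ h.zQ)
  have hfu : ∀ d ∈ D, u * d * u⁻¹ = d → d = 1 := by
    intro d hd hud
    have hdC : d ∈ Subgroup.centralizer ({u} : Set G) :=
      Subgroup.mem_centralizer_singleton_iff.2 (commute_of_conj_eq hud).symm.eq
    have hn := Cfsg.Agent.Lib.Helper1.pCore_normal 2 ↥(Subgroup.centralizer ({u} : Set G))
    have h1 : (⟨z, hz'⟩ : ↥(Subgroup.centralizer ({u} : Set G))) *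
        (⟨d, hdC⟩ * ⟨z, hz'⟩⁻¹ * ⟨d, hdC⟩⁻¹) ∈
        Cfsg.pCore 2 ↥(Subgroup.centralizer ({u} : Set G)) :=
      Subgroup.mul_mem _ hcore (hn.conj_mem _ (Subgroup.inv_mem _ hcore) _)
    have h2 : z * (d * z⁻¹ * d⁻¹) ∈ (Cfsg.pCore 2 ↥(Subgroup.centralizer ({u} : Set G))).map
        (Subgroup.centralizer ({u} : Set G)).subtype := ⟨_, h1, rfl⟩
    have h3 : z * (d * z⁻¹ * d⁻¹) ∈ D := by
      have e : z * (d * z⁻¹ * d⁻¹) = (z * d * z⁻¹) * d⁻¹ := by group
      rw [e]
      exact D.mul_mem (hconj z h.zQ d hd) (D.inv_mem hd)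
    have h4 := eq_one_of_mem_odd_of_mem_two_group hD
      ((Cfsg.Agent.Lib.Helper1.pCore_isPGroup 2 _).map _) h3 h2
    apply hfz d hd
    calc z * d * z⁻¹ = (z * (d * z⁻¹ * d⁻¹)) * d := by group
      _ = d := by rw [h4, one_mul]
  obtain ⟨q, hq, hqu⟩ := h.exists_q huQ hu1 huz
  have hfzu : ∀ d ∈ D, (z * u) * d * (z * u)⁻¹ = d → d = 1 := by
    intro d hd hzud
    have h1 : q⁻¹ * d * q ∈ D := by
      have := hconj q⁻¹ (Q.inv_mem hq) d hd
      rwa [inv_inv] at this
    have h2 : q⁻¹ * d * q = 1 := by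
      apply hfu _ h1
      calc u * (q⁻¹ * d * q) * u⁻¹ = q⁻¹ * ((q * u * q⁻¹) * d * (q * u * q⁻¹)⁻¹) * q := by group
        _ = q⁻¹ * d * q := by rw [hqu, hzud]
    calc d = q * (q⁻¹ * d * q) * q⁻¹ := by group
      _ = 1 := by rw [h2]; group
  have hfin : Finite D := finite_of_odd_card hD
  have iz := inverts_of_fixedPointFree h.zz (hconj z h.zQ) hfz
  have iu := inverts_of_fixedPointFree huu (hconj u huQ) hfu
  rw [Subgroup.eq_bot_iff_forall]
  intro d hd
  apply hfzu d hd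
  calc z * u * d * (z * u)⁻¹ = z * (u * d * u⁻¹) * z⁻¹ := by group
    _ = d := by rw [iu d hd, iz _ (D.inv_mem hd), inv_inv]

/-- Let z be an involution of the finite group G whose centralizer C has generalized Fitting subgroup Q, an extraspecial 2-group of width at least 2 (order 2^(2w+1), w ≥ 2). Let K be a subgroup of G such that the subgroup U generated by the K-conjugates of z is abelian and C is generated by the C-conjugates of U. Suppose that either some K-conjugate of z other than z lies in Q, or some element u of U ∩ Q outside the subgroup generated by z has z in the largest normal 2-subgroup of its centralizer. Then G is simple and Q is a large extraspecial 2-subgroup of G. -/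
theorem result {G : Type*} [Group G] [Finite G] (z : G) (hz : orderOf z = 2) (Q : Subgroup G) (hQC : Q ≤ Subgroup.centralizer ({z} : Set G)) (hF : (Cfsg.generalizedFittingSubgroup ↥(Subgroup.centralizer ({z} : Set G))).map (Subgroup.centralizer ({z} : Set G)).subtype = Q) (hQ : Cfsg.IsExtraspecial 2 ↥Q) (w : ℕ) (hw : 2 ≤ w) (hcard : Nat.card ↥Q = 2 ^ (2 * w + 1)) (K U : Subgroup G) (hU : U = Subgroup.closure {x : G | ∃ k ∈ K, x = k * z * k⁻¹}) (hUab : IsMulCommutative ↥U) (hgen : Subgroup.closure {x : G | ∃ c ∈ Subgroup.centralizer ({z} : Set G), ∃ u ∈ U, x = c * u * c⁻¹} = Subgroup.centralizer ({z} : Set G)) (h3 : (∃ k ∈ K, k * z * k⁻¹ ∈ Q ∧ k * z * k⁻¹ ≠ z) ∨ ∃ u ∈ U ⊓ Q, u ∉ Subgroup.zpowers z ∧ (∃ hz' : z ∈ Subgroup.centralizer ({u} : Set G), (⟨z, hz'⟩ : ↥(Subgroup.centralizer ({u} : Set G))) ∈ Cfsg.pCore 2 ↥(Subgroup.centralizer ({u} : Set G)))) : IsSimpleGroup G ∧ Cfsg.IsLargeExtraspecial Q := by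
  obtain ⟨hL2, hL3, hZ, hES, hzall⟩ := es_of_fstar z hz Q hF hQ
  have hzZ : z ∈ ZZ Q := by
    show z ∈ (Subgroup.center ↥Q).map Q.subtype
    rw [hZ]; exact Subgroup.mem_zpowers z
  have hlarge : Cfsg.IsLargeExtraspecial Q := by
    rcases h3 with ⟨k, -, hkQ, hkne⟩ | ⟨u, hu, huz, hz', hcore⟩
    · exact Cfsg.Agent.S5436.large_of_conj Q hQ hL2 hL3 w hw hcard hES hzall hzZ k hkQ hkne
    · refine ⟨hQ, hL2, hL3, ?_⟩
      rw [Subgroup.mem_inf] at hu
      have huu : u * u = 1 := by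
        have hu1 := hu.1
        rw [hU] at hu1
        have hc : ∀ x ∈ Subgroup.closure {x : G | ∃ k ∈ K, x = k * z * k⁻¹},
            ∀ y ∈ Subgroup.closure {x : G | ∃ k ∈ K, x = k * z * k⁻¹},
            x * y * x⁻¹ * y⁻¹ ∈ (⊥ : Subgroup G) := by
          rw [← hU]
          intro x hx y hy
          have h1 : (⟨x, hx⟩ : U) * ⟨y, hy⟩ = ⟨y, hy⟩ * ⟨x, hx⟩ := hUab.is_comm.comm _ _
          have h2 : x * y = y * x := congrArg Subtype.val h1
          rw [Subgroup.mem_bot, h2]; group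
        have := sq_mem_closure hc ?_ u hu1
        · exact Subgroup.mem_bot.1 this
        · rintro _ ⟨k, -, rfl⟩
          rw [Subgroup.mem_bot]
          calc k * z * k⁻¹ * (k * z * k⁻¹) = k * (z * z) * k⁻¹ := by group
            _ = 1 := by rw [hES.zz]; group
      refine large_of_core hES hu.2 huu ?_ ?_ hz' hcore
      · rintro rfl
        exact huz (one_mem _)
      · rintro rfl
        exact huz (Subgroup.mem_zpowers _)
  refine ⟨isSimpleGroup_of_large hES hlarge.2.2.2 ?_, hlarge⟩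
  intro N hN hzN
  have hUN : U ≤ N := by
    rw [hU, Subgroup.closure_le]
    rintro _ ⟨k, -, rfl⟩
    exact hN.conj_mem z hzN k
  rw [← hgen, Subgroup.closure_le]
  rintro _ ⟨c, -, u, hu, rfl⟩
  exact hN.conj_mem u (hUN hu) c

end Cfsg.Agent.S5427
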