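import Cfsg.Statements.S0730
-- import your own Cfsg.Agent.* helpers here
import Cfsg.Agent.Lib.Helper76.S3O.Main
import Cfsg.Agent.S0699

set_option autoImplicit false
open Cfsg

namespace Cfsg.Agent.S0730

/-- A sharply triply transitive group of degree `p^f + 1`, `p` an odd prime and `f` odd, is isomorphic to the projective general linear group of degree 2 over the field with `p^f` elements (for even `f` there is a second, twisted, group). -/
theorem result {α : Type*} [Fintype α] [DecidableEq α] {p f : ℕ} (hp : p.Prime) (hp2 : p ≠ 2) (hfo : Odd f) (hα : Fintype.card α = p ^ f + 1) (G : Subgroup (Equiv.Perm α)) (h3 : MulAction.IsMultiplyPretransitive G α 3) (hsharp : ∀ x : Fin 3 ↪ α, MulAction.stabilizer G x = ⊥) : ∃ (F : Type) (_ : Field F) (_ : Fintype F), Fintype.card F = p ^ f ∧ Nonempty (G ≃* Matrix.ProjGenLinGroup (Fin 2) F) := by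
  rw [Cfsg.Agent.S0699.three_iff] at h3
  have hs : Cfsg.Agent.Lib.Helper76.S3O.S3 G α := by
    intro g a b c hab hac hbc ha hb hc
    let x : Fin 3 ↪ α := ⟨![a, b, c], by
      intro i j hij
      fin_cases i <;> fin_cases j <;> simp_all⟩
    have : g ∈ MulAction.stabilizer G x := by
      rw [MulAction.mem_stabilizer_iff]
      ext i
      fin_cases i
      · exact ha
      · exact hb
      · exact hc
    rw [hsharp x] at this
    exact Subgroup.mem_bot.mp this
  exact Cfsg.Agent.Lib.Helper76.S3O.main h3 hs hp hp2 hfo (by rw [Nat.card_eq_fintype_card, hα])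

end Cfsg.Agent.S0730
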