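import Cfsg.Statements.S2472
import Cfsg.Agent.Lib.Helper99.PG.SP2
import Cfsg.Agent.Lib.Helper99.PG.SP3
import Cfsg.Agent.Lib.Helper65.UnipCent2
import Cfsg.Agent.S0246

set_option autoImplicit false
open Cfsg

namespace Cfsg.Agent.S2472

open Cfsg.Agent.Lib.Helper99.PG Cfsg.Agent.Lib.Helper48 Cfsg.Agent.Lib.Helper65.UnipCent
  Cfsg.Agent.Lib.Helper17 Module

theorem dvd_pow_sub_one_iff' {q r : ℕ} (hq : 1 ≤ q) (j : ℕ) :
    r ∣ q ^ j - 1 ↔ ((q : ℕ) : ZMod r) ^ j = 1 := by
  have h1 : 1 ≤ q ^ j := Nat.one_le_pow _ _ hq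
  rw [← ZMod.natCast_eq_zero_iff, Nat.cast_sub h1, Nat.cast_pow, Nat.cast_one, sub_eq_zero]

/-- commuting elements of orders `p` and `r` in `PSp` -/
theorem exists_dvd_PSp {F : Type*} [Field F] [Fintype F] (p : ℕ) [Fact p.Prime] [CharP F p]
    {r n : ℕ} (hr : r.Prime) (hr2 : r ≠ 2) (hrp : r ≠ p) (hn : 1 ≤ n) (a b : Cfsg.PSp n F)
    (ha : orderOf a = p) (hb : orderOf b = r) (hab : Commute a b) :
    ∃ i, 1 ≤ i ∧ i ≤ n - 1 ∧ r ∣ Fintype.card F ^ (2 * i) - 1 := by
  have : Fact r.Prime := ⟨hr⟩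
  have hp : p.Prime := Fact.out
  have hrq : ¬ r ∣ Fintype.card F := not_dvd_card_of_ne p hr hrp
  have hz := Cfsg.Agent.S0246.result (F := F) rfl n hn
  have hpq : ¬ p ∣ Fintype.card F - 1 := by
    obtain ⟨k, _, hk⟩ := FiniteField.card F p
    intro h
    have h2 : p ∣ Fintype.card F := by rw [hk]; exact dvd_pow_self p k.ne_zero
    have h3 : 1 ≤ Fintype.card F := Fintype.card_pos
    have h4 : p ∣ 1 := by
      have := (Nat.dvd_sub h2 h)
      rwa [Nat.sub_sub_self h3] at this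
    exact hp.one_lt.ne' (Nat.dvd_one.1 h4)
  have hcp : Nat.Coprime p (Nat.card (Subgroup.center (Matrix.symplecticGroup (Fin n) F))) :=
    (Nat.Prime.coprime_iff_not_dvd hp).2 fun h => hpq (by
      rw [hz] at h; exact h.trans (Nat.gcd_dvd_right _ _))
  have hcr : Nat.Coprime r (Nat.card (Subgroup.center (Matrix.symplecticGroup (Fin n) F))) :=
    (Nat.Prime.coprime_iff_not_dvd hr).2 fun h => hr2 (by
      rw [hz] at h
      exact (Nat.prime_dvd_prime_iff_eq hr Nat.prime_two).1 (h.trans (Nat.gcd_dvd_left _ _)))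
  obtain ⟨A, hA, hAa⟩ := exists_lift (G := Matrix.symplecticGroup (Fin n) F) a p
    (by rw [← ha]; exact pow_orderOf_eq_one a)
  obtain ⟨B, hB, hBb⟩ := exists_lift (G := Matrix.symplecticGroup (Fin n) F) b r
    (by rw [← hb]; exact pow_orderOf_eq_one b)
  have hA1 : A ≠ 1 := by
    rintro rfl
    have h2 : a ^ Nat.card (Subgroup.center (Matrix.symplecticGroup (Fin n) F)) = 1 := hAa.symm
    have h3 := orderOf_dvd_of_pow_eq_one h2
    rw [ha] at h3
    exact hp.one_lt.ne' (Nat.Coprime.eq_one_of_dvd hcp h3)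
  have hB1 : B ≠ 1 := by
    rintro rfl
    have h2 : b ^ Nat.card (Subgroup.center (Matrix.symplecticGroup (Fin n) F)) = 1 := hBb.symm
    have h3 := orderOf_dvd_of_pow_eq_one h2
    rw [hb] at h3
    exact hr.one_lt.ne' (Nat.Coprime.eq_one_of_dvd hcr h3)
  have hAB : A * B = B * A := by
    apply commute_of_commute_mk hcp A B hA
    rw [hAa, hBb]
    exact hab.pow_pow _ _
  set α : End F (Fin n ⊕ Fin n → F) :=
    Matrix.mulVecLin (A : Matrix (Fin n ⊕ Fin n) (Fin n ⊕ Fin n) F) with hα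
  set β : End F (Fin n ⊕ Fin n → F) :=
    Matrix.mulVecLin (B : Matrix (Fin n ⊕ Fin n) (Fin n ⊕ Fin n) F) with hβ
  have hαp : α ^ p = 1 := (sp_pow_iff A p).1.1 hA
  have hβr : β ^ r = 1 := (sp_pow_iff B r).1.1 hB
  have hα1 : α ≠ 1 := by
    intro h
    apply hA1
    have := (sp_pow_iff A 1).1.2 (by rw [pow_one]; exact h)
    simpa using this
  have hβ1 : β ≠ 1 := by
    intro h
    apply hB1
    have := (sp_pow_iff B 1).1.2 (by rw [pow_one]; exact h)
    simpa using this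
  have hne : Nonempty (Fin n) := ⟨⟨0, hn⟩⟩
  have : CharP (End F (Fin n ⊕ Fin n → F)) p :=
    charP_of_injective_algebraMap
      (FaithfulSMul.algebraMap_injective F (End F (Fin n ⊕ Fin n → F))) p
  have hαn : IsNilpotent (α - 1) := by
    refine ⟨p, ?_⟩
    rw [sub_pow_char_of_commute p (Commute.one_right α), hαp, one_pow, sub_self]
  have hc : Commute α β := by
    have h1 : α * β = Matrix.mulVecLin ((A * B : Matrix.symplecticGroup (Fin n) F) :
        Matrix (Fin n ⊕ Fin n) (Fin n ⊕ Fin n) F) := by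
      rw [hα, hβ]
      exact (Matrix.mulVecLin_mul _ _).symm
    have h2 : β * α = Matrix.mulVecLin ((B * A : Matrix.symplecticGroup (Fin n) F) :
        Matrix (Fin n ⊕ Fin n) (Fin n ⊕ Fin n) F) := by
      rw [hα, hβ]
      exact (Matrix.mulVecLin_mul _ _).symm
    change α * β = β * α
    rw [h1, h2, hAB]
  have hdim : finrank F (Fin n ⊕ Fin n → F) = 2 * n := by
    rw [Module.finrank_fintype_fun_eq_card]
    simp only [Fintype.card_sum, Fintype.card_fin]
    omega
  exact sp_adj (sympB n F) (sympB_isAlt n) (sympB_nondegenerate (F := F) n).1 hdim hr2 hrq α β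
    (isoB_mulVecLin A) (isoB_mulVecLin B) hαn hα1 hβr hβ1 hc

/-- Adjacency of a prime and the characteristic in the prime graph of PSp(2n,q): let F be a finite field of characteristic p with q elements, n ≥ 2 with PSp(2n,F) simple, and let r ≠ p be an odd prime dividing the order of PSp(2n,F), with k the multiplicative order of q modulo r and η(k) = k for odd k, k/2 for even k. Then PSp(2n,F) has NO element of order r·p if and only if η(k) > n − 1. -/
theorem result {F : Type*} [Field F] [Fintype F] (p : ℕ) [Fact p.Prime] [CharP F p] (n : ℕ) (hn : 2 ≤ n) (hsmall : n = 2 → 3 ≤ Fintype.card F)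
    (r : ℕ) (hr : r.Prime) (hr2 : r ≠ 2) (hrp : r ≠ p) (hrG : r ∣ Nat.card (Cfsg.PSp n F))
    (k ηk : ℕ) (hk : k = orderOf ((Fintype.card F : ℕ) : ZMod r)) (hηk : (Odd k ∧ ηk = k) ∨ (Even k ∧ 2 * ηk = k)) :
    (r * p ∉ Set.range (orderOf : Cfsg.PSp n F → ℕ)) ↔ n - 1 < ηk := by
  have hp : p.Prime := Fact.out
  have : Fact r.Prime := ⟨hr⟩
  have hq1 : 1 ≤ Fintype.card F := Fintype.card_pos
  have hrq : ¬ r ∣ Fintype.card F := not_dvd_card_of_ne p hr hrp
  have hkpos : 0 < k := by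
    rw [hk, orderOf_pos_iff]
    have hu : IsUnit ((Fintype.card F : ℕ) : ZMod r) := by
      rw [isUnit_iff_ne_zero, Ne, ZMod.natCast_eq_zero_iff]
      exact hrq
    exact hu.isOfFinOrder
  constructor
  · intro hno
    by_contra hcon
    push Not at hcon
    apply hno
    have hη1 : 1 ≤ ηk := by
      rcases hηk with ⟨_, h⟩ | ⟨_, h⟩ <;> omega
    have hkd : k ∣ 2 * ηk := by
      rcases hηk with ⟨_, h⟩ | ⟨_, h⟩
      · rw [h]; exact Dvd.intro_left _ rfl
      · rw [h]
    have hdvd : r ∣ Fintype.card F ^ (2 * ηk) - 1 := by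
      rw [dvd_pow_sub_one_iff' hq1]
      exact orderOf_dvd_iff_pow_eq_one.1 (hk ▸ hkd)
    exact exists_PSp_orderOf_mul p hr hr2 hrp hη1 hcon hdvd
  · intro hlt
    rintro ⟨y, hy⟩
    have ha : orderOf (y ^ r) = p := by
      rw [orderOf_pow_of_dvd hr.ne_zero (by rw [hy]; exact Dvd.intro _ rfl), hy]
      exact Nat.mul_div_cancel_left _ hr.pos
    have hb : orderOf (y ^ p) = r := by
      rw [orderOf_pow_of_dvd hp.ne_zero (by rw [hy]; exact Dvd.intro_left _ rfl), hy]
      exact Nat.mul_div_cancel _ hp.pos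
    obtain ⟨i, hi1, hin, hi⟩ := exists_dvd_PSp p hr hr2 hrp (by omega) (y ^ r) (y ^ p) ha hb
      ((Commute.refl y).pow_pow r p)
    have hki : k ∣ 2 * i := by
      rw [hk]
      exact orderOf_dvd_of_pow_eq_one ((dvd_pow_sub_one_iff' hq1 _).1 hi)
    have hle : ηk ≤ i := by
      rcases hηk with ⟨ho, h⟩ | ⟨_, h⟩
      · rw [h]
        have hc2 : Nat.Coprime k 2 := Nat.Coprime.symm (Nat.coprime_two_left.2 ho)
        exact Nat.le_of_dvd hi1 (hc2.dvd_of_dvd_mul_left hki)
      · rw [← h] at hki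
        exact Nat.le_of_dvd hi1 (Nat.dvd_of_mul_dvd_mul_left (by norm_num) hki)
    omega

end Cfsg.Agent.S2472
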