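import Cfsg.Statements.S0618
import Cfsg.Agent.Lib.Helper55.ModelJ
import Cfsg.Agent.S0601
import Cfsg.Agent.Lib.Helper55.FF11

set_option autoImplicit false
open Cfsg

namespace Cfsg.Agent.S0618

/-- A p-separable group with trivial p'-core in which the Thompson factorization fails has p = 2 or 3, and J(G) induces on the normal closure of Ω₁(Z(S)) a group containing a normal SL(2, p). -/
theorem result {G : Type*} [Group G] [Finite G] {p : ℕ} [Fact p.Prime] (hsep : Cfsg.IsPSolvable p G) (hO : Cfsg.pPrimeCore p G = ⊥) (hnf : ¬ Cfsg.IsThompsonFactorizable p G) : (p = 2 ∨ p = 3) ∧ ∃ E : Subgroup G, Subgroup.centralizer ((⨆ S : Sylow p G, Cfsg.omegaOne p ((S : Subgroup G) ⊓ Subgroup.centralizer ((S : Subgroup G) : Set G))) : Set G) ≤ E ∧ E ≤ Cfsg.thompsonSubgroup p G ⊔ Subgroup.centralizer ((⨆ S : Sylow p G, Cfsg.omegaOne p ((S : Subgroup G) ⊓ Subgroup.centralizer ((S : Subgroup G) : Set G))) : Set G) ∧ Cfsg.thompsonSubgroup p G ⊔ Subgroup.centralizer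 ((⨆ S : Sylow p G, Cfsg.omegaOne p ((S : Subgroup G) ⊓ Subgroup.centralizer ((S : Subgroup G) : Set G))) : Set G) ≤ Subgroup.normalizer (E : Set G) ∧ ∃ hn : ((Subgroup.centralizer ((⨆ S : Sylow p G, Cfsg.omegaOne p ((S : Subgroup G) ⊓ Subgroup.centralizer ((S : Subgroup G) : Set G))) : Set G)).subgroupOf E).Normal, Nonempty ((↥E ⧸ (Subgroup.centralizer ((⨆ S : Sylow p G, Cfsg.omegaOne p ((S : Subgroup G) ⊓ Subgroup.centralizer ((S : Subgroup G) : Set G))) : Set G)).subgroupOf E) ≃* Matrix.SpecialLinearGroup (Fin 2) (ZMod p)) := by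
  classical
  open Cfsg.Agent.Lib.Helper55 in
  rw [centralizer_iSup_coe]
  have hc := Cfsg.Agent.Lib.Helper80.centralizer_pCore_le hsep hO
  obtain ⟨hVn, hV, hD⟩ := Cfsg.Agent.S0601.result hc
  have hJ : ¬ Cfsg.thompsonSubgroup p G ≤ Subgroup.centralizer ((VG G p : Subgroup G) : Set G) := by
    intro h
    apply hnf
    intro S g
    obtain ⟨c, hc, n, hn, hg⟩ := factorization_of_le p h S g
    exact ⟨1, one_mem _, c, hc, n, hn, by rw [one_mul]; exact hg⟩
  have F := ffs_model (VG G p) hsep hV hD (Cfsg.thompsonSubgroup p G)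
  have hS3 := hS3_model (VG G p) hV
  have hH1 : (Cfsg.thompsonSubgroup p G).map (rho (VG G p)) ≠ ⊥ := by
    intro h
    apply hJ
    rw [← ker_rho]
    intro x hx
    have : rho (VG G p) x ∈ (Cfsg.thompsonSubgroup p G).map (rho (VG G p)) := ⟨x, hx, rfl⟩
    rw [h] at this
    exact this
  obtain ⟨A, hA⟩ := F.exists_minOff hS3 hH1
  set K' := (Cfsg.pPrimeCore p ↥((Cfsg.thompsonSubgroup p G).map (rho (VG G p)))).map
    ((Cfsg.thompsonSubgroup p G).map (rho (VG G p))).subtype with hK'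
  refine ⟨FFS.MinOff.prime_le_three F hA, (EE K' A).comap (rho (VG G p)), ?_, ?_, ?_, ?_⟩
  · show Subgroup.centralizer ((VG G p : Subgroup G) : Set G) ≤ _
    rw [← ker_rho]
    exact Subgroup.ker_le_comap _ _
  · exact comap_le_sup (VG G p) (FFS.MinOff.E_le_H F hA)
  · exact sup_le_normalizer_comap (VG G p) (FFS.MinOff.H_le_NE hS3 F hA)
  · have hn : ((Subgroup.centralizer ((VG G p : Subgroup G) : Set G)).subgroupOf
        ((EE K' A).comap (rho (VG G p)))).Normal := inferInstance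
    refine ⟨hn, ?_⟩
    obtain ⟨e⟩ := nonempty_quotient_equiv (VG G p)
      ((FFS.MinOff.E_le_H F hA).trans (Subgroup.map_le_range _ _)) hn
    obtain ⟨φ, -, -⟩ := FFS.MinOff.natSL2 F hA
    exact ⟨e.trans φ⟩

end Cfsg.Agent.S0618
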