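import Cfsg.Statements.S0109
import Cfsg.Agent.S0618
import Cfsg.Agent.Lib.Helper31.PSolv
import Cfsg.Agent.Lib.Helper14.QuadAbstract

set_option autoImplicit false
open Cfsg

namespace Cfsg.Agent.S0109

/-- The Thompson factorization Theorem for solvable groups states that, with p odd (and abelian Sylow 2-subgroups when p = 3) and no nontrivial normal subgroup of order prime to p, every element of G is a product of an element normalizing J(P) and an element centralizing the elements of order dividing p in the centre of P. -/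
theorem result {G : Type*} [Group G] [Finite G] {p : ℕ} [Fact p.Prime] (hp : p ≠ 2) (hs : Group.IsSolvable G) (h3 : p = 3 → ∀ T : Sylow 2 G, IsMulCommutative T) (hF : ∀ N : Subgroup G, N.Normal → Nat.Coprime (Nat.card N) p → N = ⊥) (P : Sylow p G) (g : G) : ∃ a ∈ Subgroup.normalizer (Cfsg.thompsonSubgroupOf p (P : Subgroup G) : Set G), ∃ c ∈ Subgroup.centralizer {x : G | x ∈ (P : Subgroup G) ∧ (∀ y ∈ (P : Subgroup G), x * y = y * x) ∧ x ^ p = 1}, g = a * c := by
  classical
  have hsep : Cfsg.IsPSolvable p G := Cfsg.Agent.Lib.Helper31.isPSolvable_of_isSolvable p G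
  have hO : Cfsg.pPrimeCore p G = ⊥ := by
    unfold Cfsg.pPrimeCore
    rw [sSup_eq_bot]
    rintro N ⟨h1, h2⟩
    exact hF N h1 h2
  have hfac : Cfsg.IsThompsonFactorizable p G := by
    by_contra hnf
    obtain ⟨h23, E, -, -, -, hn, e⟩ := Cfsg.Agent.S0618.result hsep hO hnf
    have hp3 : p = 3 := h23.resolve_left hp
    exact Cfsg.Agent.Lib.Helper14.not_involves_SL2_of_abelian_sylow_two hp (h3 hp3) ⟨E, _, hn, e⟩
  obtain ⟨x, hx, c, hc, n, hn, hg⟩ := hfac P g⁻¹
  rw [hO, Subgroup.mem_bot] at hx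
  refine ⟨n⁻¹, inv_mem hn, c⁻¹, ?_, ?_⟩
  · apply inv_mem
    refine Subgroup.centralizer_le ?_ hc
    rintro y ⟨h1, h2, h3⟩
    apply Subgroup.subset_closure
    refine ⟨⟨h1, ?_⟩, h3⟩
    show y ∈ Subgroup.centralizer ((P : Subgroup G) : Set G)
    rw [Subgroup.mem_centralizer_iff]
    intro z hz
    exact (h2 z hz).symm
  · rw [hx, one_mul] at hg
    calc g = (g⁻¹)⁻¹ := by group
      _ = _ := by rw [hg]; group

end Cfsg.Agent.S0109
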