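import Cfsg.Statements.S0157
import Cfsg.Agent.Lib.Helper4.PermChar2

set_option autoImplicit false
open Cfsg

namespace Cfsg.Agent.S0157

/-- For a transitive action of a finite group on a finite set with at least two points: the action is 2-transitive if and only if the function sending g to (number of fixed points of g) − 1 is an irreducible character. -/
theorem result {G : Type*} [Group G] [Finite G] (X : Type*) [MulAction G X] [Finite X] [MulAction.IsPretransitive G X] (hX : 2 ≤ Nat.card X) : Cfsg.IsIrrCharacter G (fun g => (Nat.card (MulAction.fixedBy X g) : ℂ) - 1) ↔ MulAction.IsMultiplyPretransitive G X 2 := by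
  classical
  have := Fintype.ofFinite G
  have hXne : Nonempty X := by
    by_contra h
    rw [not_nonempty_iff] at h
    rw [Nat.card_of_isEmpty] at hX
    omega
  have hYne : Nonempty (Fin 2 ↪ X) := by
    have := Fintype.ofFinite X
    rw [Function.Embedding.nonempty_iff_card_le, Fintype.card_fin, ← Nat.card_eq_fintype_card]
    exact hX
  set π : G → ℂ := fun g => (Nat.card (MulAction.fixedBy X g) : ℂ) with hπ
  have hne : (Nat.card G : ℂ) ≠ 0 := Cfsg.Agent.Lib.Helper4.card_ne_zero'
  have hπc : Cfsg.IsCharacter G π := Cfsg.Agent.Lib.Helper4.isCharacter_fixedBy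
  have hsum1 : ∑ g : G, π g = (Nat.card G : ℂ) := by
    have h1 := Cfsg.Agent.Lib.Helper4.sum_card_fixedBy (G := G) (X := X)
    rw [Cfsg.Agent.Lib.Helper4.card_orbits_eq_one_iff.mpr inferInstance, Nat.cast_one,
      one_mul] at h1
    exact h1
  have hsum2 : ∑ g : G, (π g ^ 2 - π g) =
      (Nat.card (MulAction.orbitRel.Quotient G (Fin 2 ↪ X)) : ℂ) * (Nat.card G : ℂ) := by
    rw [← Cfsg.Agent.Lib.Helper4.sum_card_fixedBy (G := G) (X := Fin 2 ↪ X)]
    refine Finset.sum_congr rfl fun g _ => ?_
    rw [Cfsg.Agent.Lib.Helper4.card_fixedBy_embedding]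
  have hin1 : Cfsg.classInner π (fun _ => 1) = 1 := by
    rw [Cfsg.classInner]
    simp only [map_one, mul_one]
    rw [hsum1, inv_mul_cancel₀ hne]
  have hchar : Cfsg.IsCharacter G (fun g => π g - 1) := by
    have := Cfsg.Agent.Lib.Helper4.isCharacter_sub_irr hπc
      Cfsg.Agent.Lib.Helper4.isIrrCharacter_one (by rw [hin1]; exact one_ne_zero)
    exact this
  have hnorm : Cfsg.classInner (fun g => π g - 1) (fun g => π g - 1) =
      (Nat.card (MulAction.orbitRel.Quotient G (Fin 2 ↪ X)) : ℂ) := by
    rw [Cfsg.classInner]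
    have h1 : ∀ g : G, (π g - 1) * (starRingEnd ℂ) (π g - 1) = (π g ^ 2 - π g) - π g + 1 := by
      intro g
      simp only [hπ, map_sub, map_natCast, map_one]
      ring
    simp only [h1]
    rw [Finset.sum_add_distrib, Finset.sum_sub_distrib, hsum1, hsum2]
    simp only [Finset.sum_const, Finset.card_univ, nsmul_eq_mul, mul_one]
    rw [← Nat.card_eq_fintype_card]
    field_simp
    ring
  show Cfsg.IsIrrCharacter G (fun g => π g - 1) ↔ MulAction.IsPretransitive G (Fin 2 ↪ X)
  rw [← Cfsg.Agent.Lib.Helper4.card_orbits_eq_one_iff]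
  constructor
  · intro h
    have h1 := Cfsg.Agent.Lib.Helper4.classInner_irr_self h
    rw [hnorm] at h1
    exact_mod_cast h1
  · intro h
    apply Cfsg.Agent.Lib.Helper4.isIrrCharacter_of_classInner_self_eq_one hchar
    rw [hnorm, h, Nat.cast_one]

end Cfsg.Agent.S0157
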