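import Cfsg.Statements.S0187
import Cfsg.Agent.S0133
import Cfsg.Agent.S0134
import Cfsg.Agent.Lib.Helper20.CharOrth

set_option autoImplicit false
open Cfsg

namespace Cfsg.Agent.S0187

/-- A finite group is commutative if and only if every irreducible complex character has degree 1. -/
theorem result {G : Type*} [Group G] [Finite G] : (∀ a b : G, a * b = b * a) ↔ ∀ χ : Cfsg.IrrCharacter G, (χ : G → ℂ) 1 = 1 := by
  constructor
  · intro hcomm χ
    obtain ⟨χ, n, ρ, hρ, rfl⟩ := χ
    have : IsMulCommutative G := ⟨⟨hcomm⟩⟩
    have h1 := Representation.IsIrreducible.finrank_eq_one_of_isMulCommutative ρ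
    simp only [Representation.char_one]
    rw [h1]
    simp
  · intro h a b
    have := Cfsg.Agent.Lib.Helper20.finite_irrCharacter (G := G)
    have := Fintype.ofFinite (Cfsg.IrrCharacter G)
    have h1 := Cfsg.Agent.S0134.result (G := G)
    rw [finsum_eq_sum_of_fintype] at h1
    simp_rw [h] at h1
    simp only [one_pow, Finset.sum_const, Finset.card_univ, nsmul_eq_mul, mul_one] at h1
    have h2 : Fintype.card (Cfsg.IrrCharacter G) = Nat.card G := by exact_mod_cast h1
    rw [← Nat.card_eq_fintype_card, Cfsg.Agent.S0133.result] at h2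
    have hsurj : Function.Surjective (ConjClasses.mk : G → ConjClasses G) := ConjClasses.mk_surjective
    have hbij : Function.Bijective (ConjClasses.mk : G → ConjClasses G) := by
      have := Fintype.ofFinite G
      have := Fintype.ofFinite (ConjClasses G)
      rw [Fintype.bijective_iff_surjective_and_card]
      refine ⟨hsurj, ?_⟩
      rw [← Nat.card_eq_fintype_card, ← Nat.card_eq_fintype_card, h2]
    have h3 : ConjClasses.mk (a * b * a⁻¹) = ConjClasses.mk b :=
      (ConjClasses.mk_eq_mk_iff_isConj.mpr (isConj_iff.mpr ⟨a, rfl⟩)).symm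
    have h4 := hbij.1 h3
    exact mul_inv_eq_iff_eq_mul.mp h4

end Cfsg.Agent.S0187
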