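import Cfsg.Statements.S0169
import Cfsg.Agent.S0138
import Cfsg.Agent.S0187
import Cfsg.Agent.S0854
import Cfsg.Agent.Lib.Helper5.Inertia
import Cfsg.Agent.Lib.Helper5.ScalarIndex

set_option autoImplicit false
open Cfsg

namespace Cfsg.Agent.S0169

open Cfsg.Agent.Lib.Helper5 Cfsg.Agent.Lib.Helper20

/-- Itô's Theorem on character degrees: the degree of an irreducible complex representation of a finite group divides the index of any abelian normal subgroup. -/
theorem result {G : Type*} [Group G] [Finite G] {V : Type*} [AddCommGroup V] [Module ℂ V] [FiniteDimensional ℂ V] (ρ : Representation ℂ G V) [ρ.IsIrreducible] (H : Subgroup G) [H.Normal] (hH : ∀ a ∈ H, ∀ b ∈ H, a * b = b * a) : Module.finrank ℂ V ∣ H.index := by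
  classical
  have := Fintype.ofFinite G
  have := Fintype.ofFinite H
  have hN : H.Normal := inferInstance
  have hρ : ρ.IsIrreducible := inferInstance
  have hχ : Cfsg.IsIrrCharacter G ρ.character := isIrrCharacter_of_rep ρ hρ
  have hχc := isCharacter_of_isIrrCharacter hχ
  have h1 : (fun x : H => ρ.character x) 1 ≠ 0 := by
    simp only [Subgroup.coe_one, Representation.char_one]
    exact_mod_cast finrank_ne_zero_of_irr ρ hρ
  obtain ⟨lam, hlam, hne⟩ := exists_constituent (isCharacter_restrict hχc H) h1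
  have hlamc := isCharacter_of_isIrrCharacter hlam
  have hlam1 : lam 1 = 1 :=
    (Cfsg.Agent.S0187.result (G := H)).mp (fun a b => Subtype.ext (hH a a.2 b b.2)) ⟨lam, hlam⟩
  obtain ⟨T, hTdef⟩ : ∃ T, T = inertia hN lam := ⟨_, rfl⟩
  have hT : ∀ g : G, g ∈ T ↔ ∀ n : H, lam ⟨g * n * g⁻¹, hN.conj_mem (n : G) n.2 g⟩ = lam n := by
    intro g
    rw [hTdef]
    exact mem_inertia' hN lam g
  have hHT : H ≤ T := hTdef ▸ le_inertia hN (isClassFunction_of_isCharacter hlamc)
  have := Fintype.ofFinite T
  obtain ⟨ψ, hψ, hind, hinner⟩ := Cfsg.Agent.S0854.result H lam hlam T hT hHT ρ.character hχ hne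
  have := Fintype.ofFinite (H.subgroupOf T)
  have hN' : (H.subgroupOf T).Normal := hN.subgroupOf T
  let e : H.subgroupOf T ≃* H := Subgroup.subgroupOfEquivOfLe hHT
  have hlam' : Cfsg.IsIrrCharacter (H.subgroupOf T) (lam ∘ e) := isIrrCharacter_comp_equiv e hlam
  have hres : (fun n : H.subgroupOf T => ψ n) = (fun n : H => ψ ⟨(n : G), hHT n.2⟩) ∘ e := by
    funext n
    rfl
  have hconst' : Cfsg.classInner (fun n : H.subgroupOf T => ψ n) (lam ∘ e) ≠ 0 := by
    rw [hres, classInner_comp_equiv, hinner]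
    exact hne
  have hinv : ∀ g : T, cjF hN' (lam ∘ e) g = lam ∘ e := by
    intro g
    funext n
    exact (hT g).mp g.2 (e n)
  have hcl := clifford_invariant hN' hψ hlam' hconst' hinv
  obtain ⟨c, hc⟩ : ∃ c : ℂ, (fun n : H.subgroupOf T => ψ n) = c • (lam ∘ e) := ⟨_, hcl⟩
  obtain ⟨m, σ, hσ, rfl⟩ := hψ
  have hc1 : c = (Module.finrank ℂ (Fin m → ℂ) : ℂ) := by
    have h2 := congrFun hc 1
    simp only [Pi.smul_apply, Function.comp_apply, map_one, hlam1, smul_eq_mul, mul_one,
      Subgroup.coe_one, Representation.char_one] at h2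
    exact h2.symm
  have hscal : ∀ a ∈ H.subgroupOf T, ∃ ω : ℂ, σ a = ω • LinearMap.id := by
    intro a ha
    rw [← Cfsg.Agent.S0138.result σ a]
    have h2 := congrFun hc ⟨a, ha⟩
    simp only [Pi.smul_apply, Function.comp_apply, smul_eq_mul] at h2
    rw [h2, norm_mul, norm_linear_eq_one hlamc hlam1, mul_one, hc1]
    simp
  have hdvd := finrank_dvd_index_of_scalar σ hσ (H.subgroupOf T) hscal
  have hdeg : Module.finrank ℂ V = T.index * Module.finrank ℂ (Fin m → ℂ) := by
    have h2 := congrFun hind 1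
    rw [indFun_one, Representation.char_one, Representation.char_one] at h2
    exact_mod_cast h2.symm
  rw [hdeg, ← Subgroup.relIndex_mul_index hHT, mul_comm]
  exact Nat.mul_dvd_mul_right hdvd _

end Cfsg.Agent.S0169
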