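import Cfsg.Statements.S0214
import Cfsg.Agent.Lib.Helper5.Conj

set_option autoImplicit false
open Cfsg

namespace Cfsg.Agent.S0214

open Cfsg.Agent.Lib.Helper5

theorem dvd_card_of_ne_bot {G : Type*} [Group G] {p : ℕ} [Fact p.Prime] {U : Subgroup G} [Finite U]
    (hU : IsPGroup p U) (hne : U ≠ ⊥) : p ∣ Nat.card U := by
  obtain ⟨n, hn⟩ := IsPGroup.iff_card.mp hU
  cases n with
  | zero =>
    exfalso
    apply hne
    rw [pow_zero] at hn
    exact Subgroup.card_eq_one.mp hn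
  | succ n =>
    rw [hn]
    exact dvd_pow_self p (Nat.succ_ne_zero n)

theorem main_claim {G : Type*} [Group G] [Finite G] (H P' : Subgroup G) (hP'pg : IsPGroup 2 P')
    (hP'H : P' ≤ H)
    (hsyl : ∀ U : Subgroup G, IsPGroup 2 U → U ≤ H → ∃ h ∈ H, cj h U ≤ P')
    (F2 : ∀ U : Subgroup G, U ≤ P' → U ≠ ⊥ → Subgroup.normalizer (U : Set G) ≤ H) :
    ∀ (n : ℕ) (U : Subgroup G) (g : G), Nat.card P' - Nat.card U = n → IsPGroup 2 U → U ≠ ⊥ →
      U ≤ H → cj g U ≤ H → g ∈ H := by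
  intro n
  induction n using Nat.strong_induction_on with
  | _ n ih =>
    intro U g hn hU hne hUH hgU
    obtain ⟨h, hh, hhU⟩ := hsyl U hU hUH
    obtain ⟨h', hh', hhU'⟩ := hsyl (cj g U) (isPGroup_cj hU g) hgU
    obtain ⟨U₁, hU₁⟩ : ∃ U₁, U₁ = cj h U := ⟨_, rfl⟩
    obtain ⟨g₁, hg₁⟩ : ∃ g₁, g₁ = h' * g * h⁻¹ := ⟨_, rfl⟩
    obtain ⟨V, hV⟩ : ∃ V, V = cj g₁ U₁ := ⟨_, rfl⟩
    have hVeq : V = cj h' (cj g U) := by
      rw [hV, hU₁, hg₁, cj_cj, cj_cj]
      congr 1
      group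
    have hVP : V ≤ P' := hVeq ▸ hhU'
    have hU₁P : U₁ ≤ P' := hU₁ ▸ hhU
    have hU₁ne : U₁ ≠ ⊥ := by
      rw [hU₁, Ne, cj_eq_bot_iff]
      exact hne
    have hcU₁ : Nat.card U₁ = Nat.card U := by rw [hU₁, card_cj]
    have hcV : Nat.card V = Nat.card U := by rw [hV, card_cj, hcU₁]
    suffices hs : g₁ ∈ H by
      have : g = h'⁻¹ * g₁ * h := by rw [hg₁]; group
      rw [this]
      exact mul_mem (mul_mem (inv_mem hh') hs) hh
    by_cases hVP' : V = P'
    · have h1 : U₁ = P' := Subgroup.eq_of_le_of_card_ge hU₁P (by rw [hcU₁, ← hcV, hVP'])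
      apply F2 P' le_rfl (h1 ▸ hU₁ne)
      rw [mem_normalizer_iff_cj]
      rw [hV, h1] at hVP'
      exact hVP'
    · have hlt : V < P' := lt_of_le_of_ne hVP hVP'
      obtain ⟨x, hxP, hxV, hxN⟩ := exists_normalizing_not_mem hP'pg hlt
      obtain ⟨NV, hNV⟩ : ∃ NV, NV = P' ⊓ Subgroup.normalizer (V : Set G) := ⟨_, rfl⟩
      have hVNV : V < NV := by
        rw [hNV]
        apply lt_of_le_of_ne (le_inf hVP Subgroup.le_normalizer)
        intro e
        apply hxV
        rw [e]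
        exact ⟨hxP, hxN⟩
      have hNVP : NV ≤ P' := hNV ▸ inf_le_left
      have hU₁V : U₁ = cj g₁⁻¹ V := by rw [hV, cj_inv_cj]
      have hW1 : IsPGroup 2 (cj g₁⁻¹ NV) := isPGroup_cj (hP'pg.to_le hNVP) _
      have hW2 : U₁ ≤ cj g₁⁻¹ NV := by
        rw [hU₁V]
        exact cj_mono hVNV.le
      have hW3 : cj g₁⁻¹ NV ≠ ⊥ := by
        intro e
        rw [e] at hW2
        exact hU₁ne (le_bot_iff.mp hW2)
      have hW4 : cj g₁⁻¹ NV ≤ H := by
        refine le_trans ?_ (F2 U₁ hU₁P hU₁ne)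
        rw [hU₁V, normalizer_cj]
        apply cj_mono
        rw [hNV]
        exact inf_le_right
      have hW5 : cj g₁ (cj g₁⁻¹ NV) ≤ H := by
        rw [cj_cj_inv]
        exact hNVP.trans hP'H
      have hc1 : Nat.card V < Nat.card NV := by
        by_contra hcc
        exact hVNV.ne (Subgroup.eq_of_le_of_card_ge hVNV.le (not_lt.mp hcc))
      have hc2 : Nat.card NV ≤ Nat.card P' := Subgroup.card_le_of_le hNVP
      have hc3 : Nat.card (cj g₁⁻¹ NV) = Nat.card NV := card_cj _ _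
      exact ih (Nat.card P' - Nat.card (cj g₁⁻¹ NV)) (by omega) _ g₁ rfl hW1 hW3 hW4 hW5

/-- Let H be a proper subgroup of the finite group G and P a nontrivial Sylow 2-subgroup of H. Then H is strongly embedded in G if and only if N_G(X) ≤ H for every nontrivial subgroup X of P. -/
theorem result {G : Type*} [Group G] [Finite G] (H : Subgroup G) (hH : H ≠ ⊤) (P : Sylow 2 ↥H) (hP : (P : Subgroup ↥H) ≠ ⊥) : Cfsg.IsStronglyEmbedded H ↔ (∀ X : Subgroup ↥H, X ≤ (P : Subgroup ↥H) → X ≠ ⊥ → Subgroup.normalizer ((X.map H.subtype : Subgroup G) : Set G) ≤ H) := by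
  obtain ⟨P', hP'⟩ : ∃ P' : Subgroup G, P' = (P : Subgroup H).map H.subtype := ⟨_, rfl⟩
  have hP'pg : IsPGroup 2 P' := hP' ▸ P.isPGroup'.map _
  have hP'H : P' ≤ H := hP' ▸ Subgroup.map_subtype_le _
  have hP'ne : P' ≠ ⊥ := by
    rw [hP', Ne, Subgroup.map_eq_bot_iff_of_injective _ H.subtype_injective]
    exact hP
  constructor
  · rintro ⟨_, _, hse⟩ X hXP hX g hg
    by_contra hgH
    have hodd := hse g hgH
    have hX'H : X.map H.subtype ≤ H := Subgroup.map_subtype_le _
    have hX'g : X.map H.subtype ≤ cj g H := by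
      have : cj g (X.map H.subtype) = X.map H.subtype := mem_normalizer_iff_cj.mp hg
      rw [← this]
      exact cj_mono hX'H
    have hle : X.map H.subtype ≤ H ⊓ cj g H := le_inf hX'H hX'g
    have hdvd : Nat.card (X.map H.subtype) ∣ Nat.card ↥(H ⊓ cj g H) := Subgroup.card_dvd_of_le hle
    have hX'pg : IsPGroup 2 (X.map H.subtype) := (P.isPGroup'.to_le hXP).map _
    have hX'ne : X.map H.subtype ≠ ⊥ := by
      rw [Ne, Subgroup.map_eq_bot_iff_of_injective _ H.subtype_injective]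
      exact hX
    have h2 : 2 ∣ Nat.card (X.map H.subtype) := dvd_card_of_ne_bot hX'pg hX'ne
    exact (Nat.not_even_iff_odd.mpr hodd) (even_iff_two_dvd.mpr (h2.trans hdvd))
  · intro hN
    have F2 : ∀ U : Subgroup G, U ≤ P' → U ≠ ⊥ → Subgroup.normalizer (U : Set G) ≤ H := by
      intro U hUP hU
      have hUH : U ≤ H := hUP.trans hP'H
      have e : (U.subgroupOf H).map H.subtype = U := Subgroup.map_subgroupOf_eq_of_le hUH
      have := hN (U.subgroupOf H) ?_ ?_
      · rwa [e] at this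
      · intro x hx
        have hx' : (x : G) ∈ P' := hUP (Subgroup.mem_subgroupOf.mp hx)
        rw [hP'] at hx'
        obtain ⟨y, hy, hyx⟩ := hx'
        have : y = x := Subtype.ext hyx
        rwa [← this]
      · intro e2
        rw [e2] at e
        apply hU
        rw [← e]
        simp
    have hsyl : ∀ U : Subgroup G, IsPGroup 2 U → U ≤ H → ∃ h ∈ H, cj h U ≤ P' := by
      intro U hU hUH
      rw [hP']
      exact exists_cj_le_sylow_map P hU hUH
    refine ⟨hH, ?_, ?_⟩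
    · exact even_iff_two_dvd.mpr ((dvd_card_of_ne_bot hP'pg hP'ne).trans (Subgroup.card_dvd_of_le hP'H))
    · intro g hg
      by_contra hodd
      rw [Nat.not_odd_iff_even, even_iff_two_dvd] at hodd
      obtain ⟨t, ht⟩ := exists_prime_orderOf_dvd_card' 2 hodd
      have ht' : orderOf (t : G) = 2 := by rw [Subgroup.orderOf_coe]; exact ht
      have hU : IsPGroup 2 (Subgroup.zpowers (t : G)) :=
        IsPGroup.of_card (n := 1) (by rw [Nat.card_zpowers, ht', pow_one])
      have hUne : Subgroup.zpowers (t : G) ≠ ⊥ := by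
        rw [Ne, Subgroup.zpowers_eq_bot]
        intro e
        rw [e] at ht'
        simp at ht'
      have hUH : Subgroup.zpowers (t : G) ≤ H := by
        rw [Subgroup.zpowers_le]
        exact t.2.1
      have hUg : cj g⁻¹ (Subgroup.zpowers (t : G)) ≤ H := by
        rw [cj_le_iff, inv_inv, Subgroup.zpowers_le]
        exact t.2.2
      have := main_claim H P' hP'pg hP'H hsyl F2 _ _ g⁻¹ rfl hU hUne hUH hUg
      exact hg (by simpa using this)

end Cfsg.Agent.S0214
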