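import Cfsg.Statements.S0224
import Mathlib
import Cfsg.Agent.Lib.Helper6.Pairs

set_option autoImplicit false
open Cfsg

namespace Cfsg.Agent.S0224

open Cfsg.Agent.Lib.Helper6

/-- Let H be a proper subgroup of even order of the finite group G. Then H is strongly embedded if and only if each involution of H fixes exactly one point (namely the coset H) in the action of G on the cosets of H. -/
theorem result {G : Type*} [Group G] [Finite G] (H : Subgroup G) (hH : H ≠ ⊤) (heven : Even (Nat.card H)) : Cfsg.IsStronglyEmbedded H ↔ ∀ t ∈ H, orderOf t = 2 → Nat.card {c : G ⧸ H // t • c = c} = 1 := by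
  have hinv : ∀ K : Subgroup G, Even (Nat.card K) → ∃ s ∈ K, orderOf s = 2 := by
    intro K hK
    have : Fact (Nat.Prime 2) := ⟨Nat.prime_two⟩
    obtain ⟨s, hs⟩ := exists_prime_orderOf_dvd_card' (G := K) 2 (even_iff_two_dvd.mp hK)
    exact ⟨s.1, s.2, by rw [Subgroup.orderOf_coe]; exact hs⟩
  have hev : ∀ (K : Subgroup G) (s : G), s ∈ K → orderOf s = 2 → Even (Nat.card K) := by
    intro K s hs h2
    have h1 : orderOf (⟨s, hs⟩ : K) ∣ Nat.card K := orderOf_dvd_natCard _
    have h3 : orderOf (⟨s, hs⟩ : K) = orderOf s := by rw [← Subgroup.orderOf_coe]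
    rw [h3, h2] at h1
    exact even_iff_two_dvd.mpr h1
  have hfix : ∀ t g : G, t • (g : G ⧸ H) = (g : G ⧸ H) ↔ g⁻¹ * t * g ∈ H := by
    intro t g
    rw [MulAction.Quotient.smul_coe, eq_comm, QuotientGroup.eq, smul_eq_mul, mul_assoc]
  constructor
  · rintro ⟨-, -, h⟩ t htH ht
    rw [Nat.card_eq_one_iff_unique]
    refine ⟨⟨?_⟩, ⟨⟨((1 : G) : G ⧸ H), by rw [hfix]; simpa using htH⟩⟩⟩
    have key : ∀ c : {c : G ⧸ H // t • c = c}, c.1 = ((1 : G) : G ⧸ H) := by
      rintro ⟨c, hc⟩
      induction c using QuotientGroup.induction_on with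
      | H g =>
        rw [hfix] at hc
        simp only
        rw [eq_comm, QuotientGroup.eq]
        simp only [inv_one, one_mul]
        by_contra hg
        apply (Nat.not_even_iff_odd.mpr (h g hg))
        apply hev _ t _ ht
        refine ⟨htH, ⟨g⁻¹ * t * g, hc, ?_⟩⟩
        simp only [MulEquiv.coe_toMonoidHom, MulAut.conj_apply]
        group
    intro a b
    exact Subtype.ext ((key a).trans (key b).symm)
  · intro h
    refine ⟨hH, heven, ?_⟩
    intro g hg
    by_contra hodd
    rw [Nat.not_odd_iff_even] at hodd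
    obtain ⟨s, hsK, hs⟩ := hinv _ hodd
    obtain ⟨hsH, t, htH, hts⟩ := hsK
    simp only [MulEquiv.coe_toMonoidHom, MulAut.conj_apply] at hts
    have h1 := h s hsH hs
    rw [Nat.card_eq_one_iff_unique] at h1
    obtain ⟨h2, -⟩ := h1
    have h3 := h2.elim (⟨((1 : G) : G ⧸ H), by rw [hfix]; simpa using hsH⟩ : {c : G ⧸ H // s • c = c})
      ⟨(g : G ⧸ H), by
        rw [hfix, ← hts]
        have : g⁻¹ * (g * t * g⁻¹) * g = t := by group
        rw [this]; exact htH⟩
    have h4 := Subtype.ext_iff.mp h3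
    simp only at h4
    rw [QuotientGroup.eq] at h4
    apply hg
    simpa using h4

end Cfsg.Agent.S0224
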