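import Cfsg.Statements.S0254
-- import your own Cfsg.Agent.* helpers here
import Cfsg.Agent.Lib.Helper47.AltEmbed
import Cfsg.Agent.Lib.Helper47.SL2Trace
import Cfsg.Agent.Lib.Helper6.SLCard

set_option autoImplicit false
open Cfsg

namespace Cfsg.Agent.S0254


open Matrix Cfsg.Agent.Lib.Helper47 Cfsg.Agent.Lib.Helper46 Cfsg.Agent.Lib.Helper6

/-- PSL_2(9) is isomorphic to A_6. -/
theorem result {F : Type*} [Field F] [Fintype F] (hF : Fintype.card F = 9) : Nonempty (Matrix.ProjectiveSpecialLinearGroup (Fin 2) F ≃* alternatingGroup (Fin 6)) := by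
  classical
  have h3 : (3 : F) = 0 := by
    have h9 : ((Fintype.card F : ℕ) : F) = 0 := Nat.cast_card_eq_zero F
    rw [hF] at h9
    have : (3 : F) * 3 = 0 := by
      have h9' : (9 : F) = 0 := by exact_mod_cast h9
      linear_combination h9'
    exact (mul_eq_zero.mp this).elim id id
  obtain ⟨i, hi⟩ : IsSquare (-1 : F) := FiniteField.isSquare_neg_one_iff.mpr (by rw [hF]; norm_num)
  let X0 : SpecialLinearGroup (Fin 2) F := mk2 0 1 (-1) 1 (by ring)
  let X1 : SpecialLinearGroup (Fin 2) F := mk2 0 1 (-1) 0 (by ring)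
  let X2 : SpecialLinearGroup (Fin 2) F := mk2 1 (1 + i) (-1 + i) (-1) (by linear_combination hi)
  let X3 : SpecialLinearGroup (Fin 2) F := mk2 0 i i 0 (by linear_combination hi)
  let g : Fin 4 → ProjectiveSpecialLinearGroup (Fin 2) F := ![pmk X0, pmk X1, pmk X2, pmk X3]
  have hm : Moore 3 g := by
    constructor
    · intro a ha
      fin_cases a <;> simp at ha
      exact pmk_cube_of_tr X0 (Or.inl (by simp only [X0, tr_mk2]; ring))
    · intro a ha
      fin_cases a <;> simp at ha
      · exact pmk_sq_of_tr X1 (by simp only [X1, tr_mk2]; ring)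
      · exact pmk_sq_of_tr X2 (by simp only [X2, tr_mk2]; ring)
      · exact pmk_sq_of_tr X3 (by simp only [X3, tr_mk2]; ring)
    · intro a b hab
      fin_cases a <;> fin_cases b <;> simp at hab
      · exact pmk_cube_of_tr (X0 * X1) (Or.inl (by
          simp only [X0, X1, tr_mk2_mul]; linear_combination -h3))
      · exact pmk_cube_of_tr (X1 * X2) (Or.inl (by
          simp only [X1, X2, tr_mk2_mul]; linear_combination -h3))
      · exact pmk_cube_of_tr (X2 * X3) (Or.inl (by
          simp only [X2, X3, tr_mk2_mul]; linear_combination -2 * hi - h3))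
    · intro a b hab
      fin_cases a <;> fin_cases b <;> simp at hab
      · exact pmk_sq_of_tr (X0 * X2) (by
          simp only [X0, X2, tr_mk2_mul]; linear_combination -h3)
      · exact pmk_sq_of_tr (X0 * X3) (by
          simp only [X0, X3, tr_mk2_mul]; ring)
      · exact pmk_sq_of_tr (X1 * X3) (by
          simp only [X1, X3, tr_mk2_mul]; ring)
  have hne : ∃ a, g a ≠ 1 := by
    refine ⟨1, ?_⟩
    apply pmk_ne_one_of_tr_sq X1
    simp only [X1, tr_mk2]
    intro h
    have : (1 : F) = 0 := by linear_combination -h - h3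
    exact one_ne_zero this
  have hc := card_PSL_field (F := F) 2 (by norm_num)
  rw [hF] at hc
  simp only [Fin.prod_univ_two] at hc
  norm_num [-Nat.card_eq_fintype_card] at hc
  exact nonempty_equiv_of_moore (k := 3) (by norm_num) hm hne (by
    have : (3 + 3).factorial / 2 = 360 := by decide
    rw [this]; omega)

end Cfsg.Agent.S0254
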