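import Cfsg.Statements.S0256
-- import your own Cfsg.Agent.* helpers here
import Cfsg.Agent.Lib.Helper47.AltEmbed
import Cfsg.Agent.Lib.Helper6.SLEquiv
import Cfsg.Agent.Lib.Helper6.SLCard

set_option autoImplicit false
open Cfsg

namespace Cfsg.Agent.S0256


open Matrix Cfsg.Agent.Lib.Helper47 Cfsg.Agent.Lib.Helper6

/-- six matrices over the field with two elements satisfying Moore's relations -/
def mats : Fin 6 → Matrix (Fin 4) (Fin 4) (ZMod 2) :=
  ![!![0, 1, 0, 0; 1, 1, 0, 0; 0, 0, 0, 1; 0, 0, 1, 1],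
    !![1, 0, 0, 0; 0, 1, 0, 0; 1, 0, 1, 0; 1, 1, 0, 1],
    !![0, 0, 1, 0; 0, 0, 1, 1; 1, 0, 0, 0; 1, 1, 0, 0],
    !![1, 0, 0, 0; 1, 1, 0, 0; 1, 0, 1, 0; 1, 1, 1, 1],
    !![0, 1, 0, 0; 1, 0, 0, 0; 0, 0, 1, 1; 0, 0, 0, 1],
    !![1, 0, 0, 0; 1, 1, 0, 0; 0, 0, 1, 0; 0, 0, 1, 1]]

set_option maxRecDepth 100000 in
theorem mats_det : ∀ i, (mats i).det = 1 := by decide +kernel

/-- the same as elements of the special linear group -/
def gens (i : Fin 6) : SpecialLinearGroup (Fin 4) (ZMod 2) := ⟨mats i, mats_det i⟩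

set_option maxRecDepth 100000 in
theorem mats_cube : ∀ i : Fin 6, i.val = 0 → mats i ^ 3 = 1 := by decide +kernel

set_option maxRecDepth 100000 in
theorem mats_sq : ∀ i : Fin 6, 1 ≤ i.val → mats i ^ 2 = 1 := by decide +kernel

set_option maxRecDepth 100000 in
theorem mats_adj : ∀ i j : Fin 6, j.val = i.val + 1 → (mats i * mats j) ^ 3 = 1 := by
  decide +kernel

set_option maxRecDepth 100000 in
theorem mats_far : ∀ i j : Fin 6, i.val + 1 < j.val → (mats i * mats j) ^ 2 = 1 := by
  decide +kernel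

theorem moore_gens : Moore 5 gens where
  cube i hi := by
    apply Subtype.ext
    rw [Matrix.SpecialLinearGroup.coe_pow]
    exact mats_cube i hi
  sq i hi := by
    apply Subtype.ext
    rw [Matrix.SpecialLinearGroup.coe_pow]
    exact mats_sq i hi
  adj i j hij := by
    apply Subtype.ext
    rw [Matrix.SpecialLinearGroup.coe_pow, Matrix.SpecialLinearGroup.coe_mul]
    exact mats_adj i j hij
  far i j hij := by
    apply Subtype.ext
    rw [Matrix.SpecialLinearGroup.coe_pow, Matrix.SpecialLinearGroup.coe_mul]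
    exact mats_far i j hij

theorem Moore.map {G H : Type*} [Group G] [Group H] (f : G →* H) {k : ℕ} {g : Fin (k + 1) → G}
    (h : Moore k g) : Moore k (fun i => f (g i)) where
  cube i hi := by rw [← map_pow, h.cube i hi, map_one]
  sq i hi := by rw [← map_pow, h.sq i hi, map_one]
  adj i j hij := by rw [← map_mul, ← map_pow, h.adj i j hij, map_one]
  far i j hij := by rw [← map_mul, ← map_pow, h.far i j hij, map_one]

/-- PSL_4(2) is isomorphic to A_8. -/
theorem result {F : Type*} [Field F] [Fintype F] (hF : Fintype.card F = 2) : Nonempty (Matrix.ProjectiveSpecialLinearGroup (Fin 4) F ≃* alternatingGroup (Fin 8)) := by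
  classical
  let e : F ≃+* ZMod 2 := (ZMod.ringEquivOfPrime F Nat.prime_two hF).symm
  have hc := card_PSL_field (F := ZMod 2) 4 (by norm_num)
  rw [ZMod.card] at hc
  simp only [Fin.prod_univ_four] at hc
  norm_num [-Nat.card_eq_fintype_card] at hc
  have hm := Moore.map (QuotientGroup.mk' (Subgroup.center (SpecialLinearGroup (Fin 4) (ZMod 2))))
    moore_gens
  have hne : ∃ i, (QuotientGroup.mk' (Subgroup.center (SpecialLinearGroup (Fin 4) (ZMod 2))))
      (gens i) ≠ 1 := by
    refine ⟨0, ?_⟩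
    intro h
    rw [QuotientGroup.mk'_apply, QuotientGroup.eq_one_iff,
      Matrix.SpecialLinearGroup.mem_center_iff] at h
    obtain ⟨r, -, hr⟩ := h
    have h01 := congrFun (congrFun hr 0) 1
    revert h01
    simp [gens, mats]
  obtain ⟨e2⟩ := nonempty_equiv_of_moore (G := ProjectiveSpecialLinearGroup (Fin 4) (ZMod 2))
    (k := 5) (by norm_num) hm hne (by rw [hc]; decide)
  exact ⟨(pslEquiv e).trans e2⟩

end Cfsg.Agent.S0256
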