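import Cfsg.Statements.S0288
import Cfsg.Agent.Lib.Helper50.QuadMinus

set_option autoImplicit false
open Cfsg
open Cfsg.Agent.Lib.Helper50 Cfsg.Agent.Lib.Helper50.Quad QuadraticMap

namespace Cfsg.Agent.S0288

variable {F : Type*} [Field F]

/-- the binary form -/
noncomputable def T (a b : F) : QuadraticForm F (Fin 2 → F) :=
  QuadraticMap.linMulLin (LinearMap.proj 0) (LinearMap.proj 0) +
    a • QuadraticMap.linMulLin (LinearMap.proj 0) (LinearMap.proj 1) +
    b • QuadraticMap.linMulLin (LinearMap.proj 1) (LinearMap.proj 1)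

theorem T_apply (a b : F) (s : Fin 2 → F) : T a b s = s 0 ^ 2 + a * s 0 * s 1 + b * s 1 ^ 2 := by
  have : T a b s = s 0 * s 0 + a * (s 0 * s 1) + b * (s 1 * s 1) := rfl
  rw [this]; ring

theorem T_polar (a b : F) (u v : Fin 2 → F) :
    polar (T a b) u v = 2 * u 0 * v 0 + a * (u 0 * v 1 + u 1 * v 0) + 2 * b * u 1 * v 1 := by
  simp only [polar, T_apply, Pi.add_apply]
  ring

theorem card_T (a b c : F) : Nat.card {s : Fin 2 → F // T a b s = c} =
    Nat.card {p : F × F // p.1 ^ 2 + a * p.1 * p.2 + b * p.2 ^ 2 = c} := by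
  apply Nat.card_congr
  apply (finTwoArrowEquiv F).subtypeEquiv
  intro s
  rw [T_apply]
  rfl

theorem card_T_zero (a b : F)
    (hab : ∀ z₁ z₂ : F, z₁ ^ 2 + a * z₁ * z₂ + b * z₂ ^ 2 = 0 → z₁ = 0 ∧ z₂ = 0) :
    Nat.card {s : Fin 2 → F // T a b s = 0} = 1 := by
  rw [card_T, Nat.card_eq_one_iff_unique]
  refine ⟨⟨fun x y => Subtype.ext ?_⟩, ⟨⟨(0, 0), by simp⟩⟩⟩
  have hx := hab _ _ x.2
  have hy := hab _ _ y.2
  exact Prod.ext (hx.1.trans hy.1.symm) (hx.2.trans hy.2.symm)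

theorem T_nondeg [Fintype F] (a b : F)
    (hab : ∀ z₁ z₂ : F, z₁ ^ 2 + a * z₁ * z₂ + b * z₂ ^ 2 = 0 → z₁ = 0 ∧ z₂ = 0) : Nondeg (T a b) ⊤ := by
  intro w _ hw
  have hd := disc_ne_zero a b hab
  by_contra hcon
  push Not at hcon
  have h0 := hcon (Pi.single 0 1) Submodule.mem_top
  have h1 := hcon (Pi.single 1 1) Submodule.mem_top
  rw [T_polar] at h0 h1
  simp at h0 h1
  apply hw
  have e0 : (a ^ 2 - 4 * b) * w 0 = 0 := by linear_combination a * h1 - 2 * b * h0
  have e1 : (a ^ 2 - 4 * b) * w 1 = 0 := by linear_combination a * h0 - 2 * h1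
  ext k
  fin_cases k
  · exact (mul_eq_zero.1 e0).resolve_left hd
  · exact (mul_eq_zero.1 e1).resolve_left hd

theorem Tl_iff {V : Type*} [AddCommGroup V] [Module F V] (Q : QuadraticForm F V) (a b : F) (t : Fin 2 → V) :
    Tl Q (T a b) t ↔ Q (t 0) = 1 ∧ Q (t 1) = b ∧ polar Q (t 0) (t 1) = a := by
  have v0 : T a b (Pi.single 0 1) = 1 := by rw [T_apply]; simp
  have v1 : T a b (Pi.single 1 1) = b := by rw [T_apply]; simp
  have v01 : polar (T a b) (Pi.single 0 1) (Pi.single 1 1) = a := by rw [T_polar]; simp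
  constructor
  · rintro ⟨h1, h2⟩
    exact ⟨by rw [h1, v0], by rw [h1, v1], by rw [h2, v01]⟩
  · rintro ⟨h1, h2, h3⟩
    constructor
    · intro k
      fin_cases k
      · exact h1.trans v0.symm
      · exact h2.trans v1.symm
    · intro k l
      fin_cases k <;> fin_cases l
      · simp only [Fin.zero_eta, Fin.isValue]; rw [polar_self, polar_self, h1, v0]
      · exact h3.trans v01.symm
      · simp only [Fin.zero_eta, Fin.isValue, Fin.mk_one]; rw [polar_comm, h3, polar_comm, v01]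
      · simp only [Fin.mk_one, Fin.isValue]; rw [polar_self, polar_self, h2, v1]

/-- |GO^-_{2m}(q)| = 2 q^(m(m-1)) (q^m + 1) prod_{i=1}^{m-1} (q^(2i) - 1), m at least 1, all q; the form is quadFormMinus (m-1) with an anisotropic binary part. -/
theorem result {F : Type*} [Field F] [Fintype F] {q : ℕ} (hF : Fintype.card F = q) (m : ℕ) (hm : 1 ≤ m) (a b : F) (hab : ∀ z₁ z₂ : F, z₁ ^ 2 + a * z₁ * z₂ + b * z₂ ^ 2 = 0 → z₁ = 0 ∧ z₂ = 0) : Nat.card (Cfsg.isometryGroup F (Cfsg.quadFormMinus (m - 1) F a b)) = 2 * q ^ (m * (m - 1)) * (q ^ m + 1) * ∏ i ∈ Finset.range (m - 1), (q ^ (2 * (i + 1)) - 1) := by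
  have hq : 1 ≤ q := by rw [← hF]; exact Fintype.card_pos
  obtain ⟨k, rfl⟩ : ∃ k, m = k + 1 := ⟨m - 1, by omega⟩
  rw [Nat.add_sub_cancel]
  have hfun : Cfsg.quadFormMinus k F a b = fun v => Qgen k (T a b) v := by
    funext v
    rw [Qgen_apply, T_apply]
    rfl
  rw [hfun, card_iso_gen k (T a b) (T_nondeg a b hab) ((q + 1) * 2)]
  · rw [hF, Fintype.card_fin]
    simp only [alpha_minus q hq (fun c : F => Nat.card {s : Fin 2 → F // T a b s = c}) (card_T_zero a b hab)]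
    have := prod_minus q hq k
    calc (q + 1) * 2 * ∏ j ∈ Finset.range k, ((q ^ (j + 1 + 1) + 1) * (q ^ (j + 1) - 1) * (q ^ (2 * j) * q ^ 2))
        = 2 * ((q + 1) * ∏ j ∈ Finset.range k, ((q ^ (j + 1 + 1) + 1) * (q ^ (j + 1) - 1) * (q ^ (2 * j) * q ^ 2))) := by
          ring
      _ = _ := by rw [this]; ring
  · intro W _ hc ha
    rw [Fintype.card_fin] at hc
    have h0 : aC (Qgen k (T a b)) W 0 = 1 := by rw [ha, card_T_zero a b hab]
    have h1 : aC (Qgen k (T a b)) W 1 = Fintype.card F + 1 := by rw [ha, card_T, card_form_eq_one a b hab]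
    rw [← hF, ← card_tail_minus W hc h0 h1 a b hab]
    apply Nat.card_congr
    apply (finTwoArrowEquiv _).subtypeEquiv
    intro t
    rw [Tl_iff]
    simp only [finTwoArrowEquiv_apply, Fin.forall_fin_two]
    tauto

end Cfsg.Agent.S0288
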