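import Cfsg.Statements.S0742
-- import your own Cfsg.Agent.* helpers here
import Cfsg.Agent.S0738
import Cfsg.Agent.S0741
import Cfsg.Agent.Lib.Helper69.Zass
import Cfsg.Agent.Lib.Helper54.ZassCount
import Cfsg.Agent.Lib.Helper73.ZassMain

set_option autoImplicit false
open Cfsg

namespace Cfsg.Agent.S0742

/-- A finite Zassenhaus group of degree `n + 1` with two-point stabilisers of even order `d` satisfying `2d ≤ n - 1` has `n = p^f` for an odd prime `p` and is isomorphic to `PSL(2, p^f)`. -/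
theorem result {G Ω : Type*} [Group G] [Finite G] [MulAction G Ω] [Fintype Ω] (hZ : Cfsg.IsZassenhausGroup G Ω) {a b : Ω} (hab : a ≠ b) (heven : Even (Nat.card ↥(MulAction.stabilizer G a ⊓ MulAction.stabilizer G b))) (hd : 2 * Nat.card ↥(MulAction.stabilizer G a ⊓ MulAction.stabilizer G b) ≤ Fintype.card Ω - 2) : ∃ (p f : ℕ) (K : Type) (_ : Field K) (_ : Fintype K), p.Prime ∧ p ≠ 2 ∧ Fintype.card K = p ^ f ∧ Fintype.card Ω = p ^ f + 1 ∧ Nonempty (G ≃* Matrix.ProjectiveSpecialLinearGroup (Fin 2) K) := by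
  classical
  obtain ⟨g0, hg0, a', b', hab', hga', hgb'⟩ := hZ.2.2.2.1
  have := hZ.1
  -- move the element fixing two points to `a, b`
  obtain ⟨t, hta, htb⟩ := Cfsg.Agent.Lib.Helper54.Zass.two_trans hZ.2.1 hab' hab
  obtain ⟨g1, hg1, hga, hgb⟩ : ∃ g1 : G, g1 ≠ 1 ∧ g1 • a = a ∧ g1 • b = b := by
    refine ⟨t * g0 * t⁻¹, ?_, ?_, ?_⟩
    · intro h
      apply hg0
      have : g0 = t⁻¹ * (t * g0 * t⁻¹) * t := by group
      rw [this, h]; group
    · rw [mul_smul, mul_smul, ← hta, inv_smul_smul, hga']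
    · rw [mul_smul, mul_smul, ← htb, inv_smul_smul, hgb']
  obtain ⟨c, hc⟩ : ∃ c : Ω, g1 • c ≠ c := by
    by_contra hcon
    push Not at hcon
    apply hg1
    apply FaithfulSMul.eq_of_smul_eq_smul (α := Ω)
    intro x
    rw [hcon x, one_smul]
  have hac : a ≠ c := by
    rintro rfl
    exact hc hga
  have hbc : b ≠ c := by
    rintro rfl
    exact hc hgb
  obtain ⟨K, hKa, hKn, hKfree, hKtrans⟩ := Cfsg.Agent.Lib.Helper69.Zass.exists_kernel
    (fun a b c d h1 h2 => Cfsg.Agent.Lib.Helper54.Zass.two_trans hZ.2.1 h1 h2)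
    hZ.2.2.1 a b c hab hbc hac g1 hg1 hga hgb
  have hKle : K ≤ MulAction.stabilizer G a := fun k hk => hKa k hk
  have hKnorm : (K.subgroupOf (MulAction.stabilizer G a)).Normal :=
    ⟨fun k hk f => hKn f.1 f.2 k.1 hk⟩
  have huniq : ∀ y : Ω, y ≠ a → ∀ u v : K, (u : G) • y = (v : G) • y → u = v := by
    intro y hy u v huv
    by_contra hne
    have h1 : (v : G)⁻¹ * u ≠ 1 := by
      intro h
      apply hne
      apply Subtype.ext
      have := eq_of_inv_mul_eq_one h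
      exact this.symm
    apply hKfree _ (K.mul_mem (K.inv_mem v.2) u.2) h1 y hy
    rw [mul_smul, huv, inv_smul_smul]
  have hreg : ∀ y z : Ω, y ≠ a → z ≠ a → ∃! u : K, (u : G) • y = z := by
    intro y z hy hz
    obtain ⟨k, hk, hkyz⟩ := hKtrans y z hy hz
    refine ⟨⟨k, hk⟩, hkyz, ?_⟩
    intro v hv
    exact huniq y hy v ⟨k, hk⟩ (by rw [hv]; exact hkyz.symm)
  have h3 : 3 ≤ Fintype.card Ω := by
    have : ({a, b, c} : Finset Ω).card ≤ Fintype.card Ω := Finset.card_le_univ _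
    rwa [Finset.card_eq_three.2 ⟨a, b, c, hab, hac, hbc, rfl⟩] at this
  have hge := Cfsg.Agent.S0741.result hZ hab heven
  obtain ⟨hKab, p, f, hp, _, hΩ⟩ := Cfsg.Agent.S0738.result hZ hab hge K hKle hKnorm hreg
  have hKab' : ∀ u ∈ K, ∀ v ∈ K, u * v = v * u := by
    intro u hu v hv
    have := hKab.is_comm.comm (⟨u, hu⟩ : K) ⟨v, hv⟩
    exact congrArg Subtype.val this
  have hcard : 2 * Nat.card ↥(MulAction.stabilizer G a ⊓ MulAction.stabilizer G b) + 2
      = Nat.card Ω := by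
    rw [Nat.card_eq_fintype_card (α := Ω)]
    omega
  obtain ⟨L, iL, iLf, hL, h2, hI⟩ :=
    Cfsg.Agent.Lib.Helper73.ZassMain.zass_psl2 hZ hab K hKle hKnorm hKab' hreg hcard
  rw [Nat.card_eq_fintype_card (α := Ω)] at hL hcard
  refine ⟨p, f, L, iL, iLf, hp, ?_, by omega, hΩ, hI⟩
  rintro rfl
  have hodd : 2 ^ f = 2 * Nat.card ↥(MulAction.stabilizer G a ⊓ MulAction.stabilizer G b) + 1 := by
    omega
  rcases Nat.eq_zero_or_pos f with rfl | hf
  · simp at hΩ
    omega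
  · have : Even (2 ^ f) := (Nat.even_pow.2 ⟨even_two, by omega⟩)
    rw [hodd] at this
    exact (Nat.not_even_iff_odd.2 ⟨_, rfl⟩) this

end Cfsg.Agent.S0742
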