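import Cfsg.Statements.S0344
-- import your own Cfsg.Agent.* helpers here
import Cfsg.Agent.S0729
import Cfsg.Agent.S0741
import Cfsg.Agent.S0742
import Cfsg.Agent.S0699
import Cfsg.Agent.Lib.Helper54.ZassSharp
import Cfsg.Agent.Lib.Helper54.ZassDich
import Cfsg.Agent.Lib.Helper76.Sharp3Index2

set_option autoImplicit false
open Cfsg

namespace Cfsg.Agent.S0344


open MulAction

/-- A sharply triply transitive finite group of even degree at least four has a subgroup of index
two. -/
theorem exists_index_two {G Ω : Type*} [Group G] [Finite G] [MulAction G Ω] [Fintype Ω]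
    [FaithfulSMul G Ω]
    (h3t : ∀ a b c a' b' c' : Ω, a ≠ b → a ≠ c → b ≠ c → a' ≠ b' → a' ≠ c' → b' ≠ c' →
      ∃ g : G, g • a = a' ∧ g • b = b' ∧ g • c = c')
    (h3 : ∀ g : G, ∀ a b c : Ω, a ≠ b → b ≠ c → a ≠ c → g • a = a → g • b = b → g • c = c → g = 1)
    (heven : Even (Fintype.card Ω)) {a b : Ω} (hab : a ≠ b)
    (hcard : Nat.card ↥(stabilizer G a ⊓ stabilizer G b) + 2 = Fintype.card Ω)
    (h4 : 4 ≤ Fintype.card Ω) : ∃ M : Subgroup G, M.index = 2 := by
  classical
  obtain ⟨c, hca, hcb⟩ : ∃ c : Ω, c ≠ a ∧ c ≠ b := by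
    by_contra hcon
    push Not at hcon
    have : (Finset.univ : Finset Ω) ⊆ {a, b} := by
      intro z _
      by_cases h1 : z = a
      · simp [h1]
      simp [hcon z h1]
    have := Finset.card_le_card this
    have h5 : ({a, b} : Finset Ω).card ≤ 2 := Finset.card_le_two
    rw [Finset.card_univ] at this
    omega
  obtain ⟨s, hsa, hsb, hsc⟩ := h3t a b c b a c hab hca.symm hcb.symm hab.symm hcb.symm hca.symm
  have hss : s * s = 1 := by
    apply h3 _ a b c hab hcb.symm hca.symm
    · rw [mul_smul, hsa, hsb]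
    · rw [mul_smul, hsb, hsa]
    · rw [mul_smul, hsc, hsc]
  by_cases h6 : 6 ≤ Fintype.card Ω
  · -- pass to the permutation group
    let φ : G →* Equiv.Perm Ω := MulAction.toPermHom G Ω
    let Γ : Subgroup (Equiv.Perm Ω) := φ.range
    have hact : ∀ (g : G) (x : Ω), (φ.rangeRestrict g : Γ) • x = g • x := fun _ _ => rfl
    have hsurj : ∀ γ : Γ, ∃ g : G, φ.rangeRestrict g = γ := φ.rangeRestrict_surjective
    have h3tΓ : ∀ a b c a' b' c' : Ω, a ≠ b → a ≠ c → b ≠ c → a' ≠ b' → a' ≠ c' → b' ≠ c' →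
        ∃ g : Γ, g • a = a' ∧ g • b = b' ∧ g • c = c' := by
      intro a b c a' b' c' h1 h2 h3' h4' h5 h6'
      obtain ⟨g, e1, e2, e3⟩ := h3t a b c a' b' c' h1 h2 h3' h4' h5 h6'
      exact ⟨φ.rangeRestrict g, by rw [hact, e1], by rw [hact, e2], by rw [hact, e3]⟩
    have h3Γ : ∀ g : Γ, ∀ a b c : Ω, a ≠ b → b ≠ c → a ≠ c → g • a = a → g • b = b →
        g • c = c → g = 1 := by
      intro γ a b c h1 h2 h3' e1 e2 e3
      obtain ⟨g, rfl⟩ := hsurj γ
      rw [hact] at e1 e2 e3
      rw [h3 g a b c h1 h2 h3' e1 e2 e3, map_one]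
    have hsharp : ∀ x : Fin 3 ↪ Ω, MulAction.stabilizer Γ x = ⊥ := by
      intro x
      rw [Subgroup.eq_bot_iff_forall]
      intro γ hγ
      rw [mem_stabilizer_iff] at hγ
      have hx : ∀ i, γ • x i = x i := fun i => by
        conv_rhs => rw [← hγ]
        rfl
      exact h3Γ γ (x 0) (x 1) (x 2) (fun h => by simpa using x.injective h)
        (fun h => by simpa using x.injective h) (fun h => by simpa using x.injective h)
        (hx 0) (hx 1) (hx 2)
    obtain ⟨N, hN1, _, hN2, hN3⟩ := Cfsg.Agent.S0729.result heven h6 Γ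
      (Cfsg.Agent.S0699.three_iff.mpr h3tΓ) hsharp hab hca.symm hcb.symm (φ.rangeRestrict s)
      (by rw [hact, hsa]) (by rw [hact, hsb]) (by rw [hact, hsc])
    obtain ⟨M, hM⟩ := Cfsg.Agent.Lib.Helper76.exists_index_two_of_sharp3 h3tΓ h3Γ hab hca.symm
      hcb.symm (φ.rangeRestrict s) (by rw [hact, hsa]) (by rw [hact, hsb])
      (by rw [← map_mul, hss, map_one]) N hN1 hN2 hN3
    exact ⟨M.comap φ.rangeRestrict,
      by rw [Subgroup.index_comap_of_surjective _ φ.rangeRestrict_surjective, hM]⟩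
  · have h4' : Fintype.card Ω = 4 := by
      obtain ⟨m, hm⟩ := heven
      omega
    refine Cfsg.Agent.Lib.Helper76.exists_index_two_of_sharp3 h3t h3 hab hca.symm hcb.symm s hsa hsb
      hss ⊥ bot_le ?_ ?_
    · rw [Subgroup.relIndex_bot_left]
      omega
    · intro n hn
      rw [Subgroup.mem_bot] at hn ⊢
      rw [hn]; group

/-- A finite simple Zassenhaus group with a two-point stabiliser of even order is isomorphic to `PSL₂(F)` for a finite
field `F` with more than three elements. -/
theorem result {G Ω : Type*} [Group G] [Finite G] [MulAction G Ω] [Finite Ω]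
    (hZ : Cfsg.IsZassenhausGroup G Ω) [IsSimpleGroup G]
    {a b : Ω} (hab : a ≠ b) (heven : Even (Nat.card ↥(MulAction.stabilizer G a ⊓ MulAction.stabilizer G b))) :
    ∃ (F : Type) (_ : Field F) (_ : Fintype F), 3 < Fintype.card F ∧ Nonempty (G ≃* Matrix.ProjectiveSpecialLinearGroup (Fin 2) F) := by
  classical
  have _ : Fintype Ω := Fintype.ofFinite Ω
  have h741 := Cfsg.Agent.S0741.result hZ hab heven
  have hdvd := Cfsg.Agent.Lib.Helper54.Zass.card_stab2_dvd hZ.2.2.1 hab
  have h3le := Cfsg.Agent.Lib.Helper54.Zass.three_le_card hZ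
  have hpos : 0 < Nat.card ↥(MulAction.stabilizer G a ⊓ MulAction.stabilizer G b) := Nat.card_pos
  have he2 : 2 ≤ Nat.card ↥(MulAction.stabilizer G a ⊓ MulAction.stabilizer G b) := by
    obtain ⟨m, hm⟩ := heven
    omega
  by_cases hle : 2 * Nat.card ↥(MulAction.stabilizer G a ⊓ MulAction.stabilizer G b)
      ≤ Fintype.card Ω - 2
  · obtain ⟨p, f, K, iK, iF, hp, hp2, hK, hΩ, hiso⟩ := Cfsg.Agent.S0742.result hZ hab heven hle
    refine ⟨K, iK, iF, ?_, hiso⟩
    rw [hK]
    omega
  · exfalso
    have he : Nat.card ↥(MulAction.stabilizer G a ⊓ MulAction.stabilizer G b) + 2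
        = Fintype.card Ω := by
      obtain ⟨k, hk⟩ := hdvd
      have hk1 : k = 1 := by
        have hk0 : k ≠ 0 := by
          rintro rfl
          omega
        by_contra hk1
        have h2k : 2 ≤ k := by omega
        have := Nat.mul_le_mul_left
          (Nat.card ↥(MulAction.stabilizer G a ⊓ MulAction.stabilizer G b)) h2k
        omega
      rw [hk1, mul_one] at hk
      omega
    obtain ⟨h3t, _⟩ := Cfsg.Agent.Lib.Helper54.Zass.sharp_of_card hZ hab
      (by rw [Nat.card_eq_fintype_card (α := Ω)]; exact he)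
    have _ : FaithfulSMul G Ω := hZ.1
    obtain ⟨M, hM⟩ := exists_index_two (Cfsg.Agent.S0699.three_iff.mp h3t) hZ.2.2.1
      (by
        obtain ⟨m, hm⟩ := heven
        exact ⟨m + 1, by omega⟩) hab he (by omega)
    have hMn : M.Normal := Subgroup.normal_of_index_eq_two hM
    rcases hMn.eq_bot_or_eq_top with h | h
    · rw [h, Subgroup.index_bot] at hM
      -- the two-point stabiliser is the whole group, but some element moves `a`
      have htop : (MulAction.stabilizer G a ⊓ MulAction.stabilizer G b : Subgroup G) = ⊤ := by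
        apply Subgroup.eq_top_of_card_eq
        have := Subgroup.card_le_card_group
          (MulAction.stabilizer G a ⊓ MulAction.stabilizer G b : Subgroup G)
        omega
      obtain ⟨g, hg, _⟩ := Cfsg.Agent.Lib.Helper54.Zass.two_trans hZ.2.1 hab hab.symm
      have : g ∈ (MulAction.stabilizer G a ⊓ MulAction.stabilizer G b : Subgroup G) := by
        rw [htop]; trivial
      exact hab ((MulAction.mem_stabilizer_iff.mp (Subgroup.mem_inf.mp this).1).symm.trans hg)
    · rw [h, Subgroup.index_top] at hM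
      omega

end Cfsg.Agent.S0344
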