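import Cfsg.Statements.S0347
-- import your own Cfsg.Agent.* helpers here
import Cfsg.Agent.Lib.Helper32.Suz.Order

set_option autoImplicit false
open Cfsg

namespace Cfsg.Agent.S0347

/-- If in a finite simple Zassenhaus group the stabiliser of a point `x` has a normal `2`-subgroup `U` which is
non-abelian and acts regularly on the points other than `x`, then the group is simple of Suzuki order (order-level
predicate `IsSuzuki`). -/
theorem result {G Ω : Type*} [Group G] [Finite G] [MulAction G Ω] [Finite Ω]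
    (hZ : Cfsg.IsZassenhausGroup G Ω) [IsSimpleGroup G]
    (x : Ω) (U : Subgroup G) (hUle : U ≤ MulAction.stabilizer G x) (hUn : (U.subgroupOf (MulAction.stabilizer G x)).Normal)
    (hU2 : IsPGroup 2 U) (hUna : ∃ u v : U, u * v ≠ v * u)
    (hreg : ∀ y z : Ω, y ≠ x → z ≠ x → ∃! u : U, (u : G) • y = z) :
    Cfsg.IsSuzuki G := by
  classical
  haveI : Fintype Ω := Fintype.ofFinite Ω
  have h3 := Cfsg.Agent.Lib.Helper54.Zass.three_le_card hZ
  obtain ⟨b, hb⟩ : ∃ b : Ω, b ≠ x := by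
    by_contra hcon
    push Not at hcon
    have : Fintype.card Ω ≤ 1 := Fintype.card_le_one_iff.2 (fun c d => by rw [hcon c, hcon d])
    omega
  have hUn' : ∀ h ∈ MulAction.stabilizer G x, ∀ u ∈ U, h * u * h⁻¹ ∈ U := by
    intro h hh u hu
    have h1 := hUn.conj_mem ⟨u, hUle hu⟩ (by rw [Subgroup.mem_subgroupOf]; exact hu) ⟨h, hh⟩
    rw [Subgroup.mem_subgroupOf] at h1
    simpa using h1
  have hUna' : ∃ u ∈ U, ∃ v ∈ U, u * v ≠ v * u := by
    obtain ⟨u, v, huv⟩ := hUna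
    refine ⟨u, u.2, v, v.2, fun h => huv (Subtype.ext ?_)⟩
    simpa using h
  obtain ⟨n, hn, hn1, hcU, hcΩ, hcE, hcyc, hSuz, hcen⟩ :=
    Cfsg.Agent.Lib.Helper32.Suz.order hZ hb.symm U hUle hUn' hreg hU2 hUna'
  refine ⟨inferInstance, ?_⟩
  obtain ⟨m, rfl⟩ := hn
  refine ⟨m, by omega, ?_⟩
  rw [Cfsg.Agent.Lib.Helper54.Zass.card_group hZ.2.1 hb.symm, hcΩ, hcE, Nat.add_sub_cancel]
  ring

end Cfsg.Agent.S0347
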