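import Cfsg.Statements.S0340
-- import your own Cfsg.Agent.* helpers here
import Cfsg.Agent.S0347
import Cfsg.Agent.S0344
import Cfsg.Agent.S0885
import Cfsg.Agent.S0738
import Cfsg.Agent.S0731
import Cfsg.Agent.Lib.Helper12.S3TWrap
import Cfsg.Agent.Lib.Helper69.Zass

set_option autoImplicit false
open Cfsg

namespace Cfsg.Agent.S0340

/-- Classification of Zassenhaus groups, simple case, order-level form: a finite simple Zassenhaus group is
isomorphic to `PSL₂(F)` for some finite field `F` or is simple of Suzuki order. -/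
theorem result {G Ω : Type*} [Group G] [Finite G] [MulAction G Ω]
    [Finite Ω] (hZ : Cfsg.IsZassenhausGroup G Ω) [IsSimpleGroup G] :
    (∃ (F : Type) (_ : Field F) (_ : Fintype F), Nonempty (G ≃* Matrix.ProjectiveSpecialLinearGroup (Fin 2) F)) ∨ Cfsg.IsSuzuki G := by
  classical
  haveI : Fintype Ω := Fintype.ofFinite Ω
  have h3le := Cfsg.Agent.Lib.Helper54.Zass.three_le_card hZ
  have h3' : 2 < (Finset.univ : Finset Ω).card := by
    rw [Finset.card_univ]; omega
  obtain ⟨a, -, b, -, c, -, hab, hac, hbc⟩ := Finset.two_lt_card.1 h3'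
  by_cases heven : Even (Nat.card ↥(MulAction.stabilizer G a ⊓ MulAction.stabilizer G b))
  · obtain ⟨F, iF, iF', -, hiso⟩ := Cfsg.Agent.S0344.result hZ hab heven
    exact Or.inl ⟨F, iF, iF', hiso⟩
  rw [Nat.not_even_iff_odd] at heven
  have hE1 := Cfsg.Agent.Lib.Helper54.Zass.one_lt_card_stab2 hZ hab
  obtain ⟨h0, h01⟩ : ∃ h0 : ↥(MulAction.stabilizer G a ⊓ MulAction.stabilizer G b), h0 ≠ 1 := by
    haveI := (Finite.one_lt_card_iff_nontrivial).1 hE1
    exact exists_ne 1
  have h0m := Subgroup.mem_inf.1 h0.2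
  obtain ⟨K, hKa, hKn, hKfix, hKtr⟩ := Cfsg.Agent.Lib.Helper69.Zass.exists_kernel
    (fun a b c d h1 h2 => Cfsg.Agent.Lib.Helper54.Zass.two_trans hZ.2.1 h1 h2) hZ.2.2.1
    a b c hab hbc hac (h0 : G) (fun h => h01 (Subtype.ext h)) h0m.1 h0m.2
  have hKle : K ≤ MulAction.stabilizer G a := fun k hk => hKa k hk
  have hreg : ∀ y z : Ω, y ≠ a → z ≠ a → ∃! u : K, (u : G) • y = z := by
    intro y z hy hz
    obtain ⟨k, hk, hkyz⟩ := hKtr y z hy hz
    refine ⟨⟨k, hk⟩, hkyz, ?_⟩
    rintro ⟨u, hu⟩ huyz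
    by_contra hne
    have h1 : k⁻¹ * u ≠ 1 := by
      intro h
      apply hne
      apply Subtype.ext
      exact (inv_mul_eq_one.1 h).symm
    apply hKfix _ (K.mul_mem (K.inv_mem hk) hu) h1 y hy
    have huyz' : u • y = z := huyz
    rw [mul_smul, huyz', ← hkyz, inv_smul_smul]
  have hKn' : (K.subgroupOf (MulAction.stabilizer G a)).Normal := by
    constructor
    intro n hn g
    rw [Subgroup.mem_subgroupOf] at hn ⊢
    exact hKn g g.2 n hn
  have hKcard := Cfsg.Agent.Lib.Helper54.Zass.reg_card hab K hKle hreg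
  have hKfix' := Cfsg.Agent.Lib.Helper54.Zass.reg_fix K hreg
  rcases Cfsg.Agent.S0885.result hZ hab (Fintype.card Ω - 1) _ (by omega) rfl heven K hKle hKcard
    hKfix' with hsmall | ⟨hK2, hKna, -⟩
  · obtain ⟨hKab, -⟩ := Cfsg.Agent.S0738.result hZ hab (by omega) K hKle hKn' hreg
    rcases Cfsg.Agent.S0731.result hZ a K hKle hKn' hKab hreg with ⟨h3t, -⟩ | ⟨F, iF, iF', -, hiso⟩
    · left
      have hS : Cfsg.Agent.Lib.Helper12.S3T.Sharp3 G Ω :=
        Cfsg.Agent.Lib.Helper12.S3T.sharp3_of_multiply h3t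
          (fun g a b c h1 h2 h3 => hZ.2.2.1 g a b c h1 h3 h2)
      have hdvd := Cfsg.Agent.Lib.Helper54.Zass.card_stab2_dvd hZ.2.2.1 hab
      have hle1 := Nat.le_of_dvd (by omega) hdvd
      have hcG := Cfsg.Agent.Lib.Helper54.Zass.card_group hZ.2.1 hab
      have hge : Fintype.card Ω * (Fintype.card Ω - 1) * (Fintype.card Ω - 2) ≤ Nat.card G := by
        let f : G → (Fin 3 ↪ Ω) := fun g => g • Cfsg.Agent.Lib.Helper12.S3T.emb3 a b c hab hac hbc
        have hf : Function.Surjective f := fun y => MulAction.exists_smul_eq G _ y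
        refine le_trans (le_of_eq ?_) (Nat.card_le_card_of_surjective f hf)
        rw [Nat.card_eq_fintype_card, Fintype.card_embedding_eq, Fintype.card_fin]
        simp [Nat.descFactorial]
        ring
      rw [hcG] at hge
      have hle2 := Nat.le_of_mul_le_mul_left hge (Nat.mul_pos (by omega) (by omega))
      have hodd : Odd (Nat.card Ω) := by
        rw [Nat.card_eq_fintype_card]
        obtain ⟨m, hm⟩ := heven
        exact ⟨m + 1, by omega⟩
      obtain ⟨F, iF, iF', -, -, hiso, -⟩ := hS.main hodd (by rw [Nat.card_eq_fintype_card]; exact h3le)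
      exact ⟨F, iF, iF', hiso⟩
    · exact Or.inl ⟨F, iF, iF', hiso⟩
  · exact Or.inr (Cfsg.Agent.S0347.result hZ a K hKle hKn' hK2 hKna hreg)

end Cfsg.Agent.S0340
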