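import Cfsg.Statements.S0341
import Cfsg.Agent.Lib.Helper31.FpfNilp
import Cfsg.Agent.Lib.Helper54.ZassInv
import Cfsg.Agent.Lib.Helper76.Coord

set_option autoImplicit false
open Cfsg

namespace Cfsg.Agent.S0341

set_option linter.style.haveILetI false

open Module in
theorem card_of_aut {F : Type*} [Field F] [Finite F] (σ : F ≃+* F) (p : ℕ) (hp : p.Prime)
    (hσp : σ ^ p = 1) (hfix : ∀ x, σ x = x → x = 0 ∨ x = 1) (hF : 2 < Nat.card F) :
    Nat.card F = 2 ^ p := by
  classical
  haveI := Fintype.ofFinite F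
  haveI := Fact.mk hp
  have hσ1 : σ ≠ 1 := by
    intro h
    have hsub : (Finset.univ : Finset F) ⊆ {0, 1} := by
      intro x _
      have := hfix x (by rw [h]; rfl)
      simpa using this
    have h1 := Finset.card_le_card hsub
    have h2 : ({0, 1} : Finset F).card ≤ 2 := Finset.card_le_two
    rw [Finset.card_univ, ← Nat.card_eq_fintype_card] at h1
    omega
  have ho : orderOf σ = p := orderOf_eq_prime hσp hσ1
  haveI : Finite (Subgroup.zpowers σ) := by
    have : 0 < orderOf σ := by rw [ho]; exact hp.pos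
    exact (Nat.finite_of_card_ne_zero (by rw [Nat.card_zpowers]; omega))
  haveI := Fintype.ofFinite (Subgroup.zpowers σ)
  have h1 := FixedPoints.finrank_eq_card (Subgroup.zpowers σ) F
  rw [← Nat.card_eq_fintype_card, Nat.card_zpowers, ho] at h1
  have hmem : ∀ x : FixedPoints.subfield (Subgroup.zpowers σ) F, x = 0 ∨ x = 1 := by
    intro x
    have hx := x.2
    have h2 : σ (x : F) = x := hx ⟨σ, Subgroup.mem_zpowers σ⟩
    rcases hfix _ h2 with h | h
    · left; exact Subtype.ext h
    · right; exact Subtype.ext h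
  have hc : Fintype.card (FixedPoints.subfield (Subgroup.zpowers σ) F) = 2 := by
    apply le_antisymm
    · have hsub : (Finset.univ : Finset (FixedPoints.subfield (Subgroup.zpowers σ) F)) ⊆ {0, 1} := by
        intro x _
        simpa using hmem x
      have h1 := Finset.card_le_card hsub
      have h2 : ({0, 1} : Finset (FixedPoints.subfield (Subgroup.zpowers σ) F)).card ≤ 2 :=
        Finset.card_le_two
      rw [Finset.card_univ] at h1
      omega
    · exact Fintype.one_lt_card
  have h3 := Module.card_eq_pow_finrank (K := FixedPoints.subfield (Subgroup.zpowers σ) F) (V := F)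
  rw [hc, h1] at h3
  rw [Nat.card_eq_fintype_card, h3]

/-- the abstract core: a commutative group `N` of exponent two, a commuting family of automorphisms
transitive on the nonidentity elements and normalised by an automorphism `τ` of prime order with
exactly two fixed points -/
theorem core {N : Type*} [CommGroup N] [Finite N] (S : Set (MulAut N))
    (hcomm : ∀ s ∈ S, ∀ s' ∈ S, s * s' = s' * s)
    (htrans : ∀ v w : N, v ≠ 1 → w ≠ 1 → ∃ s ∈ S, s v = w)
    (τ : MulAut N) (hτS : ∀ s ∈ S, τ * s * τ⁻¹ ∈ S) (p : ℕ) (hp : p.Prime) (hτp : τ ^ p = 1)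
    (t : N) (ht1 : t ≠ 1) (hfix : ∀ v, τ v = v ↔ v = 1 ∨ v = t)
    (n : ℕ) (hn : Nat.card N = 2 ^ n) (hN : 2 < Nat.card N) : Nat.card N = 2 ^ p := by
  classical
  haveI : Fact (Nat.Prime 2) := ⟨Nat.prime_two⟩
  have hn0 : n ≠ 0 := by
    rintro rfl
    rw [hn] at hN
    norm_num at hN
  have hF : Nat.card (GaloisField 2 n) = Nat.card (Additive N) := by
    rw [GaloisField.card 2 n hn0]
    exact hn.symm
  haveI : Finite (GaloisField 2 n) := Nat.finite_of_card_ne_zero (by
    rw [GaloisField.card 2 n hn0]; positivity)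
  let cj : MulAut N → AddMonoid.End (Additive N) := fun s => MonoidHom.toAdditive s.toMonoidHom
  have hcj : ∀ (s : MulAut N) (v : Additive N), cj s v = Additive.ofMul (s v.toMul) := fun _ _ => rfl
  obtain ⟨κ, hκ1, hκ⟩ := Cfsg.Agent.Lib.Helper76.exists_coord (V := Additive N)
    (cj '' S) (by
      rintro _ ⟨s, hs, rfl⟩ _ ⟨s', hs', rfl⟩
      ext v
      have := congrArg (fun f : MulAut N => f v.toMul) (hcomm s hs s' hs')
      exact congrArg Additive.ofMul this) (by
      intro v w hv hw
      obtain ⟨s, hs, hsv⟩ := htrans v.toMul w.toMul (fun h => hv (by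
        rw [← ofMul_toMul v, h]; rfl)) (fun h => hw (by rw [← ofMul_toMul w, h]; rfl))
      exact ⟨cj s, ⟨s, hs, rfl⟩, by rw [hcj, hsv]; rfl⟩) (Additive.ofMul t) (fun h => ht1 (by
      have := congrArg Additive.toMul h
      simpa using this)) (F := GaloisField 2 n) hF
  have hτt : τ t = t := (hfix t).2 (Or.inr rfl)
  let θ : GaloisField 2 n ≃+ GaloisField 2 n := κ.symm.trans ((MulEquiv.toAdditive τ).trans κ)
  have hθ : ∀ x, θ x = κ (Additive.ofMul (τ (κ.symm x).toMul)) := fun _ => rfl
  have hmul : ∀ x y, θ (x * y) = θ x * θ y := by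
    intro x y
    by_cases hx : x = 0
    · rw [hx, zero_mul, map_zero, zero_mul]
    · have hx' : (κ.symm x).toMul ≠ 1 := by
        intro h
        apply hx
        have h1 : κ.symm x = 0 := by rw [← ofMul_toMul (κ.symm x), h]; rfl
        rw [← κ.apply_symm_apply x, h1, map_zero]
      obtain ⟨s, hs, hst⟩ := htrans t _ ht1 hx'
      have hxs : x = κ (cj s (Additive.ofMul t)) := by
        rw [hcj]
        simp only [toMul_ofMul]
        rw [hst, ofMul_toMul, κ.apply_symm_apply]
      have h1 : x * y = κ (cj s (κ.symm y)) := by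
        rw [hκ (cj s) ⟨s, hs, rfl⟩ (κ.symm y), κ.apply_symm_apply, ← hxs]
      have h2 : θ (x * y) = κ (cj (τ * s * τ⁻¹) (Additive.ofMul (τ (κ.symm y).toMul))) := by
        rw [hθ, h1, κ.symm_apply_apply, hcj, hcj]
        simp
      rw [h2, hκ _ ⟨_, hτS s hs, rfl⟩, ← hθ y]
      congr 1
      rw [hθ, hxs, κ.symm_apply_apply, hcj, hcj]
      simp only [toMul_ofMul, MulAut.mul_apply]
      have : τ⁻¹ t = t := by
        conv_lhs => rw [← hτt]
        exact MulAut.inv_apply_self _ τ t
      rw [this]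
  let σ : GaloisField 2 n ≃+* GaloisField 2 n := { θ with map_mul' := hmul }
  have hσ : ∀ x, σ x = κ (Additive.ofMul (τ (κ.symm x).toMul)) := fun _ => rfl
  have hpow : ∀ (j : ℕ) x, (σ ^ j) x = κ (Additive.ofMul ((τ ^ j) (κ.symm x).toMul)) := by
    intro j
    induction j with
    | zero => intro x; simp
    | succ j ih =>
      intro x
      rw [pow_succ', RingAut.mul_apply, hσ, ih, κ.symm_apply_apply, pow_succ']
      simp
  have h1 := card_of_aut σ p hp (by
    ext x
    rw [hpow, hτp]
    simp) (by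
    intro x hx
    rw [hσ] at hx
    have h2 : τ (κ.symm x).toMul = (κ.symm x).toMul := by
      have := congrArg (fun y => (κ.symm y).toMul) hx
      simpa using this
    rcases (hfix _).1 h2 with h | h
    · left
      have h1 : κ.symm x = 0 := by rw [← ofMul_toMul (κ.symm x), h]; rfl
      rw [← κ.apply_symm_apply x, h1, map_zero]
    · right
      have h1 : κ.symm x = Additive.ofMul t := by rw [← ofMul_toMul (κ.symm x), h]
      rw [← κ.apply_symm_apply x, h1, hκ1]) (by rw [hF]; exact hN)
  rw [hF] at h1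
  exact h1

/-- If a finite group acts faithfully and doubly transitively, no non-identity element fixes three points, some
non-identity element fixes two points, and some normal subgroup acts regularly, then the number of points
is `2^p` with `p` prime. -/
theorem result {G Ω : Type*} [Group G]
    [MulAction G Ω] [Fintype Ω] [FaithfulSMul G Ω] (h2 : MulAction.IsMultiplyPretransitive G Ω 2)
    (h3 : ∀ g : G, ∀ a b c : Ω, a ≠ b → b ≠ c → a ≠ c → g • a = a → g • b = b → g • c = c → g = 1)
    (hfix : ∃ g : G, g ≠ 1 ∧ ∃ a b : Ω, a ≠ b ∧ g • a = a ∧ g • b = b)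
    (N : Subgroup G) [N.Normal] (hNt : MulAction.IsPretransitive N Ω)
    (hNr : ∀ a : Ω, MulAction.stabilizer N a = ⊥) :
    ∃ p : ℕ, p.Prime ∧ Fintype.card Ω = 2 ^ p := by
  classical
  haveI : Finite G := Finite.of_injective (MulAction.toPermHom G Ω) MulAction.toPerm_injective
  obtain ⟨g, hg1, a, b, hab, hga, hgb⟩ := hfix
  have hn : 3 ≤ Fintype.card Ω := by
    obtain ⟨c, hc⟩ : ∃ c : Ω, g • c ≠ c := by
      by_contra hcon
      push Not at hcon
      exact hg1 (FaithfulSMul.eq_of_smul_eq_smul (α := Ω) (fun x => by rw [hcon x, one_smul]))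
    have hca : c ≠ a := fun h => hc (h ▸ hga)
    have hcb : c ≠ b := fun h => hc (h ▸ hgb)
    have h3c : ({a, b, c} : Finset Ω).card = 3 := by
      rw [Finset.card_eq_three]; exact ⟨a, b, c, hab, hca.symm, hcb.symm, rfl⟩
    rw [← h3c]; exact Finset.card_le_univ _
  have hE : 1 < Nat.card ↥(MulAction.stabilizer G a ⊓ MulAction.stabilizer G b) := by
    rw [Finite.one_lt_card_iff_nontrivial]
    exact ⟨⟨g, hga, hgb⟩, 1, fun h => hg1 (congrArg Subtype.val h)⟩
  obtain ⟨p, hp, hpd⟩ := Nat.exists_prime_and_dvd (Nat.ne_of_gt hE)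
  haveI := Fact.mk hp
  obtain ⟨⟨h, hhE⟩, hho⟩ := exists_prime_orderOf_dvd_card' p hpd
  rw [Subgroup.orderOf_mk] at hho
  have hh1 : h ≠ 1 := by
    rintro rfl
    rw [orderOf_one] at hho
    exact hp.one_lt.ne hho
  have hha : h • a = a := hhE.1
  have hhb : h • b = b := hhE.2
  have hhfix : ∀ c, h • c = c → c = a ∨ c = b := by
    intro c hc
    by_contra hcon
    push Not at hcon
    exact hh1 (h3 h a b c hab hcon.2.symm hcon.1.symm hha hhb hc)
  obtain ⟨K, hKa, hKcard, hKfix, hKnil, hKn⟩ :=
    Cfsg.Agent.Lib.Helper54.Zass.exists_kernel' h2 h3 hab hn hE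
  have hreg : ∀ n ∈ N, ∀ x : Ω, n • x = x → n = 1 := by
    intro n hn x hx
    have : (⟨n, hn⟩ : N) ∈ MulAction.stabilizer N x := hx
    rw [hNr x, Subgroup.mem_bot] at this
    exact congrArg Subtype.val this
  have hreg2 : ∀ n ∈ N, ∀ m ∈ N, n • a = m • a → n = m := by
    intro n hn m hm h
    have := hreg (m⁻¹ * n) (N.mul_mem (N.inv_mem hm) hn) a (by rw [mul_smul, h, inv_smul_smul])
    exact (inv_mul_eq_one.1 this).symm
  have hconj : ∀ f : G, f • a = a → ∀ n : G, (f * n * f⁻¹) • a = f • n • a := by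
    intro f hf n
    rw [mul_smul, mul_smul, inv_smul_eq_iff.2 hf.symm]
  have hNn : ∀ f : G, ∀ n ∈ N, f * n * f⁻¹ ∈ N := fun f n hn => ‹N.Normal›.conj_mem n hn f
  obtain ⟨⟨t, htN⟩, hta⟩ := MulAction.exists_smul_eq N a b
  replace hta : t • a = b := hta
  have ht1 : t ≠ 1 := by
    rintro rfl
    rw [one_smul] at hta
    exact hab hta
  have hht : h * t * h⁻¹ = t := hreg2 _ (hNn h t htN) t htN (by rw [hconj h hha, hta, hhb])
  have htt : t * t = 1 := by
    have h1 : h • (t • b) = t • b := by
      have h2 : h * t = t * h := by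
        have := congrArg (· * h) hht
        simpa using this
      rw [← mul_smul, h2, mul_smul, hhb]
    rcases hhfix _ h1 with h2 | h2
    · exact hreg _ (N.mul_mem htN htN) a (by rw [mul_smul, hta, h2])
    · exact absurd (hreg t htN b h2) ht1
  have hexp : ∀ n ∈ N, n * n = 1 := by
    intro n hn
    by_cases hn1 : n = 1
    · rw [hn1, one_mul]
    · have hna : a ≠ n • a := fun h => hn1 (hreg n hn a h.symm)
      obtain ⟨f, hfa, hfb⟩ := Cfsg.Agent.Lib.Helper54.Zass.two_trans h2 hab hna
      have : n = f * t * f⁻¹ := hreg2 n hn _ (hNn f t htN) (by rw [hconj f hfa, hta, hfb])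
      rw [this]
      have : f * t * f⁻¹ * (f * t * f⁻¹) = f * (t * t) * f⁻¹ := by group
      rw [this, htt]
      group
  have hNcomm : ∀ n ∈ N, ∀ m ∈ N, n * m = m * n := by
    intro n hn m hm
    have h1 := hexp (n * m) (N.mul_mem hn hm)
    have h2 := hexp n hn
    have h3 := hexp m hm
    calc n * m = (m * m) * (n * m) * (n * n) := by rw [h2, h3]; group
      _ = m * (m * n) * (m * n) * n := by group
      _ = m * (m * n * (m * n)) * n := by group
      _ = m * n := by rw [hexp (m * n) (N.mul_mem hm hn)]; group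
  have hNcard : Nat.card N = Fintype.card Ω := by
    rw [← Nat.card_eq_fintype_card]
    apply Nat.card_congr
    refine Equiv.ofBijective (fun n : N => (n : G) • a) ⟨?_, ?_⟩
    · intro n m hnm
      exact Subtype.ext (hreg2 n n.2 m m.2 hnm)
    · intro c
      obtain ⟨n, hn⟩ := MulAction.exists_smul_eq N a c
      exact ⟨n, hn⟩
  obtain ⟨n, hn2⟩ : ∃ n : ℕ, Nat.card N = 2 ^ n := by
    haveI : Fact (Nat.Prime 2) := ⟨Nat.prime_two⟩
    apply IsPGroup.iff_card.1
    intro x
    refine ⟨1, ?_⟩
    apply Subtype.ext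
    have := hexp x x.2
    simpa [pow_two] using this
  have hKb : ∀ c : Ω, c ≠ a → ∃ k ∈ K, k • b = c := by
    let φ : K → {c : Ω // c ≠ a} := fun k => ⟨(k : G) • b, fun hk => hab (by
      have h1 : (k : G) • a = a := hKa k.2
      rw [← h1] at hk
      exact (MulAction.injective (k : G) hk).symm)⟩
    have hφ : Function.Injective φ := by
      intro k k' hkk
      have h1 : (k : G) • b = (k' : G) • b := congrArg Subtype.val hkk
      by_contra hne
      have h2 : ((k' : G)⁻¹ * k) ≠ 1 := fun h => hne (Subtype.ext (inv_mul_eq_one.1 h).symm)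
      exact hab (hKfix _ (K.mul_mem (K.inv_mem k'.2) k.2) h2 b
        (by rw [mul_smul, h1, inv_smul_smul])).symm
    have hbij := hφ.bijective_of_nat_card_le (by
      rw [Nat.card_eq_fintype_card, Fintype.card_subtype_compl, Fintype.card_subtype_eq]
      omega)
    intro c hc
    obtain ⟨k, hk⟩ := hbij.2 ⟨c, hc⟩
    exact ⟨k, k.2, congrArg Subtype.val hk⟩
  have hKodd : Odd (Nat.card K) := by
    have h1 : Nat.card K + 1 = 2 ^ n := by rw [hKcard, ← hNcard, hn2]
    have hn0 : n ≠ 0 := by
      rintro rfl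
      have : 0 < Nat.card K := Nat.card_pos
      simp at h1
      omega
    obtain ⟨m, rfl⟩ := Nat.exists_eq_succ_of_ne_zero hn0
    rw [pow_succ] at h1
    exact ⟨2 ^ m - 1, by have : 0 < 2 ^ m := by positivity
                         omega⟩
  have hKcyc : IsCyclic K := by
    apply Cfsg.Agent.Lib.Helper31.fpf_odd_nilpotent_isCyclic K N
      (by rw [Subgroup.normalizer_eq_top_iff.2 (inferInstance : N.Normal)]; exact le_top)
      (fun h => ht1 (by rw [← Subgroup.mem_bot, ← h]; exact htN)) _ hKnil hKodd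
    intro e he he1
    rw [Subgroup.eq_bot_iff_forall]
    intro x hx
    obtain ⟨hxN, hxc⟩ := Subgroup.mem_inf.1 hx
    rw [Subgroup.mem_centralizer_singleton_iff] at hxc
    apply hreg x hxN a
    apply hKfix e he he1
    rw [← mul_smul, ← hxc, mul_smul, hKa he]
  have hKcomm : ∀ k ∈ K, ∀ k' ∈ K, k * k' = k' * k := by
    intro k hk k' hk'
    have := hKcyc.isMulCommutative.is_comm.comm ⟨k, hk⟩ ⟨k', hk'⟩
    exact congrArg Subtype.val this
  letI : CommGroup N := { (inferInstance : Group N) with
    mul_comm := fun x y => Subtype.ext (hNcomm x x.2 y y.2) }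
  have hfin := core (N := N) ((MulAut.conjNormal : G →* MulAut N) '' (K : Set G)) (by
      rintro _ ⟨k, hk, rfl⟩ _ ⟨k', hk', rfl⟩
      rw [← map_mul, ← map_mul, hKcomm k hk k' hk']) (by
      intro v w hv hw
      have hva : (v : G) • a ≠ a := fun h => hv (Subtype.ext (hreg v v.2 a h))
      have hwa : (w : G) • a ≠ a := fun h => hw (Subtype.ext (hreg w w.2 a h))
      obtain ⟨k1, hk1, hk1b⟩ := hKb _ hva
      obtain ⟨k2, hk2, hk2b⟩ := hKb _ hwa
      refine ⟨_, ⟨k2 * k1⁻¹, K.mul_mem hk2 (K.inv_mem hk1), rfl⟩, ?_⟩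
      apply Subtype.ext
      rw [MulAut.conjNormal_apply]
      apply hreg2 _ (hNn _ _ v.2) _ w.2
      rw [hconj _ (hKa (K.mul_mem hk2 (K.inv_mem hk1))), ← hk1b, mul_smul, inv_smul_smul, hk2b])
    (MulAut.conjNormal h) (by
      rintro _ ⟨k, hk, rfl⟩
      refine ⟨h * k * h⁻¹, hKn h hha k hk, ?_⟩
      rw [map_mul, map_mul, map_inv]) p hp (by
      rw [← map_pow, ← hho, pow_orderOf_eq_one, map_one]) ⟨t, htN⟩
    (fun h => ht1 (congrArg Subtype.val h)) (by
      intro v
      constructor
      · intro hv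
        have h1 : h * v * h⁻¹ = v := by
          rw [← MulAut.conjNormal_apply, hv]
        have h2 : h • ((v : G) • a) = (v : G) • a := by
          rw [← hconj h hha, h1]
        rcases hhfix _ h2 with h3 | h3
        · left; exact Subtype.ext (hreg v v.2 a h3)
        · right; exact Subtype.ext (hreg2 v v.2 t htN (by rw [h3, hta]))
      · rintro (rfl | rfl)
        · exact map_one _
        · apply Subtype.ext
          rw [MulAut.conjNormal_apply]
          exact hht) n hn2 (by rw [hNcard]; omega)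
  exact ⟨p, hp, by rw [← hNcard]; exact hfin⟩

end Cfsg.Agent.S0341
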