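import Cfsg.Statements.S0346
-- import your own Cfsg.Agent.* helpers here
import Cfsg.Agent.S0885
import Cfsg.Agent.S0738
import Cfsg.Agent.S0741
import Cfsg.Agent.Lib.Helper69.Zass
import Cfsg.Agent.Lib.Helper54.ZassCount

set_option autoImplicit false
open Cfsg

namespace Cfsg.Agent.S0346

/-- The number of points of a finite simple Zassenhaus group is `p^k + 1` for some prime power `p^k` (the regular normal
subgroup of a point stabiliser is a `p`-group). -/
theorem result {G Ω : Type*} [Group G] [Finite G] [MulAction G Ω] [Fintype Ω]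
    (hZ : Cfsg.IsZassenhausGroup G Ω) [IsSimpleGroup G] :
    IsPrimePow (Fintype.card Ω - 1) := by
  classical
  obtain ⟨g0, hg0, a, b, hab, hga, hgb⟩ := hZ.2.2.2.1
  haveI := hZ.1
  obtain ⟨c, hc⟩ : ∃ c : Ω, g0 • c ≠ c := by
    by_contra hcon
    push Not at hcon
    apply hg0
    apply FaithfulSMul.eq_of_smul_eq_smul (α := Ω)
    intro x
    rw [hcon x, one_smul]
  have hac : a ≠ c := by
    rintro rfl
    exact hc hga
  have hbc : b ≠ c := by
    rintro rfl
    exact hc hgb
  obtain ⟨K, hKa, hKn, hKfree, hKtrans⟩ := Cfsg.Agent.Lib.Helper69.Zass.exists_kernel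
    (fun a b c d h1 h2 => Cfsg.Agent.Lib.Helper54.Zass.two_trans hZ.2.1 h1 h2)
    hZ.2.2.1 a b c hab hbc hac g0 hg0 hga hgb
  have hKle : K ≤ MulAction.stabilizer G a := fun k hk => hKa k hk
  have hKnorm : (K.subgroupOf (MulAction.stabilizer G a)).Normal :=
    ⟨fun k hk f => hKn f.1 f.2 k.1 hk⟩
  have huniq : ∀ y : Ω, y ≠ a → ∀ u v : K, (u : G) • y = (v : G) • y → u = v := by
    intro y hy u v huv
    by_contra hne
    have h1 : (v : G)⁻¹ * u ≠ 1 := by
      intro h
      apply hne
      apply Subtype.ext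
      have := eq_of_inv_mul_eq_one h
      exact this.symm
    apply hKfree _ (K.mul_mem (K.inv_mem v.2) u.2) h1 y hy
    rw [mul_smul, huv, inv_smul_smul]
  have hreg : ∀ y z : Ω, y ≠ a → z ≠ a → ∃! u : K, (u : G) • y = z := by
    intro y z hy hz
    obtain ⟨k, hk, hkyz⟩ := hKtrans y z hy hz
    refine ⟨⟨k, hk⟩, hkyz, ?_⟩
    intro v hv
    exact huniq y hy v ⟨k, hk⟩ (by rw [hv]; exact hkyz.symm)
  have hcard : Nat.card K + 1 = Fintype.card Ω := by
    have hbij : Function.Bijective (fun k : K => (⟨(k : G) • b, by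
        intro h
        apply hab
        have : (k : G) • b = (k : G) • a := by rw [h, hKa k k.2]
        exact (smul_left_cancel _ this).symm⟩ : {x : Ω // x ≠ a})) := by
      constructor
      · intro u v huv
        exact huniq b hab.symm u v (congrArg Subtype.val huv)
      · rintro ⟨z, hz⟩
        obtain ⟨k, hk, hkz⟩ := hKtrans b z hab.symm hz
        exact ⟨⟨k, hk⟩, Subtype.ext hkz⟩
    rw [Nat.card_congr (Equiv.ofBijective _ hbij), Nat.card_eq_fintype_card,
      Fintype.card_subtype_compl]
    simp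
    have : 0 < Fintype.card Ω := Fintype.card_pos_iff.2 ⟨a⟩
    omega
  have h3 : 3 ≤ Fintype.card Ω := by
    have : ({a, b, c} : Finset Ω).card ≤ Fintype.card Ω := Finset.card_le_univ _
    rwa [Finset.card_eq_three.2 ⟨a, b, c, hab, hac, hbc, rfl⟩] at this
  have key : Fintype.card Ω - 2 ≤
      2 * Nat.card ↥(MulAction.stabilizer G a ⊓ MulAction.stabilizer G b : Subgroup G) →
      IsPrimePow (Fintype.card Ω - 1) := by
    intro hd
    obtain ⟨_, p, f, hp, _, hΩ⟩ := Cfsg.Agent.S0738.result hZ hab hd K hKle hKnorm hreg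
    rw [hΩ, Nat.add_sub_cancel]
    apply hp.isPrimePow.pow
    rintro rfl
    simp at hΩ
    omega
  rcases Nat.even_or_odd
    (Nat.card ↥(MulAction.stabilizer G a ⊓ MulAction.stabilizer G b : Subgroup G)) with he | ho
  · exact key (Cfsg.Agent.S0741.result hZ hab he)
  · rcases Cfsg.Agent.S0885.result hZ hab (Fintype.card Ω - 1) _ (by omega) rfl ho K hKle hcard
      (fun u hu hu1 x hx => by
        by_contra hxa
        exact hKfree u hu hu1 x hxa hx) with h1 | ⟨h1, _, _⟩
    · exact key (by omega)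
    · obtain ⟨n, hn⟩ := IsPGroup.iff_card.1 h1
      have : Fintype.card Ω - 1 = 2 ^ n := by omega
      rw [this]
      apply Nat.prime_two.isPrimePow.pow
      rintro rfl
      simp at this
      omega

end Cfsg.Agent.S0346
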