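import Cfsg.Statements.S0619
import Cfsg.Agent.Lib.Helper55.ModelJ
import Cfsg.Agent.Lib.Helper15.ZJBridge
import Cfsg.Agent.Lib.Helper12.Card

set_option autoImplicit false
open Cfsg

namespace Cfsg.Agent.S0619

/-- For a p-separable group and a normal elementary abelian p-subgroup V with no nontrivial normal p-subgroup modulo its centralizer C, the Thompson subgroup J(G) moves Ω₁(Z(J(C))) only inside V. -/
theorem result {G : Type*} [Group G] [Finite G] {p : ℕ} [Fact p.Prime] (hsep : Cfsg.IsPSolvable p G) (V : Subgroup G) [V.Normal] (hV : Cfsg.IsElementaryAbelian p V) (hO : Cfsg.pCore p (G ⧸ Subgroup.centralizer (V : Set G)) = ⊥) : ⁅Cfsg.omegaOne p (Cfsg.centerThompsonOf p (Subgroup.centralizer (V : Set G))), Cfsg.thompsonSubgroup p G⁆ ≤ V := by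
  classical
  open Cfsg.Agent.Lib.Helper55 Cfsg.Agent.Lib.Helper15.ZJ Subgroup commutatorElement in
  set C := centralizer (V : Set G) with hC
  have hVPE : PE p V := PE_iff_isElementaryAbelian.2 hV
  have hVC : V ≤ C := by
    intro v hv
    rw [hC, mem_centralizer_iff]
    intro w hw
    exact hVPE.1 w hw v hv
  -- step 1
  have hW : Cfsg.omegaOne p (Cfsg.centerThompsonOf p C) ≤ ZE p C := by
    unfold Cfsg.omegaOne Cfsg.centerThompsonOf
    rw [closure_le, thompsonSubgroupOf_eq]
    rintro x ⟨hx, hxp⟩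
    exact mem_ZE_iff'.2 ⟨sSup_AE_le p C hx.1, hxp, hx.2⟩
  have F := ffs_model V hsep hV (noPCore_of_quotient V hO) ⊤
  -- step 2
  have key : ∀ A ∈ AE p (⊤ : Subgroup G), ⁅ZE p C, A⁆ ≤ V := by
    intro A hA
    have hAm : A ∈ Cfsg.maxElementaryAbelianSubgroups p G := by
      rw [maxElementaryAbelianSubgroups_eq]; exact hA
    have hbo := bestOffender_map V (Cfsg.Agent.S0606.result V hV A hAm)
    have e2 := ((F.bestOffender_iff (map_mono le_top)).1 hbo).2
    rw [card_cv, card_VV] at e2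
    have e1 := Cfsg.Agent.Lib.Helper1.card_map_mul_card_inf_ker (rho V) A
    rw [ker_rho, ← hC, inf_comm] at e1
    have e3 := Cfsg.Agent.Lib.Helper12.card_sup_mul_card_inf (A ⊓ C) V
    have e4 : Nat.card ↥(A ⊓ C ⊓ V : Subgroup G) ≤ Nat.card ↥(V ⊓ centralizer (A : Set G)) := by
      apply card_le_of_le
      intro x hx
      refine ⟨hx.2, ?_⟩
      show x ∈ centralizer (A : Set G)
      rw [mem_centralizer_iff]
      intro a ha
      exact hA.2.1.1 a ha x hx.1.1
    have hcard : Nat.card ↥A ≤ Nat.card ↥(A ⊓ C ⊔ V : Subgroup G) := by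
      have hpos : 0 < Nat.card ↥(A ⊓ C ⊓ V : Subgroup G) := Nat.card_pos
      apply Nat.le_of_mul_le_mul_right _ hpos
      rw [e3, ← e2, ← e1]
      calc _ ≤ Nat.card ↥(A.map (rho V)) * Nat.card ↥(A ⊓ C : Subgroup G) *
            Nat.card ↥(V ⊓ centralizer (A : Set G)) := Nat.mul_le_mul_left _ e4
        _ = _ := by ring
    have hB : (A ⊓ C ⊔ V : Subgroup G) ∈ AE p C := by
      refine ⟨sup_le inf_le_right hVC, ?_, ?_⟩
      · apply PE_sup (hA.2.1.mono inf_le_left) hVPE
        intro a ha b hb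
        exact ((mem_centralizer_iff.1 ha.2) b hb).symm
      · intro B₂ _ hB₂
        exact (hA.2.2 B₂ le_top hB₂).trans hcard
    refine (commutator_mono (ZE_le_of_mem hB) le_rfl).trans ?_
    rw [commutator_le]
    intro b hb a ha
    obtain ⟨a₀, ha₀, v, hv, rfl⟩ := mem_sup_of_normal_right.1 hb
    have hcomm : a₀ * a = a * a₀ := hA.2.1.1 a₀ ha₀.1 a ha
    have : ⁅a₀ * v, a⁆ = a₀ * (v * (a * v⁻¹ * a⁻¹)) * a₀⁻¹ := by
      rw [commutatorElement_def]
      have h1 : a₀⁻¹ * a⁻¹ = a⁻¹ * a₀⁻¹ := by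
        rw [← mul_inv_rev, ← mul_inv_rev, hcomm]
      calc a₀ * v * a * (a₀ * v)⁻¹ * a⁻¹ = a₀ * v * a * v⁻¹ * (a₀⁻¹ * a⁻¹) := by group
        _ = _ := by rw [h1]; group
    rw [this]
    have hn : V.Normal := inferInstance
    exact hn.conj_mem _ (mul_mem hv (hn.conj_mem _ (inv_mem hv) a)) a₀
  -- step 3
  refine (commutator_mono hW le_rfl).trans ?_
  have h3 : Cfsg.thompsonSubgroup p G ≤
      (centralizer (((ZE p C).map (QuotientGroup.mk' V) : Subgroup (G ⧸ V)) : Set (G ⧸ V))).comap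
        (QuotientGroup.mk' V) := by
    rw [thompsonSubgroup_eq]
    apply sSup_le
    intro A hA
    rw [← map_le_iff_le_comap, le_centralizer_iff, ← commutator_eq_bot_iff_le_centralizer,
      ← map_commutator, ← le_bot_iff, map_le_iff_le_comap]
    intro x hx
    rw [mem_comap, mem_bot, QuotientGroup.mk'_apply, QuotientGroup.eq_one_iff]
    exact key A hA hx
  rw [← map_le_iff_le_comap, le_centralizer_iff, ← commutator_eq_bot_iff_le_centralizer,
      ← map_commutator, ← le_bot_iff, map_le_iff_le_comap] at h3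
  intro x hx
  have := h3 hx
  rw [mem_comap, mem_bot, QuotientGroup.mk'_apply, QuotientGroup.eq_one_iff] at this
  exact this

end Cfsg.Agent.S0619
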