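import Cfsg.Statements.S0621
import Cfsg.Agent.Lib.Helper55.ModelX2

set_option autoImplicit false
open Cfsg

namespace Cfsg.Agent.S0621

/-- Let K be p-separable with O_p'(K) = 1, normalized by an elementary abelian q-group X for a prime q not dividing the order of K. If the Thompson factorization fails in K, then p is 2 or 3 and the fixed points of X contain a plane W of order p² and a subgroup inducing SL(2, p) on it. -/
theorem result {G : Type*} [Group G] [Finite G] {p : ℕ} [Fact p.Prime] {q : ℕ} [Fact q.Prime] (K X : Subgroup G) (hXK : X ≤ Subgroup.normalizer (K : Set G)) (hX : Cfsg.IsElementaryAbelian q X) (hq : ¬ q ∣ Nat.card K) (hsep : Cfsg.IsPSolvable p ↥K) (hO : Cfsg.pPrimeCore p ↥K = ⊥) (hnf : ¬ Cfsg.IsThompsonFactorizable p ↥K) : (p = 2 ∨ p = 3) ∧ ∃ W D : Subgroup G, W ≤ K ⊓ Subgroup.centralizer (X : Set G) ∧ D ≤ K ⊓ Subgroup.centralizer (X : Set G) ∧ Cfsg.IsElementaryAbelian p W ∧ Nat.card W = p ^ 2 ∧ D ≤ Subgroup.normalizer (W : Set G) ∧ ∃ hn : ((Subgroup.centralizer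 (W : Set G)).subgroupOf D).Normal, Nonempty ((↥D ⧸ (Subgroup.centralizer (W : Set G)).subgroupOf D) ≃* Matrix.SpecialLinearGroup (Fin 2) (ZMod p)) := by
  open Cfsg.Agent.Lib Cfsg.Agent.Lib.Helper55 in
  obtain ⟨hp23, W, D, hWF, hDF, hWe, hWc, hDW, Ψ, hΨs, hΨk⟩ :=
    fixed_points_involve_SL2 hsep hO hq hnf (Helper14.IsElementaryAbelian.isPGroup hX)
      (fun ξ => Subtype.ext (hX.2 ξ ξ.2)) (opOn hXK)
      ((Subgroup.centralizer (X : Set G)).subgroupOf K)
      (fun c => by
        rw [Subgroup.mem_subgroupOf, Subgroup.mem_centralizer_iff]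
        constructor
        · intro h ξ
          apply Subtype.ext
          rw [opOn_coe, h ξ ξ.2, mul_inv_cancel_right]
        · intro h x hx
          have h1 := congrArg Subtype.val (h ⟨x, hx⟩)
          rw [opOn_coe] at h1
          have h2 : x * (c : G) * x⁻¹ = c := h1
          calc x * (c : G) = (x * c * x⁻¹) * x := by group
            _ = c * x := by rw [h2])
      (fun k hk => exists_fixed_in_coset hXK hX hq _ k hk)
  refine ⟨hp23, W.map K.subtype, D.map K.subtype, ?_, ?_, Helper14.IsElementaryAbelian.map hWe _, ?_,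
    ?_, ?_⟩
  · rintro _ ⟨w, hw, rfl⟩
    exact Subgroup.mem_inf.2 ⟨w.2, hWF hw⟩
  · rintro _ ⟨d, hd, rfl⟩
    exact Subgroup.mem_inf.2 ⟨d.2, hDF hd⟩
  · rw [Subgroup.card_map_of_injective K.subtype_injective, hWc]
  · apply le_normalizer_of_conj_mem
    rintro _ ⟨d, hd, rfl⟩ _ ⟨w, hw, rfl⟩
    exact ⟨d * w * d⁻¹, (Subgroup.mem_normalizer_iff.1 (hDW hd) w).1 hw, rfl⟩
  · let e := D.equivMapOfInjective K.subtype K.subtype_injective
    apply exists_quotient_equiv _ (Ψ.comp e.symm.toMonoidHom) (hΨs.comp e.symm.surjective)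
    intro d
    obtain ⟨d, rfl⟩ := e.surjective d
    show Ψ (e.symm (e d)) = 1 ↔ _
    rw [e.symm_apply_apply, hΨk, Subgroup.mem_subgroupOf, Subgroup.mem_centralizer_iff,
      Subgroup.mem_centralizer_iff]
    constructor
    · rintro h _ ⟨w, hw, rfl⟩
      exact congrArg Subtype.val (h w hw)
    · intro h w hw
      exact Subtype.ext (h w ⟨w, hw, rfl⟩)

end Cfsg.Agent.S0621
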