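import Cfsg.Statements.S0627
import Cfsg.Agent.Lib.Helper14.QuadAbstract
import Cfsg.Agent.Lib.Helper14.WFrattini
import Cfsg.Agent.S0274
import Cfsg.Agent.S0624

set_option autoImplicit false
open Cfsg

namespace Cfsg.Agent.S0627

/-- In a p-separable group with p at least 5, the normalizer of W(S) supplements the largest normal subgroup of order prime to p. -/
theorem result {G : Type*} [Group G] [Finite G] {p : ℕ} [Fact p.Prime] (hp : 5 ≤ p) (hsep : Cfsg.IsPSolvable p G) (S : Sylow p G) : Cfsg.pPrimeCore p G ⊔ Subgroup.normalizer (((Cfsg.stableNormalClosure p ↥(S : Subgroup G)).map (S : Subgroup G).subtype) : Set G) = ⊤ := by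
  have hp2 : p ≠ 2 := by omega
  have hD : Lib.Helper14.DicksonLite p := fun F _ _ _ R hR => Cfsg.Agent.S0274.result p hp2 R hR
  set O := Cfsg.pPrimeCore p G with hOdef
  have hO : (Nat.card O).Coprime p := Lib.Helper14.card_pPrimeCore_coprime
  have hπ : Function.Surjective (QuotientGroup.mk' O) := QuotientGroup.mk'_surjective O
  have hsol : Cfsg.IsPSolvable p (G ⧸ O) := Lib.Helper14.IsPSolvable.quotient hsep O
  have hst : Cfsg.IsActionPStable p (G ⧸ O) :=
    Lib.Helper14.isActionPStable_of_not_involves hD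
      (Lib.Helper14.not_involves_SL2_of_isPSolvable hp hsol)
  have hc : Subgroup.centralizer (Cfsg.pCore p (G ⧸ O) : Set (G ⧸ O)) ≤ Cfsg.pCore p (G ⧸ O) :=
    Lib.Helper14.centralizer_pCore_le_of_isPSolvable hsol
      Lib.Helper14.pPrimeCore_quotient_pPrimeCore
  have hn := Cfsg.Agent.S0624.result hst hc (S.mapSurjective hπ)
  have hn' : ((Cfsg.stableNormalClosure p ↥((S : Subgroup G).map (QuotientGroup.mk' O))).map
      ((S : Subgroup G).map (QuotientGroup.mk' O)).subtype).Normal := hn
  rw [Lib.Helper14.map_stableNormalClosure_map_mk' O hO (S : Subgroup G) S.2] at hn'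
  set W := (Cfsg.stableNormalClosure p ↥(S : Subgroup G)).map (S : Subgroup G).subtype with hW
  have hWp : IsPGroup p W := (S.2.to_subgroup _).map _
  have hM : (W ⊔ O).Normal := by
    have h1 : ((W.map (QuotientGroup.mk' O)).comap (QuotientGroup.mk' O)).Normal :=
      hn'.comap _
    rwa [Subgroup.comap_map_eq, QuotientGroup.ker_mk'] at h1
  exact Lib.Helper14.sup_normalizer_eq_top_of_sup_normal W O hWp hO hM

end Cfsg.Agent.S0627
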