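import Cfsg.Statements.S0628
import Cfsg.Agent.Lib.Helper62.ZJComplement
import Cfsg.Agent.S0624
import Cfsg.Agent.S0622
import Cfsg.Agent.S0072

set_option autoImplicit false
open Cfsg

namespace Cfsg.Agent.S0628

open Subgroup Cfsg.Agent.Lib.Helper77 Cfsg.Agent.Lib.Helper62
open scoped commutatorElement

universe u

/-- `PAP` groups act `p`-stably on their normal `p`-subgroups -/
theorem isPStableOn_of_PAP {p : ℕ} [hp : Fact p.Prime] (hp2 : p ≠ 2) {X : Type u} [Group X]
    [Finite X] {H K : Subgroup X} (h : PAP p H K) (V : Subgroup X) [hVn : V.Normal]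
    (hVp : IsPGroup p V) : Cfsg.IsPStableOn p V := by
  intro a hq
  have hst := h.pstable hp2 hVn hVp (quadOn_of_commutator hq)
  have hsurj := QuotientGroup.mk'_surjective (centralizer (V : Set X))
  have hLn : ((normalClosure ({a} : Set X)).map (QuotientGroup.mk' (centralizer (V : Set X)))).Normal :=
    normalClosure_normal.map _ hsurj
  have hLp : IsPGroup p ((normalClosure ({a} : Set X)).map
      (QuotientGroup.mk' (centralizer (V : Set X)))) := by
    rintro ⟨_, x, hx, rfl⟩
    obtain ⟨n, hn⟩ := hst x hx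
    refine ⟨n, Subtype.ext ?_⟩
    change (QuotientGroup.mk' _ x) ^ p ^ n = 1
    rw [← map_pow, QuotientGroup.mk'_apply, QuotientGroup.eq_one_iff]
    exact hn
  exact Cfsg.Agent.Lib.Helper14.le_pCore hLn hLp
    ⟨_, subset_normalClosure (Set.mem_singleton _), rfl⟩

theorem isPStableOnSection_of_PAP {p : ℕ} [hp : Fact p.Prime] (hp2 : p ≠ 2) {X : Type u} [Group X]
    [Finite X] {H K : Subgroup X} (h : PAP p H K) (V N : Subgroup X) [hVn : V.Normal]
    [hNn : N.Normal] (hVp : IsPGroup p V) : Cfsg.IsPStableOnSection p V N := by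
  intro a hq
  let f := QuotientGroup.mk' N
  have hsurj : Function.Surjective f := QuotientGroup.mk'_surjective N
  have hPAP := h.map f hsurj
  have hVn' : (V.map f).Normal := hVn.map f hsurj
  have hVp' : IsPGroup p (V.map f) := hVp.map f
  have hq' : ⁅⁅V.map f, zpowers (f a)⁆, zpowers (f a)⁆ = ⊥ := by
    rw [← MonoidHom.map_zpowers, ← map_commutator, ← map_commutator, eq_bot_iff]
    rintro _ ⟨x, hx, rfl⟩
    rw [mem_bot]
    exact (QuotientGroup.eq_one_iff x).2 (hq hx)
  have hst := hPAP.pstable hp2 hVn' hVp' (quadOn_of_commutator hq')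
  set C := centralizer ((V.map f : Subgroup (X ⧸ N)) : Set (X ⧸ N)) with hC
  have hCn : C.Normal := inferInstance
  set L := normalClosure ({f a} : Set (X ⧸ N)) with hL
  have hLn : L.Normal := normalClosure_normal
  refine ⟨(L ⊔ C).comap f, inferInstance, comap_mono le_sup_right, ?_,
    mem_sup_left (subset_normalClosure (Set.mem_singleton _))⟩
  have h1 : (Cfsg.sectionKernel V N).relIndex ((L ⊔ C).comap f) = C.relIndex L := by
    show (C.comap f).relIndex ((L ⊔ C).comap f) = C.relIndex L
    rw [relIndex_comap, map_comap_eq_self_of_surjective hsurj, relIndex_sup_right]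
  rw [h1]
  have hp' : IsPGroup p (L ⧸ C.subgroupOf L) := by
    intro y
    obtain ⟨x, rfl⟩ := QuotientGroup.mk'_surjective _ y
    obtain ⟨n, hn⟩ := hst x.1 x.2
    refine ⟨n, ?_⟩
    rw [← map_pow, QuotientGroup.mk'_apply, QuotientGroup.eq_one_iff, mem_subgroupOf]
    exact hn
  obtain ⟨k, hk⟩ := IsPGroup.iff_card.1 hp'
  exact ⟨k, hk⟩

theorem isActionPStable_of_PAP {p : ℕ} [hp : Fact p.Prime] (hp2 : p ≠ 2) {X : Type u} [Group X]
    [Finite X] {H K : Subgroup X} (h : PAP p H K) : Cfsg.IsActionPStable p X := by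
  refine ⟨?_, ?_, ?_⟩
  · intro V _ hV
    apply isPStableOn_of_PAP hp2 h V
    intro v
    refine ⟨1, Subtype.ext ?_⟩
    rw [pow_one]
    exact hV.2 v.1 v.2
  · have : (Cfsg.pCore p X).Normal := inferInstance
    exact isPStableOnSection_of_PAP hp2 h _ _ Cfsg.Agent.Lib.Helper14.isPGroup_pCore
  · intro S V _ hV
    have hN := h.comap (normalizer (Cfsg.thompsonSubgroupOf p (S : Subgroup X) : Set X)).subtype
      (subtype_injective _)
    apply isPStableOn_of_PAP hp2 hN V
    have h1 : IsPGroup p (V.map
        (normalizer (Cfsg.thompsonSubgroupOf p (S : Subgroup X) : Set X)).subtype) :=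
      S.2.to_le (hV.trans (map_subtype_le _))
    exact h1.of_injective
      (V.equivMapOfInjective _ (subtype_injective _)).toMonoidHom
      (V.equivMapOfInjective _ (subtype_injective _)).injective

theorem isCharPFunctor_W (p : ℕ) [Fact p.Prime] :
    Cfsg.IsCharPFunctor.{u} p (fun Q _ => Cfsg.stableNormalClosure p Q) :=
  ⟨fun _ _ _ hQ hnt => (Cfsg.Agent.S0622.result hQ).2.2.2.1 hnt,
    fun _ R _ _ _ hQ φ => (Cfsg.Agent.S0622.result hQ).2.2.2.2 R φ⟩

theorem npc_of_npc_normalizer_W {p : ℕ} [hp : Fact p.Prime] (hp2 : p ≠ 2)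
    {G : Type u} [Group G] [Finite G] (P : Sylow p G)
    (hN : NPC p (normalizer (Cfsg.inducedFunctor (fun Q _ => Cfsg.stableNormalClosure p Q)
      (P : Subgroup G) : Set G))) : NPC p G := by
  have hW := isCharPFunctor_W.{u} p
  have F : Frame p (fun (X : Type u) _ => True)
      (fun X _ R => NPC p (normalizer (Cfsg.inducedFunctor
        (fun Q _ => Cfsg.stableNormalClosure p Q) R : Set X))) :=
    { sub := fun _ _ _ _ => trivial
      quot := fun _ _ _ _ _ => trivial
      loc := by
        intro X _ _ _ R hR h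
        exact h _ (ind_le _) (ind_ne_bot hW _ R.2 hR) (absChar_ind hW _ R.2)
      res := by
        intro X _ _ Y R hRY h
        apply npc_normalizer_of_injective Y.subtype Y.subtype_injective
        have hRp : IsPGroup p ((R : Subgroup X).subgroupOf Y) := R.2.comap_subtype
        rw [← ind_map hW Y.subtype ((R : Subgroup X).subgroupOf Y) hRp Y.subtype_injective.injOn,
          subgroupOf_map_subtype, inf_of_le_left hRY]
        exact h
      pquot := by
        intro X _ _ D _ hD R h
        rw [ind_map hW _ _ R.2 (injOn_mk'_of_coprime D hD R.2)]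
        exact npc_normalizer_quot D hD (R.2.to_le (ind_le _)) h
      fin := by
        intro X _ _ _ hH hC hq hco
        obtain ⟨T⟩ : Nonempty (Sylow p X) := inferInstance
        obtain ⟨K, hPAP⟩ := exists_PAP (Cfsg.pCore p X) Cfsg.Agent.Lib.Helper14.isPGroup_pCore hq T
          (hco T)
        have hn := Cfsg.Agent.S0624.result (isActionPStable_of_PAP hp2 hPAP) hC T
        exact NPC.of_eq_top (normalizer_eq_top_iff.2 hn) (hH T) }
  apply F.main _ G rfl trivial
  intro T
  obtain ⟨g, rfl⟩ := MulAction.exists_smul_eq G P T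
  have h1 : ((g • P : Sylow p G) : Subgroup G) = (P : Subgroup G).map (MulAut.conj g).toMonoidHom := rfl
  rw [h1, ind_map hW _ _ P.2 (MulAut.conj g).injective.injOn,
    ← map_normalizer_eq_of_bijective _ (MulAut.conj g).bijective]
  exact NPC.of_mulEquiv (equivMapOfInjective _ _ (MulAut.conj g).injective) hN

/-- The normal p-complement Theorem of Thompson in the form with W(S): for odd p, G has a normal p-complement as soon as the normalizer of the characteristic subgroup W(S) of a Sylow p-subgroup S has one. -/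
theorem result {G : Type*} [Group G] [Finite G] {p : ℕ} [Fact p.Prime] (hp : p ≠ 2) (S : Sylow p G) (hN : Cfsg.HasNormalPComplement p ↥(Subgroup.normalizer (((Cfsg.stableNormalClosure p ↥(S : Subgroup G)).map (S : Subgroup G).subtype) : Set G))) : Cfsg.HasNormalPComplement p G := by
  rw [Cfsg.Agent.S0072.hasNPC_iff] at hN ⊢
  exact npc_of_npc_normalizer_W hp S hN

end Cfsg.Agent.S0628
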