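import Cfsg.Statements.S0629
import Cfsg.Agent.Lib.Helper14.PConstrained

set_option autoImplicit false
open Cfsg

namespace Cfsg.Agent.S0629

open Cfsg.Agent.Lib.Helper14

/-- A group in which the centralizer of a Sylow p-subgroup of O_{p',p}(G) is p-solvable is p-constrained. -/
theorem result {G : Type*} [Group G] [Finite G] {p : ℕ} [Fact p.Prime] (P : Sylow p ↥(Cfsg.pPrimePCore p G)) (hsol : Cfsg.IsPSolvable p ↥(Subgroup.centralizer (((P : Subgroup ↥(Cfsg.pPrimePCore p G)).map (Cfsg.pPrimePCore p G).subtype : Subgroup G) : Set G))) : Cfsg.IsPConstrained p G := by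
  rw [isPConstrained_iff]
  apply le_pCore_of_isPSolvable_of_le_centralizer pPrimeCore_quotient_pPrimeCore _ _ le_rfl
  apply IsPSolvable.of_map_eq hsol (QuotientGroup.mk' (Cfsg.pPrimeCore p G))
  rw [← map_sylow_pPrimePCore P]
  apply le_antisymm
  · rintro _ ⟨c, hc, rfl⟩
    rw [Subgroup.mem_centralizer_iff]
    rintro _ ⟨y, hy, rfl⟩
    rw [← map_mul, ← map_mul, (Subgroup.mem_centralizer_iff.mp hc) y hy]
  · intro y hy
    obtain ⟨g, rfl⟩ := QuotientGroup.mk'_surjective _ y
    obtain ⟨c, hc, hcg⟩ := exists_mem_centralizer_lift _ card_pPrimeCore_coprime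
      (P.2.map (Cfsg.pPrimePCore p G).subtype) hy
    exact ⟨c, hc, hcg⟩

end Cfsg.Agent.S0629
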