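import Cfsg.Statements.S0647
-- import your own Cfsg.Agent.* helpers here

set_option autoImplicit false
open Cfsg

namespace Cfsg.Agent.S0647

/-- For a nonempty family of maximal abelian subgroups of a finite group, the intersection of the family is the centre of the subgroup it generates, which is also the full centralizer of that subgroup. -/
theorem result {S : Type*} [Group S] [Finite S] (𝒜 : Set (Subgroup S)) (hne : 𝒜.Nonempty) (hab : ∀ A ∈ 𝒜, IsMulCommutative A) (hmax : ∀ A ∈ 𝒜, ∀ B : Subgroup S, IsMulCommutative B → A ≤ B → B = A) : sInf 𝒜 = sSup 𝒜 ⊓ Subgroup.centralizer ((sSup 𝒜 : Subgroup S) : Set S) ∧ sInf 𝒜 = Subgroup.centralizer ((sSup 𝒜 : Subgroup S) : Set S) := by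
  have h1 : sInf 𝒜 ≤ Subgroup.centralizer ((sSup 𝒜 : Subgroup S) : Set S) := by
    rw [Subgroup.le_centralizer_iff, sSup_le_iff]
    intro A hA
    rw [← Subgroup.le_centralizer_iff]
    intro x hx
    have hxA : x ∈ A := (Subgroup.mem_sInf.mp hx) A hA
    rw [Subgroup.mem_centralizer_iff]
    intro y hy
    have := (hab A hA).is_comm.comm ⟨y, hy⟩ ⟨x, hxA⟩
    exact congrArg Subtype.val this
  have h2 : Subgroup.centralizer ((sSup 𝒜 : Subgroup S) : Set S) ≤ sInf 𝒜 := by
    intro x hx
    rw [Subgroup.mem_sInf]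
    intro A hA
    have hxA : ∀ y ∈ A, y * x = x * y := by
      intro y hy
      exact (Subgroup.mem_centralizer_iff.mp hx) y ((le_sSup hA : A ≤ sSup 𝒜) hy)
    have hcomm : IsMulCommutative ↥(Subgroup.closure ((A : Set S) ∪ {x})) := by
      apply Subgroup.isMulCommutative_closure
      intro a ha b hb
      rcases ha with ha | ha <;> rcases hb with hb | hb
      · exact congrArg Subtype.val ((hab A hA).is_comm.comm ⟨a, ha⟩ ⟨b, hb⟩)
      · rw [Set.mem_singleton_iff.mp hb]; exact hxA a ha
      · rw [Set.mem_singleton_iff.mp ha]; exact (hxA b hb).symm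
      · rw [Set.mem_singleton_iff.mp ha, Set.mem_singleton_iff.mp hb]
    have hle : A ≤ Subgroup.closure ((A : Set S) ∪ {x}) := fun a ha =>
      Subgroup.subset_closure (Or.inl ha)
    have := hmax A hA _ hcomm hle
    rw [← this]
    exact Subgroup.subset_closure (Or.inr rfl)
  have h3 : sInf 𝒜 ≤ sSup 𝒜 := by
    obtain ⟨A, hA⟩ := hne
    exact (sInf_le hA).trans (le_sSup hA)
  exact ⟨le_antisymm (le_inf h3 h1) (inf_le_right.trans h2), le_antisymm h1 h2⟩

end Cfsg.Agent.S0647
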