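import Cfsg.Statements.S0648
import Cfsg.Agent.Lib.Helper14.Commutator
import Cfsg.Agent.Lib.Helper14.Conj

set_option autoImplicit false
open Cfsg

namespace Cfsg.Agent.S0648

open Cfsg.Agent.Lib.Helper14
open scoped commutatorElement

variable {G : Type*} [Group G]

/-- C1 -/
theorem X1 (b x φ d : G) (hx : d * b * d⁻¹ = b * x) (hφ : d * φ * d⁻¹ = φ)
    (hk : d * (b⁻¹ * φ⁻¹ * b * φ) * d⁻¹ = b⁻¹ * φ⁻¹ * b * φ)
    (hkx : Commute (b⁻¹ * φ⁻¹ * b * φ) x) : Commute x φ := by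
  have h1 : d * (b⁻¹ * φ⁻¹ * b * φ) * d⁻¹ =
      (d * b * d⁻¹)⁻¹ * (d * φ * d⁻¹)⁻¹ * (d * b * d⁻¹) * (d * φ * d⁻¹) := by group
  rw [hx, hφ] at h1
  rw [hk] at h1
  -- h1 : k = (b x)⁻¹ φ⁻¹ (b x) φ
  have h2 : (b * x)⁻¹ * φ⁻¹ * (b * x) * φ = x⁻¹ * (b⁻¹ * φ⁻¹ * b * φ) * φ⁻¹ * x * φ := by group
  rw [h2] at h1
  have h3 : x⁻¹ * (b⁻¹ * φ⁻¹ * b * φ) = (b⁻¹ * φ⁻¹ * b * φ) * x⁻¹ := (hkx.inv_right).eq.symm
  rw [h3] at h1
  have h4 : x⁻¹ * φ⁻¹ * x * φ = 1 := by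
    have : (b⁻¹ * φ⁻¹ * b * φ) * (x⁻¹ * φ⁻¹ * x * φ) = (b⁻¹ * φ⁻¹ * b * φ) * 1 := by
      rw [mul_one]
      calc (b⁻¹ * φ⁻¹ * b * φ) * (x⁻¹ * φ⁻¹ * x * φ)
          = b⁻¹ * φ⁻¹ * b * φ * x⁻¹ * φ⁻¹ * x * φ := by group
        _ = b⁻¹ * φ⁻¹ * b * φ := h1.symm
    exact mul_left_cancel this
  show x * φ = φ * x
  have : x * φ = φ * x * (x⁻¹ * φ⁻¹ * x * φ) := by group
  rw [this, h4, mul_one]

/-- C2 -/
theorem X2 (b x f ψ a : G) (hb : a * b * a⁻¹ = b * x) (hf : a * f * a⁻¹ = f * ψ)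
    (hk : a * (b⁻¹ * f⁻¹ * b * f) * a⁻¹ = b⁻¹ * f⁻¹ * b * f)
    (c1 : Commute (b⁻¹ * ψ⁻¹ * b * ψ) x)
    (c2 : Commute (b⁻¹ * f⁻¹ * b * f) x)
    (c3 : Commute (b⁻¹ * f⁻¹ * b * f) ψ)
    (c4 : Commute ψ x) (c5 : Commute ψ f)
    (c6 : Commute (x⁻¹ * f⁻¹ * x * f) (b⁻¹ * f⁻¹ * b * f)) :
    (b⁻¹ * ψ⁻¹ * b * ψ) * (x⁻¹ * f⁻¹ * x * f) = 1 := by
  set kψ := b⁻¹ * ψ⁻¹ * b * ψ with hkψ
  set k' := b⁻¹ * f⁻¹ * b * f with hk'
  set κ := x⁻¹ * f⁻¹ * x * f with hκ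
  have h1 : a * k' * a⁻¹ =
      (a * b * a⁻¹)⁻¹ * (a * f * a⁻¹)⁻¹ * (a * b * a⁻¹) * (a * f * a⁻¹) := by
    rw [hk']; group
  rw [hb, hf, hk] at h1
  have h2 : (b * x)⁻¹ * (f * ψ)⁻¹ * (b * x) * (f * ψ) =
      x⁻¹ * (kψ * ψ⁻¹) * (k' * f⁻¹) * x * f * ψ := by
    rw [hkψ, hk']; group
  rw [h2] at h1
  have h3 : x⁻¹ * (kψ * ψ⁻¹) * (k' * f⁻¹) * x * f * ψ = kψ * k' * κ := by
    calc x⁻¹ * (kψ * ψ⁻¹) * (k' * f⁻¹) * x * f * ψ
        = (x⁻¹ * kψ) * (ψ⁻¹ * k') * f⁻¹ * x * f * ψ := by group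
      _ = (kψ * x⁻¹) * (k' * ψ⁻¹) * f⁻¹ * x * f * ψ := by
          rw [(c1.inv_right).eq, (c3.inv_right).eq]
      _ = kψ * (x⁻¹ * k') * ψ⁻¹ * f⁻¹ * x * f * ψ := by group
      _ = kψ * (k' * x⁻¹) * ψ⁻¹ * f⁻¹ * x * f * ψ := by rw [(c2.inv_right).eq]
      _ = kψ * k' * x⁻¹ * (ψ⁻¹ * f⁻¹) * x * f * ψ := by group
      _ = kψ * k' * x⁻¹ * (f⁻¹ * ψ⁻¹) * x * f * ψ := by rw [(c5.inv_inv).eq]
      _ = kψ * k' * x⁻¹ * f⁻¹ * (ψ⁻¹ * x) * f * ψ := by group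
      _ = kψ * k' * x⁻¹ * f⁻¹ * (x * ψ⁻¹) * f * ψ := by rw [(c4.inv_left).eq]
      _ = kψ * k' * x⁻¹ * f⁻¹ * x * (ψ⁻¹ * f) * ψ := by group
      _ = kψ * k' * x⁻¹ * f⁻¹ * x * (f * ψ⁻¹) * ψ := by rw [(c5.inv_left).eq]
      _ = kψ * k' * κ := by rw [hκ]; group
  rw [h3] at h1
  have h4 : kψ * κ * k' = 1 * k' := by
    rw [one_mul, mul_assoc, c6.eq, ← mul_assoc]
    exact h1.symm
  exact mul_right_cancel h4

theorem X3 (b xa xc φ₁ φ₂ : G)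
    (h3a : (b⁻¹ * φ₁⁻¹ * b * φ₁) * (xa⁻¹ * xc⁻¹ * xa * xc) = 1)
    (h3b : (b⁻¹ * φ₂⁻¹ * b * φ₂) * (xc⁻¹ * xa⁻¹ * xc * xa) = 1)
    (h2 : φ₂ = (xa⁻¹ * xc⁻¹ * xa * xc) * φ₁)
    (hc : Commute (xa⁻¹ * xc⁻¹ * xa * xc) b) :
    (xa⁻¹ * xc⁻¹ * xa * xc) ^ 2 = 1 := by
  set κ := xa⁻¹ * xc⁻¹ * xa * xc with hκ
  have e1 : xc⁻¹ * xa⁻¹ * xc * xa = κ⁻¹ := by rw [hκ]; group
  rw [e1] at h3b
  have e2 : b⁻¹ * φ₂⁻¹ * b * φ₂ = κ := by
    have := mul_inv_eq_one.mp h3b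
    exact this
  have e3 : b⁻¹ * φ₁⁻¹ * b * φ₁ = κ⁻¹ := mul_eq_one_iff_eq_inv.mp h3a
  have e4 : b⁻¹ * φ₂⁻¹ * b * φ₂ = b⁻¹ * φ₁⁻¹ * b * φ₁ := by
    rw [h2]
    calc b⁻¹ * (κ * φ₁)⁻¹ * b * (κ * φ₁) = b⁻¹ * φ₁⁻¹ * (κ⁻¹ * b) * κ * φ₁ := by group
      _ = b⁻¹ * φ₁⁻¹ * (b * κ⁻¹) * κ * φ₁ := by rw [(hc.inv_left).eq]
      _ = b⁻¹ * φ₁⁻¹ * b * φ₁ := by group
  rw [e2, e3] at e4
  rw [pow_two]
  nth_rewrite 1 [e4]
  group

/-- If A acts on B centralizing [B, B], then [B, A] has derived subgroup central in B, and for abelian A and b ∈ B with [[b, A], A, A] = 1 the derived subgroup of the subgroup [b, A] generated by the commutators of b with A has exponent dividing 2. -/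
theorem result {G : Type*} [Group G] [Finite G] (A B : Subgroup G) (hAB : A ≤ Subgroup.normalizer (B : Set G)) (hc : ⁅⁅B, B⁆, A⁆ = ⊥) : ⁅⁅B, A⁆, ⁅B, A⁆⁆ ≤ B ⊓ Subgroup.centralizer (B : Set G) ∧ (IsMulCommutative A → ∀ b ∈ B, ⁅⁅(Subgroup.closure {g : G | ∃ a ∈ A, g = b⁻¹ * a * b * a⁻¹}), A⁆, A⁆ = ⊥ → ∀ w ∈ ⁅(Subgroup.closure {g : G | ∃ a ∈ A, g = b⁻¹ * a * b * a⁻¹}), (Subgroup.closure {g : G | ∃ a ∈ A, g = b⁻¹ * a * b * a⁻¹})⁆, w ^ 2 = 1) := by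
  set B' := ⁅B, B⁆ with hB'
  set D := ⁅B, A⁆ with hD
  have hDB : D ≤ B := Subgroup.le_normalizer_iff_commutator_le_left.mp hAB
  have hB'B : B' ≤ B := Subgroup.commutator_le_self B
  -- A centralizes B'
  have hAc : A ≤ Subgroup.centralizer (B' : Set G) := by
    rw [Subgroup.le_centralizer_iff]
    exact Subgroup.commutator_eq_bot_iff_le_centralizer.mp hc
  -- B normalizes C(B')
  have hDc : D ≤ Subgroup.centralizer (B' : Set G) := by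
    rw [hD, Subgroup.commutator_le]
    intro b hb a ha
    have hbn : b ∈ Subgroup.normalizer (B' : Set G) :=
      Subgroup.normalizer_commutator_ge_left B B hb
    have h1 : b * a * b⁻¹ ∈ Subgroup.centralizer (B' : Set G) := by
      have h2 : (Subgroup.centralizer (B' : Set G)).map (MulAut.conj b).toMonoidHom =
          Subgroup.centralizer (B' : Set G) := by
        rw [map_conj_centralizer, map_conj_of_mem_normalizer hbn]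
      rw [← h2]
      exact ⟨a, hAc ha, rfl⟩
    rw [commutatorElement_def]
    exact Subgroup.mul_mem _ h1 (Subgroup.inv_mem _ (hAc ha))
  have hB'D : ⁅B', D⁆ = ⊥ := by
    rw [Subgroup.commutator_eq_bot_iff_le_centralizer, Subgroup.le_centralizer_iff]
    exact hDc
  have r1 : ⁅⁅D, B⁆, D⁆ = ⊥ := by
    rw [eq_bot_iff, ← hB'D]
    exact Subgroup.commutator_mono (Subgroup.commutator_mono hDB le_rfl) le_rfl
  have r2 : ⁅⁅B, D⁆, D⁆ = ⊥ := by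
    rw [eq_bot_iff, ← hB'D]
    exact Subgroup.commutator_mono (Subgroup.commutator_mono le_rfl hDB) le_rfl
  have r3 : ⁅⁅D, D⁆, B⁆ = ⊥ := Subgroup.commutator_commutator_eq_bot_of_rotate r1 r2
  have hD'c : ⁅D, D⁆ ≤ Subgroup.centralizer (B : Set G) :=
    Subgroup.commutator_eq_bot_iff_le_centralizer.mp r3
  have hD'B : ⁅D, D⁆ ≤ B := (Subgroup.commutator_le_self D).trans hDB
  refine ⟨le_inf hD'B hD'c, ?_⟩
  intro hAcomm b hb hquad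
  set X : Set G := {g : G | ∃ a ∈ A, g = b⁻¹ * a * b * a⁻¹} with hX
  set E := Subgroup.closure X with hE
  set F := ⁅E, A⁆ with hF
  have hXD : ∀ a ∈ A, b⁻¹ * a * b * a⁻¹ ∈ D := by
    intro a ha
    have := Subgroup.commutator_mem_commutator (B.inv_mem hb) ha
    rwa [commutatorElement_def, inv_inv] at this
  have hED : E ≤ D := by
    rw [hE, Subgroup.closure_le]
    rintro _ ⟨a, ha, rfl⟩
    exact hXD a ha
  have hFD : F ≤ D := Subgroup.commutator_mono (hED.trans hDB) le_rfl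
  have hFA : F ≤ Subgroup.centralizer (A : Set G) :=
    Subgroup.commutator_eq_bot_iff_le_centralizer.mp hquad
  -- commutation helpers
  have cB'D : ∀ k ∈ B', ∀ d ∈ D, Commute k d := by
    intro k hk d hd
    exact (Subgroup.mem_centralizer_iff.mp (hDc hd)) k hk
  have cB'A : ∀ k ∈ B', ∀ a ∈ A, a * k * a⁻¹ = k := by
    intro k hk a ha
    have := (Subgroup.mem_centralizer_iff.mp (hAc ha)) k hk
    rw [← this, mul_assoc, mul_inv_cancel, mul_one]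
  have cFA : ∀ φ ∈ F, ∀ a ∈ A, a * φ * a⁻¹ = φ := by
    intro φ hφ a ha
    have := (Subgroup.mem_centralizer_iff.mp (hFA hφ)) a ha
    rw [this, mul_assoc, mul_inv_cancel, mul_one]
  have kmem : ∀ f ∈ B, b⁻¹ * f⁻¹ * b * f ∈ B' := by
    intro f hf
    have := Subgroup.commutator_mem_commutator (B.inv_mem hb) (B.inv_mem hf)
    rwa [commutatorElement_def, inv_inv, inv_inv] at this
  have hconj : ∀ a : G, a * b * a⁻¹ = b * (b⁻¹ * a * b * a⁻¹) := by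
    intro a; group
  -- C1
  have C1 : ∀ φ ∈ F, ∀ d ∈ A, Commute (b⁻¹ * d * b * d⁻¹) φ := by
    intro φ hφ d hd
    have hφB : φ ∈ B := hDB (hFD hφ)
    exact X1 b _ φ d (hconj d) (cFA φ hφ d hd) (cB'A _ (kmem φ hφB) d hd)
      (cB'D _ (kmem φ hφB) _ (hXD d hd))
  have key : ∀ a ∈ A, ∀ c ∈ A,
      ((b⁻¹ * a * b * a⁻¹)⁻¹ * (b⁻¹ * c * b * c⁻¹)⁻¹ * (b⁻¹ * a * b * a⁻¹) * (b⁻¹ * c * b * c⁻¹)) ^ 2 = 1 := by
    intro a ha c hc'
    set xa := b⁻¹ * a * b * a⁻¹ with hxa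
    set xc := b⁻¹ * c * b * c⁻¹ with hxc
    have hxaE : xa ∈ E := Subgroup.subset_closure ⟨a, ha, rfl⟩
    have hxcE : xc ∈ E := Subgroup.subset_closure ⟨c, hc', rfl⟩
    have hxaD : xa ∈ D := hXD a ha
    have hxcD : xc ∈ D := hXD c hc'
    set φ₁ := xc⁻¹ * a * xc * a⁻¹ with hφ₁
    set φ₂ := xa⁻¹ * c * xa * c⁻¹ with hφ₂
    have hφ₁F : φ₁ ∈ F := by
      have := Subgroup.commutator_mem_commutator (E.inv_mem hxcE) ha
      rwa [commutatorElement_def, inv_inv] at this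
    have hφ₂F : φ₂ ∈ F := by
      have := Subgroup.commutator_mem_commutator (E.inv_mem hxaE) hc'
      rwa [commutatorElement_def, inv_inv] at this
    have hκ : ∀ x ∈ D, ∀ f ∈ D, x⁻¹ * f⁻¹ * x * f ∈ ⁅D, D⁆ := by
      intro x hx f hf
      have := Subgroup.commutator_mem_commutator (D.inv_mem hx) (D.inv_mem hf)
      rwa [commutatorElement_def, inv_inv, inv_inv] at this
    have cκ : ∀ x ∈ D, ∀ f ∈ D, ∀ y ∈ B, Commute (x⁻¹ * f⁻¹ * x * f) y := by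
      intro x hx f hf y hy
      exact ((Subgroup.mem_centralizer_iff.mp (hD'c (hκ x hx f hf))) y hy).symm
    have h3a : (b⁻¹ * φ₁⁻¹ * b * φ₁) * (xa⁻¹ * xc⁻¹ * xa * xc) = 1 := by
      apply X2 b xa xc φ₁ a (hconj a) (by rw [hφ₁]; group)
        (cB'A _ (kmem xc (hDB hxcD)) a ha)
        (cB'D _ (kmem φ₁ (hDB (hFD hφ₁F))) _ hxaD)
        (cB'D _ (kmem xc (hDB hxcD)) _ hxaD)
        (cB'D _ (kmem xc (hDB hxcD)) _ (hFD hφ₁F))
        (C1 φ₁ hφ₁F a ha).symm (C1 φ₁ hφ₁F c hc').symm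
        (cκ xa hxaD xc hxcD _ (hB'B (kmem xc (hDB hxcD))))
    have h3b : (b⁻¹ * φ₂⁻¹ * b * φ₂) * (xc⁻¹ * xa⁻¹ * xc * xa) = 1 := by
      apply X2 b xc xa φ₂ c (hconj c) (by rw [hφ₂]; group)
        (cB'A _ (kmem xa (hDB hxaD)) c hc')
        (cB'D _ (kmem φ₂ (hDB (hFD hφ₂F))) _ hxcD)
        (cB'D _ (kmem xa (hDB hxaD)) _ hxcD)
        (cB'D _ (kmem xa (hDB hxaD)) _ (hFD hφ₂F))
        (C1 φ₂ hφ₂F c hc').symm (C1 φ₂ hφ₂F a ha).symm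
        (cκ xc hxcD xa hxaD _ (hB'B (kmem xa (hDB hxaD))))
    have hac : a * c = c * a := congrArg Subtype.val (hAcomm.is_comm.comm ⟨a, ha⟩ ⟨c, hc'⟩)
    have h2 : φ₂ = (xa⁻¹ * xc⁻¹ * xa * xc) * φ₁ := by
      have e1 : (a * c) * b * (a * c)⁻¹ = b * xa * xc * φ₁ := by
        rw [hφ₁, hxa, hxc]; group
      have e2 : (c * a) * b * (c * a)⁻¹ = b * xc * xa * φ₂ := by
        rw [hφ₂, hxa, hxc]; group
      rw [hac, e2] at e1
      have e3 : xc * xa * φ₂ = xa * xc * φ₁ := by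
        have : b * (xc * xa * φ₂) = b * (xa * xc * φ₁) := by
          simpa only [mul_assoc] using e1
        exact mul_left_cancel this
      calc φ₂ = xa⁻¹ * xc⁻¹ * (xc * xa * φ₂) := by group
        _ = xa⁻¹ * xc⁻¹ * (xa * xc * φ₁) := by rw [e3]
        _ = (xa⁻¹ * xc⁻¹ * xa * xc) * φ₁ := by group
    exact X3 b xa xc φ₁ φ₂ h3a h3b h2 (cκ xa hxaD xc hxcD b hb)
  -- the subgroup of central elements of order at most two
  let M : Subgroup G :=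
    { carrier := {w | w ∈ B ⊓ Subgroup.centralizer (B : Set G) ∧ w ^ 2 = 1}
      mul_mem' := by
        rintro u v ⟨hu, hu2⟩ ⟨hv, hv2⟩
        refine ⟨Subgroup.mul_mem _ hu hv, ?_⟩
        have hcomm : Commute u v := (Subgroup.mem_centralizer_iff.mp hv.2) u hu.1
        rw [hcomm.mul_pow, hu2, hv2, one_mul]
      one_mem' := ⟨Subgroup.one_mem _, one_pow 2⟩
      inv_mem' := by
        rintro u ⟨hu, hu2⟩
        exact ⟨Subgroup.inv_mem _ hu, by rw [inv_pow, hu2, inv_one]⟩ }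
  have hMn : B ≤ Subgroup.normalizer (M : Set G) := by
    intro y hy
    rw [Subgroup.mem_normalizer_iff]
    intro w
    have hiff : ∀ w ∈ Subgroup.centralizer (B : Set G), y * w * y⁻¹ = w := by
      intro w hw
      have := (Subgroup.mem_centralizer_iff.mp hw) y hy
      rw [this, mul_assoc, mul_inv_cancel, mul_one]
    constructor
    · intro hw
      rw [hiff w hw.1.2]; exact hw
    · intro hw
      have h1 := hiff _ hw.1.2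
      have h2 : y * w * y⁻¹ = w := by
        have h3 : y * (y * w * y⁻¹) * y⁻¹ = y * w * y⁻¹ := h1
        have h4 : y * (y * w * y⁻¹) = y * w := mul_right_cancel h3
        exact mul_left_cancel h4
      rw [← h2]; exact hw
  have hEinv : E = Subgroup.closure X⁻¹ := by rw [Subgroup.closure_inv]
  have hle : ⁅E, E⁆ ≤ M := by
    rw [hEinv]
    apply commutator_closure_le
    · rw [← hEinv]; exact (hED.trans hDB).trans hMn
    · rw [← hEinv]; exact (hED.trans hDB).trans hMn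
    · rintro x hx y hy
      obtain ⟨a, ha, hxa⟩ := hx
      obtain ⟨c, hc', hyc⟩ := hy
      have hx' : x = (b⁻¹ * a * b * a⁻¹)⁻¹ := by rw [← hxa, inv_inv]
      have hy' : y = (b⁻¹ * c * b * c⁻¹)⁻¹ := by rw [← hyc, inv_inv]
      rw [hx', hy', commutatorElement_def, inv_inv, inv_inv]
      refine ⟨?_, key a ha c hc'⟩
      have := Subgroup.commutator_mem_commutator (D.inv_mem (hXD a ha)) (D.inv_mem (hXD c hc'))
      rw [commutatorElement_def, inv_inv, inv_inv] at this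
      exact ⟨hD'B this, hD'c this⟩
  intro w hw
  exact (hle hw).2

end Cfsg.Agent.S0648
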