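import Cfsg.Statements.S0650
import Cfsg.Agent.Lib.Helper15.Repl

set_option autoImplicit false
open Cfsg

namespace Cfsg.Agent.S0650

/-- The Glauberman replacement Theorem: from an abelian A ⊇ [B, B] not normalized by the normal subgroup B and a suitable b ∈ B one gets the abelian subgroup A* = (A ∩ b⁻¹Ab)[A, b] of the same order, containing [B, B], meeting B strictly more than A does but not containing B, mutually normalizing with A, with strictly larger normalizer containing b, and (p odd) of no larger exponent. -/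
theorem result {S : Type*} [Group S] [Finite S] {p : ℕ} [Fact p.Prime] (hS : IsPGroup p S) (B : Subgroup S) [B.Normal] (hB2 : p = 2 → IsMulCommutative B) (A : Subgroup S) (hA : IsMulCommutative A) (hBA : ⁅B, B⁆ ≤ A) (hnot : ¬ B ≤ Subgroup.normalizer (A : Set S)) (b : S) (hb : b ∈ B) (hbN : b ∈ Subgroup.normalizer ((Subgroup.normalizer (A : Set S)) : Set S)) (hbA : b ∉ Subgroup.normalizer (A : Set S)) : Nat.card ↥((A ⊓ A.map (MulAut.conj (b⁻¹)).toMonoidHom) ⊔ Subgroup.closure {g : S | ∃ a ∈ A, g = a * b⁻¹ * a⁻¹ * b}) = Nat.card A ∧ IsMulCommutative ↥((A ⊓ A.map (MulAut.conj (b⁻¹)).toMonoidHom) ⊔ Subgroup.closure {g : S | ∃ a ∈ A, g = a * b⁻¹ * a⁻¹ * b}) ∧ ⁅B, B⁆ ≤ ((A ⊓ A.map (MulAut.conj (b⁻¹)).toMonoidHom) ⊔ Subgroup.closure {g : S | ∃ a ∈ A, g = a * b⁻¹ * a⁻¹ * b}) ∧ A ⊓ B < ((A ⊓ A.map (MulAut.conj (b⁻¹)).toMonoidHom) ⊔ Subgroup.closure {g : S | ∃ a ∈ A, g = a * b⁻¹ * a⁻¹ * b}) ⊓ B ∧ ((A ⊓ A.map (MulAut.conj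 (b⁻¹)).toMonoidHom) ⊔ Subgroup.closure {g : S | ∃ a ∈ A, g = a * b⁻¹ * a⁻¹ * b}) ⊓ B < B ∧ A ≤ Subgroup.normalizer (((A ⊓ A.map (MulAut.conj (b⁻¹)).toMonoidHom) ⊔ Subgroup.closure {g : S | ∃ a ∈ A, g = a * b⁻¹ * a⁻¹ * b} : Subgroup S) : Set S) ∧ ((A ⊓ A.map (MulAut.conj (b⁻¹)).toMonoidHom) ⊔ Subgroup.closure {g : S | ∃ a ∈ A, g = a * b⁻¹ * a⁻¹ * b}) ≤ Subgroup.normalizer (A : Set S) ∧ b ∈ Subgroup.normalizer (((A ⊓ A.map (MulAut.conj (b⁻¹)).toMonoidHom) ⊔ Subgroup.closure {g : S | ∃ a ∈ A, g = a * b⁻¹ * a⁻¹ * b} : Subgroup S) : Set S) ∧ Subgroup.normalizer (A : Set S) < Subgroup.normalizer (((A ⊓ A.map (MulAut.conj (b⁻¹)).toMonoidHom) ⊔ Subgroup.closure {g : S | ∃ a ∈ A, g = a * b⁻¹ * a⁻¹ * b} : Subgroup S) : Set S) ∧ (p ≠ 2 → Monoid.exponent ↥((A ⊓ A.map (MulAut.conj (b⁻¹)).toMonoidHom) ⊔ Subgroup.closure {g : S | ∃ a ∈ A, g = a * b⁻¹ * a⁻¹ * b}) ∣ Monoid.exponent A) := by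
  have hd : Lib.Helper15.Repl.Data A B b :=
    { Bn := inferInstance
      Acomm := fun x hx y hy => congrArg Subtype.val (hA.is_comm.comm ⟨x, hx⟩ ⟨y, hy⟩)
      BA := fun x hx y hy => hBA (Subgroup.commutator_mem_commutator hx hy)
      hb := hb
      hbN := hbN
      hbA := hbA
      odd := by
        by_cases hp2 : p = 2
        · left
          intro x hx y hy
          exact congrArg Subtype.val ((hB2 hp2).is_comm.comm ⟨x, hx⟩ ⟨y, hy⟩)
        · right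
          obtain ⟨k, hk⟩ := (IsPGroup.iff_orderOf.mp hS) b
          have hodd : Odd (orderOf b) := by
            rw [hk]
            exact ((Fact.out : p.Prime).odd_of_ne_two hp2).pow
          obtain ⟨j, hj⟩ := hodd
          refine ⟨j + 1, ?_⟩
          rw [← pow_mul, show 2 * (j + 1) = orderOf b + 1 by omega, pow_succ, pow_orderOf_eq_one,
            one_mul] }
  refine ⟨hd.card_Astar, ⟨⟨fun x y => Subtype.ext (hd.Astar_comm x.2 y.2)⟩⟩, ?_, ?_, ?_,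
    hd.A_le_N_Astar, hd.Astar_le_N, hd.b_mem_N_Astar, ?_, ?_⟩
  · rw [Subgroup.commutator_le]
    intro x hx y hy
    exact hd.D_le_Astar (hd.BB_D hx hy)
  · rw [SetLike.lt_iff_le_and_exists]
    refine ⟨le_inf (hd.AB_le_D.trans hd.D_le_Astar) inf_le_right, ?_⟩
    obtain ⟨a, ha, hna⟩ := hd.exists_cc_not_mem
    exact ⟨_, ⟨hd.cc_mem_Astar ha, hd.cc_mem_B a⟩, fun h => hna h.1⟩
  · rw [SetLike.lt_iff_le_and_exists]
    exact ⟨inf_le_right, b, hb, fun h => hbA (hd.Astar_le_N h.1)⟩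
  · rw [SetLike.lt_iff_le_and_exists]
    exact ⟨hd.N_le_N_Astar, b, hd.b_mem_N_Astar, hbA⟩
  · intro hp2
    apply Monoid.exponent_dvd_of_forall_pow_eq_one
    intro x
    apply Subtype.ext
    have hodd : Odd (Monoid.exponent A) := by
      have h1 : Monoid.exponent A ∣ Nat.card A := Group.exponent_dvd_nat_card
      obtain ⟨n, hn⟩ := IsPGroup.iff_card.mp (hS.to_subgroup A)
      rw [hn] at h1
      obtain ⟨j, _, hj⟩ := (Nat.dvd_prime_pow Fact.out).mp h1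
      rw [hj]
      exact ((Fact.out : p.Prime).odd_of_ne_two hp2).pow
    have hpow : ∀ a ∈ A, a ^ Monoid.exponent A = 1 := by
      intro a ha
      have := Monoid.pow_exponent_eq_one (⟨a, ha⟩ : A)
      exact congrArg Subtype.val this
    have := hd.pow_eq_one hodd hpow x.2
    rw [Subgroup.coe_pow, this]
    rfl

end Cfsg.Agent.S0650
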