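import Cfsg.Statements.S0651
import Cfsg.Agent.Lib.Helper14.AxB
import Cfsg.Agent.S0649
import Cfsg.Agent.S0650

set_option autoImplicit false
open Cfsg

namespace Cfsg.Agent.S0651

open Cfsg.Agent.Lib.Helper14

theorem isMulCommutative_iff {G : Type*} [Group G] {H : Subgroup G} :
    IsMulCommutative H ↔ ∀ x ∈ H, ∀ y ∈ H, x * y = y * x := by
  constructor
  · intro h x hx y hy
    exact congrArg Subtype.val (h.is_comm.comm ⟨x, hx⟩ ⟨y, hy⟩)
  · intro h
    exact ⟨⟨fun x y => Subtype.ext (h x x.2 y y.2)⟩⟩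

theorem mem_image_iff {S : Type*} [Group S] (D A : Subgroup S) :
    A ∈ (Set.image (fun A : Subgroup ↥D => A.map D.subtype) (Cfsg.maxAbelianSubgroups ↥D)) ↔
      A ≤ D ∧ IsMulCommutative A ∧ ∀ C : Subgroup S, C ≤ D → IsMulCommutative C →
        Nat.card C ≤ Nat.card A := by
  constructor
  · rintro ⟨A₀, ⟨h1, h2⟩, rfl⟩
    refine ⟨Subgroup.map_subtype_le _, ?_, ?_⟩
    · rw [isMulCommutative_iff] at h1 ⊢
      rintro _ ⟨x, hx, rfl⟩ _ ⟨y, hy, rfl⟩
      rw [← map_mul, ← map_mul, h1 x hx y hy]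
    · intro C hC hCc
      have h3 : IsMulCommutative ↥(C.subgroupOf D) := by
        rw [isMulCommutative_iff] at hCc ⊢
        intro x hx y hy
        exact Subtype.ext (hCc x hx y hy)
      have h4 := h2 _ h3
      simp only
      rw [Subgroup.card_map_of_injective D.subtype_injective]
      rwa [Nat.card_congr (Subgroup.subgroupOfEquivOfLe hC).toEquiv] at h4
  · rintro ⟨h1, h2, h3⟩
    refine ⟨A.subgroupOf D, ⟨?_, ?_⟩, Subgroup.map_subgroupOf_eq_of_le h1⟩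
    · rw [isMulCommutative_iff] at h2 ⊢
      intro x hx y hy
      exact Subtype.ext (h2 x hx y hy)
    · intro C hC
      have h4 : IsMulCommutative ↥(C.map D.subtype) := by
        rw [isMulCommutative_iff] at hC ⊢
        rintro _ ⟨x, hx, rfl⟩ _ ⟨y, hy, rfl⟩
        rw [← map_mul, ← map_mul, hC x hx y hy]
      have h5 := h3 _ (Subgroup.map_subtype_le _) h4
      rw [Subgroup.card_map_of_injective D.subtype_injective] at h5
      rwa [Nat.card_congr (Subgroup.subgroupOfEquivOfLe h1).toEquiv]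

/-- For odd p and D normal in the p-group S, the abelian subgroups of D of largest order satisfy the replacement property: a class-2 normal subgroup B of S with a member containing [B, B] but not B normalizes some such member. -/
theorem result {S : Type*} [Group S] [Finite S] {p : ℕ} [Fact p.Prime] (hS : IsPGroup p S) (hp : p ≠ 2) (D : Subgroup S) [D.Normal] : ∀ (B : Subgroup S) [B.Normal], ⁅⁅B, B⁆, B⁆ = ⊥ → (∃ U ∈ (Set.image (fun A : Subgroup ↥D => A.map D.subtype) (Cfsg.maxAbelianSubgroups ↥D)), ⁅B, B⁆ ≤ U ∧ ¬ B ≤ U) → ∃ A ∈ (Set.image (fun A : Subgroup ↥D => A.map D.subtype) (Cfsg.maxAbelianSubgroups ↥D)), ⁅B, B⁆ ≤ A ∧ ¬ B ≤ A ∧ B ≤ Subgroup.normalizer (A : Set S) := by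
  intro B hBn _ hU
  have hDn : D.Normal := inferInstance
  obtain ⟨A, ⟨hA1, hA2, hA3⟩, hmax⟩ := Set.exists_max_image
    {A : Subgroup S | A ∈ (Set.image (fun A : Subgroup ↥D => A.map D.subtype)
      (Cfsg.maxAbelianSubgroups ↥D)) ∧ ⁅B, B⁆ ≤ A ∧ ¬ B ≤ A}
    (fun A => Nat.card ↥(A ⊓ B)) (Set.toFinite _) hU
  refine ⟨A, hA1, hA2, hA3, ?_⟩
  by_contra hnot
  obtain ⟨hAD, hAc, hAmax⟩ := (mem_image_iff D A).mp hA1
  obtain ⟨b, hb, hbN, hbA⟩ := Cfsg.Agent.S0649.result hS B (fun h => absurd h hp) A hAc hA2 hnot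
  obtain ⟨c1, c2, c3, c4, c5, -, -, -, -, -⟩ :=
    Cfsg.Agent.S0650.result hS B (fun h => absurd h hp) A hAc hA2 hnot b hb hbN hbA
  set As := (A ⊓ A.map (MulAut.conj (b⁻¹)).toMonoidHom) ⊔
    Subgroup.closure {g : S | ∃ a ∈ A, g = a * b⁻¹ * a⁻¹ * b} with hAs
  have hAsD : As ≤ D := by
    apply sup_le (inf_le_left.trans hAD)
    rw [Subgroup.closure_le]
    rintro _ ⟨a, ha, rfl⟩
    have : a * b⁻¹ * a⁻¹ * b = a * (b⁻¹ * a⁻¹ * b⁻¹⁻¹) := by group
    rw [this]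
    exact D.mul_mem (hAD ha) (hDn.conj_mem _ (D.inv_mem (hAD ha)) _)
  have hmem : As ∈ {A : Subgroup S | A ∈ (Set.image (fun A : Subgroup ↥D => A.map D.subtype)
      (Cfsg.maxAbelianSubgroups ↥D)) ∧ ⁅B, B⁆ ≤ A ∧ ¬ B ≤ A} := by
    refine ⟨(mem_image_iff D As).mpr ⟨hAsD, c2, fun C hC hCc => ?_⟩, c3, ?_⟩
    · rw [c1]; exact hAmax C hC hCc
    · intro hle
      exact c5.ne (inf_eq_right.mpr hle)
  have h1 := hmax As hmem
  have h2 : Nat.card ↥(A ⊓ B) < Nat.card ↥(As ⊓ B) := card_lt_card_of_lt c4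
  exact absurd h1 (not_le.mpr h2)

end Cfsg.Agent.S0651
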