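import Cfsg.Statements.S0652
import Cfsg.Agent.Lib.Helper14.AxB
import Cfsg.Agent.Lib.Helper14.Thompson
import Cfsg.Agent.S0649
import Cfsg.Agent.S0650

set_option autoImplicit false
open Cfsg

namespace Cfsg.Agent.S0652

open Cfsg.Agent.Lib.Helper14

theorem mem_image_iff {S : Type*} [Group S] {p : ℕ} (D A : Subgroup S) :
    A ∈ (Set.image (fun A : Subgroup ↥D => A.map D.subtype)
        (Cfsg.maxElementaryAbelianSubgroups p ↥D)) ↔
      A ≤ D ∧ Cfsg.IsElementaryAbelian p A ∧ ∀ C : Subgroup S, C ≤ D →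
        Cfsg.IsElementaryAbelian p C → Nat.card C ≤ Nat.card A := by
  constructor
  · rintro ⟨A₀, ⟨h1, h2⟩, rfl⟩
    refine ⟨Subgroup.map_subtype_le _, IsElementaryAbelian.map h1 _, ?_⟩
    intro C hC hCc
    have h4 := h2 _ (IsElementaryAbelian.comap_of_injective hCc D.subtype D.subtype_injective)
    simp only
    rw [Subgroup.card_map_of_injective D.subtype_injective]
    have h5 : Nat.card ↥(C.comap D.subtype) = Nat.card C :=
      Nat.card_congr (Subgroup.subgroupOfEquivOfLe hC).toEquiv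
    rwa [h5] at h4
  · rintro ⟨h1, h2, h3⟩
    refine ⟨A.subgroupOf D,
      ⟨IsElementaryAbelian.comap_of_injective h2 D.subtype D.subtype_injective, ?_⟩,
      Subgroup.map_subgroupOf_eq_of_le h1⟩
    intro C hC
    have h5 := h3 _ (Subgroup.map_subtype_le _) (IsElementaryAbelian.map hC D.subtype)
    rw [Subgroup.card_map_of_injective D.subtype_injective] at h5
    rwa [Nat.card_congr (Subgroup.subgroupOfEquivOfLe h1).toEquiv]

/-- For odd p and D normal in the p-group S, the elementary abelian subgroups of D of largest order satisfy the replacement property for class-2 normal subgroups of S. -/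
theorem result {S : Type*} [Group S] [Finite S] {p : ℕ} [Fact p.Prime] (hS : IsPGroup p S) (hp : p ≠ 2) (D : Subgroup S) [D.Normal] : ∀ (B : Subgroup S) [B.Normal], ⁅⁅B, B⁆, B⁆ = ⊥ → (∃ U ∈ (Set.image (fun A : Subgroup ↥D => A.map D.subtype) (Cfsg.maxElementaryAbelianSubgroups p ↥D)), ⁅B, B⁆ ≤ U ∧ ¬ B ≤ U) → ∃ A ∈ (Set.image (fun A : Subgroup ↥D => A.map D.subtype) (Cfsg.maxElementaryAbelianSubgroups p ↥D)), ⁅B, B⁆ ≤ A ∧ ¬ B ≤ A ∧ B ≤ Subgroup.normalizer (A : Set S) := by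
  intro B hBn _ hU
  have hDn : D.Normal := inferInstance
  obtain ⟨A, ⟨hA1, hA2, hA3⟩, hmax⟩ := Set.exists_max_image
    {A : Subgroup S | A ∈ (Set.image (fun A : Subgroup ↥D => A.map D.subtype)
      (Cfsg.maxElementaryAbelianSubgroups p ↥D)) ∧ ⁅B, B⁆ ≤ A ∧ ¬ B ≤ A}
    (fun A => Nat.card ↥(A ⊓ B)) (Set.toFinite _) hU
  refine ⟨A, hA1, hA2, hA3, ?_⟩
  by_contra hnot
  obtain ⟨hAD, hAc, hAmax⟩ := (mem_image_iff D A).mp hA1
  obtain ⟨b, hb, hbN, hbA⟩ := Cfsg.Agent.S0649.result hS B (fun h => absurd h hp) A hAc.1 hA2 hnot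
  obtain ⟨c1, c2, c3, c4, c5, -, -, -, -, c10⟩ :=
    Cfsg.Agent.S0650.result hS B (fun h => absurd h hp) A hAc.1 hA2 hnot b hb hbN hbA
  set As := (A ⊓ A.map (MulAut.conj (b⁻¹)).toMonoidHom) ⊔
    Subgroup.closure {g : S | ∃ a ∈ A, g = a * b⁻¹ * a⁻¹ * b} with hAs
  have hAsD : As ≤ D := by
    apply sup_le (inf_le_left.trans hAD)
    rw [Subgroup.closure_le]
    rintro _ ⟨a, ha, rfl⟩
    have : a * b⁻¹ * a⁻¹ * b = a * (b⁻¹ * a⁻¹ * b⁻¹⁻¹) := by group
    rw [this]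
    exact D.mul_mem (hAD ha) (hDn.conj_mem _ (D.inv_mem (hAD ha)) _)
  have hexpA : Monoid.exponent A ∣ p := by
    apply Monoid.exponent_dvd_of_forall_pow_eq_one
    intro a
    exact Subtype.ext (hAc.2 a a.2)
  have hAsel : Cfsg.IsElementaryAbelian p As := by
    refine ⟨c2, fun x hx => ?_⟩
    have h1 : (⟨x, hx⟩ : ↥As) ^ p = 1 :=
      (Monoid.exponent_dvd_iff_forall_pow_eq_one.mp ((c10 hp).trans hexpA)) _
    exact congrArg Subtype.val h1
  have hmem : As ∈ {A : Subgroup S | A ∈ (Set.image (fun A : Subgroup ↥D => A.map D.subtype)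
      (Cfsg.maxElementaryAbelianSubgroups p ↥D)) ∧ ⁅B, B⁆ ≤ A ∧ ¬ B ≤ A} := by
    refine ⟨(mem_image_iff D As).mpr ⟨hAsD, hAsel, fun C hC hCc => ?_⟩, c3, ?_⟩
    · rw [c1]; exact hAmax C hC hCc
    · intro hle
      exact c5.ne (inf_eq_right.mpr hle)
  have h1 := hmax As hmem
  have h2 : Nat.card ↥(A ⊓ B) < Nat.card ↥(As ⊓ B) := card_lt_card_of_lt c4
  exact absurd h1 (not_le.mpr h2)

end Cfsg.Agent.S0652
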