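import Cfsg.Statements.S0692
import Cfsg.Agent.Lib.Helper15.GL2List

set_option autoImplicit false
open Cfsg

namespace Cfsg.Agent.S0692

abbrev ga : Lib.Helper15.Q4 := (0, 10, 1, 0)
abbrev gb : Lib.Helper15.Q4 := (2, 4, 1, 8)
def gensL : List Lib.Helper15.Q4 := [ga, gb]
def elts : List Lib.Helper15.Q4 :=
  [
   (1, 0, 0, 1), (0, 10, 1, 0), (2, 4, 1, 8), (10, 0, 0, 10), (4, 9, 8, 10), (10, 3, 2, 4),
   (8, 7, 10, 2), (0, 1, 10, 0), (9, 7, 10, 3), (3, 1, 4, 9), (7, 3, 2, 1), (6, 0, 4, 2),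
   (1, 9, 8, 7), (7, 2, 3, 1), (1, 8, 9, 7), (3, 4, 1, 9), (0, 5, 2, 7), (9, 10, 7, 3),
   (7, 9, 6, 0), (6, 8, 5, 5), (1, 2, 10, 10), (8, 10, 7, 2), (4, 8, 9, 10), (5, 0, 7, 9),
   (10, 2, 3, 4), (9, 4, 0, 5), (8, 5, 5, 6), (2, 10, 10, 1), (5, 7, 0, 9), (6, 6, 6, 8),
   (1, 1, 1, 2), (9, 0, 4, 5), (0, 6, 9, 4), (2, 1, 4, 8), (4, 2, 5, 0), (5, 3, 6, 6),
   (10, 9, 1, 1), (7, 6, 9, 0), (6, 5, 8, 5), (1, 10, 2, 10), (0, 2, 5, 7), (10, 6, 5, 2),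
   (3, 0, 10, 4), (6, 10, 9, 6), (2, 7, 0, 6), (3, 6, 6, 5), (9, 1, 1, 10), (6, 4, 0, 2),
   (5, 5, 5, 3), (10, 10, 10, 9), (2, 0, 7, 6), (6, 1, 2, 6), (0, 8, 4, 1), (10, 5, 6, 2),
   (6, 9, 10, 6), (1, 7, 3, 0), (2, 5, 6, 10), (4, 0, 1, 3), (4, 5, 2, 0), (5, 6, 3, 6),
   (10, 1, 9, 1), (0, 9, 6, 4), (1, 5, 6, 9), (8, 0, 1, 7), (5, 1, 2, 5), (9, 5, 6, 1),
   (7, 10, 0, 8), (5, 9, 10, 5), (0, 7, 3, 10), (8, 9, 9, 2), (3, 3, 3, 7), (10, 8, 4, 0),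
   (5, 10, 9, 5), (0, 3, 7, 10), (1, 6, 5, 9), (5, 2, 1, 5), (10, 4, 8, 0), (9, 6, 5, 1),
   (7, 0, 10, 8), (9, 3, 2, 2), (3, 8, 7, 8), (8, 1, 0, 7), (2, 9, 8, 9), (8, 4, 3, 3),
   (7, 1, 5, 4), (3, 5, 9, 8), (2, 6, 5, 10), (4, 1, 0, 3), (6, 2, 1, 6), (0, 4, 8, 1),
   (3, 2, 2, 9), (8, 8, 8, 4), (1, 3, 7, 0), (9, 9, 9, 3), (4, 3, 3, 8), (1, 4, 4, 6),
   (5, 8, 8, 2), (3, 10, 0, 4), (6, 7, 7, 1), (2, 3, 3, 5), (2, 8, 9, 9), (8, 3, 4, 3),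
   (9, 2, 3, 2), (3, 7, 8, 8), (4, 10, 6, 7), (8, 6, 2, 3), (7, 5, 1, 4), (3, 9, 5, 8),
   (6, 3, 3, 9), (7, 7, 7, 4), (5, 4, 4, 10), (2, 2, 2, 8), (7, 8, 8, 3), (10, 7, 7, 5),
   (9, 8, 8, 6), (7, 4, 4, 4), (4, 6, 10, 7), (8, 2, 6, 3), (4, 7, 7, 7), (4, 4, 4, 7)]
def wordsL : List (List Lib.Helper15.Q4) :=
  [
   [], [ga], [gb], [ga, ga],
   [gb, ga], [ga, gb], [gb, gb], [ga, ga, ga],
   [gb, ga, ga], [ga, gb, ga], [gb, gb, ga], [gb, ga, gb],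
   [ga, gb, gb], [gb, ga, ga, ga], [ga, gb, ga, ga], [gb, gb, ga, ga],
   [gb, ga, gb, ga], [ga, gb, gb, ga], [ga, gb, ga, gb], [gb, gb, ga, gb],
   [gb, ga, gb, gb], [ga, gb, ga, ga, ga], [gb, gb, ga, ga, ga], [gb, ga, gb, ga, ga],
   [ga, gb, gb, ga, ga], [ga, gb, ga, gb, ga], [gb, gb, ga, gb, ga], [gb, ga, gb, gb, ga],
   [gb, ga, gb, ga, gb], [ga, gb, gb, ga, gb], [ga, gb, ga, gb, gb], [gb, gb, ga, gb, gb],
   [gb, ga, gb, ga, ga, ga], [ga, gb, gb, ga, ga, ga], [ga, gb, ga, gb, ga, ga], [gb, gb, ga, gb, ga, ga],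
   [gb, ga, gb, gb, ga, ga], [gb, ga, gb, ga, gb, ga], [ga, gb, gb, ga, gb, ga], [ga, gb, ga, gb, gb, ga],
   [gb, gb, ga, gb, gb, ga], [gb, gb, ga, gb, ga, gb], [gb, ga, gb, gb, ga, gb], [gb, ga, gb, ga, gb, gb],
   [ga, gb, ga, gb, ga, ga, ga], [gb, gb, ga, gb, ga, ga, ga], [gb, ga, gb, gb, ga, ga, ga], [gb, ga, gb, ga, gb, ga, ga],
   [ga, gb, gb, ga, gb, ga, ga], [ga, gb, ga, gb, gb, ga, ga], [gb, gb, ga, gb, gb, ga, ga], [gb, gb, ga, gb, ga, gb, ga],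
   [gb, ga, gb, gb, ga, gb, ga], [gb, ga, gb, ga, gb, gb, ga], [ga, gb, gb, ga, gb, ga, gb], [ga, gb, ga, gb, gb, ga, gb],
   [gb, gb, ga, gb, gb, ga, gb], [gb, gb, ga, gb, ga, gb, gb], [gb, ga, gb, ga, gb, ga, ga, ga], [ga, gb, gb, ga, gb, ga, ga, ga],
   [ga, gb, ga, gb, gb, ga, ga, ga], [gb, gb, ga, gb, gb, ga, ga, ga], [gb, gb, ga, gb, ga, gb, ga, ga], [gb, ga, gb, gb, ga, gb, ga, ga],
   [gb, ga, gb, ga, gb, gb, ga, ga], [ga, gb, gb, ga, gb, ga, gb, ga], [ga, gb, ga, gb, gb, ga, gb, ga], [gb, gb, ga, gb, gb, ga, gb, ga],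
   [gb, gb, ga, gb, ga, gb, gb, ga], [gb, ga, gb, gb, ga, gb, ga, gb], [gb, ga, gb, ga, gb, gb, ga, gb], [ga, gb, gb, ga, gb, ga, gb, gb],
   [gb, gb, ga, gb, ga, gb, ga, ga, ga], [gb, ga, gb, gb, ga, gb, ga, ga, ga], [gb, ga, gb, ga, gb, gb, ga, ga, ga], [ga, gb, gb, ga, gb, ga, gb, ga, ga],
   [ga, gb, ga, gb, gb, ga, gb, ga, ga], [gb, gb, ga, gb, gb, ga, gb, ga, ga], [gb, gb, ga, gb, ga, gb, gb, ga, ga], [gb, ga, gb, gb, ga, gb, ga, gb, ga],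
   [gb, ga, gb, ga, gb, gb, ga, gb, ga], [ga, gb, gb, ga, gb, ga, gb, gb, ga], [ga, gb, ga, gb, gb, ga, gb, ga, gb], [gb, gb, ga, gb, gb, ga, gb, ga, gb],
   [gb, gb, ga, gb, ga, gb, gb, ga, gb], [gb, ga, gb, gb, ga, gb, ga, gb, gb], [ga, gb, gb, ga, gb, ga, gb, ga, ga, ga], [ga, gb, ga, gb, gb, ga, gb, ga, ga, ga],
   [gb, gb, ga, gb, gb, ga, gb, ga, ga, ga], [gb, gb, ga, gb, ga, gb, gb, ga, ga, ga], [gb, ga, gb, gb, ga, gb, ga, gb, ga, ga], [gb, ga, gb, ga, gb, gb, ga, gb, ga, ga],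
   [ga, gb, gb, ga, gb, ga, gb, gb, ga, ga], [ga, gb, ga, gb, gb, ga, gb, ga, gb, ga], [gb, gb, ga, gb, gb, ga, gb, ga, gb, ga], [gb, gb, ga, gb, ga, gb, gb, ga, gb, ga],
   [gb, ga, gb, gb, ga, gb, ga, gb, gb, ga], [gb, ga, gb, ga, gb, gb, ga, gb, ga, gb], [ga, gb, gb, ga, gb, ga, gb, gb, ga, gb], [ga, gb, ga, gb, gb, ga, gb, ga, gb, gb],
   [gb, ga, gb, gb, ga, gb, ga, gb, ga, ga, ga], [gb, ga, gb, ga, gb, gb, ga, gb, ga, ga, ga], [ga, gb, ga, gb, gb, ga, gb, ga, gb, ga, ga], [gb, gb, ga, gb, gb, ga, gb, ga, gb, ga, ga],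
   [gb, gb, ga, gb, ga, gb, gb, ga, gb, ga, ga], [gb, ga, gb, gb, ga, gb, ga, gb, gb, ga, ga], [ga, gb, gb, ga, gb, ga, gb, gb, ga, gb, ga], [ga, gb, ga, gb, gb, ga, gb, ga, gb, gb, ga],
   [gb, gb, ga, gb, ga, gb, gb, ga, gb, ga, gb], [gb, ga, gb, gb, ga, gb, ga, gb, gb, ga, gb], [gb, ga, gb, ga, gb, gb, ga, gb, ga, gb, gb], [ga, gb, ga, gb, gb, ga, gb, ga, gb, ga, ga, ga],
   [gb, gb, ga, gb, gb, ga, gb, ga, gb, ga, ga, ga], [gb, gb, ga, gb, ga, gb, gb, ga, gb, ga, ga, ga], [ga, gb, ga, gb, gb, ga, gb, ga, gb, gb, ga, ga], [gb, ga, gb, gb, ga, gb, ga, gb, gb, ga, gb, ga],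
   [gb, ga, gb, ga, gb, gb, ga, gb, ga, gb, gb, ga], [ga, gb, gb, ga, gb, ga, gb, gb, ga, gb, ga, gb], [ga, gb, ga, gb, gb, ga, gb, ga, gb, gb, ga, gb], [gb, gb, ga, gb, ga, gb, gb, ga, gb, ga, gb, gb]]
def scal : List ℕ := [1]

theorem mat_ga : (!![0, -1; 1, 0] : Matrix (Fin 2) (Fin 2) (ZMod 11)) = Lib.Helper15.qmat 11 ga := by decide +kernel
theorem mat_gb : (!![2, 4; 1, -3] : Matrix (Fin 2) (Fin 2) (ZMod 11)) = Lib.Helper15.qmat 11 gb := by decide +kernel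

/-- An exceptional sharply doubly transitive group of degree 11^2: the listed matrices generate a subgroup of GL(2,11) of order 120 acting regularly on the non-zero vectors. -/
theorem result (A : Matrix.GeneralLinearGroup (Fin 2) (ZMod 11)) (B : Matrix.GeneralLinearGroup (Fin 2) (ZMod 11)) (hA : (A : Matrix (Fin 2) (Fin 2) (ZMod 11)) = !![0, -1; 1, 0]) (hB : (B : Matrix (Fin 2) (Fin 2) (ZMod 11)) = !![2, 4; 1, -3]) : Nat.card (Subgroup.closure ({A, B} : Set (Matrix.GeneralLinearGroup (Fin 2) (ZMod 11)))) = 120 ∧ ∀ v w : Fin 2 → ZMod 11, v ≠ 0 → w ≠ 0 → ∃! h : Subgroup.closure ({A, B} : Set (Matrix.GeneralLinearGroup (Fin 2) (ZMod 11))), Matrix.mulVec ((h : Matrix.GeneralLinearGroup (Fin 2) (ZMod 11)) : Matrix (Fin 2) (Fin 2) (ZMod 11)) v = w := by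
  have : Fact (Nat.Prime 11) := ⟨by norm_num⟩
  have hmain := Lib.Helper15.regular_main 11 10 rfl ({A, B} : Set (Matrix.GeneralLinearGroup (Fin 2) (ZMod 11))) gensL elts 1 scal
    ?_ ?_ ?_ (by decide +kernel) (by decide +kernel) (by decide +kernel) (by decide +kernel) (by decide +kernel) (by decide +kernel)
    (Lib.Helper15.words_of_map 11 gensL elts wordsL (by decide +kernel) (by decide +kernel))
    (Lib.Helper15.pows_of_map 11 1 1 scal (by decide +kernel))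
    (by decide +kernel) (by decide +kernel) (by decide +kernel) (by decide +kernel) (by decide +kernel) (by decide +kernel)
  · simpa using hmain
  · intro g hg
    simp only [Set.mem_insert_iff, Set.mem_singleton_iff] at hg
    rcases hg with rfl | rfl
    · left; exact ⟨ga, by decide, by rw [hA]; exact mat_ga⟩
    · left; exact ⟨gb, by decide, by rw [hB]; exact mat_gb⟩
  · intro c hc
    simp only [gensL, List.mem_cons, List.not_mem_nil, or_false] at hc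
    rcases hc with rfl | rfl
    · exact ⟨A, Subgroup.subset_closure (by simp), by rw [hA]; exact mat_ga⟩
    · exact ⟨B, Subgroup.subset_closure (by simp), by rw [hB]; exact mat_gb⟩
  · exact ⟨1, one_mem _, by simp⟩

end Cfsg.Agent.S0692
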