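import Cfsg.Statements.S0801
import Cfsg.Agent.Lib.Helper7.SL2Gen3
-- import your own Cfsg.Agent.* helpers here

set_option autoImplicit false
open Cfsg

namespace Cfsg.Agent.S0801

open Matrix MatrixGroups Subgroup Cfsg.Agent.Lib.Helper46 Cfsg.Agent.Lib.Helper18.SL2
open Cfsg.Agent.Lib.Helper7 Cfsg.Agent.Lib.Helper7.PMax

variable {F : Type*} [Field F] [Fintype F]

theorem char_dvd (p : ℕ) [Fact p.Prime] [CharP F p] {lam : F} (hlam : lam ≠ 0) :
    p ∣ Nat.card (genZ lam) := by
  have h1 : orderOf (uu lam) = p := by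
    apply orderOf_eq_prime
    · rw [uu_pow, CharP.cast_eq_zero, zero_mul, Cfsg.Agent.Lib.Helper7.uu_zero]
    · intro h
      rw [← Cfsg.Agent.Lib.Helper7.uu_zero] at h
      exact hlam (Cfsg.Agent.Lib.Helper7.uu_injective h)
  rw [← h1]
  exact Subgroup.orderOf_dvd_natCard _ (genG_le_genZ lam (uu_mem_genG lam))

theorem small_int {lam : F} (h : (2 + lam = 0 ∨ (2 + lam) ^ 2 = 1) ∨
    (2 + -lam = 0 ∨ (2 + -lam) ^ 2 = 1)) : ∃ n : ℤ, lam = n := by
  rcases h with (h | h) | (h | h)
  · exact ⟨-2, by push_cast; linear_combination h⟩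
  · have : (2 + lam - 1) * (2 + lam + 1) = 0 := by linear_combination h
    rcases mul_eq_zero.1 this with h | h
    · exact ⟨-1, by push_cast; linear_combination h⟩
    · exact ⟨-3, by push_cast; linear_combination h⟩
  · exact ⟨2, by push_cast; linear_combination -h⟩
  · have : (2 + -lam - 1) * (2 + -lam + 1) = 0 := by linear_combination h
    rcases mul_eq_zero.1 this with h | h
    · exact ⟨1, by push_cast; linear_combination -h⟩
    · exact ⟨3, by push_cast; linear_combination -h⟩

theorem top_of_card {G : Subgroup (SpecialLinearGroup (Fin 2) F)} {q : ℕ}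
    (hq : Fintype.card F = q) (h : Nat.card G = q * (q ^ 2 - 1)) : G = ⊤ := by
  apply Subgroup.eq_top_of_card_eq
  rw [h, card_SL2, hq]

theorem card_le_SL (G : Subgroup (SpecialLinearGroup (Fin 2) F)) {q : ℕ}
    (hq : Fintype.card F = q) : Nat.card G ≤ q * (q ^ 2 - 1) := by
  rw [← hq, ← card_SL2]
  exact Subgroup.card_le_card_group G

theorem genZ_exc (p : ℕ) [Fact p.Prime] [CharP F p] (h2 : (2 : F) ≠ 0) {lam : F}
    (hlam : lam ≠ 0) (hgen : Subfield.closure ({lam} : Set F) = ⊤) (h : Exc (genZ lam)) :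
    genZ lam = ⊤ ∨ (Fintype.card F = 9 ∧ lam ^ 2 = -1 ∧ Nat.card (genZ lam) = 120) := by
  have hp : p.Prime := Fact.out
  have hp2 : p ≠ 2 := by
    rintro rfl
    apply h2
    have := CharP.cast_eq_zero F 2
    exact_mod_cast this
  have hz : zc F = 2 := zc_of_two_ne h2
  have hZ := center_le_genZ lam
  have hx := genG_le_genZ lam (ll_uu_mem lam)
  have hx' := genG_le_genZ lam (ll_uu_neg_mem lam)
  have hxc := ll_uu_not_center lam
  have hxc' := ll_uu_not_center (-lam)
  have hpd := char_dvd p hlam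
  have hsmall : ((2 + lam = 0 ∨ (2 + lam) ^ 2 = 1) ∨ (2 + -lam = 0 ∨ (2 + -lam) ^ 2 = 1)) →
      Fintype.card F = p := by
    intro hs
    obtain ⟨n, hn⟩ := small_int hs
    exact card_eq_char_of_int p hgen n hn
  have T := fun ε => CD_tr (ε := ε) hZ hx hxc
  have T' := fun ε => CD_tr (ε := ε) hZ hx' hxc'
  simp only [tr_ll_uu] at T T'
  rcases h with ⟨hc, hcd⟩ | ⟨hc, hcd⟩ | ⟨hc, hcd⟩
  · left
    rw [hz] at hc
    have hp3 : p = 3 := by
      rw [hc] at hpd
      have : p ∣ 2 ^ 3 * 3 := by norm_num; exact hpd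
      rcases (Nat.Prime.dvd_mul hp).1 this with h | h
      · exact absurd ((Nat.prime_dvd_prime_iff_eq hp Nat.prime_two).1 (hp.dvd_of_dvd_pow h)) hp2
      · exact (Nat.prime_dvd_prime_iff_eq hp Nat.prime_three).1 h
    have hs : Fintype.card F = p := by
      apply hsmall
      left
      rcases hcd _ hx hxc with h | h
      · left; exact (T 2).1 h
      · right; exact (T 1).2.1 h
    exact top_of_card (hs.trans hp3) (by rw [hc]; norm_num)
  · exfalso
    rw [hz] at hc
    have hp3 : p = 3 := by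
      rw [hc] at hpd
      have : p ∣ 2 ^ 4 * 3 := by norm_num; exact hpd
      rcases (Nat.Prime.dvd_mul hp).1 this with h | h
      · exact absurd ((Nat.prime_dvd_prime_iff_eq hp Nat.prime_two).1 (hp.dvd_of_dvd_pow h)) hp2
      · exact (Nat.prime_dvd_prime_iff_eq hp Nat.prime_three).1 h
    have hns : ¬ ((2 + lam = 0 ∨ (2 + lam) ^ 2 = 1) ∨ (2 + -lam = 0 ∨ (2 + -lam) ^ 2 = 1)) := by
      intro hs
      have := card_le_SL (genZ lam) ((hsmall hs).trans hp3)
      rw [hc] at this
      omega
    push Not at hns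
    have e1 : (2 + lam) ^ 2 = 2 := by
      rcases hcd _ hx hxc with h | h | h
      · exact absurd ((T 2).1 h) hns.1.1
      · exact absurd ((T 2).2.1 h) hns.1.2
      · exact ((T 2).2.2.1 h).resolve_left hns.1.1
    have e2 : (2 + -lam) ^ 2 = 2 := by
      rcases hcd _ hx' hxc' with h | h | h
      · exact absurd ((T' 2).1 h) hns.2.1
      · exact absurd ((T' 2).2.1 h) hns.2.2
      · exact ((T' 2).2.2.1 h).resolve_left hns.2.1
    have e3 : (2 : F) ^ 3 * lam = 0 := by linear_combination e1 - e2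
    exact hlam ((mul_eq_zero.1 e3).resolve_left (pow_ne_zero _ h2))
  · rw [hz] at hc
    have hp35 : p = 3 ∨ p = 5 := by
      rw [hc] at hpd
      have : p ∣ 2 ^ 3 * (3 * 5) := by norm_num; exact hpd
      rcases (Nat.Prime.dvd_mul hp).1 this with h | h
      · exact absurd ((Nat.prime_dvd_prime_iff_eq hp Nat.prime_two).1 (hp.dvd_of_dvd_pow h)) hp2
      · rcases (Nat.Prime.dvd_mul hp).1 h with h | h
        · left; exact (Nat.prime_dvd_prime_iff_eq hp Nat.prime_three).1 h
        · right; exact (Nat.prime_dvd_prime_iff_eq hp Nat.prime_five).1 h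
    have hprime_case : Fintype.card F = p → genZ lam = ⊤ := by
      intro hs
      rcases hp35 with h3 | h5
      · exfalso
        have := card_le_SL (genZ lam) (hs.trans h3)
        rw [hc] at this
        omega
      · exact top_of_card (hs.trans h5) (by rw [hc]; norm_num)
    by_cases hs : ((2 + lam = 0 ∨ (2 + lam) ^ 2 = 1) ∨ (2 + -lam = 0 ∨ (2 + -lam) ^ 2 = 1))
    · left; exact hprime_case (hsmall hs)
    push Not at hs
    have e1 : (2 + lam) ^ 4 - 3 * (2 + lam) ^ 2 + 1 = 0 := by
      rcases hcd _ hx hxc with h | h | h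
      · exact absurd ((T 2).1 h) hs.1.1
      · exact absurd ((T 2).2.1 h) hs.1.2
      · exact (T 2).2.2.2 h
    have e2 : (2 + -lam) ^ 4 - 3 * (2 + -lam) ^ 2 + 1 = 0 := by
      rcases hcd _ hx' hxc' with h | h | h
      · exact absurd ((T' 2).1 h) hs.2.1
      · exact absurd ((T' 2).2.1 h) hs.2.2
      · exact (T' 2).2.2.2 h
    rcases hp35 with rfl | rfl
    · right
      have h3 : (3 : F) = 0 := by
        have := CharP.cast_eq_zero F 3
        exact_mod_cast this
      have e3 : lam * (16 * lam ^ 2 + 40) = 0 := by linear_combination e1 - e2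
      have e4 : lam ^ 2 = -1 := by
        have := (mul_eq_zero.1 e3).resolve_left hlam
        linear_combination this - (5 * lam ^ 2 + 13) * h3
      refine ⟨?_, e4, by rw [hc]⟩
      rcases card_three_or_nine e4 hgen with h | h
      · exfalso
        have := card_le_SL (genZ lam) h
        rw [hc] at this
        omega
      · exact h
    · left
      apply hprime_case
      have h5 : (5 : F) = 0 := by
        have := CharP.cast_eq_zero F 5
        exact_mod_cast this
      have e3 : ((2 + lam) ^ 2 + 1) ^ 2 = 0 := by linear_combination e1 + (2 + lam) ^ 2 * h5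
      have e4 : (2 + lam) ^ 2 + 1 = 0 := by
        exact pow_eq_zero_iff (two_ne_zero) |>.1 e3
      have e5 : lam * (lam + 4) = 0 := by linear_combination e4 - h5
      have e6 := (mul_eq_zero.1 e5).resolve_left hlam
      exact card_eq_char_of_int 5 hgen (-4) (by push_cast; linear_combination e6)


/-- Let F be a finite field of odd characteristic and λ ≠ 0 an element generating F as a field. Then the lower and upper unitriangular matrices with off-diagonal entries 1 and λ generate SL_2(F), unless |F| = 9 and λ² = −1, in which case they generate a subgroup of order 120. -/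
theorem result {F : Type*} [Field F] [Fintype F] (h2 : (2 : F) ≠ 0) (lam : F) (hlam : lam ≠ 0) (hgen : Subfield.closure ({lam} : Set F) = ⊤) : (Subgroup.closure {g : Matrix.SpecialLinearGroup (Fin 2) F | (g : Matrix (Fin 2) (Fin 2) F) = !![1, 0; 1, 1] ∨ (g : Matrix (Fin 2) (Fin 2) F) = !![1, lam; 0, 1]} = ⊤ ∧ ¬ (Fintype.card F = 9 ∧ lam ^ 2 = -1)) ∨ (Fintype.card F = 9 ∧ lam ^ 2 = -1 ∧ Nat.card ↥(Subgroup.closure {g : Matrix.SpecialLinearGroup (Fin 2) F | (g : Matrix (Fin 2) (Fin 2) F) = !![1, 0; 1, 1] ∨ (g : Matrix (Fin 2) (Fin 2) F) = !![1, lam; 0, 1]}) = 120) := by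
  classical
  obtain ⟨p, hp⟩ := CharP.exists F
  haveI : Fact p.Prime := ⟨CharP.char_is_prime F p⟩
  have hset : {g : Matrix.SpecialLinearGroup (Fin 2) F |
      (g : Matrix (Fin 2) (Fin 2) F) = !![1, 0; 1, 1] ∨
      (g : Matrix (Fin 2) (Fin 2) F) = !![1, lam; 0, 1]} = {ll 1, uu lam} := by
    ext g
    simp only [Set.mem_setOf_eq, Set.mem_insert_iff, Set.mem_singleton_iff]
    constructor
    · rintro (h | h)
      · left; exact Subtype.ext h
      · right; exact Subtype.ext h
    · rintro (rfl | rfl)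
      · left; rfl
      · right; rfl
  rw [hset]
  show (genG lam = ⊤ ∧ _) ∨ (_ ∧ _ ∧ Nat.card (genG lam) = 120)
  have hz : zc F = 2 := zc_of_two_ne h2
  have htop : genZ lam = ⊤ → (genG lam = ⊤ ∧ ¬ (Fintype.card F = 9 ∧ lam ^ 2 = -1)) := by
    intro ht
    refine ⟨genG_eq_top h2 ht, ?_⟩
    rintro ⟨h9, hl⟩
    have h3 : (3 : F) = 0 := by
      have h1 : ((Fintype.card F : ℕ) : F) = 0 := Nat.cast_card_eq_zero F
      rw [h9] at h1
      have h2 : (3 : F) ^ 2 = 0 := by
        have : ((9 : ℕ) : F) = (3 : F) ^ 2 := by norm_num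
        rw [← this]; exact h1
      exact pow_eq_zero_iff (two_ne_zero) |>.1 h2
    have hle := card_genZ_le (lam := lam) (by rw [hl]; ring) h3
    rw [ht, Subgroup.card_top, card_SL2, h9, hz] at hle
    omega
  rcases dickson p (genZ lam) (center_le_genZ lam) with h | h | ⟨h, -⟩ | ⟨K, D, h, -⟩
  · exact absurd h (genZ_not_bor hlam)
  · exact absurd h (genZ_not_tor h2 hlam)
  · rcases genZ_exc p h2 hlam hgen h with h | ⟨h9, hl, hc⟩
    · left; exact htop h
    · right
      refine ⟨h9, hl, ?_⟩
      have h3 : (3 : F) = 0 := by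
        have h1 : ((Fintype.card F : ℕ) : F) = 0 := Nat.cast_card_eq_zero F
        rw [h9] at h1
        have h2 : (3 : F) ^ 2 = 0 := by
          have : ((9 : ℕ) : F) = (3 : F) ^ 2 := by norm_num
          rw [← this]; exact h1
        exact pow_eq_zero_iff (two_ne_zero) |>.1 h2
      rw [← genZ_eq_genG (lam := lam) (by rw [hl]; ring) h3]
      exact hc
  · left; exact htop (genZ_insub h2 hgen h)

end Cfsg.Agent.S0801
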