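import Cfsg.Statements.S0802
-- import your own Cfsg.Agent.* helpers here
import Cfsg.Agent.Lib.Helper47.SL2Quat
import Cfsg.Agent.Lib.Helper47.SL2Class

set_option autoImplicit false
open Cfsg

namespace Cfsg.Agent.S0802


set_option linter.unusedSimpArgs false
open Matrix Cfsg.Agent.Lib.Helper47 Cfsg.Agent.Lib.Helper46

section
variable {F : Type*} [Field F]

theorem conj_uu_of_tr_two (X : SpecialLinearGroup (Fin 2) F) (h : tr X = 2) :
    ∃ (P : SpecialLinearGroup (Fin 2) F) (β : F), P * X * P⁻¹ = uu β := by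
  have hd := det2 X
  rw [tr] at h
  by_cases hc : (X : Matrix (Fin 2) (Fin 2) F) 1 0 = 0
  · refine ⟨1, (X : Matrix (Fin 2) (Fin 2) F) 0 1, ?_⟩
    rw [hc] at hd
    have h1 : ((X : Matrix (Fin 2) (Fin 2) F) 0 0 - 1) ^ 2 = 0 := by
      linear_combination -hd + (X : Matrix (Fin 2) (Fin 2) F) 0 0 * h
    have h2 := pow_eq_zero_iff (two_ne_zero) |>.mp h1
    have h00 : (X : Matrix (Fin 2) (Fin 2) F) 0 0 = 1 := by linear_combination h2
    have h11 : (X : Matrix (Fin 2) (Fin 2) F) 1 1 = 1 := by linear_combination h - h00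
    rw [one_mul, inv_one, mul_one]
    apply ext2 <;> simp [uu, h00, h11, hc]
  · refine ⟨mk2 0 (1 / (X : Matrix (Fin 2) (Fin 2) F) 1 0) (-(X : Matrix (Fin 2) (Fin 2) F) 1 0)
      (1 - (X : Matrix (Fin 2) (Fin 2) F) 1 1) (by field_simp; ring),
      -1 / (X : Matrix (Fin 2) (Fin 2) F) 1 0, ?_⟩
    apply ext2 <;>
    simp only [mul_00, mul_01, mul_10, mul_11, inv_00, inv_01, inv_10, inv_11, uu,
      mk2_00, mk2_01, mk2_10, mk2_11] <;> field_simp
    · ring
    · ring
    · linear_combination (X : Matrix (Fin 2) (Fin 2) F) 1 0 * hd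
        - (X : Matrix (Fin 2) (Fin 2) F) 1 0 * h
    · linear_combination h

theorem pmk_injective (h2 : (2 : F) = 0) :
    Function.Injective (pmk : SpecialLinearGroup (Fin 2) F → _) := by
  intro X Y h
  have h1 := QuotientGroup.eq.mp h
  rcases eq_one_or_negOne_of_mem_center _ h1 with h3 | h3
  · exact inv_mul_eq_one.mp h3
  · rw [negOne_eq_one h2] at h3
    exact inv_mul_eq_one.mp h3

/-- commuting with a nontrivial upper unitriangular matrix -/
theorem comm_uu (M : SpecialLinearGroup (Fin 2) F) (β γ : F) (hγ : γ ≠ 0)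
    (h : M * uu β = uu γ * M) : (M : Matrix (Fin 2) (Fin 2) F) 1 0 = 0 := by
  have e00 := congrArg (fun Z : SpecialLinearGroup (Fin 2) F =>
    (Z : Matrix (Fin 2) (Fin 2) F) 0 0) h
  simp only [mul_00, uu, mk2_00, mk2_01, mk2_10, mk2_11] at e00
  have : γ * (M : Matrix (Fin 2) (Fin 2) F) 1 0 = 0 := by linear_combination -e00
  exact (mul_eq_zero.mp this).resolve_left hγ

theorem uu_eq_one_iff (β : F) : uu β = 1 ↔ β = 0 := by
  constructor
  · intro h
    have := congrArg (fun Z : SpecialLinearGroup (Fin 2) F =>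
      (Z : Matrix (Fin 2) (Fin 2) F) 0 1) h
    simpa [uu] using this
  · rintro rfl
    apply ext2 <;> simp [uu]

theorem key_char_two (h2 : (2 : F) = 0) (V₁ V₂ C : SpecialLinearGroup (Fin 2) F)
    (h₁ : V₁ * V₁ = 1) (h₁' : V₁ ≠ 1) (hcomm : V₁ * V₂ = V₂ * V₁)
    (hC : C * V₁ * C⁻¹ = V₂) (hC3 : C ^ 3 = 1) (hC1 : C ≠ 1) :
    ∃ a : F, a ≠ 1 ∧ a ^ 3 = 1 := by
  -- trace of an involution
  have htr : tr V₁ = 2 := by
    rw [h2]
    have hc := cayley V₁
    rw [← Matrix.SpecialLinearGroup.coe_mul, h₁] at hc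
    by_contra ht
    have e00 := congrFun (congrFun hc 0) 0
    have e01 := congrFun (congrFun hc 0) 1
    have e10 := congrFun (congrFun hc 1) 0
    simp at e00 e01 e10
    have hd := det2 V₁
    rcases e01 with e01 | e01
    · exact ht e01
    · have : tr V₁ * (V₁ : Matrix (Fin 2) (Fin 2) F) 0 0 = 0 := by linear_combination -e00 + h2
      rcases mul_eq_zero.mp this with h | h
      · exact ht h
      · rw [h, e01] at hd
        simp at hd
  obtain ⟨P, β, hP⟩ := conj_uu_of_tr_two V₁ htr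
  have hβ : β ≠ 0 := by
    intro h
    apply h₁'
    rw [(uu_eq_one_iff β).mpr h] at hP
    calc V₁ = P⁻¹ * (P * V₁ * P⁻¹) * P := by group
      _ = 1 := by rw [hP]; group
  -- the conjugate of V₂
  have hV2ne : V₂ ≠ 1 := by
    intro h
    apply h₁'
    rw [h] at hC
    calc V₁ = C⁻¹ * (C * V₁ * C⁻¹) * C := by group
      _ = 1 := by rw [hC]; group
  have hcomm' : (P * V₂ * P⁻¹) * uu β = uu β * (P * V₂ * P⁻¹) := by
    rw [← hP]
    calc P * V₂ * P⁻¹ * (P * V₁ * P⁻¹) = P * (V₂ * V₁) * P⁻¹ := by group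
      _ = P * (V₁ * V₂) * P⁻¹ := by rw [hcomm]
      _ = _ := by group
  have h10 := comm_uu _ β β hβ hcomm'
  have e01 := congrArg (fun Z : SpecialLinearGroup (Fin 2) F =>
    (Z : Matrix (Fin 2) (Fin 2) F) 0 1) hcomm'
  simp only [mul_01, uu, mk2_00, mk2_01, mk2_10, mk2_11] at e01
  set W := P * V₂ * P⁻¹ with hW
  have hdiag : (W : Matrix (Fin 2) (Fin 2) F) 0 0 = (W : Matrix (Fin 2) (Fin 2) F) 1 1 := by
    have : β * ((W : Matrix (Fin 2) (Fin 2) F) 0 0 - (W : Matrix (Fin 2) (Fin 2) F) 1 1) = 0 := by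
      linear_combination e01
    exact sub_eq_zero.mp ((mul_eq_zero.mp this).resolve_left hβ)
  have hdW := det2 W
  rw [h10, ← hdiag] at hdW
  have h00 : (W : Matrix (Fin 2) (Fin 2) F) 0 0 = 1 := by
    have : ((W : Matrix (Fin 2) (Fin 2) F) 0 0 - 1) ^ 2 = 0 := by
      linear_combination hdW + (1 - (W : Matrix (Fin 2) (Fin 2) F) 0 0) * h2
    have := pow_eq_zero_iff (two_ne_zero) |>.mp this
    linear_combination this
  have hWuu : W = uu ((W : Matrix (Fin 2) (Fin 2) F) 0 1) := by
    apply ext2 <;> simp [uu, h00, ← hdiag, h10]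
  have hγ : (W : Matrix (Fin 2) (Fin 2) F) 0 1 ≠ 0 := by
    intro h
    apply hV2ne
    rw [h, (uu_eq_one_iff 0).mpr rfl] at hWuu
    calc V₂ = P⁻¹ * (P * V₂ * P⁻¹) * P := by group
      _ = 1 := by rw [← hW, hWuu]; group
  -- the conjugate of C
  have hCW : (P * C * P⁻¹) * uu β = uu ((W : Matrix (Fin 2) (Fin 2) F) 0 1) * (P * C * P⁻¹) := by
    rw [← hWuu, hW, ← hP, ← hC]
    group
  have hc10 := comm_uu _ _ _ hγ hCW
  set D := P * C * P⁻¹ with hD
  have hD3 : D * D * D = 1 := by
    rw [hD]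
    have hC3' : C * C * C = 1 := by rw [← hC3, pow_succ, pow_two]
    calc P * C * P⁻¹ * (P * C * P⁻¹) * (P * C * P⁻¹) = P * (C * C * C) * P⁻¹ := by group
      _ = 1 := by rw [hC3']; group
  have hdD := det2 D
  rw [hc10] at hdD
  refine ⟨(D : Matrix (Fin 2) (Fin 2) F) 0 0, ?_, ?_⟩
  · intro ha
    apply hC1
    have h11 : (D : Matrix (Fin 2) (Fin 2) F) 1 1 = 1 := by
      rw [ha] at hdD
      linear_combination hdD
    have hDuu : D = uu ((D : Matrix (Fin 2) (Fin 2) F) 0 1) := by
      apply ext2 <;> simp [uu, ha, h11, hc10]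
    have hDD : D * D = 1 := by
      rw [hDuu]
      apply ext2 <;> simp [uu, mul_00, mul_01, mul_10, mul_11]
      linear_combination (D : Matrix (Fin 2) (Fin 2) F) 0 1 * h2
    have hD1 : D = 1 := by
      rw [hDD, one_mul] at hD3
      exact hD3
    calc C = P⁻¹ * (P * C * P⁻¹) * P := by group
      _ = 1 := by rw [← hD, hD1]; group
  · have := congrArg (fun Z : SpecialLinearGroup (Fin 2) F =>
      (Z : Matrix (Fin 2) (Fin 2) F) 0 0) hD3
    simp only [mul_00, mul_01, mul_10, mul_11, hc10, one_00] at this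
    linear_combination this

end

/-- PSL_2(p^n) has a subgroup isomorphic to A_4 if and only if it is not the case that p = 2 and n is odd. -/
theorem result {F : Type*} [Field F] [Fintype F] (p n : ℕ) [Fact p.Prime] [CharP F p] (hF : Fintype.card F = p ^ n) : (∃ H : Subgroup (Matrix.ProjectiveSpecialLinearGroup (Fin 2) F), Nonempty (H ≃* alternatingGroup (Fin 4))) ↔ ¬ (p = 2 ∧ Odd n) := by
  classical
  have hq : 2 ≤ Fintype.card F := Fintype.one_lt_card
  constructor
  · rintro ⟨H, ⟨e⟩⟩ ⟨rfl, hn⟩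
    have h2 : (2 : F) = 0 := CharTwo.two_eq_zero
    -- elements of A4
    obtain ⟨v, c, hv, hv1, hvc, hc3, hc1⟩ : ∃ v c : alternatingGroup (Fin 4),
        v * v = 1 ∧ v ≠ 1 ∧ v * (c * v * c⁻¹) = (c * v * c⁻¹) * v ∧ c ^ 3 = 1 ∧ c ≠ 1 :=
      ⟨altGen 1 1, altGen 1 0, by decide, by decide, by decide, by decide, by decide⟩
    obtain ⟨V, hV⟩ := QuotientGroup.mk_surjective
      ((e.symm v : H) : ProjectiveSpecialLinearGroup (Fin 2) F)
    obtain ⟨C, hC⟩ := QuotientGroup.mk_surjective
      ((e.symm c : H) : ProjectiveSpecialLinearGroup (Fin 2) F)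
    have hinj := pmk_injective (F := F) h2
    let ι : alternatingGroup (Fin 4) →* ProjectiveSpecialLinearGroup (Fin 2) F :=
      H.subtype.comp e.symm.toMonoidHom
    have hι : Function.Injective ι := H.subtype_injective.comp e.symm.injective
    have hV' : pmk V = ι v := hV
    have hC' : pmk C = ι c := hC
    obtain ⟨a, ha1, ha3⟩ := key_char_two h2 V (C * V * C⁻¹) C
      (hinj (by rw [pmk_mul, hV', ← map_mul, hv, map_one]; rfl))
      (fun h => hv1 (hι (by rw [← hV', h, map_one]; rfl)))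
      (hinj (by
        have e1 : pmk (C * V * C⁻¹) = ι (c * v * c⁻¹) := by
          rw [map_mul, map_mul, map_inv, ← hV', ← hC']; rfl
        rw [pmk_mul V, pmk_mul _ V, e1, hV', ← map_mul, ← map_mul, hvc]))
      rfl
      (hinj (by
        have : pmk (C ^ 3) = (pmk C) ^ 3 := rfl
        rw [this, hC', ← map_pow, hc3, map_one]; rfl))
      (fun h => hc1 (hι (by rw [← hC', h, map_one]; rfl)))
    have ha0 : a ≠ 0 := by
      rintro rfl
      simp at ha3
    have ho : orderOf (Units.mk0 a ha0) = 3 := by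
      apply orderOf_eq_prime
      · apply Units.ext; simpa using ha3
      · intro h
        apply ha1
        simpa using congrArg Units.val h
    have hdvd : 3 ∣ Fintype.card Fˣ := ho ▸ orderOf_dvd_card
    rw [Fintype.card_units, hF] at hdvd
    obtain ⟨m, rfl⟩ := hn
    have h4 : 4 ^ m % 3 = 1 := by
      rw [Nat.pow_mod]; simp
    have : 2 ^ (2 * m + 1) = 2 * 4 ^ m := by
      rw [pow_succ, pow_mul]; ring
    rw [this] at hdvd
    omega
  · intro h
    obtain ⟨f, hf⟩ : ∃ f : alternatingGroup (Fin 4) →* ProjectiveSpecialLinearGroup (Fin 2) F,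
        Function.Injective f := by
      rcases parity_cases (F := F) with ⟨h2, hodd⟩ | ⟨h2, heven⟩
      · obtain ⟨x, y, hxy⟩ := Cfsg.Agent.Lib.Helper59.exists_sq_add_sq (F := F)
          (Nat.odd_iff.mpr hodd) (-1)
        exact exists_A4_of_quat h2 x y hxy
      · have hp2 : p = 2 := by
          have h1 : (2 : ℕ) ∣ p ^ n := by rw [← hF]; omega
          have h3 := Nat.Prime.dvd_of_dvd_pow Nat.prime_two h1
          exact ((Nat.prime_dvd_prime_iff_eq Nat.prime_two (Fact.out)).mp h3).symm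
        subst hp2
        have hn : Even n := by
          rw [← Nat.not_odd_iff_even]
          exact fun hn => h ⟨rfl, hn⟩
        obtain ⟨m, rfl⟩ := hn
        have h3 : 3 ∣ Nat.card Fˣ := by
          rw [Nat.card_eq_fintype_card, Fintype.card_units, hF, ← two_mul, pow_mul]
          have := Nat.sub_dvd_pow_sub_pow 4 1 m
          simpa using this
        have hp3 : Fact (Nat.Prime 3) := ⟨Nat.prime_three⟩
        obtain ⟨u, hu⟩ := exists_prime_orderOf_dvd_card' (G := Fˣ) 3 h3
        have hu3 : (u : F) ^ 3 = 1 := by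
          have : u ^ 3 = 1 := by rw [← hu]; exact pow_orderOf_eq_one u
          have := congrArg Units.val this
          simpa using this
        have hu1 : (u : F) ≠ 1 := by
          intro h1
          have : u = 1 := Units.ext h1
          rw [this] at hu
          simp at hu
        have hω : (u : F) ^ 2 + u + 1 = 0 := by
          have : ((u : F) - 1) * ((u : F) ^ 2 + u + 1) = 0 := by linear_combination hu3
          exact (mul_eq_zero.mp this).resolve_left (sub_ne_zero.mpr hu1)
        have hui : (u : F)⁻¹ = (u : F) ^ 2 := by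
          have hu0 : (u : F) ≠ 0 := u.ne_zero
          field_simp
          linear_combination -hu3
        obtain ⟨f, hf, -⟩ := exists_injective_hom_A4 (pmk (dd u)) (pmk (uu (1 : F)))
          (pmk_cube_of_tr _ (Or.inr (by rw [tr_dd, hui]; linear_combination hω)))
          (pmk_sq_of_tr _ (by rw [tr_uu]; exact h2))
          (pmk_cube_of_tr _ (Or.inr (by
            rw [tr_mul]
            simp only [dd, uu, mk2_00, mk2_01, mk2_10, mk2_11]
            rw [Units.val_inv_eq_inv_val, hui]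
            linear_combination hω)))
          (pmk_ne_one_of_not_mem _ uu_not_mem_center)
        exact ⟨f, hf⟩
    exact ⟨f.range, ⟨(MonoidHom.ofInjective hf).symm⟩⟩

end Cfsg.Agent.S0802
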