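import Cfsg.Statements.S0803
-- import your own Cfsg.Agent.* helpers here
import Cfsg.Agent.Lib.Helper47.SL2Quat
import Cfsg.Agent.Lib.Helper46.SL2Spectrum
import Cfsg.Agent.Lib.Helper7.SL2Center

set_option autoImplicit false
open Cfsg

namespace Cfsg.Agent.S0803


open Matrix Cfsg.Agent.Lib.Helper47 Cfsg.Agent.Lib.Helper46

/-- PSL_2(q) has a subgroup isomorphic to S_4 iff q² ≡ 1 (mod 16). -/
theorem result {F : Type*} [Field F] [Fintype F] {q : ℕ} (hF : Fintype.card F = q) : (∃ H : Subgroup (Matrix.ProjectiveSpecialLinearGroup (Fin 2) F), Nonempty (H ≃* Equiv.Perm (Fin 4))) ↔ q ^ 2 % 16 = 1 := by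
  classical
  subst hF
  have hfin : Finite (SpecialLinearGroup (Fin 2) F) :=
    Finite.of_injective (fun A : SpecialLinearGroup (Fin 2) F => (A : Matrix (Fin 2) (Fin 2) F))
      Subtype.val_injective
  have hq : 2 ≤ Fintype.card F := Fintype.one_lt_card
  constructor
  · rintro ⟨H, ⟨e⟩⟩
    rcases parity_cases (F := F) with ⟨h2, hodd⟩ | ⟨h2, heven⟩
    · have h1 : Nat.card H = 24 := by
        rw [Nat.card_congr e.toEquiv, Nat.card_perm]
        simp [Nat.factorial]
      have h3 : Nat.card H ∣ Nat.card (ProjectiveSpecialLinearGroup (Fin 2) F) :=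
        Subgroup.card_subgroup_dvd_card H
      have h4 := Cfsg.Agent.Lib.Helper7.card_PSL2 (F := F) h2
      rw [h1] at h3
      obtain ⟨m, hm⟩ := h3
      have h5 : 16 ∣ Fintype.card F * (Fintype.card F ^ 2 - 1) := ⟨3 * m, by rw [← h4, hm]; ring⟩
      have hco : Nat.Coprime 16 (Fintype.card F) := by
        have : Nat.Coprime 2 (Fintype.card F) := by
          rw [Nat.coprime_two_left, Nat.odd_iff]; exact hodd
        exact Nat.Coprime.pow_left 4 this
      have h6 := hco.dvd_of_dvd_mul_left h5
      have h7 : 1 ≤ Fintype.card F ^ 2 := Nat.one_le_pow _ _ (by omega)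
      omega
    · exfalso
      have hch : CharP F 2 := by
        have : ringChar F = 2 := FiniteField.even_card_iff_char_two.mpr heven
        exact ringChar.of_eq this
      have hp : Fact (Nat.Prime 2) := ⟨Nat.prime_two⟩
      obtain ⟨σ, hσ⟩ : ∃ σ : Equiv.Perm (Fin 4), orderOf σ = 4 := by
        refine ⟨finRotate 4, ?_⟩
        have := (isCycle_finRotate (n := 2)).orderOf
        rw [this, support_finRotate]
        simp
      have ho : orderOf ((e.symm σ : H) : ProjectiveSpecialLinearGroup (Fin 2) F) = 4 := by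
        rw [Subgroup.orderOf_coe, e.symm.orderOf_eq, hσ]
      have hg := (gcd_two_sub (F := F)).2 heven
      rcases psl2_pow_cases 2 ((e.symm σ : H) : ProjectiveSpecialLinearGroup (Fin 2) F) with
        h | h | h
      · have := orderOf_dvd_of_pow_eq_one h
        rw [ho] at this
        omega
      · have := orderOf_dvd_of_pow_eq_one h
        rw [ho, hg, Nat.div_one] at this
        omega
      · have := orderOf_dvd_of_pow_eq_one h
        rw [ho, hg, Nat.div_one] at this
        omega
  · intro h
    have h16 : Fintype.card F % 16 = 1 ∨ Fintype.card F % 16 = 7 ∨ Fintype.card F % 16 = 9 ∨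
        Fintype.card F % 16 = 15 := by
      rw [Nat.pow_mod] at h
      have hlt : Fintype.card F % 16 < 16 := Nat.mod_lt _ (by norm_num)
      generalize Fintype.card F % 16 = r at *
      interval_cases r <;> simp_all
    have hodd : Fintype.card F % 2 = 1 := by omega
    have h2 : (2 : F) ≠ 0 := by
      rcases parity_cases (F := F) with ⟨h2, -⟩ | ⟨-, h'⟩
      · exact h2
      · omega
    obtain ⟨r, hr⟩ : IsSquare (2 : F) := FiniteField.isSquare_two_iff.mpr (by omega)
    obtain ⟨x, y, hxy⟩ := Cfsg.Agent.Lib.Helper59.exists_sq_add_sq (F := F)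
      (Nat.odd_iff.mpr hodd) (-1)
    obtain ⟨f, hf⟩ := exists_S4_of_quat h2 x y hxy r (by rw [hr]; ring)
    exact ⟨f.range, ⟨(MonoidHom.ofInjective hf).symm⟩⟩

end Cfsg.Agent.S0803
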