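import Cfsg.Statements.S0804
-- import your own Cfsg.Agent.* helpers here
import Cfsg.Agent.Lib.Helper47.SL2Quat
import Cfsg.Agent.Lib.Helper46.SL2Spectrum

set_option autoImplicit false
open Cfsg

namespace Cfsg.Agent.S0804


open Matrix Cfsg.Agent.Lib.Helper47 Cfsg.Agent.Lib.Helper46

/-- PSL_2(q) has a subgroup isomorphic to A_5 iff 5 ∣ q(q² − 1). -/
theorem result {F : Type*} [Field F] [Fintype F] {q : ℕ} (hF : Fintype.card F = q) : (∃ H : Subgroup (Matrix.ProjectiveSpecialLinearGroup (Fin 2) F), Nonempty (H ≃* alternatingGroup (Fin 5))) ↔ 5 ∣ q * (q ^ 2 - 1) := by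
  classical
  subst hF
  have hfin : Finite (SpecialLinearGroup (Fin 2) F) :=
    Finite.of_injective (fun A : SpecialLinearGroup (Fin 2) F => (A : Matrix (Fin 2) (Fin 2) F))
      Subtype.val_injective
  constructor
  · rintro ⟨H, ⟨e⟩⟩
    have h1 : Nat.card H = 60 := by
      rw [Nat.card_congr e.toEquiv, nat_card_alternatingGroup]
      simp [Nat.factorial]
    have h2 : Nat.card H ∣ Nat.card (ProjectiveSpecialLinearGroup (Fin 2) F) :=
      Subgroup.card_subgroup_dvd_card H
    have h3 : Nat.card (ProjectiveSpecialLinearGroup (Fin 2) F) ∣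
        Nat.card (SpecialLinearGroup (Fin 2) F) :=
      Subgroup.card_quotient_dvd_card _
    rw [Cfsg.Agent.Lib.Helper7.card_SL2] at h3
    rw [h1] at h2
    exact dvd_trans (by norm_num) (dvd_trans h2 h3)
  · intro h
    obtain ⟨t, ht⟩ := exists_golden (F := F) h
    obtain ⟨f, hf⟩ : ∃ f : alternatingGroup (Fin 5) →* ProjectiveSpecialLinearGroup (Fin 2) F,
        Function.Injective f := by
      rcases parity_cases (F := F) with ⟨h2, hodd⟩ | ⟨h2, -⟩
      · obtain ⟨x, y, hxy⟩ := Cfsg.Agent.Lib.Helper59.exists_sq_add_sq (F := F)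
          (Nat.odd_iff.mpr hodd) (-1)
        exact exists_A5_of_quat h2 x y hxy t ht
      · exact exists_A5_of_char_two h2 t ht
    exact ⟨f.range, ⟨(MonoidHom.ofInjective hf).symm⟩⟩

end Cfsg.Agent.S0804
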