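import Cfsg.Statements.S0808
-- import your own Cfsg.Agent.* helpers here
import Cfsg.Agent.Lib.Helper47.SL2Four
import Cfsg.Agent.Lib.Helper47.FourClasses
import Cfsg.Agent.Lib.Helper7.SL2Center

set_option autoImplicit false
open Cfsg

namespace Cfsg.Agent.S0808

set_option linter.unusedSimpArgs false
open Matrix Cfsg.Agent.Lib.Helper47 Cfsg.Agent.Lib.Helper46

section
variable {F : Type*} [Field F]

theorem central_of_comm_both (h2 : (2 : F) ≠ 0) (A B X : SpecialLinearGroup (Fin 2) F)
    (hBA : B * A = negOne * (A * B)) (h1 : X * A = A * X) (h3 : X * B = B * X) : pmk X = 1 := by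
  by_contra hne
  have hX : X ∉ Subgroup.center (SpecialLinearGroup (Fin 2) F) := fun h =>
    hne ((QuotientGroup.eq_one_iff _).mpr h)
  have := commute_trans X A B hX h1.symm h3.symm
  rw [this] at hBA
  exact ne_negOne_mul h2 _ hBA

theorem self_centralizing (h2 : (2 : F) ≠ 0)
    (p : ProjectiveSpecialLinearGroup (Fin 2) F × ProjectiveSpecialLinearGroup (Fin 2) F)
    (hp : IsInvPair p) (g : ProjectiveSpecialLinearGroup (Fin 2) F)
    (h1 : g * p.1 = p.1 * g) (h3 : g * p.2 = p.2 * g) :
    g = 1 ∨ g = p.1 ∨ g = p.2 ∨ g = p.1 * p.2 := by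
  obtain ⟨x, y⟩ := p
  obtain ⟨hx1, hy1, hxy, hx, hy, hc⟩ := hp
  simp only at hx1 hy1 hxy hx hy hc h1 h3 ⊢
  obtain ⟨A, rfl, hA, hAA⟩ := exists_lift_inv h2 x hx1 hx
  obtain ⟨B, rfl, hBA⟩ := (anti_iff h2 A hA y).mpr ⟨hy1, fun h => hxy h.symm, hy, hc⟩
  obtain ⟨X, rfl⟩ := QuotientGroup.mk_surjective g
  have hAB : A * B = negOne * (B * A) := by
    rw [hBA, ← mul_assoc, negOne_mul_negOne, one_mul]
  have hone : ∀ Z : SpecialLinearGroup (Fin 2) F, (1 : SpecialLinearGroup (Fin 2) F) * Z = Z * 1 := by
    intro Z; simp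
  have c1 := (mem_Cstar A X).mp (by
    rw [Cstar, Subgroup.mem_comap, Subgroup.mem_centralizer_singleton_iff]; exact h1)
  have c2 := (mem_Cstar B X).mp (by
    rw [Cstar, Subgroup.mem_comap, Subgroup.mem_centralizer_singleton_iff]; exact h3)
  have fin : ∀ U : SpecialLinearGroup (Fin 2) F, pmk U * pmk U = 1 → pmk (X * U) = 1 →
      pmk X = pmk U := by
    intro U hU h
    rw [pmk_mul] at h
    calc pmk X = pmk X * (pmk U * pmk U) := by rw [hU, mul_one]
      _ = pmk U := by rw [← mul_assoc, h, one_mul]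
  rcases c1 with c1 | c1 <;> rcases c2 with c2 | c2
  · left
    exact central_of_comm_both h2 A B X hBA c1 c2
  · -- signs (+,-): same as `A`
    right; left
    apply fin A hx
    apply central_of_comm_both h2 A B _ hBA
    · have := sgn_mul (s := 1) (s' := 1) (X := X) (U := A) (A := A) hone hone
        (by rw [one_mul]; exact c1) (by rw [one_mul])
      simpa using this
    · have := sgn_mul (X := X) (U := A) (A := B) negOne_central negOne_central c2 hAB
      rwa [negOne_mul_negOne, one_mul] at this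
  · right; right; left
    apply fin B hy
    apply central_of_comm_both h2 A B _ hBA
    · have := sgn_mul (X := X) (U := B) (A := A) negOne_central negOne_central c1 hBA
      rwa [negOne_mul_negOne, one_mul] at this
    · have := sgn_mul (s := 1) (s' := 1) (X := X) (U := B) (A := B) hone hone
        (by rw [one_mul]; exact c2) (by rw [one_mul])
      simpa using this
  · right; right; right
    have hABA : (A * B) * A = negOne * (A * (A * B)) := by
      have := sgn_mul (s := 1) (s' := negOne) (X := A) (U := B) (A := A) hone negOne_central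
        (by rw [one_mul]) hBA
      rwa [one_mul] at this
    have hABB : (A * B) * B = negOne * (B * (A * B)) := by
      have := sgn_mul (s := negOne) (s' := 1) (X := A) (U := B) (A := B) negOne_central hone
        hAB (by rw [one_mul])
      rwa [mul_one] at this
    have hsq : pmk (A * B) * pmk (A * B) = 1 := by
      rw [pmk_mul]
      calc pmk A * pmk B * (pmk A * pmk B) = pmk A * (pmk B * pmk A) * pmk B := by group
        _ = pmk A * (pmk A * pmk B) * pmk B := by rw [hc]
        _ = (pmk A * pmk A) * (pmk B * pmk B) := by group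
        _ = 1 := by rw [hx, hy, one_mul]
    rw [← pmk_mul]
    apply fin (A * B) hsq
    apply central_of_comm_both h2 A B _ hBA
    · have := sgn_mul (X := X) (U := A * B) (A := A) negOne_central negOne_central c1 hABA
      rwa [negOne_mul_negOne, one_mul] at this
    · have := sgn_mul (X := X) (U := A * B) (A := B) negOne_central negOne_central c2 hABB
      rwa [negOne_mul_negOne, one_mul] at this

end

/-- Conjugacy classes of four-groups in PSL_2(q), q odd: if q ≡ 3 or 5 (mod 8) all Klein four-subgroups are conjugate; if q ≡ 1 or 7 (mod 8) there are two Klein four-subgroups which are not conjugate, and every Klein four-subgroup is conjugate to one of them. -/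
theorem result {F : Type*} [Field F] [Fintype F] {q : ℕ} (hF : Fintype.card F = q) (hodd : Odd q) : ((q % 8 = 3 ∨ q % 8 = 5) → ∀ V W : Subgroup (Matrix.ProjectiveSpecialLinearGroup (Fin 2) F), IsKleinFour V → IsKleinFour W → ∃ g : Matrix.ProjectiveSpecialLinearGroup (Fin 2) F, W = V.map (MulAut.conj g).toMonoidHom) ∧ ((q % 8 = 1 ∨ q % 8 = 7) → ∃ V₁ V₂ : Subgroup (Matrix.ProjectiveSpecialLinearGroup (Fin 2) F), IsKleinFour V₁ ∧ IsKleinFour V₂ ∧ (¬ ∃ g : Matrix.ProjectiveSpecialLinearGroup (Fin 2) F, V₂ = V₁.map (MulAut.conj g).toMonoidHom) ∧ ∀ W : Subgroup (Matrix.ProjectiveSpecialLinearGroup (Fin 2) F), IsKleinFour W → (∃ g : Matrix.ProjectiveSpecialLinearGroup (Fin 2) F, W = V₁.map (MulAut.conj g).toMonoidHom) ∨ (∃ g : Matrix.ProjectiveSpecialLinearGroup (Fin 2) F, W = V₂.map (MulAut.conj g).toMonoidHom)) := by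
  subst hF
  have hodd' : Fintype.card F % 2 = 1 := Nat.odd_iff.mp hodd
  have h2 : (2 : F) ≠ 0 := by
    rcases parity_cases (F := F) with ⟨h, -⟩ | ⟨-, h⟩
    · exact h
    · omega
  have := finite_SL2 (F := F)
  have hfinG : Finite (ProjectiveSpecialLinearGroup (Fin 2) F) := Quotient.finite _
  have hcard := Cfsg.Agent.Lib.Helper7.card_PSL2 (F := F) h2
  constructor
  · intro hq V W hV hW
    obtain ⟨m, hm, hmo⟩ : ∃ m, Nat.card (ProjectiveSpecialLinearGroup (Fin 2) F) = 4 * m ∧
        m % 2 = 1 := by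
      rcases hq with hq | hq
      · obtain ⟨k, hk⟩ : ∃ k, Fintype.card F = 8 * k + 3 := ⟨Fintype.card F / 8, by omega⟩
        rw [hk] at hcard
        have e : (8 * k + 3) ^ 2 - 1 = 8 * ((4 * k + 1) * (2 * k + 1)) := by
          have : (8 * k + 3) ^ 2 = 8 * ((4 * k + 1) * (2 * k + 1)) + 1 := by ring
          omega
        rw [e] at hcard
        refine ⟨(8 * k + 3) * ((4 * k + 1) * (2 * k + 1)), by nlinarith, ?_⟩
        simp [Nat.mul_mod, Nat.add_mod]
      · obtain ⟨k, hk⟩ : ∃ k, Fintype.card F = 8 * k + 5 := ⟨Fintype.card F / 8, by omega⟩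
        rw [hk] at hcard
        have e : (8 * k + 5) ^ 2 - 1 = 8 * ((2 * k + 1) * (4 * k + 3)) := by
          have : (8 * k + 5) ^ 2 = 8 * ((2 * k + 1) * (4 * k + 3)) + 1 := by ring
          omega
        rw [e] at hcard
        refine ⟨(8 * k + 5) * ((2 * k + 1) * (4 * k + 3)), by nlinarith, ?_⟩
        simp [Nat.mul_mod, Nat.add_mod]
    exact kleinFour_conj_of_sylow m hm hmo V W hV hW
  · intro hq
    apply two_classes_kleinFour (psl_twelve_mul_card_kleinFour hodd')
    · intro p hp g h1 h3
      exact self_centralizing h2 p hp g h1 h3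
    · rcases hq with hq | hq
      · obtain ⟨k, hk⟩ : ∃ k, Fintype.card F = 8 * k + 1 := ⟨Fintype.card F / 8, by omega⟩
        rw [hk] at hcard
        have e : (8 * k + 1) ^ 2 - 1 = 16 * (k * (4 * k + 1)) := by
          have : (8 * k + 1) ^ 2 = 16 * (k * (4 * k + 1)) + 1 := by ring
          omega
        rw [e] at hcard
        exact ⟨(8 * k + 1) * (k * (4 * k + 1)), by nlinarith⟩
      · obtain ⟨k, hk⟩ : ∃ k, Fintype.card F = 8 * k + 7 := ⟨Fintype.card F / 8, by omega⟩
        rw [hk] at hcard
        have e : (8 * k + 7) ^ 2 - 1 = 16 * ((4 * k + 3) * (k + 1)) := by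
          have : (8 * k + 7) ^ 2 = 16 * ((4 * k + 3) * (k + 1)) + 1 := by ring
          omega
        rw [e] at hcard
        exact ⟨(8 * k + 7) * ((4 * k + 3) * (k + 1)), by nlinarith⟩

end Cfsg.Agent.S0808
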