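import Cfsg.Statements.S0809
-- import your own Cfsg.Agent.* helpers here
import Cfsg.Agent.Lib.Helper47.SL2Quat
import Cfsg.Agent.Lib.Helper47.SL2Class

set_option autoImplicit false
open Cfsg

namespace Cfsg.Agent.S0809


set_option linter.unusedSimpArgs false
open Matrix Cfsg.Agent.Lib.Helper47 Cfsg.Agent.Lib.Helper46

section
variable {F : Type*} [Field F]

theorem tr_eq_zero_of_sq (X : SpecialLinearGroup (Fin 2) F) (h : X * X = negOne) : tr X = 0 := by
  have hc := cayley X
  rw [← Matrix.SpecialLinearGroup.coe_mul, h] at hc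
  by_contra ht
  have e00 := congrFun (congrFun hc 0) 0
  have e01 := congrFun (congrFun hc 0) 1
  simp only [negOne, mk2_00, mk2_01, Matrix.sub_apply, Matrix.smul_apply, smul_eq_mul,
    Matrix.one_apply_eq, Matrix.one_apply_ne (show (0 : Fin 2) ≠ 1 by decide)] at e00 e01
  have hd := det2 X
  have f00 : tr X * (X : Matrix (Fin 2) (Fin 2) F) 0 0 = 0 := by linear_combination -e00
  have f01 : tr X * (X : Matrix (Fin 2) (Fin 2) F) 0 1 = 0 := by linear_combination -e01
  rw [(mul_eq_zero.mp f00).resolve_left ht, (mul_eq_zero.mp f01).resolve_left ht] at hd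
  simp at hd

theorem sq_cases (h2 : (2 : F) ≠ 0) (X : SpecialLinearGroup (Fin 2) F) (h4 : X ^ 4 = 1) :
    X * X = 1 ∨ X * X = negOne := by
  apply eq_one_or_negOne_of_mem_center
  apply mem_center_of_sq_eq_one h2
  rw [← h4]
  simp only [pow_succ, pow_zero, one_mul, mul_assoc]

theorem inv_of_sq (X : SpecialLinearGroup (Fin 2) F) (h : X * X = negOne) :
    X⁻¹ = negOne * X := by
  apply inv_eq_of_mul_eq_one_left
  rw [mul_assoc, h, negOne_mul_negOne]

theorem four_ne (h2 : (2 : F) ≠ 0) : (0 : F) ^ 2 ≠ 4 := by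
  intro h
  apply h2
  have : (2 : F) * 2 = 0 := by linear_combination -h
  exact (mul_eq_zero.mp this).elim id id

theorem order_four_subgroup (h2 : (2 : F) ≠ 0) (A : Subgroup (SpecialLinearGroup (Fin 2) F))
    (hA : Nat.card A = 4) : ∃ X, X * X = negOne ∧ A = Subgroup.zpowers X := by
  have hfin : Finite A := Nat.finite_of_card_ne_zero (by omega)
  have hex : ∃ X ∈ A, X * X ≠ 1 := by
    by_contra hcon
    push Not at hcon
    have hsub : (A : Set (SpecialLinearGroup (Fin 2) F)) ⊆ {1, negOne} := by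
      intro a ha
      have := eq_one_or_negOne_of_mem_center a (mem_center_of_sq_eq_one h2 a (hcon a ha))
      simpa using this
    have h1 := Set.ncard_le_ncard hsub (Set.toFinite _)
    have h3 : ({1, negOne} : Set (SpecialLinearGroup (Fin 2) F)).ncard ≤ 2 :=
      (Set.ncard_insert_le _ _).trans (by rw [Set.ncard_singleton])
    have h4 : (A : Set (SpecialLinearGroup (Fin 2) F)).ncard = 4 := by
      rw [← hA]; rfl
    omega
  obtain ⟨X, hXA, hX⟩ := hex
  have h4 : X ^ 4 = 1 := by
    have := pow_card_eq_one' (x := (⟨X, hXA⟩ : A))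
    rw [hA] at this
    simpa using congrArg Subtype.val this
  have hsq : X * X = negOne := (sq_cases h2 X h4).resolve_left hX
  refine ⟨X, hsq, ?_⟩
  have ho : orderOf X = 2 ^ (1 + 1) := by
    apply orderOf_eq_prime_pow
    · rw [pow_one, pow_two]; exact hX
    · exact h4
  symm
  apply Subgroup.eq_of_le_of_card_ge
  · rw [Subgroup.zpowers_le]; exact hXA
  · rw [Nat.card_zpowers, ho, hA]; norm_num

theorem normalizer_eq_Cstar (h2 : (2 : F) ≠ 0) (X : SpecialLinearGroup (Fin 2) F)
    (h : X * X = negOne) :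
    Subgroup.normalizer ((Subgroup.zpowers X : Subgroup _) : Set (SpecialLinearGroup (Fin 2) F))
      = Cstar X := by
  have ht := tr_eq_zero_of_sq X h
  have hinv := inv_of_sq X h
  ext g
  rw [Subgroup.mem_normalizer_iff, mem_Cstar]
  constructor
  · intro hg
    have h1 : g * X * g⁻¹ ∈ Subgroup.zpowers X := (hg X).mp (Subgroup.mem_zpowers X)
    have hcomm : (g * X * g⁻¹) * X = X * (g * X * g⁻¹) := by
      obtain ⟨k, hk⟩ := Subgroup.mem_zpowers_iff.mp h1
      rw [← hk]
      exact ((Commute.refl X).zpow_left k)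
    rcases same_or_inv h2 X (g * X * g⁻¹) (by rw [ht]; exact four_ne h2) hcomm (tr_conj g X) with
      h3 | h3
    · left
      calc g * X = (g * X * g⁻¹) * g := by group
        _ = X * g := by rw [h3]
    · right
      calc g * X = (g * X * g⁻¹) * g := by group
        _ = negOne * (X * g) := by rw [h3, hinv]; group
  · intro hg
    have h1 : g * X * g⁻¹ = X ∨ g * X * g⁻¹ = X⁻¹ := by
      rcases hg with hg | hg
      · left; rw [hg]; group
      · right; rw [hg, hinv]; group
    have h2' : g⁻¹ * X * g = X ∨ g⁻¹ * X * g = X⁻¹ := by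
      rcases h1 with h1 | h1
      · left
        calc g⁻¹ * X * g = g⁻¹ * (g * X * g⁻¹) * g := by rw [h1]
          _ = X := by group
      · right
        calc g⁻¹ * X * g = (g⁻¹ * X⁻¹ * g)⁻¹ := by group
          _ = (g⁻¹ * (g * X * g⁻¹) * g)⁻¹ := by rw [h1]
          _ = X⁻¹ := by group
    have m1 : g * X * g⁻¹ ∈ Subgroup.zpowers X := by
      rcases h1 with h1 | h1 <;> rw [h1]
      · exact Subgroup.mem_zpowers X
      · exact Subgroup.inv_mem _ (Subgroup.mem_zpowers X)
    have m2 : g⁻¹ * X * g ∈ Subgroup.zpowers X := by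
      rcases h2' with h1 | h1 <;> rw [h1]
      · exact Subgroup.mem_zpowers X
      · exact Subgroup.inv_mem _ (Subgroup.mem_zpowers X)
    intro y
    constructor
    · intro hy
      obtain ⟨k, rfl⟩ := Subgroup.mem_zpowers_iff.mp hy
      rw [← conj_zpow]
      exact Subgroup.zpow_mem _ m1 k
    · intro hy
      obtain ⟨k, hk⟩ := Subgroup.mem_zpowers_iff.mp hy
      have : y = (g⁻¹ * X * g) ^ k := by
        have e1 : g⁻¹ * X * g = g⁻¹ * X * g⁻¹⁻¹ := by group
        rw [e1, conj_zpow, hk]
        group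
      rw [this]
      exact Subgroup.zpow_mem _ m2 k

theorem card_Cstar [Fintype F] (hodd : Fintype.card F % 2 = 1) (X : SpecialLinearGroup (Fin 2) F)
    (ht : tr X = 0) : Nat.card (Cstar X) =
      2 * Nat.card (Subgroup.centralizer ({X} : Set (SpecialLinearGroup (Fin 2) F))) := by
  have := finite_SL2 (F := F)
  have h1 := two_mul_index_Cstar hodd X ht
  have h2 := (Cstar X).card_mul_index
  have h3 := (Subgroup.centralizer ({X} : Set (SpecialLinearGroup (Fin 2) F))).card_mul_index
  have hpos : 0 < (Cstar X).index := Nat.pos_of_ne_zero (Subgroup.index_ne_zero_of_finite)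
  apply Nat.eq_of_mul_eq_mul_right hpos
  rw [h2, ← h3, ← h1]
  ring

end

/-- In SL_2(q), q odd: any two subgroups of order 4 are conjugate, and the normaliser of a subgroup of order 4 has order 2(q − 1) if q ≡ 1 (mod 4) and 2(q + 1) if q ≡ 3 (mod 4); consequently all involutions of PSL_2(q) are conjugate. -/
theorem result {F : Type*} [Field F] [Fintype F] {q : ℕ} (hF : Fintype.card F = q) (hodd : Odd q) (A : Subgroup (Matrix.SpecialLinearGroup (Fin 2) F)) (hA : Nat.card A = 4) : (∀ B : Subgroup (Matrix.SpecialLinearGroup (Fin 2) F), Nat.card B = 4 → ∃ g : Matrix.SpecialLinearGroup (Fin 2) F, B = A.map (MulAut.conj g).toMonoidHom) ∧ (q % 4 = 1 → Nat.card ↥(Subgroup.normalizer (A : Set (Matrix.SpecialLinearGroup (Fin 2) F))) = 2 * (q - 1)) ∧ (q % 4 = 3 → Nat.card ↥(Subgroup.normalizer (A : Set (Matrix.SpecialLinearGroup (Fin 2) F))) = 2 * (q + 1)) ∧ (∀ x y : Matrix.ProjectiveSpecialLinearGroup (Fin 2) F, orderOf x = 2 → orderOf y = 2 → IsConj x y) := by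
  classical
  subst hF
  have hodd' : Fintype.card F % 2 = 1 := Nat.odd_iff.mp hodd
  have h2 : (2 : F) ≠ 0 := by
    rcases parity_cases (F := F) with ⟨h, -⟩ | ⟨-, h⟩
    · exact h
    · omega
  have hrep := repAll_of_odd hodd' (0 : F) (four_ne h2)
  have hnc : ∀ X : SpecialLinearGroup (Fin 2) F, tr X = 0 →
      X ∉ Subgroup.center (SpecialLinearGroup (Fin 2) F) := by
    intro X ht h
    have := tr_sq_of_mem_center X h
    rw [ht] at this
    exact four_ne h2 this
  obtain ⟨X, hX, rfl⟩ := order_four_subgroup h2 A hA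
  have htX := tr_eq_zero_of_sq X hX
  refine ⟨?_, ?_, ?_, ?_⟩
  · intro B hB
    obtain ⟨Y, hY, rfl⟩ := order_four_subgroup h2 B hB
    have htY := tr_eq_zero_of_sq Y hY
    obtain ⟨P, hP⟩ := conj_of_tr_eq hrep X Y (hnc X htX) (hnc Y htY) htX htY
    refine ⟨P, ?_⟩
    rw [MonoidHom.map_zpowers]
    congr 1
    exact hP.symm
  · intro h4
    rw [normalizer_eq_Cstar h2 X hX, card_Cstar hodd' X htX]
    obtain ⟨a, ha⟩ : IsSquare (-1 : F) := FiniteField.isSquare_neg_one_iff.mpr (by omega)
    rcases card_centralizer_cases X (hnc X htX) with ⟨h, -⟩ | ⟨-, h⟩ | ⟨h, -⟩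
    · exact absurd (by rw [htX]; linear_combination -ha) (h a)
    · rw [h]
    · rw [htX] at h
      exact absurd h (four_ne h2)
  · intro h4
    rw [normalizer_eq_Cstar h2 X hX, card_Cstar hodd' X htX]
    rcases card_centralizer_cases X (hnc X htX) with ⟨-, h⟩ | ⟨⟨a, ha, -⟩, -⟩ | ⟨h, -⟩
    · rw [h]
    · exfalso
      have : IsSquare (-1 : F) := ⟨a, by rw [htX] at ha; linear_combination -ha⟩
      exact (FiniteField.isSquare_neg_one_iff.mp this) h4
    · rw [htX] at h
      exact absurd h (four_ne h2)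
  · intro x y hx hy
    have key : ∀ z : ProjectiveSpecialLinearGroup (Fin 2) F, orderOf z = 2 →
        ∃ Z : SpecialLinearGroup (Fin 2) F, pmk Z = z ∧ tr Z = 0 := by
      intro z hz
      obtain ⟨Z, rfl⟩ := QuotientGroup.mk_surjective z
      refine ⟨Z, rfl, ?_⟩
      have h1 : pmk Z ^ 2 = 1 := by
        have := pow_orderOf_eq_one (pmk Z)
        rwa [show orderOf (pmk Z) = 2 from hz] at this
      have h3 : Z * Z ∈ Subgroup.center (SpecialLinearGroup (Fin 2) F) := by
        rw [← QuotientGroup.eq_one_iff, ← h1, pow_two]; rfl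
      rcases eq_one_or_negOne_of_mem_center _ h3 with h4 | h4
      · exfalso
        have h5 := mem_center_of_sq_eq_one h2 Z h4
        have h6 : pmk Z = 1 := (QuotientGroup.eq_one_iff _).mpr h5
        have h7 : orderOf (pmk Z) = 2 := hz
        rw [h6, orderOf_one] at h7
        omega
      · exact tr_eq_zero_of_sq Z h4
    obtain ⟨X', rfl, hX'⟩ := key x hx
    obtain ⟨Y', rfl, hY'⟩ := key y hy
    obtain ⟨P, hP⟩ := conj_of_tr_eq hrep X' Y' (hnc X' hX') (hnc Y' hY') hX' hY'
    rw [isConj_iff]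
    refine ⟨pmk P, ?_⟩
    rw [← hP]
    rfl

end Cfsg.Agent.S0809
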