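import Cfsg.Statements.S0810
import Cfsg.Agent.Lib.Helper7.PSL2Solv
import Cfsg.Agent.S3378
import Cfsg.Agent.S0804
-- import your own Cfsg.Agent.* helpers here

set_option autoImplicit false
open Cfsg

namespace Cfsg.Agent.S0810

open Matrix MatrixGroups Subgroup Cfsg.Agent.Lib.Helper46 Cfsg.Agent.Lib.Helper18.SL2
open Cfsg.Agent.Lib.Helper7 Cfsg.Agent.Lib.Helper7.PMax

theorem sub_cases {l r q₀ m : ℕ} (hl : l.Prime) (hr : r.Prime ∨ r = 1) (h : l ^ r = q₀ ^ m) :
    q₀ = l ∨ q₀ = l ^ r := by
  have hr0 : r ≠ 0 := by
    rcases hr with hr | hr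
    · exact hr.ne_zero
    · omega
  have hm : m ≠ 0 := by
    rintro rfl
    rw [pow_zero] at h
    have := Nat.one_lt_pow hr0 hl.one_lt
    omega
  have hd : q₀ ∣ l ^ r := by rw [h]; exact dvd_pow_self _ hm
  obtain ⟨j, -, rfl⟩ := (Nat.dvd_prime_pow hl).1 hd
  rw [← pow_mul] at h
  have hjm : r = j * m := Nat.pow_right_injective hl.two_le h
  have hjr : j ∣ r := ⟨m, hjm⟩
  rcases hr with hr | hr
  · rcases (Nat.dvd_prime hr).1 hjr with rfl | rfl
    · left; rw [pow_one]
    · right; rfl
  · subst hr
    rw [Nat.dvd_one.1 hjr]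
    left; rw [pow_one]

theorem four_pow_mod (k : ℕ) : 4 ^ k % 5 = 1 ∨ 4 ^ k % 5 = 4 := by
  induction k with
  | zero => simp
  | succ n ih => rw [pow_succ]; omega

theorem nine_pow_mod (k : ℕ) : 9 ^ k % 5 = 1 ∨ 9 ^ k % 5 = 4 := by
  induction k with
  | zero => simp
  | succ n ih => rw [pow_succ]; omega

theorem not_dvd_of_mod {q : ℕ} (h : q % 5 = 2 ∨ q % 5 = 3) : ¬ 5 ∣ q * (q ^ 2 - 1) := by
  intro hd
  have h5 : Nat.Prime 5 := by norm_num
  rcases (Nat.Prime.dvd_mul h5).1 hd with h1 | h1
  · omega
  · have h2 : q ^ 2 % 5 = 4 := by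
      rw [Nat.pow_mod]
      rcases h with h | h <;> rw [h]
    have h3 : 1 ≤ q ^ 2 := Nat.one_le_pow _ _ (by omega)
    omega

variable {F : Type*} [Field F] [Fintype F]

/-- the common part of the sufficiency proof -/
theorem suff (l r : ℕ) (hl : l.Prime) (hr : r.Prime ∨ r = 1) (hq : Fintype.card F = l ^ r)
    (hl3 : l ≤ 3 ∨ r = 1)
    (h5 : (Fintype.card F % 5 = 2 ∨ Fintype.card F % 5 = 3) ∨ Fintype.card F = 4 ∨
      Fintype.card F = 5)
    (M : Subgroup (ProjectiveSpecialLinearGroup (Fin 2) F)) (hM : M ≠ ⊤) :
    Group.IsSolvable M := by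
  obtain ⟨p, hp⟩ := CharP.exists F
  haveI : Fact p.Prime := ⟨CharP.char_is_prime F p⟩
  have hz := zc_pos F
  rcases psl_dickson_num p M with ⟨-, h, -⟩ | ⟨h, -⟩ | h | ⟨q₀, m, hq₀, hqm, h⟩
  · apply solvable_of_meta
    intro a b c d
    exact Subtype.ext (h a a.2 b b.2 c c.2 d d.2).eq
  · apply solvable_of_sq
    intro a b
    exact Subtype.ext (h a a.2 b b.2).eq
  · rcases h with h | h | h
    · exact Cfsg.Agent.S3378.solvable_of_lt 12 M h (by norm_num)
    · exact Cfsg.Agent.S3378.solvable_of_lt 24 M h (by norm_num)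
    · exfalso
      rcases h5 with h5 | h5 | h5
      · apply not_dvd_of_mod h5
        rw [← card_PSL]
        apply Dvd.dvd.mul_left
        have := Subgroup.card_subgroup_dvd_card M
        rw [h] at this
        exact dvd_trans (by norm_num) this
      · apply hM
        apply eq_top_of_card
        left
        rw [h, zc_eq_gcd, h5]
        norm_num
      · apply hM
        apply eq_top_of_card
        left
        rw [h, zc_eq_gcd, h5]
        norm_num
  · rw [hq] at hqm
    rcases sub_cases hl hr hqm with h1 | h1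
    · rcases hl3 with hl3 | hl3
      · have h3 : q₀ = 3 := by omega
        subst h3
        have hle : Nat.card M ≤ 24 := by
          rcases h with h | h
          · have : Nat.card M ≤ zc F * Nat.card M := Nat.le_mul_of_pos_left _ hz
            omega
          · omega
        exact Cfsg.Agent.S3378.solvable_of_lt _ M rfl (by omega)
      · exfalso
        apply hM
        apply eq_top_of_card
        rw [hq, hl3, pow_one, ← h1]
        exact h
    · exfalso
      apply hM
      apply eq_top_of_card
      rw [hq, ← h1]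
      exact h

theorem not_comm (h4 : 4 ≤ Fintype.card F) :
    ¬ IsMulCommutative (ProjectiveSpecialLinearGroup (Fin 2) F) := by
  intro hc
  apply not_solvable_PSL2 (K := F) (by rw [Nat.card_eq_fintype_card]; exact h4)
  exact isSolvable_of_comm (fun a b => hc.is_comm.comm a b)


/-- PSL_2(q) is minimal simple iff q is 2^r (r prime), 3^r (r an odd prime), a prime greater than 5 congruent to 2 or 3 mod 5, or 5. -/
theorem result {F : Type*} [Field F] [Fintype F] {q : ℕ} (hF : Fintype.card F = q) : Cfsg.IsMinimalSimple (Matrix.ProjectiveSpecialLinearGroup (Fin 2) F) ↔ ((∃ r : ℕ, r.Prime ∧ q = 2 ^ r) ∨ (∃ r : ℕ, r.Prime ∧ r ≠ 2 ∧ q = 3 ^ r) ∨ (q.Prime ∧ 5 < q ∧ (q % 5 = 2 ∨ q % 5 = 3)) ∨ q = 5) := by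
  classical
  subst hF
  constructor
  · rintro ⟨hs, hnc, hsol⟩
    have hz := zc_pos F
    have hcard := card_PSL (F := F)
    have hq2 : 2 ≤ Fintype.card F := Fintype.one_lt_card
    -- `q ≥ 4`
    have h4 : 4 ≤ Fintype.card F := by
      by_contra hlt
      apply hnc
      have hlt60 : Nat.card (ProjectiveSpecialLinearGroup (Fin 2) F) < 60 := by
        have h1 : Nat.card (ProjectiveSpecialLinearGroup (Fin 2) F) ≤
            zc F * Nat.card (ProjectiveSpecialLinearGroup (Fin 2) F) :=
          Nat.le_mul_of_pos_left _ hz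
        have h2 : Fintype.card F = 2 ∨ Fintype.card F = 3 := by omega
        rcases h2 with h2 | h2 <;> rw [h2] at hcard <;> omega
      have hsolv := Cfsg.Agent.S3378.solvable_of_lt _
        (ProjectiveSpecialLinearGroup (Fin 2) F) rfl hlt60
      exact ⟨⟨IsSimpleGroup.comm_iff_isSolvable.2 hsolv⟩⟩
    -- no `A₅` unless the order is `60`
    have hA5 : 5 ∣ Fintype.card F * (Fintype.card F ^ 2 - 1) →
        Nat.card (ProjectiveSpecialLinearGroup (Fin 2) F) = 60 := by
      intro h5
      obtain ⟨H, ⟨e⟩⟩ := (Cfsg.Agent.S0804.result (F := F) rfl).2 h5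
      by_contra hne
      have hH : H ≠ ⊤ := by
        intro hH
        apply hne
        have h1 : Nat.card H = 60 := by
          rw [Nat.card_congr e.toEquiv, nat_card_alternatingGroup]
          simp [Nat.factorial]
        rw [← h1, hH, Subgroup.card_top]
      exact not_solvable_of_equiv e not_solvable_A5 (hsol H hH)
    by_cases hprime : (Fintype.card F).Prime
    · right; right
      by_cases h5 : Fintype.card F = 5
      · right; exact h5
      · left
        have h7 : 7 ≤ Fintype.card F := by
          by_contra hlt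
          have : Fintype.card F = 4 ∨ Fintype.card F = 6 := by omega
          rcases this with h | h <;> rw [h] at hprime <;> revert hprime <;> norm_num
        refine ⟨hprime, by omega, ?_⟩
        by_contra hmod
        have hmod0 : Fintype.card F % 5 ≠ 0 := by
          intro h0
          have := (Nat.prime_dvd_prime_iff_eq (by norm_num) hprime).1 (Nat.dvd_of_mod_eq_zero h0)
          omega
        have hmod' : Fintype.card F % 5 = 1 ∨ Fintype.card F % 5 = 4 := by omega
        have h5d : 5 ∣ Fintype.card F * (Fintype.card F ^ 2 - 1) := by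
          apply Dvd.dvd.mul_left
          have h2 : Fintype.card F ^ 2 % 5 = 1 := by
            rw [Nat.pow_mod]
            rcases hmod' with h | h <;> rw [h]
          omega
        have h60 := hA5 h5d
        rw [h60] at hcard
        have hzle : zc F ≤ 2 := by
          rw [zc_eq_gcd]; exact Nat.gcd_le_left _ (by norm_num)
        have h1 : 7 * (7 ^ 2 - 1) ≤ Fintype.card F * (Fintype.card F ^ 2 - 1) := by
          apply Nat.mul_le_mul h7
          have : 7 ^ 2 ≤ Fintype.card F ^ 2 := Nat.pow_le_pow_left h7 2
          omega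
        omega
    · obtain ⟨L, l, hl, hL⟩ := exists_prime_codegree hprime
      have hL2 : 2 ≤ Nat.card L := by
        have := Fintype.ofFinite L
        rw [Nat.card_eq_fintype_card]
        exact Fintype.one_lt_card
      have hL3 : Nat.card L ≤ 3 := by
        by_contra hgt
        exact subM_not_solvable (L := L) (by omega) 1
          (hsol _ (subM_ne_top hl.two_le hL 1))
      have hcases : Nat.card L = 2 ∨ Nat.card L = 3 := by omega
      rcases hcases with h | h
      · left
        exact ⟨l, hl, by rw [← hL, h]⟩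
      · right; left
        refine ⟨l, hl, ?_, by rw [← hL, h]⟩
        rintro rfl
        rw [h] at hL
        have h9 : Fintype.card F = 9 := by rw [← hL]; norm_num
        have h60 := hA5 (by rw [h9]; norm_num)
        rw [h60, h9] at hcard
        have hzle : zc F ≤ 2 := by
          rw [zc_eq_gcd]; exact Nat.gcd_le_left _ (by norm_num)
        omega
  · intro h
    have key : 4 ≤ Fintype.card F ∧ ∀ M : Subgroup (ProjectiveSpecialLinearGroup (Fin 2) F),
        M ≠ ⊤ → Group.IsSolvable M := by
      rcases h with ⟨r, hr, hq⟩ | ⟨r, hr, hr2, hq⟩ | ⟨hq, h5, hmod⟩ | hq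
      · refine ⟨?_, ?_⟩
        · rw [hq]
          calc 4 = 2 ^ 2 := by norm_num
            _ ≤ 2 ^ r := Nat.pow_le_pow_right (by norm_num) hr.two_le
        · apply suff 2 r Nat.prime_two (Or.inl hr) hq (Or.inl (by norm_num))
          rcases hr.eq_two_or_odd' with rfl | ⟨k, rfl⟩
          · right; left; rw [hq]; norm_num
          · left
            rw [hq, pow_succ, pow_mul]
            have := four_pow_mod k
            norm_num
            omega
      · refine ⟨?_, ?_⟩
        · rw [hq]
          calc 4 ≤ 3 ^ 2 := by norm_num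
            _ ≤ 3 ^ r := Nat.pow_le_pow_right (by norm_num) hr.two_le
        · apply suff 3 r Nat.prime_three (Or.inl hr) hq (Or.inl (by norm_num))
          rcases hr.eq_two_or_odd' with rfl | ⟨k, rfl⟩
          · exact absurd rfl hr2
          · left
            rw [hq, pow_succ, pow_mul]
            have := nine_pow_mod k
            norm_num
            omega
      · refine ⟨by omega, ?_⟩
        exact suff _ 1 hq (Or.inr rfl) (pow_one _).symm (Or.inr rfl) (Or.inl hmod)
      · refine ⟨by omega, ?_⟩
        exact suff 5 1 (by norm_num) (Or.inr rfl) (by rw [hq, pow_one]) (Or.inr rfl)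
          (Or.inr (Or.inr hq))
    exact ⟨Matrix.ProjectiveSpecialLinearGroup.rank_two_simple
      (by rw [Nat.card_eq_fintype_card]; exact key.1), not_comm key.1, key.2⟩

end Cfsg.Agent.S0810
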