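import Cfsg.Statements.S0860
import Mathlib
import Cfsg.Agent.Lib.Helper20.CharColumn

set_option autoImplicit false
open Cfsg

namespace Cfsg.Agent.S0860

open Cfsg.Agent.Lib.Helper20
open scoped ComplexConjugate

theorem sum_div_class {G : Type*} [Group G] [Fintype G] [Fintype (ConjClasses G)]
    (F : ConjClasses G → ℂ) :
    ∑ g : G, F (ConjClasses.mk g) / (Nat.card {x : G // IsConj g x} : ℂ) = ∑ C : ConjClasses G, F C := by
  classical
  rw [← Finset.sum_fiberwise Finset.univ (fun g : G => ConjClasses.mk g)]
  apply Finset.sum_congr rfl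
  intro C _
  have h1 : ∀ g ∈ Finset.univ.filter (fun g : G => ConjClasses.mk g = C),
      F (ConjClasses.mk g) / (Nat.card {x : G // IsConj g x} : ℂ)
        = F C / ((Finset.univ.filter (fun g : G => ConjClasses.mk g = C)).card : ℂ) := by
    intro g hg
    rw [Finset.mem_filter] at hg
    rw [hg.2]
    congr 2
    rw [Nat.card_eq_fintype_card, Fintype.card_subtype]
    congr 1
    ext x
    simp only [Finset.mem_filter, Finset.mem_univ, true_and]
    rw [← hg.2, ConjClasses.mk_eq_mk_iff_isConj]
    exact ⟨fun h => h.symm, fun h => h.symm⟩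
  rw [Finset.sum_congr rfl h1, Finset.sum_const, nsmul_eq_mul]
  have hne : ((Finset.univ.filter (fun g : G => ConjClasses.mk g = C)).card : ℂ) ≠ 0 := by
    have : (Finset.univ.filter (fun g : G => ConjClasses.mk g = C)).Nonempty := by
      obtain ⟨g, hg⟩ := ConjClasses.exists_rep C
      exact ⟨g, by simp [hg]⟩
    exact_mod_cast (Finset.card_pos.mpr this).ne'
  field_simp


/-- Let a group A act on the set of irreducible characters and on the set of conjugacy classes of a finite group G in such a way that (a • χ) evaluated on the class a • C equals χ evaluated on C, for all a, χ and C. Then every element of A fixes exactly as many irreducible characters as it fixes conjugacy classes. -/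
theorem result {G : Type*} [Group G] [Finite G] {A : Type*} [Group A] [MulAction A (Cfsg.IrrCharacter G)] [MulAction A (ConjClasses G)] (hcompat : ∀ (a : A) (χ : Cfsg.IrrCharacter G) (g g' : G), ConjClasses.mk g' = a • ConjClasses.mk g → ((a • χ : Cfsg.IrrCharacter G) : G → ℂ) g' = (χ : G → ℂ) g) (a : A) : Nat.card {χ : Cfsg.IrrCharacter G // a • χ = χ} = Nat.card {C : ConjClasses G // a • C = C} := by
  classical
  haveI := Fintype.ofFinite G
  haveI := finite_irrCharacter (G := G)
  haveI := Fintype.ofFinite (IrrCharacter G)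
  haveI : Fintype (ConjClasses G) := Fintype.ofFinite _
  have hG : (Nat.card G : ℂ) ≠ 0 := card_ne_zero_complex
  apply Nat.cast_injective (R := ℂ)
  have hL : (Nat.card {χ : Cfsg.IrrCharacter G // a • χ = χ} : ℂ)
      = ∑ χ : IrrCharacter G, classInner ((a • χ : IrrCharacter G) : G → ℂ) (χ : G → ℂ) := by
    rw [Nat.card_eq_fintype_card, Fintype.card_subtype, Finset.card_filter]
    push_cast
    apply Finset.sum_congr rfl
    intro χ _
    rw [classInner_irr (a • χ).2 χ.2]
    by_cases h : a • χ = χ
    · rw [if_pos h, if_pos (congrArg Subtype.val h)]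
    · rw [if_neg h, if_neg (fun h' => h (Subtype.ext h'))]
  have hR : (Nat.card {C : ConjClasses G // a • C = C} : ℂ)
      = ∑ C : ConjClasses G, (if a • C = C then (1 : ℂ) else 0) := by
    rw [Nat.card_eq_fintype_card, Fintype.card_subtype, Finset.card_filter]
    push_cast
    rfl
  rw [hL, hR, ← sum_div_class]
  unfold classInner
  rw [← Finset.mul_sum, Finset.sum_comm, Finset.mul_sum]
  apply Finset.sum_congr rfl
  intro g _
  set g' : G := Quotient.out (a⁻¹ • ConjClasses.mk g) with hg'
  have hmk : ConjClasses.mk g' = a⁻¹ • ConjClasses.mk g := Quotient.out_eq _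
  have hmk' : ConjClasses.mk g = a • ConjClasses.mk g' := by rw [hmk, smul_inv_smul]
  have h1 : ∀ χ : IrrCharacter G, ((a • χ : IrrCharacter G) : G → ℂ) g = (χ : G → ℂ) g' :=
    fun χ => hcompat a χ g' g hmk'
  simp only [h1]
  rw [sum_irr_mul_conj g' g]
  have hiff : IsConj g' g ↔ a • ConjClasses.mk g = ConjClasses.mk g := by
    rw [← ConjClasses.mk_eq_mk_iff_isConj, hmk, inv_smul_eq_iff, eq_comm]
  by_cases h : IsConj g' g
  · rw [if_pos h, if_pos (hiff.mp h)]
    have hc : Nat.card {x : G // IsConj g x} = Nat.card {x : G // IsConj g' x} := by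
      apply Nat.card_congr
      exact Equiv.subtypeEquivRight (fun x => ⟨fun hx => h.trans hx, fun hx => h.symm.trans hx⟩)
    rw [hc, card_isConj_eq_index]
    have h2 := (Subgroup.centralizer ({g'} : Set G)).card_mul_index
    have h3 : (Nat.card (Subgroup.centralizer ({g'} : Set G)) : ℂ)
        * ((Subgroup.centralizer ({g'} : Set G)).index : ℂ) = (Nat.card G : ℂ) := by exact_mod_cast h2
    have h4 : ((Subgroup.centralizer ({g'} : Set G)).index : ℂ) ≠ 0 := by
      intro h0
      rw [h0, mul_zero] at h3
      exact hG h3.symm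
    rw [← h3]
    have h5 : (Nat.card (Subgroup.centralizer ({g'} : Set G)) : ℂ) ≠ 0 := by
      intro h0
      rw [h0, zero_mul] at h3
      exact hG h3.symm
    field_simp
  · rw [if_neg h, if_neg (fun h' => h (hiff.mpr h'))]
    simp

end Cfsg.Agent.S0860
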