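import Cfsg.Statements.S0881
-- import your own Cfsg.Agent.* helpers here
import Cfsg.Agent.S0739
import Cfsg.Agent.S0878
import Cfsg.Agent.Lib.Helper19.IndChar
import Cfsg.Agent.Lib.Helper19.LinChar
import Cfsg.Agent.Lib.Helper20.CharOrth

set_option autoImplicit false
open Cfsg

namespace Cfsg.Agent.S0881


open Cfsg.Agent.Lib.Helper19

section
variable {G : Type*} [Group G]

/-- right-invariance of the summand of an induced class function -/
theorem ext_conj_mul (N : Subgroup G) (μ : N → ℂ) (hμ : IsClassFunction N μ) (g x y : G)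
    (hy : y ∈ N) :
    extendByZero N μ ((x * y)⁻¹ * g * (x * y)) = extendByZero N μ (x⁻¹ * g * x) := by
  have e : (x * y)⁻¹ * g * (x * y) = y⁻¹ * (x⁻¹ * g * x) * y := by group
  by_cases h : x⁻¹ * g * x ∈ N
  · have h' : (x * y)⁻¹ * g * (x * y) ∈ N := by
      rw [e]
      exact N.mul_mem (N.mul_mem (N.inv_mem hy) h) hy
    rw [extendByZero_of_mem N μ h', extendByZero_of_mem N μ h]
    have h1 := hμ ⟨x⁻¹ * g * x, h⟩ ⟨y⁻¹, N.inv_mem hy⟩
    rw [← h1]
    congr 1
    apply Subtype.ext
    simp only [Subgroup.coe_mul, Subgroup.coe_inv, inv_inv]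
    exact e
  · have h' : (x * y)⁻¹ * g * (x * y) ∉ N := by
      intro h2
      apply h
      rw [e] at h2
      have h3 := N.mul_mem (N.mul_mem hy h2) (N.inv_mem hy)
      have e2 : y * (y⁻¹ * (x⁻¹ * g * x) * y) * y⁻¹ = x⁻¹ * g * x := by group
      rwa [e2] at h3
    rw [extendByZero_of_not_mem N μ h', extendByZero_of_not_mem N μ h]

theorem indFun_stabilizer {Ω : Type*} [Fintype G] [MulAction G Ω] [Fintype Ω] (a : Ω)
    (μ : MulAction.stabilizer G a → ℂ) (hμ : IsClassFunction _ μ) (r : Ω → G)
    (hr : ∀ d, r d • a = d) (g : G) :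
    indFun (MulAction.stabilizer G a) μ g =
      ∑ d : Ω, extendByZero (MulAction.stabilizer G a) μ ((r d)⁻¹ * g * r d) := by
  classical
  have : Fintype (MulAction.stabilizer G a) := Fintype.ofFinite _
  let e : Ω × MulAction.stabilizer G a ≃ G :=
    { toFun := fun p => r p.1 * p.2
      invFun := fun x => (x • a, ⟨(r (x • a))⁻¹ * x, by
        rw [MulAction.mem_stabilizer_iff, mul_smul, inv_smul_eq_iff, hr]⟩)
      left_inv := by
        rintro ⟨d, y⟩
        have h : (r d * (y : G)) • a = d := by
          rw [mul_smul, MulAction.mem_stabilizer_iff.mp y.2, hr]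
        apply Prod.ext
        · exact h
        · apply Subtype.ext
          simp only
          rw [h]
          group
      right_inv := by
        intro x
        simp }
  rw [indFun_apply, ← e.sum_comp, Fintype.sum_prod_type, Finset.mul_sum]
  apply Finset.sum_congr rfl
  intro d _
  have h1 : ∀ y : MulAction.stabilizer G a,
      extendByZero (MulAction.stabilizer G a) μ ((e (d, y))⁻¹ * g * e (d, y)) =
        extendByZero (MulAction.stabilizer G a) μ ((r d)⁻¹ * g * r d) :=
    fun y => ext_conj_mul _ μ hμ g (r d) y y.2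
  simp only [h1]
  rw [Finset.sum_const, Finset.card_univ, nsmul_eq_mul, ← Nat.card_eq_fintype_card, ← mul_assoc,
    inv_mul_cancel₀ (by exact_mod_cast Nat.card_pos.ne'), one_mul]

end

/-- Let G be a finite simple Zassenhaus group on Ω with n points, a ≠ b points with two-point stabilizer E of odd order less than n - 2, and let H be the subgroup of the stabilizer of a consisting of the identity and the elements fixing no point other than a (given here as a subgroup of the stabilizer of order one less than the number of points whose non-identity elements fix only a; it is the Frobenius kernel of the stabilizer). Let μ be a character of degree 1 of the stabilizer of a that is identically 1 on H but not identically 1. Then the function induced from μ to G is an irreducible character of G, and it takes the value 1 at every non-identity element of H. -/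
theorem result {G Ω : Type*} [Group G] [Fintype G] [MulAction G Ω] [Fintype Ω] (hZ : Cfsg.IsZassenhausGroup G Ω) {a b : Ω} (hab : a ≠ b) [IsSimpleGroup G] (hodd : Odd (Nat.card ↥(MulAction.stabilizer G a ⊓ MulAction.stabilizer G b : Subgroup G))) (hlt : Nat.card ↥(MulAction.stabilizer G a ⊓ MulAction.stabilizer G b : Subgroup G) < Fintype.card Ω - 2) (H : Subgroup G) (hHa : H ≤ MulAction.stabilizer G a) (hHcard : Nat.card H + 1 = Fintype.card Ω) (hHfix : ∀ u ∈ H, u ≠ 1 → ∀ c : Ω, u • c = c → c = a) (μ : MulAction.stabilizer G a → ℂ) (hμ : Cfsg.IsCharacter (MulAction.stabilizer G a) μ ∧ μ 1 = 1) (hμH : ∀ u : MulAction.stabilizer G a, (u : G) ∈ H → μ u = 1) (hμne : μ ≠ fun _ => 1) : Cfsg.IsIrrCharacter G (Cfsg.indFun (MulAction.stabilizer G a) μ) ∧ ∀ u ∈ H, u ≠ 1 → Cfsg.indFun (MulAction.stabilizer G a) μ u = 1 := by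
  classical
  have hZ' := hZ
  obtain ⟨hfaith, h2, h3, -, -⟩ := hZ
  have h2' : ∀ a b c d : Ω, a ≠ b → c ≠ d → ∃ g : G, g • a = c ∧ g • b = d :=
    fun a b c d h h' => (MulAction.is_two_pretransitive_iff (G := G) (α := Ω)).mp h2 h h'
  obtain ⟨f, rfl⟩ := exists_hom_of_linear μ hμ
  have hcl : IsClassFunction _ (homFun f) := by
    intro g h
    simp [homFun, mul_comm]
  have hnil : ∀ q : ℕ, q.Prime →
      q ∣ Nat.card ↥(MulAction.stabilizer G a ⊓ MulAction.stabilizer G b : Subgroup G) →
      ¬ ∃ M : Subgroup G, M.Normal ∧ M.index = q ^ (Nat.card G).factorization q := by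
    rintro q hq hqe ⟨M, hMn, hMi⟩
    have hqG : q ∣ Nat.card G := hqe.trans (Subgroup.card_subgroup_dvd_card _)
    have hv : (Nat.card G).factorization q ≠ 0 :=
      (hq.factorization_pos_of_dvd Nat.card_pos.ne' hqG).ne'
    rcases hMn.eq_bot_or_eq_top with rfl | rfl
    · rw [Subgroup.index_bot] at hMi
      obtain ⟨⟨w, hwo, -, -⟩, -, -⟩ := Cfsg.Agent.S0740.result hZ' hab
      have h2G : 2 ∣ Nat.card G := hwo ▸ orderOf_dvd_natCard w
      rw [hMi] at h2G
      have h2q : 2 ∣ q := Nat.Prime.dvd_of_dvd_pow Nat.prime_two h2G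
      have hq2 : 2 = q := (Nat.prime_dvd_prime_iff_eq Nat.prime_two hq).mp h2q
      rw [← hq2] at hqe
      exact (Nat.not_even_iff_odd.mpr hodd) (even_iff_two_dvd.mpr hqe)
    · rw [Subgroup.index_top] at hMi
      exact (Nat.one_lt_pow hv hq.one_lt).ne hMi
  obtain ⟨-, -, hswap⟩ := Cfsg.Agent.S0739.result hZ' hab hodd hnil
  have hconjE : ∀ c : Ω, c ≠ a → ∃ g : G, g • a = a ∧ g • b = c := fun c hc => h2' a b a c hab hc.symm
  have hswap' : ∀ c : Ω, c ≠ a → ∀ s : G, s • a = c → s • c = a → ∀ n : G, n • a = a → n • c = c →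
      s * n * s⁻¹ = n⁻¹ := by
    intro c hc s hsa hsc n hna hnc
    obtain ⟨g, hga, hgb⟩ := hconjE c hc
    have hga' : g⁻¹ • a = a := by rw [inv_smul_eq_iff, hga]
    have hgb' : g⁻¹ • c = b := by rw [inv_smul_eq_iff, hgb]
    have h1 := hswap (g⁻¹ * s * g) (by rw [mul_smul, mul_smul, hga, hsa, hgb'])
      (by rw [mul_smul, mul_smul, hgb, hsc, hga']) (g⁻¹ * n * g) (by
        rw [Subgroup.mem_inf, MulAction.mem_stabilizer_iff, MulAction.mem_stabilizer_iff]
        constructor
        · rw [mul_smul, mul_smul, hga, hna, hga']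
        · rw [mul_smul, mul_smul, hgb, hnc, hgb'])
    calc s * n * s⁻¹ = g * ((g⁻¹ * s * g) * (g⁻¹ * n * g) * (g⁻¹ * s * g)⁻¹) * g⁻¹ := by group
      _ = g * (g⁻¹ * n * g)⁻¹ * g⁻¹ := by rw [h1]
      _ = n⁻¹ := by group
  have hoddord : ∀ c : Ω, c ≠ a → ∀ n : G, n • a = a → n • c = c → Odd (orderOf n) := by
    intro c hc n hna hnc
    obtain ⟨g, hga, hgb⟩ := hconjE c hc
    have hga' : g⁻¹ • a = a := by rw [inv_smul_eq_iff, hga]
    have hgb' : g⁻¹ • c = b := by rw [inv_smul_eq_iff, hgb]
    have hmem : g⁻¹ * n * g ∈ (MulAction.stabilizer G a ⊓ MulAction.stabilizer G b : Subgroup G) := by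
      rw [Subgroup.mem_inf, MulAction.mem_stabilizer_iff, MulAction.mem_stabilizer_iff]
      constructor
      · rw [mul_smul, mul_smul, hga, hna, hga']
      · rw [mul_smul, mul_smul, hgb, hnc, hgb']
    have h1 := orderOf_dvd_natCard
      (⟨_, hmem⟩ : (MulAction.stabilizer G a ⊓ MulAction.stabilizer G b : Subgroup G))
    rw [← Subgroup.orderOf_coe] at h1
    have h4 : g⁻¹ * n * g = MulAut.conj g⁻¹ n := by simp
    simp only [h4, MulEquiv.orderOf_eq] at h1
    exact hodd.of_dvd_nat h1
  obtain ⟨-, hnorm⟩ := Cfsg.Agent.S0878.result hZ' a H hHa hHcard hHfix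
  have hHn : ∀ x : G, x • a = a → ∀ u ∈ H, x⁻¹ * u * x ∈ H := by
    intro x hx u hu
    have hx' : x⁻¹ ∈ Subgroup.normalizer (H : Set G) := by
      rw [hnorm]
      exact Subgroup.inv_mem _ hx
    have := (Subgroup.mem_normalizer_iff.mp hx' u).mp hu
    rwa [inv_inv] at this
  have hex : ∀ d : Ω, ∃ g : G, g • a = d := by
    intro d
    by_cases hd : d = a
    · exact ⟨1, by rw [one_smul, hd]⟩
    · obtain ⟨g, hg, -⟩ := h2' a b d a hab hd
      exact ⟨g, hg⟩
  choose r hr using hex
  have hfixmem : ∀ (g : G) (d : Ω), (r d)⁻¹ * g * r d ∈ MulAction.stabilizer G a ↔ g • d = d := by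
    intro g d
    rw [MulAction.mem_stabilizer_iff, mul_smul, mul_smul, hr, inv_smul_eq_iff, hr]
  have hval1 : ∀ u ∈ H, u ≠ 1 → indFun (MulAction.stabilizer G a) (homFun f) u = 1 := by
    intro u hu hu1
    rw [indFun_stabilizer a _ hcl r hr, Finset.sum_eq_single a]
    · have hmem : (r a)⁻¹ * u * r a ∈ H := hHn (r a) (hr a) u hu
      rw [extendByZero_of_mem _ _ (hHa hmem)]
      exact hμH ⟨_, hHa hmem⟩ hmem
    · intro d _ hda
      apply extendByZero_of_not_mem
      rw [hfixmem]
      exact fun h => hda (hHfix u hu hu1 d h)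
    · intro h
      exact absurd (Finset.mem_univ a) h
  refine ⟨?_, hval1⟩
  have hnorm1 : ∀ n : MulAction.stabilizer G a, (starRingEnd ℂ) (homFun f n) = homFun f n⁻¹ := by
    intro n
    have h1 : (homFun f n) ^ orderOf n = 1 := by
      simp only [homFun]
      rw [← Units.val_pow_eq_pow_val, ← map_pow, pow_orderOf_eq_one, map_one, Units.val_one]
    have h4 : ‖homFun f n‖ = 1 := Complex.norm_eq_one_of_pow_eq_one h1 (orderOf_pos n).ne'
    rw [← Complex.inv_eq_conj h4]
    simp [homFun]
  have hval2 : ∀ n : MulAction.stabilizer G a, (n : G) ∉ H →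
      indFun (MulAction.stabilizer G a) (homFun f) n =
        homFun f n + (starRingEnd ℂ) (homFun f n) := by
    intro n hn
    have hna : (n : G) • a = a := n.2
    have hn1 : (n : G) ≠ 1 := fun h => hn (h ▸ H.one_mem)
    obtain ⟨c, hnc, hca⟩ : ∃ c : Ω, (n : G) • c = c ∧ c ≠ a := by
      by_contra hcon
      push Not at hcon
      exact hn (Cfsg.Agent.S0878.mem_kernel h3 a b hab.symm H hHa hHcard hHfix n hna hcon)
    rw [indFun_stabilizer a _ hcl r hr, Finset.sum_eq_add a c hca.symm]
    · congr 1
      · have h1 := ext_conj_mul _ (homFun f) hcl (n : G) 1 (r a) (hr a)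
        rw [one_mul] at h1
        rw [h1]
        have e : (1 : G)⁻¹ * (n : G) * 1 = n := by group
        rw [e, extendByZero_coe]
      · obtain ⟨s, hsa, hsc⟩ := h2' a c c a hca.symm hca
        have hy : s⁻¹ * r c ∈ MulAction.stabilizer G a := by
          rw [MulAction.mem_stabilizer_iff, mul_smul, hr, inv_smul_eq_iff, hsa]
        have h1 := ext_conj_mul _ (homFun f) hcl (n : G) s (s⁻¹ * r c) hy
        rw [mul_inv_cancel_left] at h1
        rw [h1]
        have h4 := hswap' c hca s⁻¹ (by rw [inv_smul_eq_iff, hsc]) (by rw [inv_smul_eq_iff, hsa])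
          n hna hnc
        rw [inv_inv] at h4
        rw [h4, hnorm1]
        exact extendByZero_coe _ _ n⁻¹
    · intro d _ hd
      apply extendByZero_of_not_mem
      rw [hfixmem]
      intro h
      exact hn1 (h3 n a c d hca.symm hd.2.symm hd.1.symm hna hnc h)
    · intro h
      exact absurd (Finset.mem_univ a) h
    · intro h
      exact absurd (Finset.mem_univ c) h
  have hval0 : indFun (MulAction.stabilizer G a) (homFun f) 1 = (Nat.card H : ℂ) + 1 := by
    rw [indFun_stabilizer a _ hcl r hr]
    have h1 : ∀ d : Ω, extendByZero (MulAction.stabilizer G a) (homFun f) ((r d)⁻¹ * 1 * r d) = 1 := by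
      intro d
      have e : (r d)⁻¹ * 1 * r d = ((1 : MulAction.stabilizer G a) : G) := by simp
      rw [e, extendByZero_coe]
      simp [homFun]
    simp only [h1]
    rw [Finset.sum_const, Finset.card_univ, ← hHcard]
    simp
  have : Fintype (MulAction.stabilizer G a) := Fintype.ofFinite _
  apply Cfsg.Agent.Lib.Helper20.isIrrCharacter_of_classInner_self (isCharacter_indFun _ _ hμ.1)
  rw [frobenius_reciprocity _ _ _ (indFun_isClassFunction _ _)]
  unfold classInner
  have hterm : ∀ n : MulAction.stabilizer G a,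
      homFun f n * (starRingEnd ℂ) (indFun (MulAction.stabilizer G a) (homFun f) (n : G)) =
        (1 + homFun f n * homFun f n) + ((if (n : G) ∈ H then (-1 : ℂ) else 0) +
          (if n = 1 then (Nat.card H : ℂ) else 0)) := by
    intro n
    have hmm : homFun f n * (starRingEnd ℂ) (homFun f n) = 1 := by
      rw [hnorm1]
      simp [homFun]
    by_cases hnH : (n : G) ∈ H
    · have hμ1 : homFun f n = 1 := hμH n hnH
      by_cases hn1 : n = 1
      · subst hn1
        rw [if_pos hnH, if_pos rfl, hμ1, Subgroup.coe_one, hval0]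
        simp
        ring
      · have hn1' : (n : G) ≠ 1 := fun h => hn1 (Subtype.ext h)
        rw [if_pos hnH, if_neg hn1, hμ1, hval1 n hnH hn1']
        simp
    · have hn1 : n ≠ 1 := by
        rintro rfl
        exact hnH H.one_mem
      rw [if_neg hnH, if_neg hn1, hval2 n hnH, map_add, Complex.conj_conj, mul_add, hmm]
      ring
  simp only [hterm]
  rw [Finset.sum_add_distrib, Finset.sum_add_distrib, Finset.sum_add_distrib]
  have s1 : ∑ _n : MulAction.stabilizer G a, (1 : ℂ) = (Nat.card (MulAction.stabilizer G a) : ℂ) := by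
    rw [Finset.sum_const, Finset.card_univ, ← Nat.card_eq_fintype_card]
    simp
  have s2 : ∑ n : MulAction.stabilizer G a, homFun f n * homFun f n = 0 := by
    obtain ⟨n0, hn0⟩ : ∃ n0, homFun f n0 ≠ 1 := by
      by_contra hcon
      push Not at hcon
      exact hμne (funext hcon)
    have hn0H : (n0 : G) ∉ H := fun h => hn0 (hμH n0 h)
    obtain ⟨c, hnc, hca⟩ : ∃ c : Ω, (n0 : G) • c = c ∧ c ≠ a := by
      by_contra hcon
      push Not at hcon
      exact hn0H (Cfsg.Agent.S0878.mem_kernel h3 a b hab.symm H hHa hHcard hHfix n0 n0.2 hcon)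
    obtain ⟨k, hk⟩ := hoddord c hca n0 n0.2 hnc
    have hsq : homFun f n0 * homFun f n0 ≠ 1 := by
      intro h
      apply hn0
      have h1 : (homFun f n0) ^ orderOf (n0 : G) = 1 := by
        rw [Subgroup.orderOf_coe]
        simp only [homFun]
        rw [← Units.val_pow_eq_pow_val, ← map_pow, pow_orderOf_eq_one, map_one, Units.val_one]
      rw [hk, pow_succ, pow_mul, pow_two, h, one_pow, one_mul] at h1
      exact h1
    have hT : (homFun f n0 * homFun f n0) * ∑ n : MulAction.stabilizer G a, homFun f n * homFun f n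
        = ∑ n : MulAction.stabilizer G a, homFun f n * homFun f n := by
      rw [Finset.mul_sum, ← Equiv.sum_comp (Equiv.mulLeft n0)
        (fun n : MulAction.stabilizer G a => homFun f n * homFun f n)]
      apply Finset.sum_congr rfl
      intro n _
      simp only [Equiv.coe_mulLeft, homFun, map_mul, Units.val_mul]
      ring
    have hT' : (homFun f n0 * homFun f n0 - 1) *
        ∑ n : MulAction.stabilizer G a, homFun f n * homFun f n = 0 := by
      rw [sub_mul, hT, one_mul, sub_self]
    exact (mul_eq_zero.mp hT').resolve_left (sub_ne_zero.mpr hsq)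
  have s3 : ∑ n : MulAction.stabilizer G a, (if (n : G) ∈ H then (-1 : ℂ) else 0) =
      -(Nat.card H : ℂ) := by
    rw [← Finset.sum_filter, Finset.sum_const]
    have hc : (Finset.univ.filter (fun n : MulAction.stabilizer G a => (n : G) ∈ H)).card =
        Nat.card H := by
      rw [← Nat.card_congr (Subgroup.subgroupOfEquivOfLe hHa).toEquiv, Nat.card_eq_fintype_card,
        Fintype.card_subtype]
      rfl
    rw [hc]
    simp
  have s4 : ∑ n : MulAction.stabilizer G a, (if n = 1 then (Nat.card H : ℂ) else 0) =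
      (Nat.card H : ℂ) := by
    rw [Finset.sum_ite_eq' Finset.univ 1]
    simp
  rw [s1, s2, s3, s4]
  have hN0 : (Nat.card (MulAction.stabilizer G a) : ℂ) ≠ 0 := by
    exact_mod_cast Nat.card_pos.ne'
  field_simp
  ring

end Cfsg.Agent.S0881
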