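import Cfsg.Statements.S0915
-- import your own Cfsg.Agent.* helpers here
import Mathlib
import Cfsg.Agent.Lib.Helper21.Regular
import Cfsg.Agent.Lib.Helper14.PSolvable
import Cfsg.Agent.Lib.Helper53.Basic

set_option autoImplicit false
open Cfsg
open Cfsg.Agent.Lib.Helper20 Cfsg.Agent.Lib.Helper81 Cfsg.Agent.Lib.Helper21

namespace Cfsg.Agent.S0915

/-- Let G be a finite p-solvable group with trivial largest normal subgroup of order prime to p. Then any two irreducible characters of G lie in the same block relative to every maximal ideal M of the algebraic integers containing p: G has a single p-block. -/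
theorem result {G : Type*} [Group G] [Finite G] (p : ℕ) [Fact p.Prime] (M : Ideal Cfsg.AlgInt) (hM : Cfsg.IsPModular p M) (hsolv : Cfsg.IsPSolvable p G) (hcore : Cfsg.pPrimeCore p G = ⊥) (χ ψ : Cfsg.IrrCharacter G) : Cfsg.SameBlock M (χ : G → ℂ) (ψ : G → ℂ) := by
  classical
  haveI : Fintype G := Fintype.ofFinite G
  have hHH := Cfsg.Agent.Lib.Helper14.centralizer_pCore_le_of_isPSolvable hsolv hcore
  haveI : (Cfsg.pCore p G).Normal := Cfsg.Agent.Lib.Helper53.pCore_normal p G
  have hPp : IsPGroup p (Cfsg.pCore p G) := Cfsg.Agent.Lib.Helper53.pCore_isPGroup p G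
  apply sameBlock_of_agree_on_regular hM
  intro g hg
  by_cases h1 : g = 1
  · subst h1
    rw [centralChar_one, centralChar_one, sub_self]
    exact memLocalIdeal_zero hM
  · have h2 : g ∉ Subgroup.centralizer (Cfsg.pCore p G : Set G) := by
      intro hc
      have h3 := hHH hc
      obtain ⟨k, hk⟩ := (IsPGroup.iff_orderOf.1 hPp) ⟨g, h3⟩
      rw [← Subgroup.orderOf_coe] at hk
      have hk' : orderOf g = p ^ k := hk
      rcases Nat.eq_zero_or_pos k with h0 | h0
      · rw [h0, pow_zero, orderOf_eq_one_iff] at hk'
        exact h1 hk'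
      · exact hg (hk' ▸ dvd_pow_self p h0.ne')
    exact memLocalIdeal_sub hM
      (centralChar_memLocalIdeal_of_not_mem_centralizer hM _ hPp ψ g h2)
      (centralChar_memLocalIdeal_of_not_mem_centralizer hM _ hPp χ g h2)

end Cfsg.Agent.S0915
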