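import Cfsg.Statements.S0953
-- import your own Cfsg.Agent.* helpers here
import Mathlib
import Cfsg.Agent.Lib.Helper21.SylowBlocks

set_option autoImplicit false
open Cfsg
open Cfsg.Agent.Lib.Helper20 Cfsg.Agent.Lib.Helper81 Cfsg.Agent.Lib.Helper21

namespace Cfsg.Agent.S0953

/-- Let P be a Sylow p-subgroup of the finite group G with normalizer N, and fix a maximal ideal M of the algebraic integers containing p. The number of blocks of G having P as a defect group equals the number of conjugacy classes of N consisting of elements of order prime to p that centralize P. -/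
theorem result {G : Type*} [Group G] [Finite G] (p : ℕ) [Fact p.Prime] (M : Ideal Cfsg.AlgInt) (hM : Cfsg.IsPModular p M) (P : Sylow p G) : Nat.card {B : Set (Cfsg.IrrCharacter G) // Cfsg.IsPBlock M B ∧ Cfsg.IsDefectGroup p M B (P : Subgroup G)} = Nat.card {C : ConjClasses (Subgroup.normalizer ((P : Subgroup G) : Set G)) // ∀ n : Subgroup.normalizer ((P : Subgroup G) : Set G), ConjClasses.mk n = C → ¬ p ∣ orderOf n ∧ (n : G) ∈ Subgroup.centralizer ((P : Subgroup G) : Set G)} := by
  classical
  haveI : Fintype G := Fintype.ofFinite G
  haveI : Fintype (Subgroup.normalizer ((P : Subgroup G) : Set G)) := Fintype.ofFinite _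
  rw [card_blocks_defect_eq_normalizer hM (P : Subgroup G) P.isPGroup']
  have hle : (P : Subgroup G) ≤ Subgroup.normalizer ((P : Subgroup G) : Set G) :=
    Subgroup.le_normalizer
  have hSn : ((P.subtype hle : Sylow p (Subgroup.normalizer ((P : Subgroup G) : Set G))) :
      Subgroup (Subgroup.normalizer ((P : Subgroup G) : Set G))).Normal := by
    rw [Sylow.coe_subtype]
    exact Subgroup.normal_in_normalizer
  have h1 := card_blocks_normal_sylow hM (P.subtype hle) hSn
  rw [Sylow.coe_subtype] at h1
  rw [h1]
  apply Nat.card_congr
  apply Equiv.subtypeEquivRight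
  intro C
  apply forall_congr'
  intro n
  apply imp_congr_right
  intro _
  apply and_congr_right
  intro _
  rw [Subgroup.mem_centralizer_iff, Subgroup.mem_centralizer_iff]
  constructor
  · intro h u hu
    have := h ⟨u, hle hu⟩ (by
      show (⟨u, hle hu⟩ : Subgroup.normalizer ((P : Subgroup G) : Set G)) ∈
        (P : Subgroup G).subgroupOf _
      rw [Subgroup.mem_subgroupOf]; exact hu)
    exact congrArg Subtype.val this
  · intro h u hu
    apply Subtype.ext
    exact h u.1 (Subgroup.mem_subgroupOf.1 hu)

end Cfsg.Agent.S0953
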