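import Cfsg.Statements.S0994
import Cfsg.Agent.Lib.Helper11.SimpleOrder

set_option autoImplicit false
open Cfsg

namespace Cfsg.Agent.S0994

open Cfsg.Agent.Lib.Helper11

/-- No finite simple group has order 1188 = 2^2 * 3^3 * 11. -/
theorem result {G : Type*} [Group G] [Finite G] [IsSimpleGroup G] : Nat.card G ≠ 1188 := by
  intro h
  have hG : ¬ IsCyclic G := by
    intro hc
    let _ : CommGroup G := IsCyclic.commGroup
    have := IsSimpleGroup.prime_card (α := G)
    rw [h] at this
    norm_num at this
  exact card_ne_of_sylowTest hG 11 1 108 (by norm_num) (by norm_num) (by norm_num) (by decide) h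

end Cfsg.Agent.S0994
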