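import Cfsg.Statements.S1129
import Cfsg.Agent.S0033
import Cfsg.Agent.Lib.Helper24.RankOne4

set_option autoImplicit false
open Cfsg

namespace Cfsg.Agent.S1129

open MulAction Cfsg.Agent.Lib.Helper24

/-- powers of inverted elements are inverted -/
theorem pow_mem_invertedBy {G : Type*} [Group G] (D : Subgroup G) (t : G) {x : G}
    (hx : x ∈ Cfsg.invertedBy D t) (n : ℕ) : x ^ n ∈ Cfsg.invertedBy D t := by
  refine ⟨Subgroup.pow_mem _ hx.1 n, ?_⟩
  rw [← conj_pow, hx.2, inv_pow]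

/-- In the rank-one set-up (`G` finite and doubly transitive on `Ω`, `t` an involution moving `a`, `Q` normal in `G_a` with `G_a = Q D`, `Q ⊓ D = 1` for the two-point stabiliser `D = G_a ⊓ G_{t • a}`, `|Q|` even, `|D|` odd), with the action faithful and `G` containing two distinct commuting involutions: `Q` is nilpotent. -/
theorem result {G Ω : Type*} [Group G] [Finite G] [MulAction G Ω] [FaithfulSMul G Ω] {a : Ω} {t : G} {Q : Subgroup G}
    (hS : Cfsg.IsRankOneSetup G Ω a t Q)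
    (h2 : ∃ x y : G, x ≠ 1 ∧ y ≠ 1 ∧ x ≠ y ∧ x * x = 1 ∧ y * y = 1 ∧ x * y = y * x) :
    Group.IsNilpotent Q := by
  obtain ⟨x, y, hx1, hy1, hxy, hx2, hy2, hc⟩ := h2
  -- both fix a common point
  obtain ⟨c, hcx⟩ := invol_fix_exists hS hx2
  have hcy : y • c = c := by
    have h1 : x • (y • c) = y • c := by rw [smul_smul, hc, mul_smul, hcx]
    exact invol_fix_eq hS hx1 hx2 h1 hcx
  obtain ⟨g, hg⟩ := trans1 hS c a
  have hmem : ∀ u : G, u ≠ 1 → u * u = 1 → u • c = c →
      g * u * g⁻¹ ∈ Cfsg.involutionsIn (stabilizer G a : Set G) := by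
    intro u hu1 hu2 huc
    obtain ⟨h1, h2⟩ := conj_invol g hu1 hu2
    refine ⟨?_, h1, h2⟩
    show g * u * g⁻¹ ∈ stabilizer G a
    rw [mem_stabilizer_iff, ← hg, mul_smul, mul_smul, inv_smul_smul, huc]
  have hcard : 1 < Nat.card (Cfsg.invertedBy (stabilizer G a ⊓ stabilizer G (t • a)) t) := by
    rw [card_K hS, Finite.one_lt_card_iff_nontrivial]
    refine ⟨⟨_, hmem x hx1 hx2 hcx⟩, ⟨_, hmem y hy1 hy2 hcy⟩, ?_⟩
    intro h
    have := congrArg Subtype.val h
    simp only at this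
    exact hxy (by simpa using this)
  rw [Finite.one_lt_card_iff_nontrivial] at hcard
  obtain ⟨k, hk⟩ := exists_ne (⟨1, Subgroup.one_mem _, by simp⟩ :
    Cfsg.invertedBy (stabilizer G a ⊓ stabilizer G (t • a)) t)
  have hk1 : (k : G) ≠ 1 := fun h => hk (Subtype.ext h)
  -- a power of prime order
  have hord : orderOf (k : G) ≠ 1 := fun h => hk1 (orderOf_eq_one_iff.1 h)
  obtain ⟨p, hp, hpd⟩ := Nat.exists_prime_and_dvd hord
  obtain ⟨m, hm⟩ := hpd
  set k' : G := (k : G) ^ m with hk'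
  have hk'ord : orderOf k' = p := by
    have hpos : 0 < orderOf (k : G) := orderOf_pos _
    have hm0 : m ≠ 0 := by rintro rfl; omega
    rw [hk', orderOf_pow_of_dvd hm0 ⟨p, by rw [hm, mul_comm]⟩, hm]
    exact Nat.mul_div_cancel _ (Nat.pos_of_ne_zero hm0)
  have hk'K := pow_mem_invertedBy _ t k.2 m
  rw [← hk'] at hk'K
  have hk'1 : k' ≠ 1 := by
    intro h
    rw [h, orderOf_one] at hk'ord
    exact hp.one_lt.ne hk'ord
  have hk'a : k' ∈ stabilizer G a := (Subgroup.mem_inf.1 hk'K.1).1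
  have hk'N : k' ∈ Subgroup.normalizer (Q : Set G) := stab_le_normalizer hS hk'a
  set φ : Q ≃* Q := Q.normalizerMonoidHom ⟨k', hk'N⟩ with hφ
  have hφapp : ∀ q : Q, ((φ q : Q) : G) = k' * q * k'⁻¹ := fun q => rfl
  have hfpf : MonoidHom.FixedPointFree (φ : Q →* Q) := by
    intro q hq
    have h1 : k' * q * k'⁻¹ = q := by
      have := congrArg Subtype.val hq
      exact this
    have h2 : k' * (q : G) = q * k' := by
      rw [mul_inv_eq_iff_eq_mul] at h1
      exact h1
    exact Subtype.ext (K_fpf hS hk'K hk'1 q.2 h2)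
  have hφp : φ ^ p = 1 := by
    rw [hφ, ← map_pow]
    have : (⟨k', hk'N⟩ : Subgroup.normalizer (Q : Set G)) ^ p = 1 := by
      apply Subtype.ext
      simp only [Subgroup.coe_pow, Subgroup.coe_one]
      rw [← hk'ord]
      exact pow_orderOf_eq_one _
    rw [this, map_one]
  have hφ1 : φ ≠ 1 := by
    intro h
    obtain ⟨s, hs, hs1, _⟩ := exists_invol_Q hS
    have := hfpf ⟨s, hs⟩ (by rw [h]; rfl)
    exact hs1 (congrArg Subtype.val this)
  have : Fact p.Prime := ⟨hp⟩
  exact Cfsg.Agent.S0033.result φ hfpf p hp (orderOf_eq_prime hφp hφ1)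

end Cfsg.Agent.S1129
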