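import Cfsg.Statements.S1167
import Cfsg.Agent.Lib.Helper54.ZassInv
import Cfsg.Agent.S0738
import Cfsg.Agent.S0885

set_option autoImplicit false
open Cfsg

namespace Cfsg.Agent.S1167

/-- Let `G` be a finite simple Zassenhaus group on `Ω`, `U` a normal subgroup of `G_a` regular on `Ω` minus `a` which is an abelian 2-group, and `v` an involution with `v • a ≠ a`. Then there is a unique `u₀ ∈ U`, `u₀ ≠ 1`, with `v u₀ v = u₀ v u₀`. -/
theorem result {G Ω : Type*} [Group G] [Finite G] [MulAction G Ω] [Finite Ω]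
    (hZ : Cfsg.IsZassenhausGroup G Ω) [IsSimpleGroup G] {a : Ω}
    (U : Subgroup G) (hUle : U ≤ MulAction.stabilizer G a)
    (hUn : ∀ h ∈ MulAction.stabilizer G a, ∀ u ∈ U, h * u * h⁻¹ ∈ U)
    (hreg : ∀ c d : Ω, c ≠ a → d ≠ a → ∃! u : U, (u : G) • c = d)
    (hU2 : IsPGroup 2 U) (hUab : ∀ u ∈ U, ∀ u' ∈ U, u * u' = u' * u)
    (v : G) (hv1 : v ≠ 1) (hv2 : v * v = 1) (hva : v • a ≠ a) :
    ∃! u₀ : G, u₀ ∈ U ∧ u₀ ≠ 1 ∧ v * u₀ * v = u₀ * v * u₀ := by
  classical
  have := Fintype.ofFinite Ω
  have hZ' := hZ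
  obtain ⟨hF, h2, h3, ⟨g0, hg0, a0, b0, hab0, h0a, h0b⟩, hregN⟩ := hZ
  obtain ⟨b, hb⟩ : ∃ b, b = v • a := ⟨_, rfl⟩
  have hab : a ≠ b := by rw [hb]; exact Ne.symm hva
  have hvb : v • b = a := by rw [hb, ← mul_smul, hv2, one_smul]
  have hvo : orderOf v = 2 := orderOf_eq_prime (by rw [pow_two]; exact hv2) hv1
  have hvi : v⁻¹ = v := inv_eq_of_mul_eq_one_left hv2
  -- basic facts on U
  have hUfix : ∀ u ∈ U, u ≠ 1 → ∀ c : Ω, u • c = c → c = a := by
    intro u hu hu1 c hc
    by_contra hca
    obtain ⟨w, -, hw⟩ := hreg c c hca hca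
    have e1 := hw ⟨u, hu⟩ hc
    have e2 := hw 1 (one_smul _ _)
    exact hu1 (congrArg Subtype.val (e1.trans e2.symm))
  have hUcard : Nat.card U + 1 = Fintype.card Ω := by
    have hbij : Function.Bijective (fun k : U => (⟨(k : G) • b, fun h => hab (by
        have := hUle k.2
        rw [MulAction.mem_stabilizer_iff] at this
        rw [← this] at h
        exact (smul_left_cancel _ h).symm)⟩ : {y : Ω // y ≠ a})) := by
      constructor
      · intro k k' hkk
        have h1 : (k : G) • b = (k' : G) • b := congrArg Subtype.val hkk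
        have hne : (k' : G) • b ≠ a := by
          intro h
          have := hUle k'.2
          rw [MulAction.mem_stabilizer_iff] at this
          rw [← this] at h
          exact hab (smul_left_cancel _ h).symm
        obtain ⟨w, -, hw⟩ := hreg b ((k' : G) • b) (Ne.symm hab) hne
        exact (hw k h1).trans (hw k' rfl).symm
      · rintro ⟨y, hy⟩
        obtain ⟨k, hk, -⟩ := hreg b y (Ne.symm hab) hy
        exact ⟨k, Subtype.ext hk⟩
    rw [Nat.card_congr (Equiv.ofBijective _ hbij)]
    have : Nat.card {y : Ω // y ≠ a} = ((Finset.univ : Finset Ω).erase a).card :=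
      Nat.subtype_card _ (by intro y; simp)
    rw [this, Finset.card_erase_of_mem (Finset.mem_univ _), Finset.card_univ]
    have := Fintype.card_pos_iff.mpr ⟨a⟩
    omega
  obtain ⟨k, hk⟩ := (IsPGroup.iff_card.mp hU2)
  have hn2 : 2 ≤ Fintype.card Ω := by
    have := Fintype.one_lt_card_iff.mpr ⟨a, b, hab⟩
    omega
  have hk0 : k ≠ 0 := by
    rintro rfl
    -- then the degree is two and the action cannot be faithful with a nontrivial two point stabiliser
    rw [pow_zero] at hk
    have hcard2 : Fintype.card Ω = 2 := by omega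
    apply hg0
    apply hF.eq_of_smul_eq_smul
    intro x
    rw [one_smul]
    by_contra hx
    have h4 : ({a0, b0, x} : Finset Ω).card = 3 := by
      rw [Finset.card_eq_three]
      refine ⟨a0, b0, x, hab0, ?_, ?_, rfl⟩
      · rintro rfl; exact hx h0a
      · rintro rfl; exact hx h0b
    have h5 := Finset.card_le_univ ({a0, b0, x} : Finset Ω)
    omega
  have hUeven : Even (Nat.card U) := by
    rw [hk]; exact (Nat.even_pow.mpr ⟨even_two, hk0⟩)
  have hoddn : Odd (Fintype.card Ω) := by
    rw [← hUcard]; exact hUeven.add_one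
  -- the two point stabiliser has odd order
  obtain ⟨e, he⟩ : ∃ e, Nat.card ↥(MulAction.stabilizer G a ⊓ MulAction.stabilizer G b : Subgroup G) = e :=
    ⟨_, rfl⟩
  have hodde : Odd e := by
    by_contra hcon
    rw [Nat.not_odd_iff_even] at hcon
    have := Fact.mk Nat.prime_two
    obtain ⟨⟨x, hxE⟩, hxo⟩ := exists_prime_orderOf_dvd_card' (G := ↥(MulAction.stabilizer G a ⊓ MulAction.stabilizer G b : Subgroup G)) 2
      (by rw [he]; exact even_iff_two_dvd.mp hcon)
    rw [Subgroup.orderOf_mk] at hxo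
    obtain ⟨c, hc, hcu⟩ := Lib.Helper54.Zass.invol_fix_unique h3 hoddn x hxo
    exact hab ((hcu a hxE.1).trans (hcu b hxE.2).symm)
  obtain ⟨h, hh⟩ : ∃ h, Fintype.card Ω = h + 1 := ⟨Fintype.card Ω - 1, by omega⟩
  have hFeit := Cfsg.Agent.S0885.result hZ' hab h e hh he hodde U hUle hUcard hUfix
  have hsmall : h - 1 ≤ 2 * e := by
    rcases hFeit with h' | ⟨-, ⟨u, u', huu⟩, -⟩
    · exact h'
    · exact absurd (Subtype.ext (hUab u u.2 u' u'.2)) huu
  have hUn' : (U.subgroupOf (MulAction.stabilizer G a)).Normal := by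
    constructor
    intro n hn g
    rw [Subgroup.mem_subgroupOf] at hn ⊢
    exact hUn g g.2 n hn
  obtain ⟨-, p, f, hp, hpow, -⟩ := Cfsg.Agent.S0738.result hZ' hab (by rw [he, hh]; omega) U hUle hUn' hreg
  have hsq : ∀ u ∈ U, u * u = 1 := by
    intro u hu
    by_cases hu1 : u = 1
    · rw [hu1, one_mul]
    have := Fact.mk hp
    have h1 : orderOf u = p := orderOf_eq_prime (hpow u hu) hu1
    obtain ⟨j, hj⟩ := (IsPGroup.iff_orderOf.mp hU2) ⟨u, hu⟩
    rw [Subgroup.orderOf_mk, h1] at hj
    have hp2 : p = 2 := by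
      have hj0 : j ≠ 0 := by
        rintro rfl
        rw [pow_zero] at hj
        exact hp.one_lt.ne' hj
      have : p ∣ 2 ^ j := by rw [← hj]
      exact (Nat.prime_dvd_prime_iff_eq hp Nat.prime_two).mp (hp.dvd_of_dvd_pow this)
    have := hpow u hu
    rwa [hp2, pow_two] at this
  -- the fixed point of v
  obtain ⟨c, hc, hcu⟩ := Lib.Helper54.Zass.invol_fix_unique h3 hoddn v hvo
  have hca : c ≠ a := by
    rintro rfl
    exact hva hc
  obtain ⟨⟨u0, hu0⟩, hu0b, hu0u⟩ := hreg b c (Ne.symm hab) hca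
  simp only at hu0b
  have hu0a : u0 • a = a := hUle hu0
  have hu0i : u0⁻¹ = u0 := inv_eq_of_mul_eq_one_left (hsq u0 hu0)
  refine ⟨u0, ⟨hu0, ?_, ?_⟩, ?_⟩
  · rintro rfl
    rw [one_smul] at hu0b
    rw [← hu0b, hvb] at hc
    exact hab hc
  · -- existence
    -- the kernel at b
    obtain ⟨Ub, hUb⟩ : ∃ Ub : Subgroup G, Ub = U.map (MulAut.conj v).toMonoidHom := ⟨_, rfl⟩
    have hmemUb : ∀ g : G, g ∈ Ub ↔ v * g * v ∈ U := by
      intro g
      rw [hUb, Subgroup.mem_map]
      constructor
      · rintro ⟨u, hu, rfl⟩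
        simp only [MulEquiv.coe_toMonoidHom, MulAut.conj_apply, hvi]
        have : v * (v * u * v) * v = (v * v) * u * (v * v) := by group
        rw [this, hv2, one_mul, mul_one]
        exact hu
      · intro hg
        refine ⟨_, hg, ?_⟩
        simp only [MulEquiv.coe_toMonoidHom, MulAut.conj_apply, hvi]
        have : v * (v * g * v) * v = (v * v) * g * (v * v) := by group
        rw [this, hv2, one_mul, mul_one]
    have hUbb : Ub ≤ MulAction.stabilizer G b := by
      intro g hg
      have h1 : (v * g * v) • a = a := hUle ((hmemUb g).mp hg)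
      rw [MulAction.mem_stabilizer_iff]
      rw [mul_smul, mul_smul, ← hb] at h1
      have h4 : v • v • g • b = v • a := congrArg (fun y => v • y) h1
      rwa [← mul_smul, hv2, one_smul, ← hb] at h4
    have hUbcard : Nat.card Ub + 1 = Fintype.card Ω := by
      rw [hUb, Subgroup.card_map_of_injective (MulAut.conj v).injective]
      exact hUcard
    have hUbfix : ∀ u ∈ Ub, u ≠ 1 → ∀ c : Ω, u • c = c → c = b := by
      intro u hu hu1 x hx
      have h1 := hUfix _ ((hmemUb u).mp hu) (by
        intro h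
        apply hu1
        have : u = v * (v * u * v) * v := by
          have : v * (v * u * v) * v = (v * v) * u * (v * v) := by group
          rw [this, hv2, one_mul, mul_one]
        rw [this, h, mul_one, hv2]) (v • x) (by
        rw [mul_smul, mul_smul, ← mul_smul v v, hv2, one_smul, hx])
      rw [hb, ← h1, ← mul_smul, hv2, one_smul]
    have hto : orderOf (u0 * v * u0) = 2 := by
      have : u0 * v * u0 = MulAut.conj u0 v := by
        rw [MulAut.conj_apply, hu0i]
      rw [this, MulEquiv.orderOf_eq, hvo]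
    have htb : (u0 * v * u0) • b = b := by
      rw [mul_smul, mul_smul, hu0b, hc, ← hu0b, ← mul_smul, hsq u0 hu0, one_smul]
    obtain ⟨c', hc', hcu'⟩ := Lib.Helper54.Zass.invol_fix_unique h3 hoddn _ hto
    have hbc' : b = c' := hcu' b htb
    subst hbc'
    have htUb : u0 * v * u0 ∈ Ub :=
      Lib.Helper54.Zass.mem_of_fixOnly h2 h3 (Ne.symm hab) Ub hUbb hUbcard hUbfix _ htb hcu'
    have hz := (hmemUb _).mp htUb
    have hzb : (v * (u0 * v * u0) * v) • b = c := by
      rw [mul_smul, mul_smul, mul_smul, mul_smul, hvb, hu0a, ← hb, hu0b, hc]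
    have hzu := hu0u ⟨_, hz⟩ hzb
    have hzu' : v * (u0 * v * u0) * v = u0 := congrArg Subtype.val hzu
    calc v * u0 * v = v * (v * (u0 * v * u0) * v) * v := by rw [hzu']
      _ = (v * v) * (u0 * v * u0) * (v * v) := by group
      _ = u0 * v * u0 := by rw [hv2, one_mul, mul_one]
  · -- uniqueness
    rintro u ⟨hu, hu1, hrel⟩
    have hua : u • a = a := hUle hu
    have h1 : v • (u • b) = u • b := by
      have e1 : (v * u * v) • a = v • (u • b) := by rw [mul_smul, mul_smul, ← hb]
      have e2 : (u * v * u) • a = u • b := by rw [mul_smul, mul_smul, hua, ← hb]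
      rw [← e1, hrel, e2]
    have h4 := hcu _ h1
    exact congrArg Subtype.val (hu0u ⟨u, hu⟩ h4)

end Cfsg.Agent.S1167
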