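import Cfsg.Statements.S1249
-- import your own Cfsg.Agent.* helpers here

set_option autoImplicit false
open Cfsg

namespace Cfsg.Agent.S1249

/-- Let P and Q be Sylow p-subgroups of the finite group G both containing the subgroup A. If A is strongly closed in P, then A is strongly closed in Q. -/
theorem result {G : Type*} [Group G] [Finite G] {p : ℕ} [Fact p.Prime] (P Q : Sylow p G) (A : Subgroup G) (hAQ : A ≤ Q) (hA : Cfsg.IsStronglyClosed A (P : Subgroup G)) : Cfsg.IsStronglyClosed A (Q : Subgroup G) := by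
  obtain ⟨g, hg⟩ := MulAction.exists_smul_eq G Q P
  -- g • Q = P
  have hmem : ∀ y : G, y ∈ Q → g * y * g⁻¹ ∈ (P : Subgroup G) := by
    intro y hy
    rw [← hg, Sylow.coe_subgroup_smul]
    exact ⟨y, hy, rfl⟩
  have hconjA : ∀ y ∈ A, g * y * g⁻¹ ∈ A := fun y hy => hA.2 y hy g (hmem y (hAQ hy))
  -- conjugation by g is a bijection of A
  let f : A → A := fun y => ⟨g * y * g⁻¹, hconjA y y.2⟩
  have hfinj : Function.Injective f := by
    intro a b hab
    have : g * (a : G) * g⁻¹ = g * (b : G) * g⁻¹ := congrArg Subtype.val hab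
    apply Subtype.ext
    simpa using this
  have hfsurj : Function.Surjective f := Finite.surjective_of_injective hfinj
  refine ⟨hAQ, ?_⟩
  intro x hx h hxQ
  have h1 : g * (h * x * h⁻¹) * g⁻¹ ∈ (P : Subgroup G) := hmem _ hxQ
  have h2 : (g * h) * x * (g * h)⁻¹ ∈ A := by
    apply hA.2 x hx
    have : (g * h) * x * (g * h)⁻¹ = g * (h * x * h⁻¹) * g⁻¹ := by group
    rw [this]; exact h1
  obtain ⟨a, ha⟩ := hfsurj ⟨_, h2⟩
  have h3 : g * (a : G) * g⁻¹ = (g * h) * x * (g * h)⁻¹ := congrArg Subtype.val ha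
  have h4 : (a : G) = h * x * h⁻¹ := by
    have : g * (a : G) * g⁻¹ = g * (h * x * h⁻¹) * g⁻¹ := by rw [h3]; group
    simpa using this
  rw [← h4]; exact a.2

end Cfsg.Agent.S1249
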