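import Cfsg.Statements.S1250
-- import your own Cfsg.Agent.* helpers here

set_option autoImplicit false
open Cfsg

namespace Cfsg.Agent.S1250

/-- Let S be a Sylow p-subgroup of the finite group G, A ≤ S strongly closed in S, and N a normal subgroup. Then the image of A in G ⧸ N is strongly closed in the image of S (which is a Sylow p-subgroup of G ⧸ N). -/
theorem result {G : Type*} [Group G] [Finite G] {p : ℕ} [Fact p.Prime] (S : Sylow p G) (A : Subgroup G) (hA : Cfsg.IsStronglyClosed A (S : Subgroup G)) (N : Subgroup G) [N.Normal] : Cfsg.IsStronglyClosed (A.map (QuotientGroup.mk' N)) ((S : Subgroup G).map (QuotientGroup.mk' N)) := by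
  classical
  refine ⟨Subgroup.map_mono hA.1, ?_⟩
  rintro _ ⟨x, hx, rfl⟩ gbar hmem
  obtain ⟨g, rfl⟩ := QuotientGroup.mk'_surjective N gbar
  set y : G := g * x * g⁻¹ with hy
  have hπy : QuotientGroup.mk' N g * QuotientGroup.mk' N x * (QuotientGroup.mk' N g)⁻¹ = QuotientGroup.mk' N y := by
    simp [hy]
  rw [hπy] at hmem ⊢
  obtain ⟨s0, hs0, hs0y⟩ := hmem
  have hyH : y ∈ (S : Subgroup G) ⊔ N := by
    have h1 : s0⁻¹ * y ∈ N := by
      have := (QuotientGroup.eq (s := N) (a := s0) (b := y)).1 hs0y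
      exact this
    have : y = s0 * (s0⁻¹ * y) := by group
    rw [this]
    exact Subgroup.mul_mem _ (Subgroup.mem_sup_left hs0) (Subgroup.mem_sup_right h1)
  set H : Subgroup G := (S : Subgroup G) ⊔ N with hH
  have hxp : IsPGroup p (Subgroup.zpowers x) := S.isPGroup'.to_le (by
    rw [Subgroup.zpowers_le]; exact hA.1 hx)
  have hyorder : ∃ k : ℕ, y ^ p ^ k = 1 := by
    obtain ⟨k, hk⟩ := hxp ⟨x, Subgroup.mem_zpowers x⟩
    refine ⟨k, ?_⟩
    have hk' : x ^ p ^ k = 1 := by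
      have := congrArg Subtype.val hk
      simpa using this
    rw [hy, conj_pow, hk']; simp
  let y' : H := ⟨y, hyH⟩
  have hy'p : IsPGroup p (Subgroup.zpowers y') := by
    obtain ⟨k, hk⟩ := hyorder
    rintro ⟨z, hz⟩
    obtain ⟨m, rfl⟩ := Subgroup.mem_zpowers_iff.1 hz
    refine ⟨k, ?_⟩
    apply Subtype.ext
    apply Subtype.ext
    simp only [SubgroupClass.coe_pow, SubgroupClass.coe_zpow, OneMemClass.coe_one]
    show (y ^ m) ^ p ^ k = 1
    rw [← zpow_natCast, ← zpow_mul, mul_comm, zpow_mul, zpow_natCast, hk, one_zpow]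
  obtain ⟨Q, hQ⟩ := hy'p.exists_le_sylow
  obtain ⟨h, hh⟩ := MulAction.exists_smul_eq H Q (S.subtype (le_sup_left : (S : Subgroup G) ≤ H))
  have h1 : h * y' * h⁻¹ ∈ (S.subtype (le_sup_left : (S : Subgroup G) ≤ H) : Subgroup H) := by
    rw [← hh, Sylow.coe_subgroup_smul]
    exact ⟨y', hQ (Subgroup.mem_zpowers y'), rfl⟩
  have h2 : (h : G) * y * (h : G)⁻¹ ∈ (S : Subgroup G) := by
    have := h1
    rw [Sylow.coe_subtype, Subgroup.mem_subgroupOf] at this
    simpa using this
  obtain ⟨s, hs, n, hn, hsn⟩ := Subgroup.mem_sup_of_normal_right.1 h.2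
  have h3 : n * y * n⁻¹ ∈ (S : Subgroup G) := by
    have : n * y * n⁻¹ = s⁻¹ * ((h : G) * y * (h : G)⁻¹) * s := by
      rw [← hsn]; group
    rw [this]
    exact Subgroup.mul_mem _ (Subgroup.mul_mem _ (Subgroup.inv_mem _ hs) h2) hs
  have h4 : (n * g) * x * (n * g)⁻¹ ∈ A := by
    apply hA.2 x hx
    have : (n * g) * x * (n * g)⁻¹ = n * y * n⁻¹ := by rw [hy]; group
    rw [this]; exact h3
  refine ⟨_, h4, ?_⟩
  have hn1 : QuotientGroup.mk' N n = 1 := (QuotientGroup.eq_one_iff n).2 hn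
  rw [map_mul, map_mul, map_inv, map_mul, hn1, hy, map_mul, map_mul, map_inv]
  simp

end Cfsg.Agent.S1250
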