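import Cfsg.Statements.S1251
import Cfsg.Agent.S0215
import Cfsg.Agent.Lib.Helper93.ZStarFusion
import Cfsg.Agent.Lib.Helper53.Basic

set_option autoImplicit false
open Cfsg

namespace Cfsg.Agent.S1251

universe u

theorem zhyp : Cfsg.Agent.Lib.Helper93.ZStarHyp.{u} :=
  fun _ _ _ P u hu huP hiso => Cfsg.Agent.S0215.result P u hu huP hiso

open Cfsg.Agent.Lib in
theorem main {G : Type u} [Group G] [Finite G] (S : Sylow 2 G) (A : Subgroup G)
    (hA : Cfsg.IsStronglyClosed A (S : Subgroup G)) (H : Subgroup G)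
    (hAH : A ≤ Subgroup.normalizer (H : Set G)) (hO : Cfsg.oddCore ↥H = ⊥) (hdisj : A ⊓ H = ⊥) :
    A ≤ Subgroup.centralizer (H : Set G) := by
  have : Fact (Nat.Prime 2) := ⟨Nat.prime_two⟩
  obtain ⟨hAS, hcl⟩ := hA
  have hA2 : IsPGroup 2 A := S.2.to_le hAS
  set X := H ⊔ A with hX
  have hXN : X ≤ Subgroup.normalizer (H : Set G) := sup_le Subgroup.le_normalizer hAH
  obtain ⟨SX, hSX, hASX⟩ := Helper53.exists_isSyl_ge (p := 2) (le_sup_right : A ≤ X) hA2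
  obtain ⟨P', hP'⟩ := hSX.isPGroup.exists_le_sylow
  obtain ⟨g₀, hg₀⟩ := MulAction.exists_smul_eq G S P'
  have hmemP' : ∀ x, x ∈ SX → g₀⁻¹ * x * g₀ ∈ S := by
    intro x hx
    have h1 : x ∈ ((g₀ • S : Sylow 2 G) : Subgroup G) := by rw [hg₀]; exact hP' hx
    rw [Sylow.coe_subgroup_smul, ← Helper53.cj_smul, Helper53.mem_cj] at h1
    exact h1
  have hAg : A.map (MulAut.conj g₀⁻¹).toMonoidHom = A := by
    apply Helper53.cj_eq_of_le
    rintro _ ⟨b, hb, rfl⟩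
    have h1 := hmemP' b (hASX hb)
    have h2 := hcl b hb g₀⁻¹ (by rw [inv_inv]; exact h1)
    simpa [MulAut.conj_apply] using h2
  have hP : ∀ y ∈ A, ∀ x : G, x * y * x⁻¹ ∈ SX → x * y * x⁻¹ ∈ A := by
    intro y hy x hx
    have h1 := hmemP' _ hx
    have h2 : (g₀⁻¹ * x) * y * (g₀⁻¹ * x)⁻¹ ∈ A := by
      apply hcl y hy
      have : (g₀⁻¹ * x) * y * (g₀⁻¹ * x)⁻¹ = g₀⁻¹ * (x * y * x⁻¹) * g₀ := by group
      rw [this]; exact h1
    rw [← hAg, Helper53.mem_cj] at h2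
    have h3 : g₀⁻¹⁻¹ * (g₀⁻¹ * x * y * (g₀⁻¹ * x)⁻¹) * g₀⁻¹ = x * y * x⁻¹ := by group
    rwa [h3] at h2
  intro a ha
  rw [Subgroup.mem_centralizer_iff]
  intro h hh
  have hzA : Subgroup.zpowers a ≤ A := Subgroup.zpowers_le.2 ha
  set X₁ := H ⊔ Subgroup.zpowers a with hX₁
  have haX₁ : a ∈ X₁ := (le_sup_right : Subgroup.zpowers a ≤ X₁) (Subgroup.mem_zpowers a)
  have hhX₁ : h ∈ X₁ := (le_sup_left : H ≤ X₁) hh
  have hX₁X : X₁ ≤ X := sup_le_sup_left hzA H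
  have hQ2 : IsPGroup 2 (Subgroup.zpowers (⟨a, haX₁⟩ : ↥X₁)) := by
    have h1 : IsPGroup 2 ((Subgroup.zpowers a).subgroupOf X₁) := (hA2.to_le hzA).comap_subtype
    apply h1.to_le
    rw [Subgroup.zpowers_le]
    exact Subgroup.mem_subgroupOf.2 (Subgroup.mem_zpowers a)
  obtain ⟨S₁, hS₁⟩ := hQ2.exists_le_sylow
  obtain ⟨SX', hSX', hle⟩ := Helper53.exists_isSyl_ge (p := 2)
    (A := (S₁ : Subgroup ↥X₁).map X₁.subtype) (K := X)
    ((Subgroup.map_subtype_le _).trans hX₁X) (S₁.2.map _)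
  obtain ⟨x₀, hx₀, rfl⟩ := hSX.exists_conj hSX'
  have key := Helper93.comm_mem_oddCore_of_pointwise_closed zhyp _ ↥X₁ rfl S₁
    (Subgroup.zpowers (⟨a, haX₁⟩ : ↥X₁)) hS₁ ?_ ⟨a, haX₁⟩ (Subgroup.mem_zpowers _) ⟨h, hhX₁⟩
  · -- conclude
    set N := Cfsg.oddCore ↥X₁ with hN
    obtain ⟨hNn, hNc⟩ := Helper80.pPrimeCore_spec (G := ↥X₁) 2
    have hle2 : (N.map X₁.subtype).subgroupOf H ≤ Cfsg.oddCore ↥H := by
      apply Helper80.le_pPrimeCore
      · constructor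
        intro n hn k
        rw [Subgroup.mem_subgroupOf] at hn ⊢
        obtain ⟨m, hm, hmn⟩ := hn
        refine ⟨⟨k, (le_sup_left : H ≤ X₁) k.2⟩ * m * ⟨k, (le_sup_left : H ≤ X₁) k.2⟩⁻¹,
          hNn.conj_mem m hm _, ?_⟩
        simp [← hmn]
      · have h1 : Nat.card ((N.map X₁.subtype).subgroupOf H) ∣ Nat.card N := by
          rw [← Subgroup.inf_subgroupOf_right,
            Nat.card_congr (Subgroup.subgroupOfEquivOfLe (inf_le_right :
              N.map X₁.subtype ⊓ H ≤ H)).toEquiv,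
            ← Subgroup.card_map_of_injective (K := N) X₁.subtype_injective]
          exact Subgroup.card_dvd_of_le inf_le_left
        exact Nat.Coprime.coprime_dvd_left h1 hNc
    have hmemH : a * h * a⁻¹ * h⁻¹ ∈ H :=
      H.mul_mem ((Subgroup.mem_normalizer_iff.1 (hAH ha) h).1 hh) (H.inv_mem hh)
    have h3 : (⟨a * h * a⁻¹ * h⁻¹, hmemH⟩ : ↥H) ∈ (N.map X₁.subtype).subgroupOf H := by
      rw [Subgroup.mem_subgroupOf]
      exact ⟨_, key, rfl⟩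
    have h4 := hle2 h3
    rw [hO, Subgroup.mem_bot] at h4
    have h5 : a * h * a⁻¹ * h⁻¹ = 1 := congrArg Subtype.val h4
    have h6 : a * h = h * a := by
      calc a * h = (a * h * a⁻¹ * h⁻¹) * (h * a) := by group
        _ = h * a := by rw [h5, one_mul]
    exact h6.symm
  · -- pointwise closed
    intro y hy x hxy
    have hyG : (y : G) ∈ Subgroup.zpowers a := by
      obtain ⟨k, rfl⟩ := hy
      exact ⟨k, by simp⟩
    obtain ⟨h', hh', c, hc, hxc⟩ := (Helper53.mem_sup_of_le_normalizer' (hzA.trans hAH)).1 x.2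
    have hcomm : c * (y : G) * c⁻¹ = y := by
      obtain ⟨i, rfl⟩ := hc
      obtain ⟨j, hj⟩ := hyG
      rw [← hj, ← zpow_add, ← zpow_neg, ← zpow_add]
      congr 1
      ring
    have hconj : ((x * y * x⁻¹ : ↥X₁) : G) = h' * y * h'⁻¹ := by
      have : ((x * y * x⁻¹ : ↥X₁) : G) = (x : G) * y * (x : G)⁻¹ := by simp
      rw [this, hxc]
      calc h' * c * ↑y * (h' * c)⁻¹ = h' * (c * y * c⁻¹) * h'⁻¹ := by group
        _ = _ := by rw [hcomm]
    have h1 : h' * (y : G) * h'⁻¹ ∈ SX.map (MulAut.conj x₀).toMonoidHom := by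
      rw [← hconj]
      exact hle ⟨_, hxy, rfl⟩
    have h2 : (y : G) ∈ SX.map (MulAut.conj x₀).toMonoidHom := hle ⟨y, hS₁ hy, rfl⟩
    rw [Helper53.mem_cj] at h1 h2
    have hyA : (y : G) ∈ A := hzA hyG
    have h3 : (x₀⁻¹ * h') * y * (x₀⁻¹ * h')⁻¹ ∈ A := by
      apply hP _ hyA
      have : (x₀⁻¹ * h') * y * (x₀⁻¹ * h')⁻¹ = x₀⁻¹ * (h' * ↑y * h'⁻¹) * x₀ := by group
      rw [this]; exact h1
    have h4 : x₀⁻¹ * y * x₀⁻¹⁻¹ ∈ A := by
      apply hP _ hyA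
      simpa using h2
    have h5 : x₀⁻¹ * (h' * y * h'⁻¹ * (y : G)⁻¹) * x₀ ∈ A := by
      have : x₀⁻¹ * (h' * y * h'⁻¹ * (y : G)⁻¹) * x₀ =
          ((x₀⁻¹ * h') * y * (x₀⁻¹ * h')⁻¹) * (x₀⁻¹ * y * x₀⁻¹⁻¹)⁻¹ := by group
      rw [this]
      exact A.mul_mem h3 (A.inv_mem h4)
    have h6 : h' * y * h'⁻¹ * (y : G)⁻¹ ∈ H := by
      have : h' * y * h'⁻¹ * (y : G)⁻¹ = h' * (y * h'⁻¹ * (y : G)⁻¹) := by group
      rw [this]
      exact H.mul_mem hh' ((Subgroup.mem_normalizer_iff.1 (hAH hyA) _).1 (H.inv_mem hh'))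
    have h7 : x₀⁻¹ * (h' * y * h'⁻¹ * (y : G)⁻¹) * x₀ ∈ H := by
      have := (Subgroup.mem_normalizer_iff.1 ((Subgroup.normalizer (H : Set G)).inv_mem
        (hXN hx₀)) _).1 h6
      simpa using this
    have h8 : x₀⁻¹ * (h' * y * h'⁻¹ * (y : G)⁻¹) * x₀ = 1 := by
      have : x₀⁻¹ * (h' * y * h'⁻¹ * (y : G)⁻¹) * x₀ ∈ A ⊓ H := ⟨h5, h7⟩
      rwa [hdisj, Subgroup.mem_bot] at this
    have h9 : h' * y * h'⁻¹ * (y : G)⁻¹ = 1 := by
      calc h' * y * h'⁻¹ * (y : G)⁻¹ = x₀ * (x₀⁻¹ * (h' * y * h'⁻¹ * (y : G)⁻¹) * x₀) * x₀⁻¹ := by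
            group
        _ = 1 := by rw [h8]; group
    apply Subtype.ext
    rw [hconj]
    exact mul_inv_eq_one.1 h9

/-- Let S be a Sylow 2-subgroup of the finite group G and A ≤ S strongly closed in S. If H is a subgroup normalized by A with no nontrivial normal subgroup of odd order and A ∩ H = 1, then A ≤ C_G(H). -/
theorem result {G : Type*} [Group G] [Finite G] (S : Sylow 2 G) (A : Subgroup G) (hA : Cfsg.IsStronglyClosed A (S : Subgroup G)) (H : Subgroup G) (hAH : A ≤ Subgroup.normalizer (H : Set G)) (hO : Cfsg.oddCore ↥H = ⊥) (hdisj : A ⊓ H = ⊥) : A ≤ Subgroup.centralizer (H : Set G) := by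
  exact main S A hA H hAH hO hdisj

end Cfsg.Agent.S1251
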