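import Cfsg.Statements.S1323
import Mathlib
import Cfsg.Agent.Lib.Helper28.Layer

set_option autoImplicit false
open Cfsg

namespace Cfsg.Agent.S1323

open Equiv Equiv.Perm

variable {n : ℕ}

/-- a 3-cycle supported in `T` moving `x` and fixing `y`. -/
theorem ex3 (T : Finset (Fin n)) (hT : 4 ≤ T.card) (x y : Fin n) (hx : x ∈ T) :
    ∃ t : Perm (Fin n), t.IsThreeCycle ∧ t x ≠ x ∧ (y ≠ x → t y = y) ∧ ∀ z, z ∉ T → t z = z := by
  have hcard : 1 < (T \ {x, y}).card := by
    have h1 := Finset.card_sdiff_add_card_inter T {x, y}
    have h2 : (T ∩ {x, y}).card ≤ 2 :=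
      le_trans (Finset.card_le_card Finset.inter_subset_right) Finset.card_le_two
    omega
  obtain ⟨c, d, hc1, hd1, hcd⟩ := Finset.one_lt_card_iff.mp hcard
  simp only [Finset.mem_sdiff, Finset.mem_insert, Finset.mem_singleton, not_or] at hc1 hd1
  refine ⟨swap x c * swap x d, isThreeCycle_swap_mul_swap_same (Ne.symm hc1.2.1) (Ne.symm hd1.2.1) hcd,
    ?_, ?_, ?_⟩
  · simp only [coe_mul, Function.comp_apply, swap_apply_left]
    rw [swap_apply_of_ne_of_ne hd1.2.1 hcd.symm]
    exact hd1.2.1
  · intro hy
    simp only [coe_mul, Function.comp_apply]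
    rw [swap_apply_of_ne_of_ne hy (Ne.symm hd1.2.2), swap_apply_of_ne_of_ne hy (Ne.symm hc1.2.2)]
  · intro z hz
    have z1 : z ≠ x := by rintro rfl; exact hz hx
    have z2 : z ≠ c := by rintro rfl; exact hz hc1.1
    have z3 : z ≠ d := by rintro rfl; exact hz hd1.1
    simp only [coe_mul, Function.comp_apply]
    rw [swap_apply_of_ne_of_ne z1 z3, swap_apply_of_ne_of_ne z1 z2]

theorem inv_supp (t : Perm (Fin n)) (h2 : orderOf t = 2) (hs : sign t = 1) : 4 ≤ t.support.card := by
  obtain ⟨k, hk⟩ := cycleType_prime_order (σ := t) (by rw [h2]; norm_num)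
  rw [h2] at hk
  have h1 := sum_cycleType t
  rw [hk] at h1
  simp at h1
  rw [sign_of_cycleType, hk] at hs
  simp at hs
  rcases k with _ | k
  · exfalso; revert hs; decide
  · omega

theorem cardD (hn : 4 ≤ n) : (Finset.univ.filter (fun x : Fin n => x.val < 4)).card = 4 := by
  rw [Fin.card_filter_val_lt]
  omega

theorem cardS (hn : 4 ≤ n) : (Finset.univ.filter (fun x : Fin n => 4 ≤ x.val)).card = n - 4 := by
  have h1 := Finset.card_filter_add_card_filter_not (s := (Finset.univ : Finset (Fin n)))
    (fun x : Fin n => x.val < 4)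
  rw [cardD hn] at h1
  simp only [not_lt, Finset.card_univ, Fintype.card_fin] at h1
  omega

/-- if `g` maps `D` into `D` then it reflects `D`. -/
theorem reflectD (g : Perm (Fin n)) (hg : ∀ x : Fin n, x.val < 4 → (g x).val < 4) :
    ∀ x : Fin n, (g x).val < 4 → x.val < 4 := by
  classical
  intro x hx
  have h1 : (Finset.univ.filter (fun x : Fin n => x.val < 4)).image g =
      Finset.univ.filter (fun x : Fin n => x.val < 4) := by
    apply Finset.eq_of_subset_of_card_le
    · intro y hy
      simp only [Finset.mem_image, Finset.mem_filter, Finset.mem_univ, true_and] at hy ⊢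
      obtain ⟨z, hz, rfl⟩ := hy
      exact hg z hz
    · rw [Finset.card_image_of_injective _ g.injective]
  have h2 : g x ∈ (Finset.univ.filter (fun x : Fin n => x.val < 4)).image g := by
    rw [h1]; simpa using hx
  simp only [Finset.mem_image, Finset.mem_filter, Finset.mem_univ, true_and] at h2
  obtain ⟨z, hz, he⟩ := h2
  rw [← g.injective he]; exact hz

theorem quasi_alt {α : Type*} [Fintype α] [DecidableEq α] (h : 5 ≤ Nat.card α) :
    Cfsg.IsQuasisimple (alternatingGroup α) := by
  have hs := alternatingGroup.isSimpleGroup h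
  have hp : Group.IsPerfect (alternatingGroup α) := by
    constructor
    rcases (inferInstance : (commutator (alternatingGroup α)).Normal).eq_bot_or_eq_top with h1 | h1
    · exfalso
      have h2 : IsMulCommutative (alternatingGroup α) := by
        rw [commutator_def, Subgroup.commutator_eq_bot_iff_le_centralizer] at h1
        constructor
        constructor
        intro a b
        have := h1 (Subgroup.mem_top a)
        rw [Subgroup.mem_centralizer_iff] at this
        exact (this b (Subgroup.mem_top b)).symm
      rw [alternatingGroup.isMulCommutative_iff_card_le_three] at h2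
      omega
    · exact h1
  apply Cfsg.Agent.Lib.Helper28.isQuasisimple_of_forall_normal hp
  intro N hN hne
  rcases hN.eq_bot_or_eq_top with h1 | h1
  · rw [h1]; exact bot_le
  · exact absurd h1 hne

theorem main (hn : 9 ≤ n) (L : Subgroup (alternatingGroup (Fin n)))
    (hL : ∀ g : alternatingGroup (Fin n), g ∈ L ↔
      ∀ x : Fin n, x.val < 4 → (g : Perm (Fin n)) x = x) :
    Cfsg.IsStandardSubgroup L := by
  classical
  obtain ⟨D, hD⟩ : ∃ D : Finset (Fin n), D = Finset.univ.filter (fun x : Fin n => x.val < 4) :=
    ⟨_, rfl⟩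
  obtain ⟨S, hS⟩ : ∃ S : Finset (Fin n), S = Finset.univ.filter (fun x : Fin n => 4 ≤ x.val) :=
    ⟨_, rfl⟩
  have memD : ∀ x, x ∈ D ↔ x.val < 4 := by intro x; rw [hD]; simp
  have memS : ∀ x, x ∈ S ↔ 4 ≤ x.val := by intro x; rw [hS]; simp
  have cD : D.card = 4 := by rw [hD]; exact cardD (by omega)
  have cS : S.card = n - 4 := by rw [hS]; exact cardS (by omega)
  have moveL : ∀ x y : Fin n, 4 ≤ x.val → ∃ l ∈ L, (l : Perm (Fin n)) x ≠ x ∧
      (y ≠ x → (l : Perm (Fin n)) y = y) := by
    intro x y hx
    obtain ⟨t, t3, t1, t2, t4⟩ := ex3 S (by omega) x y ((memS x).2 hx)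
    refine ⟨⟨t, t3.mem_alternatingGroup⟩, ?_, t1, t2⟩
    rw [hL]
    intro z hz
    exact t4 z (by rw [memS]; omega)
  obtain ⟨H, hHdef⟩ : ∃ H, H = Subgroup.centralizer (L : Set (alternatingGroup (Fin n))) :=
    ⟨_, rfl⟩
  have hH : ∀ g : alternatingGroup (Fin n), g ∈ H ↔
      ∀ x : Fin n, 4 ≤ x.val → (g : Perm (Fin n)) x = x := by
    intro g
    rw [hHdef, Subgroup.mem_centralizer_iff]
    constructor
    · intro hg x hx
      by_contra hne
      obtain ⟨l, hl, l1, l2⟩ := moveL x ((g : Perm (Fin n)) x) hx
      have h1 := hg l hl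
      have h2 := congrArg (fun k : alternatingGroup (Fin n) => (k : Perm (Fin n)) x) h1
      simp only [Subgroup.coe_mul, coe_mul, Function.comp_apply] at h2
      rw [l2 hne] at h2
      exact l1 ((g : Perm (Fin n)).injective h2.symm)
    · intro hg l hl
      rw [SetLike.mem_coe, hL] at hl
      apply Subtype.ext
      apply Equiv.ext
      intro z
      simp only [Subgroup.coe_mul, coe_mul, Function.comp_apply]
      by_cases hz : z.val < 4
      · have h1 : ((g : Perm (Fin n)) z).val < 4 := by
          by_contra hcon
          have := hg _ (not_lt.1 hcon)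
          have := (g : Perm (Fin n)).injective this
          rw [this] at hcon; exact hcon hz
        rw [hl z hz, hl _ h1]
      · have hz' := not_lt.1 hz
        have h1 : 4 ≤ ((l : Perm (Fin n)) z).val := by
          by_contra hcon
          have := hl _ (not_le.1 hcon)
          have := (l : Perm (Fin n)).injective this
          rw [this] at hcon; exact hcon hz'
        rw [hg z hz', hg _ h1]
  have moveH : ∀ x : Fin n, x.val < 4 → ∃ h ∈ H, (h : Perm (Fin n)) x ≠ x := by
    intro x hx
    obtain ⟨t, t3, t1, t2, t4⟩ := ex3 D (by omega) x x ((memD x).2 hx)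
    refine ⟨⟨t, t3.mem_alternatingGroup⟩, ?_, t1⟩
    rw [hH]
    intro z hz
    exact t4 z (by rw [memD]; omega)
  -- normalizers
  have NH : ∀ g : alternatingGroup (Fin n), g ∈ Subgroup.normalizer (H : Set _) ↔
      ∀ x : Fin n, x.val < 4 → ((g : Perm (Fin n)) x).val < 4 := by
    intro g
    rw [Subgroup.mem_normalizer_iff]
    constructor
    · intro hg x hx
      obtain ⟨h, hh, h1⟩ := moveH x hx
      have h2 := (hg h).1 hh
      rw [hH] at h2
      by_contra hcon
      have h3 := h2 _ (not_lt.1 hcon)
      simp only [Subgroup.coe_mul, Subgroup.coe_inv, coe_mul, Function.comp_apply, coe_inv,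
        symm_apply_apply] at h3
      exact h1 ((g : Perm (Fin n)).injective h3)
    · intro hg h
      have hr := reflectD _ hg
      rw [hH, hH]
      constructor
      · intro hh x hx
        simp only [Subgroup.coe_mul, Subgroup.coe_inv, coe_mul, Function.comp_apply]
        have h1 : 4 ≤ (((g : Perm (Fin n))⁻¹) x).val := by
          by_contra hcon
          have := hg _ (not_le.1 hcon)
          simp only [coe_inv, apply_symm_apply] at this
          omega
        rw [hh _ h1]
        simp
      · intro hh x hx
        have h1 : 4 ≤ ((g : Perm (Fin n)) x).val := by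
          by_contra hcon
          have := hr _ (not_le.1 hcon)
          omega
        have h3 := hh _ h1
        simp only [Subgroup.coe_mul, Subgroup.coe_inv, coe_mul, Function.comp_apply, coe_inv,
          symm_apply_apply] at h3
        exact (g : Perm (Fin n)).injective h3
  have NL : ∀ g : alternatingGroup (Fin n), g ∈ Subgroup.normalizer (L : Set _) ↔
      ∀ x : Fin n, x.val < 4 → ((g : Perm (Fin n)) x).val < 4 := by
    intro g
    rw [Subgroup.mem_normalizer_iff]
    constructor
    · intro hg x hx
      by_contra hcon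
      obtain ⟨l, hl, l1, -⟩ := moveL _ x (not_lt.1 hcon)
      have h2 : g⁻¹ * l * g ∈ L := by
        rw [hg]
        simpa [mul_assoc] using hl
      rw [hL] at h2
      have h3 := h2 x hx
      simp only [Subgroup.coe_mul, Subgroup.coe_inv, coe_mul, Function.comp_apply] at h3
      rw [Perm.inv_eq_iff_eq] at h3
      exact l1 h3
    · intro hg l
      have hr := reflectD _ hg
      rw [hL, hL]
      constructor
      · intro hh x hx
        simp only [Subgroup.coe_mul, Subgroup.coe_inv, coe_mul, Function.comp_apply]
        have h1 : (((g : Perm (Fin n))⁻¹) x).val < 4 := by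
          apply hr
          simpa using hx
        rw [hh _ h1]
        simp
      · intro hh x hx
        have h3 := hh _ (hg x hx)
        simp only [Subgroup.coe_mul, Subgroup.coe_inv, coe_mul, Function.comp_apply, coe_inv,
          symm_apply_apply] at h3
        exact (g : Perm (Fin n)).injective h3
  refine ⟨?_, ?_, ?_, ?_⟩
  · -- quasisimple
    have e : L = (alternatingGroup.ofSubtype S).range := by
      ext g
      rw [alternatingGroup.mem_range_ofSubtype_iff, hL]
      constructor
      · intro h x hx
        rw [memS]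
        by_contra hcon
        exact (mem_support.1 hx) (h x (not_le.1 hcon))
      · intro h x hx
        by_contra hcon
        have := h (mem_support.2 hcon)
        rw [memS] at this; omega
    rw [e]
    apply Cfsg.Agent.Lib.Helper28.isQuasisimple_of_equiv
      (MonoidHom.ofInjective alternatingGroup.ofSubtype_injective)
    apply quasi_alt
    rw [Nat.card_eq_fintype_card, Fintype.card_coe, cS]; omega
  · rw [← hHdef]
    refine ⟨?_, ?_⟩
    · obtain ⟨a, ha⟩ : ∃ o : Fin n, o = ⟨0, by omega⟩ := ⟨_, rfl⟩
      obtain ⟨b, hb⟩ : ∃ o : Fin n, o = ⟨1, by omega⟩ := ⟨_, rfl⟩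
      obtain ⟨c, hc⟩ : ∃ o : Fin n, o = ⟨2, by omega⟩ := ⟨_, rfl⟩
      obtain ⟨d, hd⟩ : ∃ o : Fin n, o = ⟨3, by omega⟩ := ⟨_, rfl⟩
      have hab : a ≠ b := by rw [ha, hb]; simp
      have hac : a ≠ c := by rw [ha, hc]; simp
      have had : a ≠ d := by rw [ha, hd]; simp
      have hcd : c ≠ d := by rw [hc, hd]; simp
      have hbc : b ≠ c := by rw [hb, hc]; simp
      have hbd : b ≠ d := by rw [hb, hd]; simp
      have hmem : swap a b * swap c d ∈ alternatingGroup (Fin n) := by
        rw [mem_alternatingGroup, map_mul, sign_swap hab, sign_swap hcd]; rfl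
      have hmemH : (⟨swap a b * swap c d, hmem⟩ : alternatingGroup (Fin n)) ∈ H := by
        rw [hH]
        intro x hx
        have x1 : x ≠ a := by rintro rfl; rw [ha] at hx; simp at hx
        have x2 : x ≠ b := by rintro rfl; rw [hb] at hx; simp at hx
        have x3 : x ≠ c := by rintro rfl; rw [hc] at hx; simp at hx
        have x4 : x ≠ d := by rintro rfl; rw [hd] at hx; simp at hx
        simp only [coe_mul, Function.comp_apply]
        rw [swap_apply_of_ne_of_ne x3 x4, swap_apply_of_ne_of_ne x1 x2]
      have hord : orderOf (⟨⟨swap a b * swap c d, hmem⟩, hmemH⟩ : H) = 2 := by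
        apply orderOf_eq_prime
        · apply Subtype.ext
          apply Subtype.ext
          apply Equiv.ext
          intro x
          simp only [pow_two, Subgroup.coe_mul, coe_mul, Function.comp_apply, swap_apply_def,
            Subgroup.coe_one, coe_one, id_eq]
          grind
        · intro he
          have h1 := congrArg (fun k : H => ((k : alternatingGroup (Fin n)) : Perm (Fin n)) a) he
          simp only [coe_mul, Function.comp_apply, Subgroup.coe_one, coe_one, id_eq] at h1
          rw [swap_apply_of_ne_of_ne hac had, swap_apply_left] at h1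
          exact hab h1.symm
      rw [even_iff_two_dvd, ← hord]
      exact orderOf_dvd_natCard _
    · intro g hg
      rw [NH] at hg
      have hz : ∃ z : Fin n, z.val < 4 ∧ 4 ≤ (((g : Perm (Fin n))⁻¹) z).val := by
        by_contra hcon
        push Not at hcon
        apply hg
        have hr := reflectD ((g : Perm (Fin n))⁻¹) hcon
        intro x hx
        apply hr
        simpa using hx
      obtain ⟨z, hz1, hz2⟩ := hz
      rw [← Nat.not_even_iff_odd]
      intro hev
      haveI : Fact (Nat.Prime 2) := ⟨Nat.prime_two⟩
      obtain ⟨k, hk⟩ := exists_prime_orderOf_dvd_card' 2 (even_iff_two_dvd.1 hev)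
      have hk1 : (k : alternatingGroup (Fin n)) ∈ H := k.2.1
      obtain ⟨h, hh, he⟩ := k.2.2
      rw [hH] at hk1
      rw [SetLike.mem_coe, hH] at hh
      have hkz : ((k : alternatingGroup (Fin n)) : Perm (Fin n)) z = z := by
        rw [← he]
        simp only [MulEquiv.coe_toMonoidHom, MulAut.conj_apply, Subgroup.coe_mul, Subgroup.coe_inv,
          coe_mul, Function.comp_apply]
        rw [hh _ hz2]
        simp
      have hsupp : ((k : alternatingGroup (Fin n)) : Perm (Fin n)).support ⊆ D.erase z := by
        intro x hx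
        rw [mem_support] at hx
        rw [Finset.mem_erase, memD]
        constructor
        · rintro rfl; exact hx hkz
        · by_contra hcon
          exact hx (hk1 x (not_lt.1 hcon))
      have h4 := inv_supp ((k : alternatingGroup (Fin n)) : Perm (Fin n))
        (by rw [Subgroup.orderOf_coe, Subgroup.orderOf_coe, hk])
        (mem_alternatingGroup.1 (k : alternatingGroup (Fin n)).2)
      have h5 := Finset.card_le_card hsupp
      rw [Finset.card_erase_of_mem ((memD z).2 hz1), cD] at h5
      omega
  · intro g _ hcomm
    rw [Subgroup.commutator_comm, Subgroup.commutator_eq_bot_iff_le_centralizer, ← hHdef] at hcomm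
    have hmap : ∀ x : Fin n, 4 ≤ x.val → ((g : Perm (Fin n)) x).val < 4 := by
      intro x hx
      obtain ⟨l, hl, l1, -⟩ := moveL x x hx
      have h1 : g * l * g⁻¹ ∈ H := hcomm ⟨l, hl, rfl⟩
      rw [hH] at h1
      by_contra hcon
      have h3 := h1 _ (not_lt.1 hcon)
      simp only [Subgroup.coe_mul, Subgroup.coe_inv, coe_mul, Function.comp_apply, coe_inv,
        symm_apply_apply] at h3
      exact l1 ((g : Perm (Fin n)).injective h3)
    have : S.card ≤ D.card := Finset.card_le_card_of_injOn (g : Perm (Fin n))
      (fun x hx => (memD _).2 (hmap x ((memS x).1 hx))) ((g : Perm (Fin n)).injective.injOn)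
    omega
  · rw [← hHdef]
    ext g
    rw [NH, NL]

/-- For n ≥ 9, the subgroup of the alternating group on Fin n fixing each of the points 0, 1, 2, 3 is a standard subgroup. -/
theorem result (n : ℕ) (h4 : 4 ≤ n) (hn : 9 ≤ n) : Cfsg.IsStandardSubgroup (⨅ i : Fin 4, MulAction.stabilizer ↥(alternatingGroup (Fin n)) (Fin.castLE h4 i : Fin n)) := by
  apply main hn
  intro g
  rw [Subgroup.mem_iInf]
  constructor
  · intro h x hx
    have := h ⟨x.val, hx⟩
    rw [MulAction.mem_stabilizer_iff] at this
    exact this
  · intro h i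
    rw [MulAction.mem_stabilizer_iff]
    exact h _ (by simp)

end Cfsg.Agent.S1323
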