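import Cfsg.Statements.S1339
-- import your own Cfsg.Agent.* helpers here
import Cfsg.Agent.Lib.Helper37.CharP

set_option autoImplicit false
open Cfsg

namespace Cfsg.Agent.S1339

open Matrix Cfsg.Agent.Lib

section aux

variable {F : Type*} [Field F] {n : ℕ}

theorem key_mul (i : Fin n) (a b : Fin n → F) (ha : a i = 0) :
    (1 + vecMulVec (Pi.single i 1) a) * (1 + vecMulVec (Pi.single i 1) b)
      = (1 + vecMulVec (Pi.single i 1) (a + b) : Matrix (Fin n) (Fin n) F) := by
  rw [add_mul, mul_add, mul_add, one_mul, one_mul, mul_one, vecMulVec_mul_vecMulVec,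
    dotProduct_single, ha, zero_mul, zero_smul, vecMulVec_zero, add_zero, vecMulVec_add, add_assoc,
    add_comm (vecMulVec _ b)]

/-- the group of transvections with centre `e_i` -/
def rowSub (i : Fin n) : Subgroup (SpecialLinearGroup (Fin n) F) where
  carrier := {g : SpecialLinearGroup (Fin n) F | ∃ a : Fin n → F, a i = 0 ∧
    (g : Matrix (Fin n) (Fin n) F) = 1 + vecMulVec (Pi.single i 1) a}
  one_mem' := ⟨0, rfl, by simp⟩
  mul_mem' := by
    rintro g h ⟨a, ha, hg⟩ ⟨b, hb, hh⟩
    refine ⟨a + b, by simp [ha, hb], ?_⟩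
    change (g : Matrix (Fin n) (Fin n) F) * (h : Matrix (Fin n) (Fin n) F) = _
    rw [hg, hh, key_mul i a b ha]
  inv_mem' := by
    rintro g ⟨a, ha, hg⟩
    refine ⟨-a, by simp [ha], ?_⟩
    have h1 : (g : Matrix (Fin n) (Fin n) F) * (1 + vecMulVec (Pi.single i 1) (-a)) = 1 := by
      rw [hg, key_mul i a (-a) ha]; simp
    have h2 : ((g⁻¹ : SpecialLinearGroup (Fin n) F) : Matrix (Fin n) (Fin n) F) * g = 1 := by
      have := congrArg (fun x : SpecialLinearGroup (Fin n) F => (x : Matrix (Fin n) (Fin n) F))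
        (inv_mul_cancel g)
      exact this
    calc ((g⁻¹ : SpecialLinearGroup (Fin n) F) : Matrix (Fin n) (Fin n) F)
        = (g⁻¹ : SpecialLinearGroup (Fin n) F) * (g * (1 + vecMulVec (Pi.single i 1) (-a))) := by
          rw [h1, mul_one]
      _ = 1 + vecMulVec (Pi.single i 1) (-a) := by rw [← mul_assoc, h2, one_mul]

theorem mem_rowSub {i : Fin n} {g : SpecialLinearGroup (Fin n) F} :
    g ∈ rowSub (F := F) i ↔ ∃ a : Fin n → F, a i = 0 ∧
      (g : Matrix (Fin n) (Fin n) F) = 1 + vecMulVec (Pi.single i 1) a := Iff.rfl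

theorem rowSub_comm {i : Fin n} {g h : SpecialLinearGroup (Fin n) F}
    (hg : g ∈ rowSub (F := F) i) (hh : h ∈ rowSub (F := F) i) : g * h = h * g := by
  obtain ⟨a, ha, hg⟩ := hg
  obtain ⟨b, hb, hh⟩ := hh
  apply Subtype.ext
  change (g : Matrix (Fin n) (Fin n) F) * (h : Matrix (Fin n) (Fin n) F)
    = (h : Matrix (Fin n) (Fin n) F) * (g : Matrix (Fin n) (Fin n) F)
  rw [hg, hh, key_mul i a b ha, key_mul i b a hb, add_comm a b]

theorem transv_eq (i k : Fin n) : (transvection i k (1 : F))
    = 1 + vecMulVec (Pi.single i 1) (Pi.single k 1) := by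
  rw [transvection, single_eq_single_vecMulVec_single]

theorem vecMul_apply_eq (v : Fin n → F) (M : Matrix (Fin n) (Fin n) F) (i : Fin n) :
    (v ᵥ* M) i = v ⬝ᵥ (M *ᵥ Pi.single i 1) := by
  rw [dotProduct_mulVec, dotProduct_single, mul_one]

end aux

/-- Let F be a field with 2 elements, n ≥ 3, and t ∈ SL(n, F) a transvection (t = 1 + E_{ij}, i ≠ j). Then the generalized Fitting subgroup of C(t) is O_2(C(t)). -/
theorem result {F : Type*} [Field F] [Fintype F] [DecidableEq F] (hF : Fintype.card F = 2) (n : ℕ) (hn : 3 ≤ n) (i j : Fin n) (hij : i ≠ j) (t : Matrix.SpecialLinearGroup (Fin n) F) (ht : (t : Matrix (Fin n) (Fin n) F) = Matrix.transvection i j 1) : Cfsg.generalizedFittingSubgroup ↥(Subgroup.centralizer ({t} : Set (Matrix.SpecialLinearGroup (Fin n) F))) = Cfsg.pCore 2 ↥(Subgroup.centralizer ({t} : Set (Matrix.SpecialLinearGroup (Fin n) F))) := by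
  classical
  have : Fact (Nat.Prime 2) := ⟨Nat.prime_two⟩
  have h01 : ∀ x : F, x = 0 ∨ x = 1 := by
    intro x
    by_contra hx
    push Not at hx
    have : 2 < Fintype.card F :=
      Fintype.two_lt_card_iff.2 ⟨0, 1, x, zero_ne_one, hx.1.symm, hx.2.symm⟩
    omega
  have h2 : (1 : F) + 1 = 0 := by
    rcases h01 (1 + 1) with h | h
    · exact h
    · exfalso
      have : (1 : F) = 0 := by simpa using h
      exact one_ne_zero this
  have htA : t ∈ rowSub (F := F) i :=
    ⟨Pi.single j 1, Pi.single_eq_of_ne hij 1, by rw [ht, transv_eq]⟩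
  have hAC : rowSub (F := F) i ≤ Subgroup.centralizer ({t} : Set (SpecialLinearGroup (Fin n) F)) := by
    intro g hg
    rw [Subgroup.mem_centralizer_iff]
    intro h hh
    rw [Set.mem_singleton_iff] at hh
    rw [hh]
    exact rowSub_comm htA hg
  -- elements of `C` fix `e_i`
  have hfix : ∀ c ∈ Subgroup.centralizer ({t} : Set (SpecialLinearGroup (Fin n) F)),
      (c : Matrix (Fin n) (Fin n) F) *ᵥ (Pi.single i 1) = Pi.single i 1 := by
    intro c hc
    have h1 : t * c = c * t := Subgroup.mem_centralizer_iff.1 hc t rfl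
    have h3 : (t : Matrix (Fin n) (Fin n) F) * (c : Matrix (Fin n) (Fin n) F)
        = (c : Matrix (Fin n) (Fin n) F) * (t : Matrix (Fin n) (Fin n) F) :=
      congrArg (fun x : SpecialLinearGroup (Fin n) F => (x : Matrix (Fin n) (Fin n) F)) h1
    rw [ht, transv_eq, add_mul, mul_add, one_mul, mul_one, add_right_inj, vecMulVec_mul,
      mul_vecMulVec] at h3
    have h4 : ∀ k, ((c : Matrix (Fin n) (Fin n) F) *ᵥ (Pi.single i 1)) k
        = (Pi.single i 1 : Fin n → F) k * ((Pi.single j 1 : Fin n → F) ᵥ* (c : Matrix (Fin n) (Fin n) F)) j := by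
      intro k
      have := congrFun (congrFun h3 k) j
      simp only [vecMulVec_apply, Pi.single_eq_same, mul_one] at this
      exact this.symm
    rcases h01 (((Pi.single j 1 : Fin n → F) ᵥ* (c : Matrix (Fin n) (Fin n) F)) j) with h5 | h5
    · exfalso
      have h6 : (c : Matrix (Fin n) (Fin n) F) *ᵥ (Pi.single i 1) = 0 := by
        ext k; rw [h4, h5, mul_zero]; rfl
      have h7 : ((c⁻¹ : SpecialLinearGroup (Fin n) F) : Matrix (Fin n) (Fin n) F) * c = 1 :=
        congrArg (fun x : SpecialLinearGroup (Fin n) F => (x : Matrix (Fin n) (Fin n) F))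
          (inv_mul_cancel c)
      have h8 : (Pi.single i 1 : Fin n → F) = 0 := by
        calc (Pi.single i 1 : Fin n → F) = (1 : Matrix (Fin n) (Fin n) F) *ᵥ (Pi.single i 1) := by
              rw [one_mulVec]
          _ = 0 := by rw [← h7, ← mulVec_mulVec, h6, mulVec_zero]
      have := congrFun h8 i
      simp at this
    · ext k; rw [h4, h5, mul_one]
  apply Helper37.CharP.genFitting_eq
  have hAn : ((rowSub (F := F) i).subgroupOf
      (Subgroup.centralizer ({t} : Set (SpecialLinearGroup (Fin n) F)))).Normal := by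
    constructor
    intro a ha c
    rw [Subgroup.mem_subgroupOf] at ha ⊢
    obtain ⟨v, hv, hav⟩ := ha
    have hc1 := hfix _ c.2
    have hc2 := hfix _ (c⁻¹).2
    have h7 : ((c : SpecialLinearGroup (Fin n) F) : Matrix (Fin n) (Fin n) F) *
        (((c⁻¹ : ↥(Subgroup.centralizer ({t} : Set (SpecialLinearGroup (Fin n) F)))) :
          SpecialLinearGroup (Fin n) F) : Matrix (Fin n) (Fin n) F) = 1 :=
      congrArg (fun x : ↥(Subgroup.centralizer ({t} : Set (SpecialLinearGroup (Fin n) F))) =>
        ((x : SpecialLinearGroup (Fin n) F) : Matrix (Fin n) (Fin n) F)) (mul_inv_cancel c)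
    refine ⟨v ᵥ* (((c⁻¹ : ↥(Subgroup.centralizer ({t} : Set (SpecialLinearGroup (Fin n) F)))) :
          SpecialLinearGroup (Fin n) F) : Matrix (Fin n) (Fin n) F), ?_, ?_⟩
    · rw [vecMul_apply_eq, hc2, dotProduct_single, hv, zero_mul]
    · change ((c : SpecialLinearGroup (Fin n) F) : Matrix (Fin n) (Fin n) F) *
        ((a : SpecialLinearGroup (Fin n) F) : Matrix (Fin n) (Fin n) F) *
        (((c⁻¹ : ↥(Subgroup.centralizer ({t} : Set (SpecialLinearGroup (Fin n) F)))) :
          SpecialLinearGroup (Fin n) F) : Matrix (Fin n) (Fin n) F) = _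
      rw [hav, mul_add, mul_one, add_mul, h7, mul_vecMulVec, hc1, vecMulVec_mul]
  have hAp : IsPGroup 2 ↥((rowSub (F := F) i).subgroupOf
      (Subgroup.centralizer ({t} : Set (SpecialLinearGroup (Fin n) F)))) := by
    intro a
    refine ⟨1, ?_⟩
    obtain ⟨v, hv, hav⟩ := Subgroup.mem_subgroupOf.1 a.2
    apply Subtype.ext
    apply Subtype.ext
    apply Subtype.ext
    rw [pow_one, pow_two]
    change (((a : ↥(Subgroup.centralizer ({t} : Set (SpecialLinearGroup (Fin n) F)))) :
      SpecialLinearGroup (Fin n) F) : Matrix (Fin n) (Fin n) F) * (((a : ↥(Subgroup.centralizer ({t} : Set (SpecialLinearGroup (Fin n) F)))) :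
      SpecialLinearGroup (Fin n) F) : Matrix (Fin n) (Fin n) F) = 1
    rw [hav, key_mul i v v hv]
    have : v + v = 0 := by
      ext k
      have : v k + v k = (1 + 1) * v k := by ring
      rw [Pi.add_apply, this, h2, zero_mul]; rfl
    rw [this, vecMulVec_zero, add_zero]
  have hle := Helper28.le_pCore hAn hAp
  intro g hg
  apply hle
  rw [Subgroup.mem_subgroupOf]
  have hg1 := hfix _ g.2
  have hrow : ∀ k, k ≠ i → ∀ l, ((g : SpecialLinearGroup (Fin n) F) : Matrix (Fin n) (Fin n) F) k l
      = (Pi.single k 1 : Fin n → F) l := by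
    intro k hk l
    let T : SpecialLinearGroup (Fin n) F := ⟨transvection i k 1, det_transvection_of_ne i k hk.symm 1⟩
    have hT : T ∈ rowSub (F := F) i := ⟨Pi.single k 1, Pi.single_eq_of_ne hk.symm 1, transv_eq i k⟩
    have hTp : (⟨T, hAC hT⟩ : ↥(Subgroup.centralizer ({t} : Set (SpecialLinearGroup (Fin n) F))))
        ∈ Cfsg.pCore 2 ↥(Subgroup.centralizer ({t} : Set (SpecialLinearGroup (Fin n) F))) :=
      hle (Subgroup.mem_subgroupOf.2 hT)
    have h1 := Subgroup.mem_centralizer_iff.1 hg _ hTp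
    have h3 : (T : Matrix (Fin n) (Fin n) F) * ((g : SpecialLinearGroup (Fin n) F) : Matrix (Fin n) (Fin n) F)
        = ((g : SpecialLinearGroup (Fin n) F) : Matrix (Fin n) (Fin n) F) * (T : Matrix (Fin n) (Fin n) F) :=
      congrArg (fun x : ↥(Subgroup.centralizer ({t} : Set (SpecialLinearGroup (Fin n) F))) =>
        ((x : SpecialLinearGroup (Fin n) F) : Matrix (Fin n) (Fin n) F)) h1
    have hTm : (T : Matrix (Fin n) (Fin n) F) = 1 + vecMulVec (Pi.single i 1) (Pi.single k 1) :=
      transv_eq i k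
    rw [hTm, add_mul, mul_add, one_mul, mul_one, add_right_inj, vecMulVec_mul,
      mul_vecMulVec, hg1] at h3
    have := congrFun (congrFun h3 i) l
    simp only [vecMulVec_apply, Pi.single_eq_same, one_mul] at this
    rw [← this]
    simp [vecMul, dotProduct, Pi.single_apply]
  refine ⟨fun l => ((g : SpecialLinearGroup (Fin n) F) : Matrix (Fin n) (Fin n) F) i l
    - (Pi.single i 1 : Fin n → F) l, ?_, ?_⟩
  · have := congrFun hg1 i
    simp only [mulVec_single_one, Pi.single_eq_same] at this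
    simp only [Pi.single_eq_same]
    rw [sub_eq_zero]
    exact this
  · ext k l
    by_cases hk : k = i
    · subst hk
      simp [vecMulVec_apply, Matrix.one_apply, Pi.single_apply, eq_comm]
    · rw [hrow k hk l]
      simp [vecMulVec_apply, Matrix.one_apply, Pi.single_apply, hk, eq_comm]

end Cfsg.Agent.S1339
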