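import Cfsg.Statements.S1340
import Cfsg.Agent.Lib.Helper70.STD.GL2
-- import your own Cfsg.Agent.* helpers here

set_option autoImplicit false
open Cfsg

namespace Cfsg.Agent.S1340

/-- Let F be a finite field of odd order and n ≥ 3 with (n, |F|) ≠ (3, 3). Then GL(n, F) has a non-central involution t such that C(t) / O(C(t)) has a component. -/
theorem result {F : Type*} [Field F] [Fintype F] [DecidableEq F] (hF : Odd (Fintype.card F)) (n : ℕ) (hn : 3 ≤ n) (h33 : ¬ (n = 3 ∧ Fintype.card F = 3)) : ∃ t : Matrix.GeneralLinearGroup (Fin n) F, orderOf t = 2 ∧ t ∉ Subgroup.center (Matrix.GeneralLinearGroup (Fin n) F) ∧ Cfsg.HasComponent (↥(Subgroup.centralizer ({t} : Set (Matrix.GeneralLinearGroup (Fin n) F))) ⧸ Cfsg.oddCore ↥(Subgroup.centralizer ({t} : Set (Matrix.GeneralLinearGroup (Fin n) F)))) := by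
  obtain ⟨c, rfl⟩ : ∃ c, n = c + 1 := ⟨n - 1, by omega⟩
  have h2 : (2 : F) ≠ 0 := by
    intro h
    have hchar : ringChar F = 2 := by
      have : ringChar F ∣ 2 := by
        apply ringChar.dvd
        exact_mod_cast h
      rcases (Nat.dvd_prime Nat.prime_two).1 this with h1 | h1
      · exact absurd h1 (CharP.ringChar_ne_one)
      · exact h1
    have := FiniteField.even_card_of_char_two hchar
    exact (Nat.not_even_iff_odd.mpr hF) (Nat.even_iff.mpr this)
  have hcard : 3 ≤ c ∨ 4 ≤ Fintype.card F := by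
    by_cases h3 : 3 ≤ c
    · exact Or.inl h3
    · right
      have hc2 : c = 2 := by omega
      have hne3 : Fintype.card F ≠ 3 := fun h => h33 ⟨by omega, h⟩
      have h1 : 1 < Fintype.card F := Fintype.one_lt_card
      have hne2 : Fintype.card F ≠ 2 := by
        intro h; rw [h] at hF; exact absurd hF (by decide)
      omega
  obtain ⟨h1, h3, h4⟩ := Cfsg.Agent.Lib.Helper70.STD.comp_type (F := F) (c := c) (by omega) hcard h2
  exact ⟨Cfsg.Agent.Lib.Helper70.STD.tGL c F, h1, h3, h4⟩

end Cfsg.Agent.S1340
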