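import Cfsg.Statements.S1383
import Cfsg.Agent.Lib.Helper13.TV.Main
import Cfsg.Agent.Lib.Helper2.BG16Sec
import Cfsg.Agent.Lib.Helper2.BG16C

set_option autoImplicit false
open Cfsg

namespace Cfsg.Agent.S1383

/-- Let G be a minimal simple group of odd order and M a maximal subgroup with standard factorisation M = K U M_σ. Then M is of Type V if and only if K ≠ 1, U = 1 and M_F = M_σ. -/
theorem result {G : Type*} [Group G] [Finite G] (hG : Cfsg.IsMinSimpleOddOrder G)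
    (M : Subgroup G) (hM : IsCoatom M) (K U : Subgroup G) (hKU : Cfsg.IsSigmaDecomposition M K U) :
    Cfsg.IsOfTypeV M ↔ (K ≠ ⊥ ∧ U = ⊥ ∧ Cfsg.fittingHallOf M = Cfsg.sigmaCore M) := by
  have T := Cfsg.Agent.Lib.Helper2.BG16.sec16 hG
  obtain ⟨-, h55a, h55b, -, -⟩ := Cfsg.Agent.S1355.result hG M hM
  constructor
  · rintro ⟨W₁, Ut, W₂, hP, rfl, -⟩
    have hK : K ≠ ⊥ := Cfsg.Agent.Lib.Helper2.BG16.K_ne_bot_of_typeP T hM hKU hP
    obtain ⟨h65, -⟩ := Cfsg.Agent.S1365.result hG M hM K U hKU hK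
    have h1 : ⁅M, M⁆ ≤ Cfsg.fittingHallOf M := by
      intro m hm
      obtain ⟨a, ha, b, hb, rfl⟩ := hP.U_compl.2.2.2 m hm
      rw [Subgroup.mem_bot] at hb
      rw [hb, mul_one]; exact ha
    refine ⟨hK, ?_, le_antisymm h55a (h55b.trans h1)⟩
    have h2 : U ≤ Cfsg.sigmaCore M := by
      have : U ≤ ⁅M, M⁆ := by rw [h65]; exact le_sup_left
      exact (this.trans h1).trans h55a
    have h3 := hKU.compl.2.2.1
    rw [eq_bot_iff, ← h3]
    exact le_inf le_rfl (h2.trans le_sup_right)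
  · rintro ⟨hK, rfl, hF⟩
    obtain ⟨h65, -⟩ := Cfsg.Agent.S1365.result hG M hM K ⊥ hKU hK
    rw [bot_sup_eq] at h65
    have hc : Cfsg.IsComplIn (Cfsg.fittingHallOf M) ⊥ ⁅M, M⁆ := by
      refine ⟨by rw [hF, h65], bot_le, inf_bot_eq _, ?_⟩
      intro m hm
      exact ⟨m, by rw [hF, ← h65]; exact hm, 1, Subgroup.one_mem _, (mul_one m).symm⟩
    have hP := Cfsg.Agent.Lib.Helper2.BG16.typeP_of T hM hKU hK (Ut := ⊥) inferInstance
      (by intro k _; rw [Subgroup.mem_normalizer_iff]; intro y; simp [Subgroup.mem_bot]) hc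
    have hnil : Group.IsNilpotent (Cfsg.sigmaCore M) := by
      rw [← hF]; exact Cfsg.Agent.Lib.Helper2.BG16.fittingHallOf_nilpotent M
    refine ⟨K, ⊥, _, hP, rfl, ?_⟩
    rw [hF]
    exact Cfsg.Agent.Lib.Helper13.TV.trichotomy hG hM hKU hK hnil

end Cfsg.Agent.S1383
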