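import Cfsg.Statements.S1458
import Cfsg.Agent.Lib.Helper1.ZJeNPC
import Cfsg.Agent.Lib.Helper30.PStable2

set_option autoImplicit false
open Cfsg

namespace Cfsg.Agent.S1458

/-- Let G be a solvable group of odd order, p a prime and S a Sylow p-subgroup of G. Then the subgroup generated by the centre of the Thompson subgroup of S and O_{p'}(G) is normal in G. -/
theorem result {G : Type*} [Group G] [Finite G] [Group.IsSolvable G] (hodd : Odd (Nat.card G)) (p : ℕ) [Fact p.Prime] (S : Sylow p G) :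
    (Cfsg.centerThompsonOf p (S : Subgroup G) ⊔ Cfsg.pPrimeCore p G).Normal := by
  classical
  rw [Cfsg.Agent.Lib.Helper1.ZJe.centerThompsonOf_eq]
  haveI hDn : (Cfsg.pPrimeCore p G).Normal := inferInstance
  by_cases hp : p = 2
  · subst hp
    have hS : (S : Subgroup G) = ⊥ := by
      obtain ⟨k, hk⟩ := IsPGroup.iff_card.1 S.2
      have hdvd : Nat.card (S : Subgroup G) ∣ Nat.card G := Subgroup.card_subgroup_dvd_card _
      have hoddS : Odd (Nat.card (S : Subgroup G)) := Odd.of_dvd_nat hodd hdvd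
      rw [hk] at hoddS
      have hk0 : k = 0 := by
        by_contra h0
        exact (Nat.not_even_iff_odd.2 hoddS) ((Nat.even_pow.2 ⟨even_two, h0⟩))
      rw [hk0, pow_zero] at hk
      exact Subgroup.card_eq_one.1 hk
    have h1 : Cfsg.Agent.Lib.Helper1.ZJe.ZJ 2 (S : Subgroup G) = ⊥ := by
      rw [eq_bot_iff, ← hS]
      exact Cfsg.Agent.Lib.Helper1.ZJe.ZJ_le 2 _
    rw [h1, bot_sup_eq]
    exact hDn
  have hodd' : Odd (Nat.card (G ⧸ Cfsg.pPrimeCore p G)) :=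
    Odd.of_dvd_nat hodd (Subgroup.card_quotient_dvd_card _)
  have hO : Cfsg.pPrimeCore p (G ⧸ Cfsg.pPrimeCore p G) = ⊥ :=
    Cfsg.Agent.Lib.Helper14.pPrimeCore_quotient_pPrimeCore
  haveI := Cfsg.Agent.Lib.Helper30.pCore_normal' p (G ⧸ Cfsg.pPrimeCore p G)
  have hTp : IsPGroup p (Cfsg.pCore p (G ⧸ Cfsg.pPrimeCore p G)) :=
    Cfsg.Agent.Lib.Helper14.isPGroup_pCore
  have hst : Cfsg.Agent.Lib.Helper15.ZJ.PStab p
      ((Sylow.mapSurjective (QuotientGroup.mk'_surjective (Cfsg.pPrimeCore p G)) S :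
        Sylow p (G ⧸ Cfsg.pPrimeCore p G)) : Subgroup (G ⧸ Cfsg.pPrimeCore p G)) := by
    apply Cfsg.Agent.Lib.Helper15.ZJ.PStab_of_isPStableOn
    intro P _ hP a hq
    exact Cfsg.Agent.Lib.Helper30.pstable_normal hp hodd' P hP a
      (Cfsg.Agent.Lib.Helper30.quad_of_commutator_eq_bot hq (Subgroup.mem_zpowers a))
  have hn := Cfsg.Agent.Lib.Helper1.ZJe.ZJ_normal hp _ hst
    (Q := Cfsg.pCore p (G ⧸ Cfsg.pPrimeCore p G)) inferInstance hTp
    (Cfsg.Agent.Lib.Helper30.centralizer_pCore_le_of_solvable hO)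
  rw [Sylow.coe_mapSurjective, Cfsg.Agent.Lib.Helper1.ZJe.ZJ_map p _ _
    (Cfsg.Agent.Lib.Helper62.injOn_mk'_of_coprime _
      Cfsg.Agent.Lib.Helper14.card_pPrimeCore_coprime S.2)] at hn
  have h2 : Cfsg.Agent.Lib.Helper1.ZJe.ZJ p (S : Subgroup G) ⊔ Cfsg.pPrimeCore p G =
      ((Cfsg.Agent.Lib.Helper1.ZJe.ZJ p (S : Subgroup G)).map
        (QuotientGroup.mk' (Cfsg.pPrimeCore p G))).comap (QuotientGroup.mk' (Cfsg.pPrimeCore p G)) := by
    rw [Subgroup.comap_map_eq, QuotientGroup.ker_mk']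
  rw [h2]
  exact hn.comap _

end Cfsg.Agent.S1458
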