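import Cfsg.Statements.S1489
import Cfsg.Agent.S0854

set_option autoImplicit false
open Cfsg

namespace Cfsg.Agent.S1489

open Cfsg.Agent.Lib.Helper19 Cfsg.Agent.Lib.Helper20 Cfsg.Agent.Lib.Helper5
open scoped ComplexConjugate

/-- Let H be a normal subgroup of the finite group G, θ an irreducible character of H, and T the inertia group of θ (the elements g with θ(g h g⁻¹) = θ(h) for all h ∈ H). If ψ and ψ' are irreducible characters of T having nonzero inner product with the function induced from θ to T, then the function induced from ψ to G is an irreducible character of G, and it equals the one induced from ψ' only if ψ = ψ'. -/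
theorem result {G : Type*} [Group G] [Fintype G] (H T : Subgroup G) [hN : H.Normal] [Fintype T] (θ : H → ℂ) (hθ : Cfsg.IsIrrCharacter H θ) (hT : ∀ g : G, g ∈ T ↔ ∀ h : H, θ ⟨g * h * g⁻¹, hN.conj_mem h h.2 g⟩ = θ h) (hHT : H ≤ T) (ψ ψ' : T → ℂ) (hψ : Cfsg.IsIrrCharacter T ψ) (hψ' : Cfsg.IsIrrCharacter T ψ') (hc : Cfsg.classInner (Cfsg.indFun (H.subgroupOf T) (fun x => θ ⟨(x : T), Subgroup.mem_subgroupOf.mp x.2⟩)) ψ ≠ 0) (hc' : Cfsg.classInner (Cfsg.indFun (H.subgroupOf T) (fun x => θ ⟨(x : T), Subgroup.mem_subgroupOf.mp x.2⟩)) ψ' ≠ 0) : Cfsg.IsIrrCharacter G (Cfsg.indFun T ψ) ∧ (Cfsg.indFun T ψ = Cfsg.indFun T ψ' → ψ = ψ') := by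
  classical
  haveI := finite_irrCharacter (G := T)
  haveI := Fintype.ofFinite (IrrCharacter T)
  set H' : Subgroup T := H.subgroupOf T with hH'
  haveI hH'n : H'.Normal := Subgroup.Normal.subgroupOf hN T
  let e : H' ≃* H := Subgroup.subgroupOfEquivOfLe hHT
  set ϑ' : H' → ℂ := fun x => θ ⟨((x : T) : G), Subgroup.mem_subgroupOf.mp x.2⟩ with hϑ'def
  have hϑ'e : ϑ' = θ ∘ e := by
    funext x
    rfl
  have hϑ' : IsIrrCharacter H' ϑ' := by
    rw [hϑ'e]; exact isIrrCharacter_comp_equiv e hθ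
  have hinv' : ∀ (t : T) (x : H'), ϑ' ⟨t * x * t⁻¹, hH'n.conj_mem (x : T) x.2 t⟩ = ϑ' x := by
    intro t x
    exact (hT t).mp t.2 ⟨((x : T) : G), Subgroup.mem_subgroupOf.mp x.2⟩
  have hindc : IsCharacter T (indFun H' ϑ') :=
    isCharacter_indFun H' ϑ' (isCharacter_of_isIrrCharacter hϑ')
  have hf : ∀ ψ : IrrCharacter T, ∃ n : ℕ, classInner (indFun H' ϑ') (ψ : T → ℂ) = n :=
    fun ψ => isCharacter_classInner_nat hindc ψ.2
  choose f hf using hf
  have hexp : indFun H' ϑ' = ∑ ψ : IrrCharacter T, (f ψ : ℂ) • (ψ : T → ℂ) := by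
    conv_lhs => rw [eq_sum_classInner_smul (indFun_isClassFunction H' ϑ')]
    simp only [hf]
  have hexpG : indFun H θ = ∑ ψ : IrrCharacter T, (f ψ : ℂ) • indFun T (ψ : T → ℂ) := by
    rw [← indFun_trans H T hHT θ]
    show indFun T (indFun H' ϑ') = _
    rw [hexp, indFun_sum]
    simp only [indFun_smul]
  have n1 : ((∑ ψ : IrrCharacter T, (f ψ) ^ 2 : ℕ) : ℂ) = (H'.index : ℂ) := by
    rw [← classInner_indFun_self_of_invariant H' ϑ' hϑ' hinv']
    conv_rhs => rw [hexp, classInner_sum_left]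
    push_cast
    apply Finset.sum_congr rfl
    intro β _
    rw [classInner_smul_left, ← hexp, ← classInner_conj_symm, hf]
    simp [pow_two]
  have hidx : (H'.index : ℂ) = (Nat.card H : ℂ)⁻¹ * (Nat.card T : ℂ) := by
    rw [Cfsg.Agent.Lib.Helper19.index_eq_div H', Nat.card_congr e.toEquiv]
  have hnorm : classInner (∑ ψ : IrrCharacter T, (f ψ : ℂ) • indFun T (ψ : T → ℂ))
      (∑ ψ : IrrCharacter T, (f ψ : ℂ) • indFun T (ψ : T → ℂ))
      = ((∑ ψ : IrrCharacter T, (f ψ) ^ 2 : ℕ) : ℂ) := by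
    rw [← hexpG, Cfsg.Agent.S0854.norm_ind H θ hθ T hT, n1, hidx]
  have hF0 : ∀ ψ : IrrCharacter T, indFun T (ψ : T → ℂ) ≠ 0 := by
    intro ψ h0
    have h1 := congrFun h0 1
    rw [indFun_apply_one, Pi.zero_apply] at h1
    rcases mul_eq_zero.mp h1 with h2 | h2
    · have : T.index ≠ 0 := Subgroup.index_ne_zero_of_finite
      exact this (by exact_mod_cast h2)
    · exact irr_one_ne_zero ψ.2 h2
  obtain ⟨hirr, horth⟩ := irr_of_norm_eq f (fun ψ : IrrCharacter T => indFun T (ψ : T → ℂ))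
    (fun ψ => isCharacter_indFun T _ (isCharacter_of_isIrrCharacter ψ.2)) hF0 hnorm
  have hfψ : f ⟨ψ, hψ⟩ ≠ 0 := by
    intro h
    apply hc
    have := hf ⟨ψ, hψ⟩
    rw [h] at this
    simpa using this
  have hfψ' : f ⟨ψ', hψ'⟩ ≠ 0 := by
    intro h
    apply hc'
    have := hf ⟨ψ', hψ'⟩
    rw [h] at this
    simpa using this
  refine ⟨hirr ⟨ψ, hψ⟩ hfψ, ?_⟩
  intro heq
  by_contra hne
  have h1 := horth ⟨ψ, hψ⟩ ⟨ψ', hψ'⟩ hfψ hfψ' (fun h => hne (congrArg Subtype.val h).symm)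
  simp only at h1
  rw [← heq, classInner_irr_self (hirr ⟨ψ, hψ⟩ hfψ)] at h1
  exact one_ne_zero h1

end Cfsg.Agent.S1489
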