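import Cfsg.Statements.S1600
import Cfsg.Agent.Lib.Helper34.M12Base

set_option autoImplicit false
open scoped Pointwise
open Cfsg

namespace Cfsg.Agent.S1600

open Cfsg.Agent.Lib.Helper33 Cfsg.Agent.Lib.Helper34 in
/-- transversal of the stabiliser of the base dodecad and three of its points on the complement -/
def m9T : ℕ := 0x2ccea5b1c9b448d7d506a42f2188202ce27bb6b25a9267d20c70ec44082089e65a496873d3055c66b32ad2082051cb3acaec73c868adb0b2283488205deb478d4c2ba49b1e068926868820000000000000000000000000000000ad2d7541e33ada974ccc2a23220820000000000000000000000000000000b2eb42b4e99b870bc584521e6908203aa65aa6c3a3c888ae0db99cc908200000000000000000000000000000000000000000000000000000000000007cd47bb2b0b44662ba4da256820820752f68c2683ac8cabe4928d4668820000000000000000000000000000000000000000000000000000000000000a56f6510b28ada874d867a4e380820000000000000000000000000000000bdab49ca307b9ac5a928398a418820000000000000000000000000000000000000000000000000000000000000000000000000000000000000000000000000000000000000000000000000000000000000000000000000000000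

open Cfsg.Agent.Lib.Helper33 Cfsg.Agent.Lib.Helper34 in
set_option maxRecDepth 1000000 in
theorem m9T_ok : transOK Cfsg.Agent.Lib.Helper9.D0 [2, 1, 0] m9T 5 (Cfsg.Agent.Lib.Helper9.D0 ^^^ 0xFFFFFF) = true := by
  decide +kernel

/-- The pointwise stabiliser of three points of a dodecad inside the dodecad stabiliser (order 72) is transitive on the complementary dodecad. -/
theorem result (d : Finset Cfsg.GolayPt) (hd : d ∈ Cfsg.dodecads) (p q r : Cfsg.GolayPt) (hp : p ∈ d) (hq : q ∈ d) (hr : r ∈ d) (hpq : p ≠ q) (hpr : p ≠ r) (hqr : q ≠ r) : Nat.card ↥(MulAction.stabilizer Cfsg.M24 d ⊓ MulAction.stabilizer Cfsg.M24 p ⊓ MulAction.stabilizer Cfsg.M24 q ⊓ MulAction.stabilizer Cfsg.M24 r) = 72 ∧ ∀ x ∉ d, ∀ y ∉ d, ∃ g ∈ (MulAction.stabilizer Cfsg.M24 d ⊓ MulAction.stabilizer Cfsg.M24 p ⊓ MulAction.stabilizer Cfsg.M24 q ⊓ MulAction.stabilizer Cfsg.M24 r), ((g : ↥Cfsg.M24) : Equiv.Perm Cfsg.GolayPt) x = y := by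
  obtain ⟨x, hxd, hx⟩ := Cfsg.Agent.Lib.Helper34.exists_emb d 5 (by rw [hd.2]; norm_num) [p, q, r]
    (by simp [hpq, hpr, hqr]) (by simp [hp, hq, hr]) (by simp)
  obtain ⟨u, hu, hud, hux⟩ := Cfsg.Agent.Lib.Helper9.dod5_to_base hd x hxd
  have e0 : u p = Cfsg.Agent.Lib.Helper33.pt 0 := by
    have h1 := hux 0
    have h2 := hx 0 (by simp)
    rw [h2] at h1; exact h1
  have e1 : u q = Cfsg.Agent.Lib.Helper33.pt 1 := by
    have h1 := hux 1
    have h2 := hx 1 (by simp)
    rw [h2] at h1; exact h1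
  have e2 : u r = Cfsg.Agent.Lib.Helper33.pt 2 := by
    have h1 := hux 2
    have h2 := hx 2 (by simp)
    rw [h2] at h1; exact h1
  have key : ∀ g : ↥Cfsg.M24, g ∈ (MulAction.stabilizer Cfsg.M24 d ⊓ MulAction.stabilizer Cfsg.M24 p ⊓
      MulAction.stabilizer Cfsg.M24 q ⊓ MulAction.stabilizer Cfsg.M24 r) ↔
      u * g.1 * u⁻¹ ∈ Cfsg.Agent.Lib.Helper9.fixL Cfsg.Agent.Lib.Helper9.H12 [2, 1, 0] := by
    intro g
    have := Cfsg.Agent.Lib.Helper34.conj_mem_fixL_iff hu g.2 hud [2, 1, 0]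
      (fun i => if i = 0 then p else if i = 1 then q else r) (by
        intro i hi
        simp only [List.mem_cons, List.not_mem_nil, or_false] at hi
        rcases hi with rfl | rfl | rfl
        · simpa using e2
        · simpa using e1
        · simpa using e0)
    refine Iff.trans ?_ this.symm
    constructor
    · rintro ⟨⟨⟨h1, h2⟩, h3⟩, h4⟩
      refine ⟨h1, ?_⟩
      intro i hi
      simp only [List.mem_cons, List.not_mem_nil, or_false] at hi
      rcases hi with rfl | rfl | rfl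
      · exact h4
      · exact h3
      · exact h2
    · rintro ⟨h1, h2⟩
      exact ⟨⟨⟨h1, h2 0 (by simp)⟩, h2 1 (by simp)⟩, h2 2 (by simp)⟩
  have hle : Cfsg.Agent.Lib.Helper9.fixL Cfsg.Agent.Lib.Helper9.H12 [2, 1, 0] ≤ Cfsg.M24 :=
    fun g hg => hg.1.1
  refine ⟨?_, ?_⟩
  · rw [Nat.card_congr (Cfsg.Agent.Lib.Helper34.conjEquiv hle hu key).toEquiv]
    exact Cfsg.Agent.Lib.Helper9.m12_cards.2.2.1
  · intro a ha b hb
    have ha' : u a ∈ Cfsg.Agent.Lib.Helper33.unmask (Cfsg.Agent.Lib.Helper9.D0 ^^^ 0xFFFFFF) := by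
      rw [← Cfsg.Agent.Lib.Helper34.notMem_unmask_iff, ← hud]
      exact Cfsg.Agent.Lib.Helper9.smul_notMem_of_notMem ha
    have hb' : u b ∈ Cfsg.Agent.Lib.Helper33.unmask (Cfsg.Agent.Lib.Helper9.D0 ^^^ 0xFFFFFF) := by
      rw [← Cfsg.Agent.Lib.Helper34.notMem_unmask_iff, ← hud]
      exact Cfsg.Agent.Lib.Helper9.smul_notMem_of_notMem hb
    obtain ⟨t, ht, hta⟩ := Cfsg.Agent.Lib.Helper34.trans_of_transversal
      (Cfsg.Agent.Lib.Helper34.transOK_spec (by decide) (by decide) m9T_ok) ha' hb'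
    have htM : u⁻¹ * t * u ∈ Cfsg.M24 :=
      Cfsg.M24.mul_mem (Cfsg.M24.mul_mem (Cfsg.M24.inv_mem hu) (hle ht)) hu
    refine ⟨⟨u⁻¹ * t * u, htM⟩, (key _).2 ?_, ?_⟩
    · have : u * (u⁻¹ * t * u) * u⁻¹ = t := by group
      show u * (u⁻¹ * t * u) * u⁻¹ ∈ _
      rw [this]; exact ht
    · show (u⁻¹ * t * u) a = b
      rw [Equiv.Perm.mul_apply, Equiv.Perm.mul_apply, hta, Equiv.Perm.inv_eq_iff_eq]

end Cfsg.Agent.S1600
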