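import Cfsg.Statements.S1615
import Cfsg.Agent.Lib.Helper91.TTS5
import Cfsg.Agent.Lib.Helper91.TTFischer

set_option autoImplicit false
open Cfsg Cfsg.Agent.Lib.Helper91

namespace Cfsg.Agent.S1615

/-- If O(⟨D_x⟩) is not central in ⟨D_x⟩ for some transposition x, the 3-transposition group is the symmetric group of degree 5. -/
theorem result {G : Type*} [Group G] [Finite G] (hsol : ∀ N : Subgroup G, N.Normal → Group.IsSolvable ↥N → N = ⊥) (hperf : ⁅commutator G, commutator G⁆ = commutator G) {D : Set G} (hD : Cfsg.IsThreeTranspositionClass D) (x : G) (hx : x ∈ D) (h : ¬ Cfsg.oddCore ↥(Subgroup.closure {y : G | y ∈ D ∧ y ≠ x ∧ Commute x y}) ≤ Subgroup.center ↥(Subgroup.closure {y : G | y ∈ D ∧ y ≠ x ∧ Commute x y})) : Nonempty (G ≃* Equiv.Perm (Fin 5)) := by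
  have hG := tt_class_toGroup hD
  obtain ⟨e, f, hne, w⟩ := exists_wrel_of_oddCore (D := D) (x := x) hG.1 hG.2.1 h
  have hprim := primitive_of_fischer hsol hperf hD ⟨x, hx, e, w.1.1, w.1.2.1.symm⟩
  obtain ⟨e', f', a, C⟩ := exists_cfg hG hprim hx w hne
  exact iso_S5_of_cfg hG hprim C

end Cfsg.Agent.S1615
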