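import Cfsg.Statements.S1907
-- import your own Cfsg.Agent.* helpers here
import Cfsg.Agent.Lib.Helper14.RelSylow

set_option autoImplicit false
open Cfsg

namespace Cfsg.Agent.S1907

open Cfsg.Agent.Lib.Helper14 in
theorem factor_lemma {G : Type*} [Group G] [Finite G] {p : ℕ} [Fact p.Prime]
    (D : Subgroup G) [hDn : D.Normal] (hD : (Nat.card D).Coprime p) (H : Subgroup G)
    (hH : IsPGroup p H) {y : G} (hy : y ∈ Subgroup.normalizer (H : Set G))
    (hyp : IsPGroup p (Subgroup.zpowers y)) {d : G} (hd : d ∈ D)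
    (hdy : d⁻¹ * y * d ∈ Subgroup.normalizer (H : Set G)) :
    ∃ d₁ ∈ D ⊓ Subgroup.centralizer ({y} : Set G),
      ∃ d₂ ∈ D ⊓ Subgroup.centralizer (H : Set G), d = d₁ * d₂ := by
  set X : Subgroup G := Subgroup.zpowers y ⊔ H with hX
  have hXp : IsPGroup p X :=
    IsPGroup.to_sup_of_normal_right' hyp hH (Subgroup.zpowers_le.mpr hy)
  set y' := d⁻¹ * y * d with hy'
  have hyp' : IsPGroup p (Subgroup.zpowers y') := by
    have : Subgroup.zpowers y' = (Subgroup.zpowers y).map (MulAut.conj d⁻¹).toMonoidHom := by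
      rw [MonoidHom.map_zpowers]
      simp [hy']
    rw [this]
    exact hyp.map _
  set X' : Subgroup G := Subgroup.zpowers y' ⊔ H with hX'
  have hXp' : IsPGroup p X' :=
    IsPGroup.to_sup_of_normal_right' hyp' hH (Subgroup.zpowers_le.mpr hdy)
  have hyX : y ∈ X := (le_sup_left : Subgroup.zpowers y ≤ X) (Subgroup.mem_zpowers y)
  have hHX : H ≤ X := le_sup_right
  have hX'le : X' ≤ X ⊔ D := by
    rw [hX', sup_le_iff]
    refine ⟨?_, hHX.trans le_sup_left⟩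
    rw [Subgroup.zpowers_le]
    have hdm : d ∈ X ⊔ D := (le_sup_right : D ≤ X ⊔ D) hd
    exact mul_mem (mul_mem (inv_mem hdm) ((le_sup_left : X ≤ X ⊔ D) hyX)) hdm
  obtain ⟨h, hh, hle⟩ := exists_conj_le_of_relIndex (H := X ⊔ D) (R := X) (Q := X') hXp
    (not_dvd_relIndex_sup X D hD) hX'le hXp'
  obtain ⟨x₀, hx₀, e, he, rfl⟩ := Subgroup.mem_sup_of_normal_right.mp hh
  have hconj : ∀ w ∈ X', e * w * e⁻¹ ∈ X := by
    intro w hw
    have h1 : (MulAut.conj (x₀ * e)).toMonoidHom w ∈ X := hle (Subgroup.mem_map_of_mem _ hw)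
    have h2 : x₀ * e * w * (x₀ * e)⁻¹ ∈ X := h1
    have h3 := X.mul_mem (X.mul_mem (X.inv_mem hx₀) h2) hx₀
    have : x₀⁻¹ * (x₀ * e * w * (x₀ * e)⁻¹) * x₀ = e * w * e⁻¹ := by group
    rwa [this] at h3
  have htriv : ∀ z ∈ X, z ∈ D → z = 1 := by
    intro z hzX hzD
    obtain ⟨k, hk⟩ := hXp ⟨z, hzX⟩
    have hk' : z ^ p ^ k = 1 := by simpa using congrArg Subtype.val hk
    have h4 : z ^ (Nat.card D) = 1 := by
      have h9 := pow_card_eq_one' (G := D) (x := ⟨z, hzD⟩)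
      have h10 := congrArg Subtype.val h9
      rwa [Subgroup.coe_pow, Subgroup.coe_one] at h10
    have h1 : orderOf z ∣ Nat.card D := orderOf_dvd_of_pow_eq_one h4
    have h2 : orderOf z ∣ p ^ k := orderOf_dvd_of_pow_eq_one hk'
    have h3 : orderOf z = 1 := Nat.eq_one_of_dvd_coprimes (hD.pow_right k) h1 h2
    exact orderOf_eq_one_iff.1 h3
  -- e centralizes H
  have heH : e ∈ Subgroup.centralizer (H : Set G) := by
    rw [Subgroup.mem_centralizer_iff]
    intro a ha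
    have h1 := hconj a ((le_sup_right : H ≤ X') ha)
    have h2 : a⁻¹ * (e * a * e⁻¹) ∈ X := X.mul_mem (X.inv_mem (hHX ha)) h1
    have h3 : a⁻¹ * (e * a * e⁻¹) ∈ D := by
      have : a⁻¹ * (e * a * e⁻¹) = (a⁻¹ * e * a⁻¹⁻¹) * e⁻¹ := by group
      rw [this]
      exact D.mul_mem (hDn.conj_mem e he a⁻¹) (D.inv_mem he)
    have h4 := htriv _ h2 h3
    calc a * e = a * (a⁻¹ * (e * a * e⁻¹)) * e := by rw [h4]; group
      _ = e * a := by group
  have hyy : y⁻¹ * (e * y' * e⁻¹) = 1 := by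
    have h1 := hconj y' ((le_sup_left : Subgroup.zpowers y' ≤ X') (Subgroup.mem_zpowers y'))
    have h2 : y⁻¹ * (e * y' * e⁻¹) ∈ X := X.mul_mem (X.inv_mem hyX) h1
    have h3 : y⁻¹ * (e * y' * e⁻¹) ∈ D := by
      have : y⁻¹ * (e * y' * e⁻¹) = (y⁻¹ * (e * d⁻¹) * y⁻¹⁻¹) * (d * e⁻¹) := by
        rw [hy']; group
      rw [this]
      exact D.mul_mem (hDn.conj_mem _ (D.mul_mem he (D.inv_mem hd)) y⁻¹)
        (D.mul_mem hd (D.inv_mem he))
    exact htriv _ h2 h3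
  refine ⟨d * e⁻¹, Subgroup.mem_inf.mpr ⟨D.mul_mem hd (D.inv_mem he), ?_⟩, e, ⟨he, heH⟩, by group⟩
  rw [Subgroup.mem_centralizer_singleton_iff]
  have h5 : e * y' * e⁻¹ = y := by
    calc e * y' * e⁻¹ = y * (y⁻¹ * (e * y' * e⁻¹)) := by group
      _ = y := by rw [hyy, mul_one]
  calc d * e⁻¹ * y = d * e⁻¹ * (e * y' * e⁻¹) := by rw [h5]
    _ = y * (d * e⁻¹) := by rw [hy']; group


/-- Let P be a Sylow p-subgroup of a finite group G, H = P ∩ O_{p',p}(G), N = N_G(H) and D = O_{p'}(G). (a) If y is an element of p-power order of N and d ∈ D with d⁻¹ y d ∈ N, then d = d₁ d₂ with d₁ ∈ C_D(y) and d₂ ∈ C_D(H). (b) Two elements of P that are conjugate in G are conjugate in N. -/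
theorem result {G : Type*} [Group G] [Finite G] {p : ℕ} [Fact p.Prime] (P : Sylow p G) :
    (∀ y ∈ Subgroup.normalizer (((P : Subgroup G) ⊓ Cfsg.pPrimePCore p G : Subgroup G) : Set G), (∃ k : ℕ, orderOf y = p ^ k) →
      ∀ d ∈ Cfsg.pPrimeCore p G, d⁻¹ * y * d ∈ Subgroup.normalizer (((P : Subgroup G) ⊓ Cfsg.pPrimePCore p G : Subgroup G) : Set G) →
        ∃ d₁ ∈ Cfsg.pPrimeCore p G ⊓ Subgroup.centralizer ({y} : Set G),
          ∃ d₂ ∈ Cfsg.pPrimeCore p G ⊓ Subgroup.centralizer (((P : Subgroup G) ⊓ Cfsg.pPrimePCore p G : Subgroup G) : Set G), d = d₁ * d₂) ∧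
    ∀ x y : G, x ∈ (P : Subgroup G) → y ∈ (P : Subgroup G) → IsConj x y →
      ∃ n ∈ Subgroup.normalizer (((P : Subgroup G) ⊓ Cfsg.pPrimePCore p G : Subgroup G) : Set G), n * x * n⁻¹ = y := by
  classical
  have hp : p.Prime := Fact.out
  set D := Cfsg.pPrimeCore p G with hDdef
  have hDn : D.Normal := inferInstance
  have hD : (Nat.card D).Coprime p := Cfsg.Agent.Lib.Helper14.card_pPrimeCore_coprime
  set H : Subgroup G := (P : Subgroup G) ⊓ Cfsg.pPrimePCore p G with hHdef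
  have hH : IsPGroup p H := P.2.to_le inf_le_left
  have hpel : ∀ y : G, (∃ k : ℕ, orderOf y = p ^ k) → IsPGroup p (Subgroup.zpowers y) := by
    rintro y ⟨k, hk⟩
    apply IsPGroup.of_card (n := k)
    rw [Nat.card_zpowers, hk]
  have partA : ∀ y ∈ Subgroup.normalizer (H : Set G), IsPGroup p (Subgroup.zpowers y) →
      ∀ d ∈ D, d⁻¹ * y * d ∈ Subgroup.normalizer (H : Set G) →
        ∃ d₁ ∈ D ⊓ Subgroup.centralizer ({y} : Set G),
          ∃ d₂ ∈ D ⊓ Subgroup.centralizer (H : Set G), d = d₁ * d₂ := by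
    intro y hy hyp d hd hdy
    exact factor_lemma D hD H hH hy hyp hd hdy
  refine ⟨fun y hy hyk d hd hdy => partA y hy (hpel y hyk) d hd hdy, ?_⟩
  intro x y hx hy hxy
  obtain ⟨g, hg⟩ := isConj_iff.mp hxy
  -- image of H is the p-core of the quotient
  let π := QuotientGroup.mk' D
  have hπ : Function.Surjective π := QuotientGroup.mk'_surjective D
  have hHmap : H.map π = Cfsg.pCore p (G ⧸ D) := by
    apply le_antisymm
    · rintro _ ⟨a, ha, rfl⟩
      exact ha.2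
    · intro z hz
      have h1 := Cfsg.Agent.Lib.Helper14.pCore_le_sylow (P.mapSurjective hπ) hz
      rw [Sylow.coe_mapSurjective] at h1
      obtain ⟨a, ha, rfl⟩ := h1
      exact ⟨a, ⟨ha, hz⟩, rfl⟩
  have hnorm : π g ∈ Subgroup.normalizer ((H.map π : Subgroup (G ⧸ D)) : Set (G ⧸ D)) := by
    rw [hHmap, Subgroup.normalizer_eq_top]
    exact Subgroup.mem_top _
  obtain ⟨n, hn, hng⟩ := Cfsg.Agent.Lib.Helper14.exists_mem_normalizer_lift D hD hH hnorm
  -- g = n * d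
  set d := n⁻¹ * g with hd
  have hdD : d ∈ D := by
    apply (QuotientGroup.eq_one_iff _).mp
    change π (n⁻¹ * g) = 1
    have hng' : π n = π g := hng
    rw [map_mul, map_inv, hng']; group
  have hPN : (P : Subgroup G) ≤ Subgroup.normalizer (H : Set G) := by
    intro a ha
    rw [Subgroup.mem_normalizer_iff]
    intro u
    have hKn : (Cfsg.pPrimePCore p G).Normal := by
      unfold Cfsg.pPrimePCore; infer_instance
    constructor
    · intro h12
      obtain ⟨h1, h2⟩ := Subgroup.mem_inf.mp h12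
      exact Subgroup.mem_inf.mpr ⟨mul_mem (mul_mem ha h1) (inv_mem ha), hKn.conj_mem u h2 a⟩
    · intro h12
      obtain ⟨h1, h2⟩ := Subgroup.mem_inf.mp h12
      refine Subgroup.mem_inf.mpr ⟨?_, ?_⟩
      · have := mul_mem (mul_mem (inv_mem ha) h1) ha
        simpa [mul_assoc] using this
      · have := hKn.conj_mem _ h2 a⁻¹
        simpa [mul_assoc] using this
  have hxp : IsPGroup p (Subgroup.zpowers x) := P.2.to_le (Subgroup.zpowers_le.mpr hx)
  have hdx : (d⁻¹)⁻¹ * x * d⁻¹ ∈ Subgroup.normalizer (H : Set G) := by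
    have h1 : (d⁻¹)⁻¹ * x * d⁻¹ = n⁻¹ * y * n := by
      rw [← hg, hd]; group
    rw [h1]
    exact mul_mem (mul_mem (inv_mem hn) (hPN hy)) hn
  obtain ⟨d₁, hd₁, d₂, hd₂, hdd⟩ := partA x (hPN hx) hxp d⁻¹ (D.inv_mem hdD) hdx
  refine ⟨n * d₂⁻¹, mul_mem hn (inv_mem (Subgroup.centralizer_le_normalizer _ hd₂.2)), ?_⟩
  have hc : d₁ * x = x * d₁ := Subgroup.mem_centralizer_singleton_iff.mp hd₁.2
  have hgd : g = n * (d₁ * d₂)⁻¹ := by
    rw [← hdd, hd]; group
  rw [← hg, hgd]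
  have : n * (d₁ * d₂)⁻¹ * x * (n * (d₁ * d₂)⁻¹)⁻¹ = n * d₂⁻¹ * (d₁⁻¹ * (x * d₁)) * d₂ * n⁻¹ := by
    group
  rw [this, ← hc]
  group

end Cfsg.Agent.S1907
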