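import Cfsg.Statements.S1910
-- import your own Cfsg.Agent.* helpers here
import Cfsg.Agent.Lib.Helper39.SylowRel
import Cfsg.Agent.Lib.Helper57.SylowNormal
import Cfsg.Agent.Lib.Helper58.SylowConj

set_option autoImplicit false
open Cfsg

namespace Cfsg.Agent.S1910

open Cfsg.Agent.Lib.Helper39

def Tight {G : Type*} [Group G] (Q : Subgroup G) : Prop :=
  ∀ x t : G, t ∈ Q → t ∈ cj x Q → t ≠ 1 → (∃ k : ℕ, t ^ 2 ^ k = 1) →
    x ∈ Subgroup.normalizer (Q : Set G)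

theorem eq_one_of_odd {G : Type*} [Group G] [Finite G] {U : Subgroup G} (hU : Odd (Nat.card U))
    {t : G} (ht : t ∈ U) {k : ℕ} (hk : t ^ 2 ^ k = 1) : t = 1 := by
  have h1 : orderOf t ∣ Nat.card U := by
    have := orderOf_dvd_natCard (⟨t, ht⟩ : U)
    rwa [Subgroup.orderOf_mk] at this
  have h2 : orderOf t ∣ 2 ^ k := orderOf_dvd_of_pow_eq_one hk
  have h3 : (Nat.card U).Coprime (2 ^ k) := Nat.Coprime.pow_right k (Nat.coprime_two_right.mpr hU)
  exact orderOf_eq_one_iff.1 (Nat.eq_one_of_dvd_coprimes h3 h1 h2)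

theorem tight_of {G : Type*} [Group G] [Finite G] {Q : Subgroup G}
    (hQ : Cfsg.IsTightlyEmbedded Q) : Tight Q := by
  rintro x t ht1 ht2 hne ⟨k, hk⟩
  by_contra hx
  exact hne (eq_one_of_odd (hQ.2 x hx) (Subgroup.mem_inf.mpr ⟨ht1, ht2⟩) hk)

theorem Tight.conj {G : Type*} [Group G] {Q : Subgroup G} (h : Tight Q) (g : G) :
    Tight (cj g Q) := by
  rintro x t ht1 ht2 hne ⟨k, hk⟩
  have h1 : g⁻¹ * t * g ∈ Q := mem_cj.mp ht1
  have h2 : g⁻¹ * t * g ∈ cj (g⁻¹ * x * g) Q := by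
    rw [mem_cj]
    have := mem_cj.mp (mem_cj.mp ht2)
    convert this using 1
    group
  have h3 := h (g⁻¹ * x * g) (g⁻¹ * t * g) h1 h2
    (by
      intro h0
      apply hne
      calc t = g * (g⁻¹ * t * g) * g⁻¹ := by group
        _ = 1 := by rw [h0]; group)
    ⟨k, by
      have : g⁻¹ * t * g = g⁻¹ * t * (g⁻¹)⁻¹ := by simp
      rw [this, conj_pow, hk]; simp⟩
  rw [← cj_normalizer, mem_cj]
  exact h3

theorem relSylow_inf {G : Type*} [Group G] [Finite G] {p : ℕ} [Fact p.Prime] {S Q M : Subgroup G}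
    (hQM : Q ≤ M) (hMN : M ≤ Subgroup.normalizer (Q : Set G)) (hS : IsPGroup p S)
    (hidx : ¬ p ∣ S.relIndex M) : ¬ p ∣ (S ⊓ Q).relIndex Q := by
  have hS' : IsPGroup p (S.subgroupOf M) := hS.comap_subtype
  let S' : Sylow p M := hS'.toSylow hidx
  have : (Q.subgroupOf M).Normal := (Subgroup.normal_subgroupOf_iff_le_normalizer hQM).mpr hMN
  have h := Cfsg.Agent.Lib.Helper57.not_dvd_relIndex_inf_normal S' (Q.subgroupOf M)
  have h2 : ((S' : Subgroup M) ⊓ Q.subgroupOf M) = (S ⊓ Q).subgroupOf M := by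
    ext z
    simp only [Subgroup.mem_inf, Subgroup.mem_subgroupOf]
    rfl
  rw [h2, Subgroup.relIndex_subgroupOf hQM] at h
  exact h

theorem comm_TR {G : Type*} [Group G] {Q T S : Subgroup G}
    (hB1 : ∀ t ∈ T, t ∈ Q → t = 1)
    (hTN : T ≤ Subgroup.normalizer (Q : Set G)) :
    ∀ t ∈ T, ∀ r ∈ S ⊓ Subgroup.normalizer (T : Set G) ⊓ Q, t * r = r * t := by
  intro t ht r hr
  obtain ⟨hr1, hrQ⟩ := Subgroup.mem_inf.mp hr
  obtain ⟨hrS, hrN⟩ := Subgroup.mem_inf.mp hr1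
  have h1 : t * (r * t⁻¹ * r⁻¹) ∈ T :=
    T.mul_mem ht ((Subgroup.mem_normalizer_iff.mp hrN _).mp (T.inv_mem ht))
  have h2 : t * (r * t⁻¹ * r⁻¹) ∈ Q := by
    have : t * (r * t⁻¹ * r⁻¹) = (t * r * t⁻¹) * r⁻¹ := by group
    rw [this]
    exact Q.mul_mem ((Subgroup.mem_normalizer_iff.mp (hTN ht) _).mp hrQ) (Q.inv_mem hrQ)
  have h3 := hB1 _ h1 h2
  calc t * r = (t * (r * t⁻¹ * r⁻¹)) * (r * t) := by group
    _ = r * t := by rw [h3, one_mul]

theorem decomp_A {G : Type*} [Group G] {Q T S : Subgroup G}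
    (hTN : T ≤ Subgroup.normalizer (Q : Set G)) (hTS : T ≤ S) (hS : S ≤ Q ⊔ T) :
    ∀ a ∈ S ⊓ Subgroup.normalizer (T : Set G),
      ∃ r ∈ S ⊓ Subgroup.normalizer (T : Set G) ⊓ Q, ∃ t ∈ T, a = r * t := by
  intro a ha
  obtain ⟨haS, haN⟩ := Subgroup.mem_inf.mp ha
  have h1 : a ∈ ((Q ⊔ T : Subgroup G) : Set G) := hS haS
  rw [Subgroup.coe_mul_of_right_le_normalizer_left Q T hTN, Set.mem_mul] at h1
  obtain ⟨q, hq, t, ht, rfl⟩ := h1
  have hq' : q = q * t * t⁻¹ := by group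
  refine ⟨q, Subgroup.mem_inf.mpr ⟨Subgroup.mem_inf.mpr ⟨?_, ?_⟩, hq⟩, t, ht, rfl⟩
  · rw [hq']; exact S.mul_mem haS (S.inv_mem (hTS ht))
  · rw [hq']; exact mul_mem haN (inv_mem (Subgroup.le_normalizer ht))

theorem lemL {G : Type*} [Group G] [Finite G] {Q Q' : Subgroup G}
    (hodd : ∀ t ∈ Q, t ∈ Q' → (∃ k : ℕ, t ^ 2 ^ k = 1) → t = 1) (ht' : Tight Q')
    (c : G) (hc : cj c Q' = Q) {T S : Subgroup G} (hTQ' : T ≤ Q')
    (hTN : T ≤ Subgroup.normalizer (Q : Set G)) (hTS : T ≤ S) (hS : S ≤ Q ⊔ T)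
    (hS2 : IsPGroup 2 S) (hSsyl : ¬ 2 ∣ S.relIndex (Q ⊔ T)) :
    ∃ f : T →* ↥(S ⊓ Subgroup.normalizer (T : Set G) ⊓ Q), Function.Injective f := by
  classical
  have : Fact (Nat.Prime 2) := ⟨Nat.prime_two⟩
  have two_el : ∀ s ∈ S, ∃ k : ℕ, s ^ 2 ^ k = 1 := by
    intro s hs
    obtain ⟨k, hk⟩ := hS2 ⟨s, hs⟩
    exact ⟨k, by simpa using congrArg Subtype.val hk⟩
  have hB1 : ∀ t ∈ T, t ∈ Q → t = 1 := fun t ht hq => hodd t hq (hTQ' ht) (two_el t (hTS ht))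
  have hB2 := comm_TR (S := S) hB1 hTN
  have hB3 := decomp_A hTN hTS hS
  set A := S ⊓ Subgroup.normalizer (T : Set G) with hA
  set R := A ⊓ Q with hR
  have hT2 : IsPGroup 2 T := hS2.to_le hTS
  have hMN : Q ⊔ T ≤ Subgroup.normalizer (Q : Set G) := sup_le Subgroup.le_normalizer hTN
  by_cases hcase : S ≤ Subgroup.normalizer (T : Set G)
  · -- case A = S
    have hsyl : ¬ 2 ∣ (S ⊓ Q).relIndex Q := relSylow_inf le_sup_left hMN hS2 hSsyl
    have hcT : cj c T ≤ Q := by rw [← hc]; exact cj_mono c hTQ'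
    obtain ⟨h, hh, hle⟩ := exists_conj_le_of_relIndex (H := Q) (R := S ⊓ Q) (Q := cj c T)
      inf_le_right (hS2.to_le inf_le_left) hsyl hcT (isPGroup_cj c hT2)
    have hmem : ∀ t : T, (MulAut.conj (h * c)).toMonoidHom.comp T.subtype t ∈ R := by
      intro t
      have h1 : h * (c * t * c⁻¹) * h⁻¹ ∈ S ⊓ Q := hle (conj_mem_cj (conj_mem_cj t.2))
      have h2 : (MulAut.conj (h * c)).toMonoidHom.comp T.subtype t = h * (c * t * c⁻¹) * h⁻¹ := by
        simp [MulAut.conj_apply, mul_assoc]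
      rw [h2]
      obtain ⟨h3, h4⟩ := Subgroup.mem_inf.mp h1
      exact Subgroup.mem_inf.mpr ⟨Subgroup.mem_inf.mpr ⟨h3, hcase h3⟩, h4⟩
    refine ⟨((MulAut.conj (h * c)).toMonoidHom.comp T.subtype).codRestrict R hmem, ?_⟩
    intro a b hab
    have h1 := congrArg Subtype.val hab
    simp only [MonoidHom.codRestrict_apply] at h1
    have h2 : (MulAut.conj (h * c)) (a : G) = (MulAut.conj (h * c)) (b : G) := h1
    exact Subtype.ext ((MulAut.conj (h * c)).injective h2)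
  · -- case A < S
    have hAS : A < S := by
      refine lt_of_le_of_ne inf_le_left ?_
      intro h
      apply hcase
      rw [← h]; exact inf_le_right
    obtain ⟨x, hxS, hxA, hxN⟩ := Cfsg.Agent.Lib.Helper58.exists_normalizing_not_mem S A hS2 hAS
    have hTA : T ≤ A := le_inf hTS Subgroup.le_normalizer
    have hxT : x ∉ Subgroup.normalizer (T : Set G) := fun h => hxA (Subgroup.mem_inf.mpr ⟨hxS, h⟩)
    have hconjA : ∀ t ∈ T, x * t * x⁻¹ ∈ A := fun t ht =>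
      (Subgroup.mem_normalizer_iff.mp hxN t).mp (hTA ht)
    have hdisj : ∀ t ∈ T, x * t * x⁻¹ ∈ T → t = 1 := by
      intro t ht htx
      by_contra hne
      have hne' : x * t * x⁻¹ ≠ 1 := by
        intro h0
        apply hne
        calc t = x⁻¹ * (x * t * x⁻¹) * x := by group
          _ = 1 := by rw [h0]; group
      have hxQ' : x ∈ Subgroup.normalizer (Q' : Set G) :=
        ht' x (x * t * x⁻¹) (hTQ' htx) (conj_mem_cj (hTQ' ht)) hne' (two_el _ (hTS htx))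
      apply hxT
      apply mem_normalizer_of_cj_eq
      apply cj_eq_of_le
      intro s hs
      rw [mem_cj] at hs
      -- s = x s' x⁻¹
      set s' := x⁻¹ * s * x with hs'
      have hs_eq : s = x * s' * x⁻¹ := by rw [hs']; group
      have h1 : s ∈ A := by rw [hs_eq]; exact hconjA s' hs
      have h2 : s ∈ Q' := by
        rw [hs_eq]; exact (Subgroup.mem_normalizer_iff.mp hxQ' s').mp (hTQ' hs)
      obtain ⟨r, hr, t₁, ht₁, hrt⟩ := hB3 s h1
      have hr_eq : r = s * t₁⁻¹ := by rw [hrt]; group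
      have hrQ' : r ∈ Q' := by rw [hr_eq]; exact Q'.mul_mem h2 (Q'.inv_mem (hTQ' ht₁))
      have hr1 : r = 1 := hodd r (Subgroup.mem_inf.mp hr).2 hrQ'
        (two_el r (Subgroup.mem_inf.mp (Subgroup.mem_inf.mp hr).1).1)
      rw [hrt, hr1, one_mul]; exact ht₁
    -- the projection
    have hex : ∀ t : T, ∃ r : R, (r : G)⁻¹ * (x * t * x⁻¹) ∈ T := by
      intro t
      obtain ⟨r, hr, t₁, ht₁, hrt⟩ := hB3 _ (hconjA t t.2)
      refine ⟨⟨r, hr⟩, ?_⟩
      rw [hrt]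
      simpa using ht₁
    choose f hf using hex
    have huniq : ∀ (r r' : R) (a : G), (r : G)⁻¹ * a ∈ T → (r' : G)⁻¹ * a ∈ T → r = r' := by
      intro r r' a h1 h2
      have h3 : (r : G)⁻¹ * r' ∈ T := by
        have := T.mul_mem h1 (T.inv_mem h2)
        have e : (r : G)⁻¹ * a * ((r' : G)⁻¹ * a)⁻¹ = (r : G)⁻¹ * r' := by group
        rwa [e] at this
      have h4 : (r : G)⁻¹ * r' ∈ Q :=
        Q.mul_mem (Q.inv_mem (Subgroup.mem_inf.mp r.2).2) (Subgroup.mem_inf.mp r'.2).2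
      have h5 := hB1 _ h3 h4
      apply Subtype.ext
      calc (r : G) = r * ((r : G)⁻¹ * r') := by rw [h5, mul_one]
        _ = r' := by group
    have hmul : ∀ a b : T, f (a * b) = f a * f b := by
      intro a b
      apply huniq _ _ (x * ((a * b : T) : G) * x⁻¹) (hf (a * b))
      have h1 := hf a
      have h2 := hf b
      set ta := ((f a : R) : G)⁻¹ * (x * a * x⁻¹) with hta
      set tb := ((f b : R) : G)⁻¹ * (x * b * x⁻¹) with htb
      have hcomm : ta * (f b : G) = (f b : G) * ta := hB2 ta h1 _ (f b).2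
      have e : (((f a * f b : R)) : G)⁻¹ * (x * ((a * b : T) : G) * x⁻¹) = ta * tb := by
        have e1 : x * a * x⁻¹ = (f a : G) * ta := by rw [hta]; group
        have e2 : x * b * x⁻¹ = (f b : G) * tb := by rw [htb]; group
        calc (((f a * f b : R)) : G)⁻¹ * (x * ((a * b : T) : G) * x⁻¹)
            = ((f a : G) * (f b : G))⁻¹ * ((x * a * x⁻¹) * (x * b * x⁻¹)) := by
              rw [Subgroup.coe_mul, Subgroup.coe_mul]; group
          _ = ((f a : G) * (f b : G))⁻¹ * (((f a : G) * ta) * ((f b : G) * tb)) := by rw [e1, e2]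
          _ = ((f a : G) * (f b : G))⁻¹ * ((f a : G) * (ta * (f b : G)) * tb) := by group
          _ = ((f a : G) * (f b : G))⁻¹ * ((f a : G) * ((f b : G) * ta) * tb) := by rw [hcomm]
          _ = ta * tb := by group
      rw [e]
      exact T.mul_mem h1 h2
    refine ⟨MonoidHom.mk' f hmul, ?_⟩
    rw [injective_iff_map_eq_one]
    intro a ha
    have ha' : f a = 1 := ha
    have h1 := hf a
    rw [ha'] at h1
    have h2 : x * a * x⁻¹ ∈ T := by simpa using h1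
    exact Subtype.ext (hdisj a a.2 h2)


/-- Let Q be a tightly embedded subgroup of a finite group G, g an element outside N_G(Q), T a nontrivial Sylow 2-subgroup of Q^g ∩ N_G(Q), and S a Sylow 2-subgroup of QT containing T. Then T ∩ Q = 1, and N_S(T) is the direct product of T and N_S(T) ∩ Q, with N_S(T) ∩ Q isomorphic to T. -/
theorem result {G : Type*} [Group G] [Finite G] (Q : Subgroup G) (hQ : Cfsg.IsTightlyEmbedded Q)
    (g : G) (hg : g ∉ Subgroup.normalizer (Q : Set G))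
    (T : Subgroup G) (hT1 : T ≠ ⊥) (hT : T ≤ Q.map (MulAut.conj g).toMonoidHom ⊓ Subgroup.normalizer (Q : Set G))
    (hTsyl : IsPGroup 2 T ∧ ¬ 2 ∣ T.relIndex (Q.map (MulAut.conj g).toMonoidHom ⊓ Subgroup.normalizer (Q : Set G)))
    (S : Subgroup G) (hTS : T ≤ S) (hS : S ≤ Q ⊔ T) (hSsyl : IsPGroup 2 S ∧ ¬ 2 ∣ S.relIndex (Q ⊔ T)) :
    T ⊓ Q = ⊥ ∧
      T ⊓ (S ⊓ Subgroup.normalizer (T : Set G) ⊓ Q) = ⊥ ∧
      ⁅T, S ⊓ Subgroup.normalizer (T : Set G) ⊓ Q⁆ = ⊥ ∧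
      T ⊔ (S ⊓ Subgroup.normalizer (T : Set G) ⊓ Q) = S ⊓ Subgroup.normalizer (T : Set G) ∧
      Nonempty (↥(S ⊓ Subgroup.normalizer (T : Set G) ⊓ Q) ≃* T) := by
  classical
  have : Fact (Nat.Prime 2) := ⟨Nat.prime_two⟩
  set Q' := cj g Q with hQ'
  obtain ⟨hT2, hTidx⟩ := hTsyl
  obtain ⟨hS2, hSidx⟩ := hSsyl
  have hTQ' : T ≤ Q' := hT.trans inf_le_left
  have hTN : T ≤ Subgroup.normalizer (Q : Set G) := hT.trans inf_le_right
  have htQ : Tight Q := tight_of hQ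
  have htQ' : Tight Q' := htQ.conj g
  have hodd : ∀ t ∈ Q, t ∈ Q' → (∃ k : ℕ, t ^ 2 ^ k = 1) → t = 1 := by
    rintro t h1 h2 ⟨k, hk⟩
    exact eq_one_of_odd (hQ.2 g hg) (Subgroup.mem_inf.mpr ⟨h1, h2⟩) hk
  have two_el : ∀ {U : Subgroup G}, IsPGroup 2 U → ∀ s ∈ U, ∃ k : ℕ, s ^ 2 ^ k = 1 := by
    intro U hU s hs
    obtain ⟨k, hk⟩ := hU ⟨s, hs⟩
    exact ⟨k, by simpa using congrArg Subtype.val hk⟩
  have hB1 : ∀ t ∈ T, t ∈ Q → t = 1 := fun t ht hq => hodd t hq (hTQ' ht) (two_el hT2 t ht)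
  have hB2 := comm_TR (S := S) hB1 hTN
  have hB3 := decomp_A hTN hTS hS
  set R := S ⊓ Subgroup.normalizer (T : Set G) ⊓ Q with hR
  have hRQ : R ≤ Q := inf_le_right
  have hR2 : IsPGroup 2 R := hS2.to_le (inf_le_left.trans inf_le_left)
  have hTQ : T ⊓ Q = ⊥ := by
    rw [eq_bot_iff]
    intro t ht
    obtain ⟨h1, h2⟩ := Subgroup.mem_inf.mp ht
    exact Subgroup.mem_bot.mpr (hB1 t h1 h2)
  refine ⟨hTQ, ?_, ?_, ?_, ?_⟩
  · rw [eq_bot_iff, ← hTQ]
    exact inf_le_inf_left T hRQ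
  · rw [eq_bot_iff, Subgroup.commutator_le]
    intro t ht r hr
    rw [Subgroup.mem_bot, commutatorElement_eq_one_iff_mul_comm]
    exact hB2 t ht r hr
  · apply le_antisymm
    · exact sup_le (le_inf hTS Subgroup.le_normalizer) inf_le_left
    · intro a ha
      obtain ⟨r, hr, t, ht, rfl⟩ := hB3 a ha
      exact mul_mem ((le_sup_right : R ≤ T ⊔ R) hr) ((le_sup_left : T ≤ T ⊔ R) ht)
  · obtain ⟨f, hf⟩ := lemL hodd htQ' g⁻¹ (by rw [hQ', cj_inv_cj]) hTQ' hTN hTS hS hS2 hSidx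
    have hcard1 : Nat.card T ≤ Nat.card R := Nat.card_le_card_of_injective f hf
    -- R normalizes Q'
    obtain ⟨t₀, ht₀, ht₀1⟩ : ∃ t ∈ T, t ≠ 1 := by
      by_contra hcon
      push Not at hcon
      apply hT1
      rw [eq_bot_iff]
      intro t ht
      exact Subgroup.mem_bot.mpr (hcon t ht)
    have hRN : R ≤ Subgroup.normalizer (Q' : Set G) := by
      intro r hr
      apply htQ' r t₀ (hTQ' ht₀) _ ht₀1 (two_el hT2 t₀ ht₀)
      have h1 : t₀ = r * t₀ * r⁻¹ := by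
        rw [← hB2 t₀ ht₀ r hr]; group
      rw [h1]
      exact conj_mem_cj (hTQ' ht₀)
    -- a Sylow 2-subgroup of Q' ⊔ R containing R
    obtain ⟨S₁, hRS₁, hS₁le, hS₁2, hS₁idx⟩ : ∃ S₁ : Subgroup G, R ≤ S₁ ∧ S₁ ≤ Q' ⊔ R ∧
        IsPGroup 2 S₁ ∧ ¬ 2 ∣ S₁.relIndex (Q' ⊔ R) := by
      have h1 : IsPGroup 2 (R.subgroupOf (Q' ⊔ R)) := hR2.comap_subtype
      obtain ⟨P, hP⟩ := h1.exists_le_sylow
      refine ⟨(P : Subgroup ↥(Q' ⊔ R)).map (Q' ⊔ R).subtype, ?_, ?_, ?_, ?_⟩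
      · intro r hr
        exact ⟨⟨r, (le_sup_right : R ≤ Q' ⊔ R) hr⟩, hP (Subgroup.mem_subgroupOf.mpr hr), rfl⟩
      · exact Subgroup.map_subtype_le _
      · exact P.2.map _
      · rw [Subgroup.relIndex, Subgroup.subgroupOf,
          Subgroup.comap_map_eq_self_of_injective (Q' ⊔ R).subtype_injective]
        exact P.not_dvd_index
    have hodd' : ∀ t ∈ Q', t ∈ Q → (∃ k : ℕ, t ^ 2 ^ k = 1) → t = 1 :=
      fun t h1 h2 h3 => hodd t h2 h1 h3
    obtain ⟨f₁, hf₁⟩ := lemL hodd' htQ g rfl hRQ hRN hRS₁ hS₁le hS₁2 hS₁idx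
    have hcard2 := Nat.card_le_card_of_injective f₁ hf₁
    clear hf₁ f₁
    set R₁ := S₁ ⊓ Subgroup.normalizer (R : Set G) ⊓ Q' with hR₁
    have hR₁2 : IsPGroup 2 R₁ := hS₁2.to_le (inf_le_left.trans inf_le_left)
    -- R ≠ 1
    obtain ⟨r₀, hr₀, hr₀1⟩ : ∃ r ∈ R, r ≠ 1 := by
      refine ⟨f ⟨t₀, ht₀⟩, (f ⟨t₀, ht₀⟩).2, ?_⟩
      intro h0
      have h1 : f ⟨t₀, ht₀⟩ = 1 := Subtype.ext h0
      have h2 := (injective_iff_map_eq_one f).mp hf _ h1
      exact ht₀1 (congrArg Subtype.val h2)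
    have hB1' : ∀ t ∈ R, t ∈ Q' → t = 1 := fun t ht hq => hodd t (hRQ ht) hq (two_el hR2 t ht)
    have hB2' := comm_TR (S := S₁) hB1' hRN
    have hR₁N : R₁ ≤ Subgroup.normalizer (Q : Set G) := by
      intro r hr
      apply htQ r r₀ (hRQ hr₀) _ hr₀1 (two_el hR2 r₀ hr₀)
      have h1 : r₀ = r * r₀ * r⁻¹ := by
        rw [← hB2' r₀ hr₀ r hr]; group
      rw [h1]
      exact conj_mem_cj (hRQ hr₀)
    have hR₁le : R₁ ≤ Q' ⊓ Subgroup.normalizer (Q : Set G) := le_inf inf_le_right hR₁N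
    obtain ⟨h, hh, hle⟩ := exists_conj_le_of_relIndex hT hT2 hTidx hR₁le hR₁2
    have hcard3 : Nat.card R₁ ≤ Nat.card T := by
      rw [← card_cj h R₁]
      exact Nat.card_le_card_of_injective _ (Subgroup.inclusion_injective hle)
    have hcard : Nat.card T = Nat.card R := le_antisymm hcard1 (hcard2.trans hcard3)
    have hbij : Function.Bijective f := (Nat.bijective_iff_injective_and_card f).mpr ⟨hf, hcard⟩
    exact ⟨(MulEquiv.ofBijective f hbij).symm⟩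

end Cfsg.Agent.S1910
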