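import Cfsg.Statements.S1921
-- import your own Cfsg.Agent.* helpers here
import Cfsg.Agent.Lib.Helper27.Layer

set_option autoImplicit false
open Cfsg

namespace Cfsg.Agent.S1921

open Cfsg.Agent.Lib.Helper27

/-- Let a be an involution of a finite group H and L a component of H with a L a⁻¹ ≠ L; put M = ⟨L, aLa⁻¹⟩ and let J be the subgroup generated by the elements x · a x a⁻¹ with x ∈ L (the diagonal). Then every element of M outside J·Z(M) generates M together with J. -/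
theorem result {H : Type*} [Group H] [Finite H] (a : H) (ha : orderOf a = 2) (L : Subgroup H) (hL : Cfsg.IsComponent L)
    (hLa : L.map (MulAut.conj a).toMonoidHom ≠ L) (x : H) (hxM : x ∈ L ⊔ L.map (MulAut.conj a).toMonoidHom)
    (hxJ : x ∉ Subgroup.closure {y : H | ∃ l ∈ L, y = l * (a * l * a⁻¹)} ⊔
      ((L ⊔ L.map (MulAut.conj a).toMonoidHom) ⊓ Subgroup.centralizer ((L ⊔ L.map (MulAut.conj a).toMonoidHom : Subgroup H) : Set H))) :
    Subgroup.closure {y : H | ∃ l ∈ L, y = l * (a * l * a⁻¹)} ⊔ Subgroup.zpowers x = L ⊔ L.map (MulAut.conj a).toMonoidHom := by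
  obtain ⟨L', hL'⟩ : ∃ L', L' = L.map (MulAut.conj a).toMonoidHom := ⟨_, rfl⟩
  obtain ⟨J, hJ⟩ : ∃ J, J = Subgroup.closure {y : H | ∃ l ∈ L, y = l * (a * l * a⁻¹)} := ⟨_, rfl⟩
  rw [← hL'] at hLa hxM hxJ ⊢
  rw [← hJ] at hxJ ⊢
  have hcomm : ⁅L, L'⁆ = ⊥ := by
    rw [hL']
    exact comp_comm_of_ne hL (comp_conj hL a) (by rw [← hL']; exact hLa.symm)
  have hc : ∀ l ∈ L, ∀ b ∈ L', l * b = b * l := fun l hl b hb => commute_of_comm_eq_bot hcomm hl hb
  have hconj : ∀ l ∈ L, a * l * a⁻¹ ∈ L' := by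
    intro l hl
    rw [hL']
    exact ⟨l, hl, rfl⟩
  have hδ : ∀ l ∈ L, l * (a * l * a⁻¹) ∈ J := by
    intro l hl
    rw [hJ]
    exact Subgroup.subset_closure ⟨l, hl, rfl⟩
  apply le_antisymm
  · apply sup_le
    · rw [hJ, Subgroup.closure_le]
      rintro y ⟨l, hl, rfl⟩
      exact (L ⊔ L').mul_mem (Subgroup.mem_sup_left hl) (Subgroup.mem_sup_right (hconj l hl))
    · rwa [Subgroup.zpowers_le]
  · obtain ⟨l1, hl1, b, hb, hx⟩ := (mem_sup_of_comm hcomm).mp hxM
    obtain ⟨l2, hl2, hb2⟩ : ∃ l2 ∈ L, a * l2 * a⁻¹ = b := by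
      rw [hL'] at hb
      obtain ⟨l2, hl2, h⟩ := hb
      exact ⟨l2, hl2, h⟩
    have hJY : J ≤ J ⊔ Subgroup.zpowers x := le_sup_left
    have hxY : x ∈ J ⊔ Subgroup.zpowers x := Subgroup.mem_sup_right (Subgroup.mem_zpowers x)
    have hu : l1 * l2⁻¹ = x * (l2 * (a * l2 * a⁻¹))⁻¹ := by
      rw [← hx, hb2]; group
    have huL : l1 * l2⁻¹ ∈ L := L.mul_mem hl1 (L.inv_mem hl2)
    have huY : l1 * l2⁻¹ ∈ J ⊔ Subgroup.zpowers x := by
      rw [hu]
      exact Subgroup.mul_mem _ hxY (Subgroup.inv_mem _ (hJY (hδ l2 hl2)))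
    have hnorm : L ≤ Subgroup.normalizer ((L ⊓ (J ⊔ Subgroup.zpowers x) : Subgroup H) : Set H) := by
      rw [Subgroup.le_normalizer_iff]
      intro l hl n hn
      refine ⟨L.mul_mem (L.mul_mem hl hn.1) (L.inv_mem hl), ?_⟩
      have e : l * n * l⁻¹ = (l * (a * l * a⁻¹)) * n * (l * (a * l * a⁻¹))⁻¹ := by
        have h1 := hc n hn.1 _ (hconj l hl)
        calc l * n * l⁻¹ = l * (n * (a * l * a⁻¹)) * (a * l * a⁻¹)⁻¹ * l⁻¹ := by group
          _ = l * ((a * l * a⁻¹) * n) * (a * l * a⁻¹)⁻¹ * l⁻¹ := by rw [h1]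
          _ = (l * (a * l * a⁻¹)) * n * (l * (a * l * a⁻¹))⁻¹ := by group
      rw [e]
      exact Subgroup.mul_mem _ (Subgroup.mul_mem _ (hJY (hδ l hl)) hn.2)
        (Subgroup.inv_mem _ (hJY (hδ l hl)))
    rcases qs_sub_normal hL.2 inf_le_left hnorm with h | h
    · have hLY : L ≤ J ⊔ Subgroup.zpowers x := by
        rw [← h]; exact inf_le_right
      apply sup_le hLY
      intro b' hb'
      rw [hL'] at hb'
      obtain ⟨l, hl, rfl⟩ := hb'
      have e : (MulAut.conj a).toMonoidHom l = l⁻¹ * (l * (a * l * a⁻¹)) := by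
        change a * l * a⁻¹ = _
        group
      rw [e]
      exact Subgroup.mul_mem _ (Subgroup.inv_mem _ (hLY hl)) (hJY (hδ l hl))
    · exfalso
      apply hxJ
      have hxe : x = (l2 * (a * l2 * a⁻¹)) * (l1 * l2⁻¹) := by
        rw [← hx, hb2]
        have h1 := hc l1 hl1 b hb
        have h2 := hc l2⁻¹ (L.inv_mem hl2) b hb
        have h3 : l2 * l1 = l1 * l2 := by
          have h4 := commute_of_comm_eq_bot h (⟨huL, huY⟩ : l1 * l2⁻¹ ∈ L ⊓ (J ⊔ Subgroup.zpowers x)) hl2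
          calc l2 * l1 = l2 * (l1 * l2⁻¹) * l2 := by group
            _ = (l1 * l2⁻¹ * l2) * l2 := by rw [← h4]
            _ = l1 * l2 := by group
        calc l1 * b = b * l1 := h1
          _ = b * (l1 * l2) * l2⁻¹ := by group
          _ = b * (l2 * l1) * l2⁻¹ := by rw [h3]
          _ = (b * l2) * (l1 * l2⁻¹) := by group
          _ = (l2 * b) * (l1 * l2⁻¹) := by rw [hc l2 hl2 b hb]
      rw [hxe]
      refine Subgroup.mul_mem _ (Subgroup.mem_sup_left (hδ l2 hl2)) (Subgroup.mem_sup_right ?_)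
      refine ⟨Subgroup.mem_sup_left huL, ?_⟩
      have hle : L ⊔ L' ≤ Subgroup.centralizer ({l1 * l2⁻¹} : Set H) := by
        apply sup_le
        · intro l hl
          rw [Subgroup.mem_centralizer_singleton_iff]
          exact (commute_of_comm_eq_bot h
            (⟨huL, huY⟩ : l1 * l2⁻¹ ∈ L ⊓ (J ⊔ Subgroup.zpowers x)) hl).symm
        · intro b' hb'
          rw [Subgroup.mem_centralizer_singleton_iff]
          exact (hc _ huL b' hb').symm
      change l1 * l2⁻¹ ∈ Subgroup.centralizer ((L ⊔ L' : Subgroup H) : Set H)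
      rw [Subgroup.mem_centralizer_iff]
      intro m hm
      exact Subgroup.mem_centralizer_singleton_iff.mp (hle hm)

end Cfsg.Agent.S1921
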