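import Cfsg.Statements.S1922
-- import your own Cfsg.Agent.* helpers here
import Cfsg.Agent.Lib.Helper38.Invol
import Cfsg.Agent.Lib.Helper39.SylowRel

set_option autoImplicit false
open Cfsg

namespace Cfsg.Agent.S1922

open Cfsg.Agent.Lib.Helper26 Cfsg.Agent.Lib.Helper38 Cfsg.Agent.Lib.Helper39

section
variable {G : Type*} [Group G] {z : G} {H : Subgroup G}

theorem conj_mem_iff (h0 : ∀ g : G, z ∈ H.map (MulAut.conj g).toMonoidHom ↔ g ∈ H) (g : G) :
    g * z * g⁻¹ ∈ H ↔ g ∈ H := by
  have := h0 g⁻¹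
  rw [show H.map (MulAut.conj g⁻¹).toMonoidHom = cj g⁻¹ H from rfl, mem_cj, inv_inv] at this
  rw [this]; exact H.inv_mem_iff

theorem z_mem (h0 : ∀ g : G, z ∈ H.map (MulAut.conj g).toMonoidHom ↔ g ∈ H) : z ∈ H := by
  have := (conj_mem_iff h0 1).mpr H.one_mem
  simpa using this

theorem mem_of_comm (h0 : ∀ g : G, z ∈ H.map (MulAut.conj g).toMonoidHom ↔ g ∈ H) {c : G}
    (hc : c * z = z * c) : c ∈ H := by
  apply (conj_mem_iff h0 c).mp
  rw [hc, mul_assoc, mul_inv_cancel, mul_one]
  exact z_mem h0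

theorem L1 (h1 : ∀ t : G, IsConj z t → t ≠ z → t * z = z * t →
      ∀ g : G, z * t ∈ H.map (MulAut.conj g).toMonoidHom ↔ g ∈ H)
    (k t' : G) (ht' : IsConj z t') (hne : t' ≠ k * z * k⁻¹)
    (hcomm : t' * (k * z * k⁻¹) = (k * z * k⁻¹) * t') (g : G) :
    g⁻¹ * ((k * z * k⁻¹) * t') * g ∈ H ↔ k⁻¹ * g ∈ H := by
  have h := h1 (k⁻¹ * t' * k) (ht'.trans (isConj_iff.mpr ⟨k⁻¹, by group⟩))
    (by
      intro h
      apply hne
      rw [← h]; group)
    (by
      calc k⁻¹ * t' * k * z = k⁻¹ * (t' * (k * z * k⁻¹)) * k := by group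
        _ = k⁻¹ * ((k * z * k⁻¹) * t') * k := by rw [hcomm]
        _ = z * (k⁻¹ * t' * k) := by group) (k⁻¹ * g)
  rw [show H.map (MulAut.conj (k⁻¹ * g)).toMonoidHom = cj (k⁻¹ * g) H from rfl, mem_cj] at h
  rw [← h]
  have e : (k⁻¹ * g)⁻¹ * (z * (k⁻¹ * t' * k)) * (k⁻¹ * g) = g⁻¹ * (k * z * k⁻¹ * t') * g := by group
  rw [e]

theorem L1' (h0 : ∀ g : G, z ∈ H.map (MulAut.conj g).toMonoidHom ↔ g ∈ H)
    (h1 : ∀ t : G, IsConj z t → t ≠ z → t * z = z * t →
      ∀ g : G, z * t ∈ H.map (MulAut.conj g).toMonoidHom ↔ g ∈ H)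
    (k t' : G) (ht' : IsConj z t') (hne : t' ≠ k * z * k⁻¹)
    (hcomm : t' * (k * z * k⁻¹) = (k * z * k⁻¹) * t') (k' : G)
    (hw : ((k * z * k⁻¹) * t') * (k' * z * k'⁻¹) = (k' * z * k'⁻¹) * ((k * z * k⁻¹) * t')) :
    k⁻¹ * k' ∈ H := by
  apply (L1 h1 k t' ht' hne hcomm k').mp
  apply mem_of_comm h0
  calc k'⁻¹ * (k * z * k⁻¹ * t') * k' * z
      = k'⁻¹ * ((k * z * k⁻¹ * t') * (k' * z * k'⁻¹)) * k' := by group
    _ = k'⁻¹ * ((k' * z * k'⁻¹) * (k * z * k⁻¹ * t')) * k' := by rw [hw]
    _ = z * (k'⁻¹ * (k * z * k⁻¹ * t') * k') := by group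

theorem L2 [Finite G] (hz : orderOf z = 2) (h0 : ∀ g : G, z ∈ H.map (MulAut.conj g).toMonoidHom ↔ g ∈ H)
    (h1 : ∀ t : G, IsConj z t → t ≠ z → t * z = z * t →
      ∀ g : G, z * t ∈ H.map (MulAut.conj g).toMonoidHom ↔ g ∈ H)
    (k k' : G) (hkk : k⁻¹ * k' ∉ H) : Odd (orderOf ((k * z * k⁻¹) * (k' * z * k'⁻¹))) := by
  obtain ⟨d, hd⟩ : ∃ d, d = k * z * k⁻¹ := ⟨_, rfl⟩
  obtain ⟨e, he⟩ : ∃ e, e = k' * z * k'⁻¹ := ⟨_, rfl⟩
  rw [← hd, ← he]
  have hd2 : orderOf d = 2 := by rw [hd, orderOf_conj_eq, hz]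
  have he2 : orderOf e = 2 := by rw [he, orderOf_conj_eq, hz]
  have hdd := invol_mul_self hd2
  have hee := invol_mul_self he2
  by_contra hodd
  rw [Nat.not_odd_iff_even] at hodd
  obtain ⟨j, hj⟩ := hodd
  have hpos := orderOf_pos (d * e)
  obtain ⟨hw2, hwd, hwe⟩ := dihedral_central d e hdd hee j (by omega) (by omega)
  obtain ⟨w, hw⟩ : ∃ w, w = (d * e) ^ j := ⟨_, rfl⟩
  rw [← hw] at hw2 hwd hwe
  have hw1 : w ≠ 1 := invol_ne_one hw2
  rcases Nat.even_or_odd' j with ⟨i, hi | hi⟩
  · have hx := dih_conj_pow d e hdd hee i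
    rw [← hi, ← hw] at hx
    have hdt : d * (w * d) = w := by rw [← mul_assoc, ← hwd.eq, mul_assoc, hdd, mul_one]
    apply hkk
    apply L1' h0 h1 k (w * d)
    · rw [← hx, hd]
      exact isConj_iff.mpr ⟨(k * z * k⁻¹ * e) ^ i * k, by group⟩
    · rw [← hd]
      intro h
      exact hw1 (mul_eq_right.mp h)
    · rw [← hd, hdt, mul_assoc, hdd, mul_one]
    · rw [← hd, ← he, hdt]
      exact hwe.eq
  · have hx := dih_conj_pow d e hdd hee i
    have hwe' : w * e = (d * e) ^ (2 * i) * d := by
      rw [hw, hi, pow_succ, mul_assoc, mul_assoc d e e, hee, mul_one]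
    rw [← hwe'] at hx
    have het : e * (w * e) = w := by rw [← mul_assoc, ← hwe.eq, mul_assoc, hee, mul_one]
    have hmem : k'⁻¹ * k ∈ H := by
      apply L1' h0 h1 k' (w * e)
      · rw [← hx, hd]
        exact isConj_iff.mpr ⟨(k * z * k⁻¹ * e) ^ i * k, by group⟩
      · rw [← he]
        intro h
        exact hw1 (mul_eq_right.mp h)
      · rw [← he, het, mul_assoc, hee, mul_one]
      · rw [← hd, ← he, het]
        exact hwd.eq
    apply hkk
    have e1 : k⁻¹ * k' = (k'⁻¹ * k)⁻¹ := by group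
    rw [e1]; exact H.inv_mem hmem

theorem L2' [Finite G] (hz : orderOf z = 2) (h0 : ∀ g : G, z ∈ H.map (MulAut.conj g).toMonoidHom ↔ g ∈ H)
    (h1 : ∀ t : G, IsConj z t → t ≠ z → t * z = z * t →
      ∀ g : G, z * t ∈ H.map (MulAut.conj g).toMonoidHom ↔ g ∈ H)
    (f : G) (hf : IsConj z f) (hfH : f ∉ H) : Odd (orderOf (z * f)) := by
  obtain ⟨k, rfl⟩ := isConj_iff.mp hf
  have hk : k ∉ H := fun h => hfH ((conj_mem_iff h0 k).mpr h)
  have := L2 hz h0 h1 1 k (by simpa using hk)
  simpa using this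

end


/-- Let z be an involution of a finite group G and H a proper subgroup such that z lies in gHg⁻¹ exactly when g ∈ H. Then the following are equivalent: (1) for every conjugate t ≠ z of z commuting with z, the product zt lies in gHg⁻¹ exactly when g ∈ H; (2) z lies in the centre of some Sylow 2-subgroup of G, and for every conjugate t ≠ z of z commuting with z, the centralizer of zt is contained in H. -/
theorem result {G : Type*} [Group G] [Finite G] (z : G) (hz : orderOf z = 2) (H : Subgroup G) (hH : H ≠ ⊤)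
    (h0 : ∀ g : G, z ∈ H.map (MulAut.conj g).toMonoidHom ↔ g ∈ H) :
    (∀ t : G, IsConj z t → t ≠ z → t * z = z * t → ∀ g : G, z * t ∈ H.map (MulAut.conj g).toMonoidHom ↔ g ∈ H) ↔
      ((∃ P : Sylow 2 G, z ∈ (Subgroup.center ↥(P : Subgroup G)).map (P : Subgroup G).subtype) ∧
        ∀ t : G, IsConj z t → t ≠ z → t * z = z * t → Subgroup.centralizer ({z * t} : Set G) ≤ H) := by
  have hzH : z ∈ H := z_mem h0
  have hzz : z * z = 1 := invol_mul_self hz
  have hzinv : z⁻¹ = z := invol_inv hz
  constructor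
  · intro h1
    refine ⟨?_, ?_⟩
    · classical
      have := Fintype.ofFinite G
      obtain ⟨g0, hg0⟩ : ∃ g0, g0 ∉ H := by
        by_contra hcon
        push Not at hcon
        exact hH ((Subgroup.eq_top_iff' H).mpr hcon)
      obtain ⟨f0, hf0⟩ : ∃ f0, f0 = g0 * z * g0⁻¹ := ⟨_, rfl⟩
      have hf0H : f0 ∉ H := fun h => hg0 ((conj_mem_iff h0 g0).mp (hf0 ▸ h))
      have hf02 : orderOf f0 = 2 := by rw [hf0, orderOf_conj_eq, hz]
      have hf0f0 : f0 * f0 = 1 := invol_mul_self hf02
      have hf0inv : f0⁻¹ = f0 := invol_inv hf02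
      have hf0c : IsConj z f0 := isConj_iff.mpr ⟨g0, hf0.symm⟩
      have hinvol : ∀ f, IsConj z f → orderOf f = 2 := by
        intro f hf
        obtain ⟨k, rfl⟩ := isConj_iff.mp hf
        rw [orderOf_conj_eq, hz]
      let D : Finset G := Finset.univ.filter (fun d => IsConj z d)
      let F : Finset G := Finset.univ.filter (fun f => IsConj z f ∧ f0 * f ∈ H)
      have hFodd : Odd F.card := by
        apply odd_card_of_involution F (fun f => f0 * f * f0⁻¹) f0
        · simp only [F, Finset.mem_filter, Finset.mem_univ, true_and]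
          exact ⟨hf0c, by rw [hf0f0]; exact H.one_mem⟩
        · group
        · intro f hf
          simp only [F, Finset.mem_filter, Finset.mem_univ, true_and] at hf ⊢
          refine ⟨hf.1.trans (isConj_iff.mpr ⟨f0, rfl⟩), ?_⟩
          have e : f0 * (f0 * f * f0⁻¹) = (f0 * f)⁻¹ := by
            rw [mul_inv_rev, invol_inv (hinvol f hf.1), ← mul_assoc, ← mul_assoc, hf0f0, one_mul]
          rw [e]; exact H.inv_mem hf.2
        · intro f _
          change f0 * (f0 * f * f0⁻¹) * f0⁻¹ = f
          calc f0 * (f0 * f * f0⁻¹) * f0⁻¹ = (f0 * f0) * f * (f0 * f0)⁻¹ := by group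
            _ = f := by rw [hf0f0]; group
        · intro f hf hfix
          simp only [F, Finset.mem_filter, Finset.mem_univ, true_and] at hf
          by_contra hne
          apply hg0
          have hcomm : f * f0 = f0 * f := by
            calc f * f0 = (f0 * f * f0⁻¹) * f0 := by rw [hfix]
              _ = f0 * f := by group
          have := (L1 h1 g0 f hf.1 (by rw [← hf0]; exact hne) (by rw [← hf0]; exact hcomm) 1).mp
            (by rw [← hf0]; simpa using hf.2)
          simpa using this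
      have hcard : F.card = (D.filter (fun d => d ∈ H)).card := by
        apply Finset.card_bij (fun f _ => (f0 * f) * z * (f0 * f)⁻¹)
        · intro f hf
          simp only [F, D, Finset.mem_filter, Finset.mem_univ, true_and] at hf ⊢
          exact ⟨isConj_iff.mpr ⟨_, rfl⟩, H.mul_mem (H.mul_mem hf.2 hzH) (H.inv_mem hf.2)⟩
        · intro f hf f' hf' heq
          simp only [F, Finset.mem_filter, Finset.mem_univ, true_and] at hf hf'
          have hfH : ∀ f, f0 * f ∈ H → f ∉ H := by
            intro f h1 h2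
            apply hf0H
            have e : f0 = (f0 * f) * f⁻¹ := by group
            rw [e]; exact H.mul_mem h1 (H.inv_mem h2)
          have h2 : f * z * f⁻¹ = f' * z * f'⁻¹ := by
            calc f * z * f⁻¹ = f0⁻¹ * ((f0 * f) * z * (f0 * f)⁻¹) * f0 := by group
              _ = f0⁻¹ * ((f0 * f') * z * (f0 * f')⁻¹) * f0 := by rw [heq]
              _ = f' * z * f'⁻¹ := by group
          rw [invol_inv (hinvol f hf.1), invol_inv (hinvol f' hf'.1)] at h2
          have h3 : (z * f) ^ 2 = (z * f') ^ 2 := by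
            calc (z * f) ^ 2 = z * (f * z * f) := by rw [pow_two]; group
              _ = z * (f' * z * f') := by rw [h2]
              _ = (z * f') ^ 2 := by rw [pow_two]; group
          have h4 := eq_of_sq_eq_of_odd (L2' hz h0 h1 f hf.1 (hfH f hf.2))
            (L2' hz h0 h1 f' hf'.1 (hfH f' hf'.2)) h3
          exact mul_left_cancel h4
        · intro d hd
          simp only [D, Finset.mem_filter, Finset.mem_univ, true_and] at hd
          obtain ⟨hdc, hdH⟩ := hd
          have he'c : IsConj z (f0 * d * f0⁻¹) := hdc.trans (isConj_iff.mpr ⟨f0, rfl⟩)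
          have he'H : f0 * d * f0⁻¹ ∉ H := by
            obtain ⟨h, rfl⟩ := isConj_iff.mp hdc
            have hh : h ∈ H := (conj_mem_iff h0 h).mp hdH
            intro hmem
            have e : f0 * (h * z * h⁻¹) * f0⁻¹ = (f0 * h) * z * (f0 * h)⁻¹ := by group
            rw [e, conj_mem_iff h0] at hmem
            apply hf0H
            have e2 : f0 = (f0 * h) * h⁻¹ := by group
            rw [e2]; exact H.mul_mem hmem (H.inv_mem hh)
          have hodd := L2' hz h0 h1 _ he'c he'H
          obtain ⟨y, hy⟩ := exists_conj_invol_of_odd z (f0 * d * f0⁻¹) hzz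
            (invol_mul_self (hinvol _ he'c)) hodd
          have hval : (f0 * (y * z * y⁻¹)) * z * (f0 * (y * z * y⁻¹))⁻¹ = d := by
            calc (f0 * (y * z * y⁻¹)) * z * (f0 * (y * z * y⁻¹))⁻¹
                = f0 * ((y * z * y⁻¹) * z * (y * z * y⁻¹)⁻¹) * f0⁻¹ := by group
              _ = f0 * (f0 * d * f0⁻¹) * f0⁻¹ := by rw [hy]
              _ = (f0 * f0) * d * (f0 * f0)⁻¹ := by group
              _ = d := by rw [hf0f0]; group
          refine ⟨y * z * y⁻¹, ?_, hval⟩
          simp only [F, Finset.mem_filter, Finset.mem_univ, true_and]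
          refine ⟨isConj_iff.mpr ⟨y, rfl⟩, ?_⟩
          apply (conj_mem_iff h0 _).mp
          rw [hval]; exact hdH
      have hout : Even (D.filter (fun d => ¬ d ∈ H)).card := by
        apply even_card_of_involution _ (fun d => z * d * z⁻¹)
        · intro d hd
          simp only [D, Finset.mem_filter, Finset.mem_univ, true_and] at hd ⊢
          refine ⟨hd.1.trans (isConj_iff.mpr ⟨z, rfl⟩), fun h => hd.2 ?_⟩
          have e : d = z⁻¹ * (z * d * z⁻¹) * z := by group
          rw [e]; exact H.mul_mem (H.mul_mem (H.inv_mem hzH) h) hzH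
        · intro d _
          change z * (z * d * z⁻¹) * z⁻¹ = d
          calc z * (z * d * z⁻¹) * z⁻¹ = (z * z) * d * (z * z)⁻¹ := by group
            _ = d := by rw [hzz]; group
        · intro d hd hfix
          simp only [D, Finset.mem_filter, Finset.mem_univ, true_and] at hd
          apply hd.2
          apply mem_of_comm h0
          calc d * z = (z * d * z⁻¹) * z := by rw [hfix]
            _ = z * d := by group
      have hDodd : Odd D.card := by
        rw [← Finset.card_filter_add_card_filter_not (s := D) (fun d => d ∈ H), ← hcard]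
        exact hFodd.add_even hout
      have hidx : Odd (Subgroup.centralizer ({z} : Set G)).index := by
        rw [← card_isConj_eq_index, Nat.card_eq_fintype_card, Fintype.card_subtype]
        exact hDodd
      have hzc : z ∈ Subgroup.centralizer ({z} : Set G) := by
        rw [Subgroup.mem_centralizer_singleton_iff]
      have hzp : IsPGroup 2 (Subgroup.zpowers (⟨z, hzc⟩ : Subgroup.centralizer ({z} : Set G))) :=
        IsPGroup.of_card (n := 1) (by rw [Nat.card_zpowers, Subgroup.orderOf_mk, hz, pow_one])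
      obtain ⟨Q, hQ⟩ := hzp.exists_le_sylow
      have hQp : IsPGroup 2 ((Q : Subgroup (Subgroup.centralizer ({z} : Set G))).map
          (Subgroup.centralizer ({z} : Set G)).subtype) := Q.2.map _
      have hQidx : ¬ 2 ∣ ((Q : Subgroup (Subgroup.centralizer ({z} : Set G))).map
          (Subgroup.centralizer ({z} : Set G)).subtype).index := by
        rw [Subgroup.index_map_subtype]
        intro h
        rcases (Nat.Prime.dvd_mul Nat.prime_two).mp h with h | h
        · exact Q.not_dvd_index h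
        · exact (Nat.not_even_iff_odd.mpr hidx) (even_iff_two_dvd.mpr h)
      refine ⟨hQp.toSylow hQidx, ?_⟩
      have hzQ : z ∈ (hQp.toSylow hQidx : Subgroup G) := by
        rw [IsPGroup.toSylow_coe]
        exact ⟨⟨z, hzc⟩, hQ (Subgroup.mem_zpowers _), rfl⟩
      refine ⟨⟨z, hzQ⟩, ?_, rfl⟩
      rw [SetLike.mem_coe, Subgroup.mem_center_iff]
      rintro ⟨s, hs⟩
      apply Subtype.ext
      change s * z = z * s
      rw [IsPGroup.toSylow_coe] at hs
      obtain ⟨s', -, rfl⟩ := hs
      exact (Subgroup.mem_centralizer_singleton_iff.mp s'.2)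
    · intro t ht hne hcomm c hc
      rw [Subgroup.mem_centralizer_singleton_iff] at hc
      have haH : z * t ∈ H := by
        have := (h1 t ht hne hcomm 1).mpr H.one_mem
        rw [show H.map (MulAut.conj (1 : G)).toMonoidHom = cj 1 H from rfl, cj_one] at this
        exact this
      apply (h1 t ht hne hcomm c).mp
      rw [show H.map (MulAut.conj c).toMonoidHom = cj c H from rfl, mem_cj]
      have e : c⁻¹ * (z * t) * c = z * t := by
        calc c⁻¹ * (z * t) * c = c⁻¹ * ((z * t) * c) := by group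
          _ = c⁻¹ * (c * (z * t)) := by rw [hc]
          _ = z * t := by group
      rw [e]; exact haH
  · rintro ⟨⟨P, hP⟩, hcent⟩ t ht hne hcomm g
    have htH : t ∈ H := mem_of_comm h0 hcomm
    have haH : z * t ∈ H := H.mul_mem hzH htH
    have ht2 : orderOf t = 2 := by
      obtain ⟨k, rfl⟩ := isConj_iff.mp ht
      rw [orderOf_conj_eq, hz]
    have htt : t * t = 1 := invol_mul_self ht2
    rw [show H.map (MulAut.conj g).toMonoidHom = cj g H from rfl, mem_cj]
    constructor
    · intro hmem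
      have hPH : (P : Subgroup G) ≤ H := by
        intro s hs
        apply mem_of_comm h0
        obtain ⟨c, hc, hcz⟩ := hP
        have := (Subgroup.mem_center_iff.mp hc) ⟨s, hs⟩
        have h2 := congrArg (fun x : (P : Subgroup G) => (x : G)) this
        have hcz' : (c : G) = z := hcz
        simp only [Subgroup.coe_mul, hcz'] at h2
        exact h2
      have ha2 : (z * t) * (z * t) = 1 := by
        calc (z * t) * (z * t) = z * (t * z) * t := by group
          _ = z * (z * t) * t := by rw [hcomm]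
          _ = (z * z) * (t * t) := by group
          _ = 1 := by rw [hzz, htt, one_mul]
      have hzp : IsPGroup 2 (Subgroup.zpowers (g⁻¹ * (z * t) * g)) := by
        intro x
        refine ⟨1, ?_⟩
        obtain ⟨x, k, rfl⟩ := x
        apply Subtype.ext
        change ((g⁻¹ * (z * t) * g) ^ k) ^ (2 ^ 1) = 1
        rw [pow_one, ← zpow_natCast, ← zpow_mul, mul_comm, zpow_mul, zpow_natCast, pow_two]
        have : g⁻¹ * (z * t) * g * (g⁻¹ * (z * t) * g) = g⁻¹ * ((z * t) * (z * t)) * g := by group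
        rw [this, ha2]
        simp
      obtain ⟨h, hh, hle⟩ := exists_conj_le_of_relIndex hPH P.2 (sylow_relIndex_of_le P hPH)
        (by rwa [Subgroup.zpowers_le]) hzp
      have h1 : h * (g⁻¹ * (z * t) * g) * h⁻¹ ∈ (P : Subgroup G) :=
        hle (conj_mem_cj (Subgroup.mem_zpowers _))
      have h2 : h * (g⁻¹ * (z * t) * g) * h⁻¹ * z = z * (h * (g⁻¹ * (z * t) * g) * h⁻¹) := by
        obtain ⟨c, hc, hcz⟩ := hP
        have := (Subgroup.mem_center_iff.mp hc) ⟨_, h1⟩
        have h2 := congrArg (fun x : (P : Subgroup G) => (x : G)) this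
        have hcz' : (c : G) = z := hcz
        simp only [Subgroup.coe_mul, hcz'] at h2
        exact h2
      have h3 : (g * h⁻¹) * z * (g * h⁻¹)⁻¹ ∈ H := by
        apply hcent t ht hne hcomm
        rw [Subgroup.mem_centralizer_singleton_iff]
        calc (g * h⁻¹) * z * (g * h⁻¹)⁻¹ * (z * t)
            = (g * h⁻¹) * (z * (h * (g⁻¹ * (z * t) * g) * h⁻¹)) * (g * h⁻¹)⁻¹ := by group
          _ = (g * h⁻¹) * ((h * (g⁻¹ * (z * t) * g) * h⁻¹) * z) * (g * h⁻¹)⁻¹ := by rw [h2]
          _ = (z * t) * ((g * h⁻¹) * z * (g * h⁻¹)⁻¹) := by group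
      have h4 : g * h⁻¹ ∈ H := (conj_mem_iff h0 _).mp h3
      have e : g = (g * h⁻¹) * h := by group
      rw [e]; exact H.mul_mem h4 hh
    · intro hg
      exact H.mul_mem (H.mul_mem (H.inv_mem hg) haH) hg

end Cfsg.Agent.S1922
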