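import Cfsg.Statements.S1932
-- import your own Cfsg.Agent.* helpers here
import Cfsg.Agent.Lib.Helper1.S4Free2
import Cfsg.Agent.Lib.Helper14.PConstrained
import Cfsg.Agent.Lib.Helper56.ClassTwo

set_option autoImplicit false
open Cfsg

namespace Cfsg.Agent.S1932

open Cfsg.Agent.Lib.Helper1 Cfsg.Agent.Lib.Helper1.Off Cfsg.Agent.Lib.Helper15.ZJ Cfsg.Agent.Lib.Helper62 Cfsg.Agent.S2005 in
theorem aux {G : Type*} [Group G] [Finite G] (hcon : Cfsg.IsPConstrained 2 G)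
    (hS4 : ¬ Cfsg.Involves (Equiv.Perm (Fin 4)) G) (S : Sylow 2 G)
    (hcl : ⁅⁅(S : Subgroup G), (S : Subgroup G)⁆, (S : Subgroup G)⁆ = ⊥) :
    Subgroup.normalizer ((JE 2 (S : Subgroup G)) : Set G) ⊔ Cfsg.pPrimeCore 2 G = ⊤ := by
  have : Fact (Nat.Prime 2) := ⟨Nat.prime_two⟩
  have hDn : (Cfsg.pPrimeCore 2 G).Normal := pPrimeCore_normal 2 G
  have hDc : (Nat.card (Cfsg.pPrimeCore 2 G)).Coprime 2 := pPrimeCore_coprime 2 G
  have hsurj := QuotientGroup.mk'_surjective (Cfsg.pPrimeCore 2 G)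
  have hS4' : ¬ Cfsg.Involves (Equiv.Perm (Fin 4)) (G ⧸ Cfsg.pPrimeCore 2 G) :=
    fun h => hS4 (involves_of_sec ((Sec.refl G).quot _) h)
  obtain ⟨T, hT⟩ : ∃ T : Sylow 2 (G ⧸ Cfsg.pPrimeCore 2 G), (T : Subgroup (G ⧸ Cfsg.pPrimeCore 2 G)) =
      (S : Subgroup G).map (QuotientGroup.mk' (Cfsg.pPrimeCore 2 G)) :=
    ⟨S.mapSurjective hsurj, Sylow.coe_mapSurjective _ _⟩
  have hcl' : ⁅⁅(T : Subgroup (G ⧸ Cfsg.pPrimeCore 2 G)), (T : Subgroup (G ⧸ Cfsg.pPrimeCore 2 G))⁆,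
      (T : Subgroup (G ⧸ Cfsg.pPrimeCore 2 G))⁆ = ⊥ := by
    rw [hT, ← Subgroup.map_commutator, ← Subgroup.map_commutator, hcl, Subgroup.map_bot]
  have htop : Subgroup.normalizer (JE 2 (T : Subgroup (G ⧸ Cfsg.pPrimeCore 2 G)) :
      Set (G ⧸ Cfsg.pPrimeCore 2 G)) = ⊤ :=
    Cfsg.Agent.Lib.Helper56.CT.JE_normal (Cfsg.pCore 2 (G ⧸ Cfsg.pPrimeCore 2 G)) (pCore_normal 2 _)
      (pCore_isPGroup 2 _) (Cfsg.Agent.Lib.Helper14.isPConstrained_iff.1 hcon)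
      hS4' T hcl'
  rw [eq_top_iff]
  intro g _
  have hg : QuotientGroup.mk' (Cfsg.pPrimeCore 2 G) g ∈ Subgroup.normalizer
      (((JE 2 (S : Subgroup G)).map (QuotientGroup.mk' (Cfsg.pPrimeCore 2 G)) : Subgroup _) :
        Set (G ⧸ Cfsg.pPrimeCore 2 G)) := by
    rw [← JE_map 2 _ _ (injOn_mk'_of_coprime _ hDc S.2), ← hT, htop]
    exact Subgroup.mem_top _
  obtain ⟨h, hh, hhg⟩ := Cfsg.Agent.Lib.Helper14.exists_mem_normalizer_lift _ hDc
    (S.2.to_le (JE_le 2 _)) hg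
  have h1 : h⁻¹ * g ∈ Cfsg.pPrimeCore 2 G := QuotientGroup.eq.1 hhg
  have h2 : g = h * (h⁻¹ * g) := by group
  rw [h2]
  exact Subgroup.mul_mem _ (Subgroup.mem_sup_left hh) (Subgroup.mem_sup_right h1)

/-- Let G be a finite group that is 2-constrained and has no section isomorphic to the symmetric group of degree 4, and let S be a Sylow 2-subgroup of G of nilpotency class at most 2. Then G = N_G(J(S))·O_{2'}(G), where J(S) is the Thompson subgroup generated by the elementary abelian subgroups of S of largest order. -/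
theorem result {G : Type*} [Group G] [Finite G] (hcon : Cfsg.IsPConstrained 2 G) (hS4 : ¬ Cfsg.Involves (Equiv.Perm (Fin 4)) G) (S : Sylow 2 G) (hcl : Subgroup.lowerCentralSeries (S : Subgroup G) 2 = ⊥) : Subgroup.normalizer ((Cfsg.thompsonSubgroupOf 2 (S : Subgroup G)) : Set G) ⊔ Cfsg.pPrimeCore 2 G = ⊤ := by
  rw [Cfsg.Agent.Lib.Helper15.ZJ.thompsonSubgroupOf_eq]
  exact aux hcon hS4 S hcl

end Cfsg.Agent.S1932
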