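import Cfsg.Statements.S1944
import Cfsg.Agent.Lib.Helper68.TraceSplit
import Cfsg.Agent.Lib.Helper14.PConstrained
import Cfsg.Agent.S1907

set_option autoImplicit false
open Cfsg

namespace Cfsg.Agent.S1944

/-- Let S be a Sylow p-subgroup of the finite group G and suppose that the centre Z(S) lies in O_{p',p}(G). The elements of S each of which is its only G-conjugate in S form a subgroup W of Z(S); W is then a direct factor of Z(S): there is a subgroup K of Z(S) with W ∩ K = 1 and WK = Z(S). -/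
theorem result {G : Type*} [Group G] [Finite G] {p : ℕ} [Fact p.Prime] (S : Sylow p G)
    (hZ : ((S : Subgroup G) ⊓ Subgroup.centralizer ((S : Subgroup G) : Set G)) ≤ Cfsg.pPrimePCore p G) :
    ∃ W K : Subgroup G, (∀ x : G, x ∈ W ↔ (x ∈ (S : Subgroup G) ∧ ∀ g : G, g * x * g⁻¹ ∈ (S : Subgroup G) → g * x * g⁻¹ = x)) ∧
      K ≤ ((S : Subgroup G) ⊓ Subgroup.centralizer ((S : Subgroup G) : Set G)) ∧ W ⊓ K = ⊥ ∧ W ⊔ K = ((S : Subgroup G) ⊓ Subgroup.centralizer ((S : Subgroup G) : Set G)) := by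
  have hnorm : (Cfsg.pPrimePCore p G).Normal := Cfsg.Agent.Lib.Helper14.pPrimePCore_normal p G
  apply Cfsg.Agent.Lib.Helper68.direct_factor_of_center S ((S : Subgroup G) ⊓ Cfsg.pPrimePCore p G) inf_le_left
  · intro z hz
    exact Subgroup.mem_inf.mpr ⟨(Subgroup.mem_inf.mp hz).1, hZ hz⟩
  · intro s hs
    rw [Subgroup.mem_normalizer_iff]
    intro x
    rw [Subgroup.mem_inf, Subgroup.mem_inf]
    constructor
    · rintro ⟨h1, h2⟩
      exact ⟨(S : Subgroup G).mul_mem ((S : Subgroup G).mul_mem hs h1) ((S : Subgroup G).inv_mem hs),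
        hnorm.conj_mem x h2 s⟩
    · rintro ⟨h1, h2⟩
      have e : x = s⁻¹ * (s * x * s⁻¹) * s⁻¹⁻¹ := by group
      rw [e]
      exact ⟨(S : Subgroup G).mul_mem ((S : Subgroup G).mul_mem ((S : Subgroup G).inv_mem hs) h1)
        ((S : Subgroup G).inv_mem ((S : Subgroup G).inv_mem hs)), hnorm.conj_mem _ h2 s⁻¹⟩
  · intro x hx hfix g hg
    obtain ⟨n, hn, hnx⟩ := (Cfsg.Agent.S1907.result S).2 x (g * x * g⁻¹) hx hg
      (isConj_iff.mpr ⟨g, rfl⟩)
    rw [← hnx]
    exact hfix n hn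

end Cfsg.Agent.S1944
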