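import Cfsg.Statements.S2010
import Cfsg.Agent.Lib.Helper1.S4Free2
import Cfsg.Agent.Lib.Helper14.PConstrained

set_option autoImplicit false
open Cfsg

namespace Cfsg.Agent.S2010

open Cfsg.Agent.Lib.Helper1 Cfsg.Agent.Lib.Helper1.Off Cfsg.Agent.Lib.Helper15.ZJ Cfsg.Agent.Lib.Helper62 Cfsg.Agent.S2005 in
theorem aux {G : Type*} [Group G] [Finite G]
    [Group.IsSolvable G] (hS4 : ¬ Cfsg.Involves (Equiv.Perm (Fin 4)) G) (S : Sylow 2 G)
    (hcl : ⁅⁅(S : Subgroup G), (S : Subgroup G)⁆, (S : Subgroup G)⁆ = ⊥) :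
    Subgroup.normalizer ((JE 2 (S : Subgroup G)) : Set G) ⊔ Cfsg.pPrimeCore 2 G = ⊤ := by
  have : Fact (Nat.Prime 2) := ⟨Nat.prime_two⟩
  have hDn : (Cfsg.pPrimeCore 2 G).Normal := pPrimeCore_normal 2 G
  have hDc : (Nat.card (Cfsg.pPrimeCore 2 G)).Coprime 2 := pPrimeCore_coprime 2 G
  have hsurj := QuotientGroup.mk'_surjective (Cfsg.pPrimeCore 2 G)
  have hO : Cfsg.pPrimeCore 2 (G ⧸ Cfsg.pPrimeCore 2 G) = ⊥ :=
    Cfsg.Agent.Lib.Helper14.pPrimeCore_quotient_pPrimeCore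
  have hS4' : ¬ Cfsg.Involves (Equiv.Perm (Fin 4)) (G ⧸ Cfsg.pPrimeCore 2 G) :=
    fun h => hS4 (involves_of_sec ((Sec.refl G).quot _) h)
  obtain ⟨T, hT⟩ : ∃ T : Sylow 2 (G ⧸ Cfsg.pPrimeCore 2 G), (T : Subgroup (G ⧸ Cfsg.pPrimeCore 2 G)) =
      (S : Subgroup G).map (QuotientGroup.mk' (Cfsg.pPrimeCore 2 G)) :=
    ⟨S.mapSurjective hsurj, Sylow.coe_mapSurjective _ _⟩
  have hcl' : ⁅⁅(T : Subgroup (G ⧸ Cfsg.pPrimeCore 2 G)), (T : Subgroup (G ⧸ Cfsg.pPrimeCore 2 G))⁆,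
      (T : Subgroup (G ⧸ Cfsg.pPrimeCore 2 G))⁆ = ⊥ := by
    rw [hT, ← Subgroup.map_commutator, ← Subgroup.map_commutator, hcl, Subgroup.map_bot]
  have hall := le_pCore_of_class_two hO hS4' T hcl'
  have hJ : JE 2 (T : Subgroup (G ⧸ Cfsg.pPrimeCore 2 G)) =
      JE 2 (Cfsg.pCore 2 (G ⧸ Cfsg.pPrimeCore 2 G)) := by
    unfold JE
    rw [AE_eq_of_forall_le (Cfsg.Agent.Lib.Helper14.pCore_le_sylow _) hall]
  have hcn : (Cfsg.pCore 2 (G ⧸ Cfsg.pPrimeCore 2 G)).Normal := pCore_normal 2 _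
  have htop : Subgroup.normalizer (JE 2 (T : Subgroup (G ⧸ Cfsg.pPrimeCore 2 G)) :
      Set (G ⧸ Cfsg.pPrimeCore 2 G)) = ⊤ := by
    rw [hJ, eq_top_iff]
    refine le_trans ?_ (normalizer_le_JE 2 _)
    rw [Subgroup.normalizer_eq_top]
  rw [eq_top_iff]
  intro g _
  have hg : QuotientGroup.mk' (Cfsg.pPrimeCore 2 G) g ∈ Subgroup.normalizer
      (((JE 2 (S : Subgroup G)).map (QuotientGroup.mk' (Cfsg.pPrimeCore 2 G)) : Subgroup _) :
        Set (G ⧸ Cfsg.pPrimeCore 2 G)) := by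
    rw [← JE_map 2 _ _ (injOn_mk'_of_coprime _ hDc S.2), ← hT, htop]
    exact Subgroup.mem_top _
  obtain ⟨h, hh, hhg⟩ := Cfsg.Agent.Lib.Helper14.exists_mem_normalizer_lift _ hDc
    (S.2.to_le (JE_le 2 _)) hg
  have h1 : h⁻¹ * g ∈ Cfsg.pPrimeCore 2 G := QuotientGroup.eq.1 hhg
  have h2 : g = h * (h⁻¹ * g) := by group
  rw [h2]
  exact Subgroup.mul_mem _ (Subgroup.mem_sup_left hh) (Subgroup.mem_sup_right h1)

/-- Let G be a finite solvable group with no section isomorphic to the symmetric group of degree 4, whose Sylow 2-subgroup S has nilpotency class at most 2. Then G = N_G(J_e(S)) · O_{2'}(G), where J_e(S) is the subgroup generated by the elementary abelian subgroups of S of largest order. -/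
theorem result {G : Type*} [Group G] [Finite G]
    [Group.IsSolvable G] (hS4 : ¬ Cfsg.Involves (Equiv.Perm (Fin 4)) G) (S : Sylow 2 G)
    (hcl : Subgroup.lowerCentralSeries (S : Subgroup G) 2 = ⊥) :
    Subgroup.normalizer ((Cfsg.thompsonSubgroupOf 2 (S : Subgroup G)) : Set G) ⊔ Cfsg.pPrimeCore 2 G = ⊤ := by
  rw [Cfsg.Agent.Lib.Helper15.ZJ.thompsonSubgroupOf_eq]
  exact aux hS4 S hcl

end Cfsg.Agent.S2010
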