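import Cfsg.Statements.S2118
import Cfsg.Agent.Lib.Helper43.CoverMult
import Cfsg.Agent.Lib.Helper43.AltSix
import Cfsg.Agent.Lib.Helper44.LawBounds
import Cfsg.Agent.Lib.Helper6.SLCard
import Cfsg.Agent.S0254

set_option autoImplicit false
open Cfsg

namespace Cfsg.Agent.S2118

/-- For the field with 9 elements, the special linear group SL₂ has Schur multiplier cyclic of order 3 (here the Schur multiplier is described through stem extensions, as in the definitions). -/
theorem result {F : Type*} [Field F] [Fintype F] (hF : Fintype.card F = 9) : Cfsg.HasCyclicSchurMultiplier (Matrix.SpecialLinearGroup (Fin 2) F) 3 := by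
  classical
  obtain ⟨e⟩ := Cfsg.Agent.S0254.result hF
  have hS : commutator (Matrix.SpecialLinearGroup (Fin 2) F) = ⊤ :=
    Cfsg.Agent.Lib.Helper44.sl2_perfect F (by rw [hF]; norm_num)
  let β : Matrix.SpecialLinearGroup (Fin 2) F →* alternatingGroup (Fin 6) :=
    e.toMonoidHom.comp (QuotientGroup.mk' (Subgroup.center (Matrix.SpecialLinearGroup (Fin 2) F)))
  have hker : β.ker = Subgroup.center (Matrix.SpecialLinearGroup (Fin 2) F) := by
    ext x
    rw [MonoidHom.mem_ker]
    show e (QuotientGroup.mk' _ x) = 1 ↔ _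
    rw [MulEquiv.map_eq_one_iff, ← MonoidHom.mem_ker, QuotientGroup.ker_mk']
  have hβ : IsStemExtension β :=
    ⟨e.surjective.comp (QuotientGroup.mk'_surjective _), hker.le, by rw [hS]; exact le_top⟩
  have hc : Nat.card β.ker = 2 := by
    rw [hker, Cfsg.Agent.Lib.Helper6.card_center_SL_field 2 (by norm_num), hF]
    rfl
  have hZ : Nat.card (Multiplicative (ZMod 6)) = 6 := by
    rw [Nat.card_congr Multiplicative.toAdd, Nat.card_zmod]
  exact Cfsg.Agent.Lib.Helper43.CM.cover_multiplier Cfsg.Agent.Lib.Helper43.AM.mult6 β hβ hS 3 Nat.prime_three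
    (by rw [hZ, hc])

end Cfsg.Agent.S2118
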