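import Cfsg.Statements.S2257
import Cfsg.Agent.Lib.Helper7.PSL2SolCount
-- import your own Cfsg.Agent.* helpers here

set_option autoImplicit false
open Cfsg

namespace Cfsg.Agent.S2257

open Matrix MatrixGroups Subgroup Cfsg.Agent.Lib.Helper46 Cfsg.Agent.Lib.Helper18.SL2
open Cfsg.Agent.Lib.Helper7 Cfsg.Agent.Lib.Helper7.PMax

variable {F : Type*} [Field F] [Fintype F]

theorem mk_inj (h2 : (2 : F) = 0) :
    Function.Injective (QuotientGroup.mk' (center (SpecialLinearGroup (Fin 2) F))) := by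
  rw [← MonoidHom.ker_eq_bot_iff, QuotientGroup.ker_mk']
  exact Subgroup.eq_bot_of_card_eq _ (zc_of_two_eq h2)

theorem card_transfer (h2 : (2 : F) = 0) (x : SpecialLinearGroup (Fin 2) F) :
    Nat.card {y : ProjectiveSpecialLinearGroup (Fin 2) F // Group.IsSolvable
      (closure ({(QuotientGroup.mk x : ProjectiveSpecialLinearGroup (Fin 2) F), y} :
        Set (ProjectiveSpecialLinearGroup (Fin 2) F)))} =
      {y : SpecialLinearGroup (Fin 2) F | Group.IsSolvable (gen2 x y)}.ncard := by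
  rw [← Nat.card_coe_set_eq]
  symm
  apply Nat.card_congr
  exact Equiv.subtypeEquiv (Equiv.ofBijective _ ⟨mk_inj h2, QuotientGroup.mk'_surjective _⟩)
    (fun y => Iff.rfl)

theorem card_sol (h2 : (2 : F) = 0) (x g : SpecialLinearGroup (Fin 2) F) :
    Nat.card {y : ProjectiveSpecialLinearGroup (Fin 2) F // Group.IsSolvable
      (closure ({(QuotientGroup.mk x : ProjectiveSpecialLinearGroup (Fin 2) F), y} :
        Set (ProjectiveSpecialLinearGroup (Fin 2) F)))} =
      {y : SpecialLinearGroup (Fin 2) F | Group.IsSolvable (gen2 (g * x * g⁻¹) y)}.ncard := by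
  rw [← card_transfer h2 (g * x * g⁻¹)]
  have : (QuotientGroup.mk (g * x * g⁻¹) : ProjectiveSpecialLinearGroup (Fin 2) F) =
      QuotientGroup.mk g * QuotientGroup.mk x * (QuotientGroup.mk g)⁻¹ := rfl
  rw [this, card_solubilizer_conj]

theorem odd_dvd {d q : ℕ} (hq : 2 ∣ q) (hq1 : 1 ≤ q) (h : d ∣ 2) (h' : d ∣ q - 1 ∨ d ∣ q + 1) :
    d = 1 := by
  rcases (Nat.dvd_prime Nat.prime_two).1 h with rfl | rfl
  · rfl
  · omega

theorem dvd_two {d q : ℕ} (hq1 : 1 ≤ q) (h : d ∣ q - 1) (h' : d ∣ q + 1) : d ∣ 2 := by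
  have := Nat.dvd_sub h' h
  have e : q + 1 - (q - 1) = 2 := by omega
  rwa [e] at this

/-- the three types of nontrivial elements -/
theorem types (h2 : (2 : F) = 0) (x : SpecialLinearGroup (Fin 2) F) (hx : x ≠ 1) :
    (tr x = 0 ∧ orderOf x ∣ 2) ∨
    ((∃ a : F, a ^ 2 - tr x * a + 1 = 0 ∧ a ^ 2 ≠ 1) ∧ orderOf x ∣ Fintype.card F - 1) ∨
    ((∀ a : F, a ^ 2 - tr x * a + 1 ≠ 0) ∧ orderOf x ∣ Fintype.card F + 1 ∧
      Nat.card (centralizer ({x} : Set (SpecialLinearGroup (Fin 2) F))) = Fintype.card F + 1) := by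
  have hb : center (SpecialLinearGroup (Fin 2) F) = ⊥ :=
    Subgroup.eq_bot_of_card_eq _ (zc_of_two_eq h2)
  have hxc : x ∉ center (SpecialLinearGroup (Fin 2) F) := by
    rw [hb, mem_bot]; exact hx
  have hmem : x ∈ centralizer ({x} : Set (SpecialLinearGroup (Fin 2) F)) :=
    mem_centralizer_singleton_iff.2 rfl
  have hdvd := Subgroup.orderOf_dvd_natCard _ hmem
  rcases Cfsg.Agent.Lib.Helper47.card_centralizer_cases x hxc with ⟨h1, h3⟩ | ⟨h1, h3⟩ | ⟨h1, -⟩
  · right; right
    exact ⟨h1, h3 ▸ hdvd, h3⟩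
  · right; left
    exact ⟨h1, h3 ▸ hdvd⟩
  · left
    have ht : tr x = 0 := by
      by_contra hne
      exact sq_ne_four_of_ne_zero h2 hne h1
    refine ⟨ht, orderOf_dvd_of_pow_eq_one ?_⟩
    rw [pow_two]
    exact mul_self_of_tr_zero h2 ht

/-- Let G = PSL_2(F) with F a field of order q = 2^p, p prime, and for x ∈ G call the solubilizer of x the set of y ∈ G such that x and y generate a solvable subgroup. Then the solubilizer of an involution has 3q(q − 1) elements; that of a non-identity element of order dividing q − 1 has 2q(q − 1) elements; and that of a non-identity element of order dividing q + 1 has 2(q + 1) elements. -/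
theorem result (p : ℕ) (hp : p.Prime) {F : Type*} [Field F] [Fintype F]
    (hF : Fintype.card F = 2 ^ p) (x : Matrix.ProjectiveSpecialLinearGroup (Fin 2) F) :
    (orderOf x = 2 → Nat.card {y : Matrix.ProjectiveSpecialLinearGroup (Fin 2) F // Group.IsSolvable ↥(Subgroup.closure ({x, y} : Set (Matrix.ProjectiveSpecialLinearGroup (Fin 2) F)))} = 3 * 2 ^ p * (2 ^ p - 1)) ∧
    (x ≠ 1 → orderOf x ∣ 2 ^ p - 1 → Nat.card {y : Matrix.ProjectiveSpecialLinearGroup (Fin 2) F // Group.IsSolvable ↥(Subgroup.closure ({x, y} : Set (Matrix.ProjectiveSpecialLinearGroup (Fin 2) F)))} = 2 * 2 ^ p * (2 ^ p - 1)) ∧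
    (x ≠ 1 → orderOf x ∣ 2 ^ p + 1 → Nat.card {y : Matrix.ProjectiveSpecialLinearGroup (Fin 2) F // Group.IsSolvable ↥(Subgroup.closure ({x, y} : Set (Matrix.ProjectiveSpecialLinearGroup (Fin 2) F)))} = 2 * (2 ^ p + 1)) := by
  have hq : Fintype.card F = 2 ^ p := hF
  have h2 : (2 : F) = 0 := by
    have h := Nat.cast_card_eq_zero F
    rw [hF] at h
    push_cast at h
    exact pow_eq_zero_iff hp.ne_zero |>.1 h
  have hq2 : 2 ∣ Fintype.card F := by rw [hF]; exact dvd_pow_self 2 hp.ne_zero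
  have hq1 : 1 ≤ Fintype.card F := Fintype.card_pos
  have hq3 : 3 ≤ Fintype.card F := by
    rw [hF]
    calc 3 ≤ 2 ^ 2 := by norm_num
      _ ≤ 2 ^ p := Nat.pow_le_pow_right (by norm_num) hp.two_le
  induction x using QuotientGroup.induction_on with | H x =>
  have hord : orderOf (QuotientGroup.mk x : ProjectiveSpecialLinearGroup (Fin 2) F) = orderOf x :=
    orderOf_injective (QuotientGroup.mk' (center (SpecialLinearGroup (Fin 2) F))) (mk_inj h2) x
  have hne1 : (QuotientGroup.mk x : ProjectiveSpecialLinearGroup (Fin 2) F) ≠ 1 → x ≠ 1 := by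
    rintro h rfl
    exact h rfl
  rw [← hF]
  refine ⟨?_, ?_, ?_⟩
  · intro ho
    rw [hord] at ho
    have hx1 : x ≠ 1 := by
      rintro rfl
      rw [orderOf_one] at ho
      norm_num at ho
    have ht : tr x = 2 := by
      rw [h2]
      rcases types h2 x hx1 with ⟨h, -⟩ | ⟨-, h⟩ | ⟨-, h, -⟩
      · exact h
      · rw [ho] at h; omega
      · rw [ho] at h; omega
    obtain ⟨g, a, hg⟩ := exists_conj_uu ht
    have ha : a ≠ 0 := by
      rintro rfl
      rw [Cfsg.Agent.Lib.Helper7.uu_zero] at hg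
      apply hx1
      have := congrArg (fun w => g⁻¹ * w * g) hg
      simpa [mul_assoc] using this
    rw [card_sol h2 x g, hg, ← count_uu h2 ha]
    congr 1
    ext y
    exact sol_uu h2 ha y
  · intro hx ho
    rw [hord] at ho
    have hx1 := hne1 hx
    have ho1 : orderOf x ≠ 1 := fun h => hx1 (orderOf_eq_one_iff.1 h)
    rcases types h2 x hx1 with ⟨-, h⟩ | ⟨⟨a, ha, ha2⟩, -⟩ | ⟨-, h, -⟩
    · exact absurd (odd_dvd hq2 hq1 h (Or.inl ho)) ho1
    · obtain ⟨u, P, hu, hP⟩ := conj_dd_of_root x a ha ha2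
      have hu2 : u ^ 2 ≠ 1 := by
        intro h
        apply ha2
        rw [← hu]
        have := congrArg Units.val h
        simpa using this
      have hg : P⁻¹ * x * P⁻¹⁻¹ = dd u := by rw [← hP]; group
      rw [card_sol h2 x P⁻¹, hg, ← count_dd]
      congr 1
      ext y
      exact sol_dd h2 hu2 y
    · exact absurd (odd_dvd hq2 hq1 (dvd_two hq1 ho h) (Or.inl ho)) ho1
  · intro hx ho
    rw [hord] at ho
    have hx1 := hne1 hx
    have ho1 : orderOf x ≠ 1 := fun h => hx1 (orderOf_eq_one_iff.1 h)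
    rcases types h2 x hx1 with ⟨-, h⟩ | ⟨-, h⟩ | ⟨hroot, -, hc⟩
    · exact absurd (odd_dvd hq2 hq1 h (Or.inr ho)) ho1
    · exact absurd (odd_dvd hq2 hq1 (dvd_two hq1 h ho) (Or.inr ho)) ho1
    · rw [card_transfer h2 x, ← hc, ← card_torN (tr_sq_ne_of_nonsplit hroot) hq3,
        ← Nat.card_coe_set_eq]
      apply Nat.card_congr
      exact Equiv.subtypeEquiv (Equiv.refl _) (fun y => sol_nonsplit h2 hroot y)

end Cfsg.Agent.S2257
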