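import Cfsg.Statements.S2258
import Cfsg.Agent.Lib.Helper7.PSL2SolCount3
-- import your own Cfsg.Agent.* helpers here

set_option autoImplicit false
open Cfsg

namespace Cfsg.Agent.S2258

open Matrix MatrixGroups Subgroup Cfsg.Agent.Lib.Helper46 Cfsg.Agent.Lib.Helper18.SL2
open Cfsg.Agent.Lib.Helper7 Cfsg.Agent.Lib.Helper7.PMax

variable {F : Type*} [Field F] [Fintype F]

theorem card_transfer (h2 : (2 : F) ≠ 0) (x : SpecialLinearGroup (Fin 2) F) :
    2 * Nat.card {y : ProjectiveSpecialLinearGroup (Fin 2) F // Group.IsSolvable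
      (closure ({(QuotientGroup.mk x : ProjectiveSpecialLinearGroup (Fin 2) F), y} :
        Set (ProjectiveSpecialLinearGroup (Fin 2) F)))} =
      {y : SpecialLinearGroup (Fin 2) F | Group.IsSolvable (gen2 x y)}.ncard := by
  have h := card_quotient_subtype (center (SpecialLinearGroup (Fin 2) F))
    (fun y => Group.IsSolvable
      (closure ({(QuotientGroup.mk x : ProjectiveSpecialLinearGroup (Fin 2) F), y} :
        Set (ProjectiveSpecialLinearGroup (Fin 2) F))))
  have hz : Nat.card (center (SpecialLinearGroup (Fin 2) F)) = 2 := zc_of_two_ne h2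
  rw [hz] at h
  rw [← Nat.card_coe_set_eq, mul_comm]
  exact h.symm

theorem card_sol (h2 : (2 : F) ≠ 0) (x g : SpecialLinearGroup (Fin 2) F) :
    2 * Nat.card {y : ProjectiveSpecialLinearGroup (Fin 2) F // Group.IsSolvable
      (closure ({(QuotientGroup.mk x : ProjectiveSpecialLinearGroup (Fin 2) F), y} :
        Set (ProjectiveSpecialLinearGroup (Fin 2) F)))} =
      {y : SpecialLinearGroup (Fin 2) F | Group.IsSolvable (gen2 (g * x * g⁻¹) y)}.ncard := by
  rw [← card_transfer h2 (g * x * g⁻¹)]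
  have : (QuotientGroup.mk (g * x * g⁻¹) : ProjectiveSpecialLinearGroup (Fin 2) F) =
      QuotientGroup.mk g * QuotientGroup.mk x * (QuotientGroup.mk g)⁻¹ := rfl
  rw [this, card_solubilizer_conj]

theorem dvd_two {d q : ℕ} (hq1 : 1 ≤ q) (h : d ∣ q - 1) (h' : d ∣ q + 1) : d ∣ 2 := by
  have := Nat.dvd_sub h' h
  have e : q + 1 - (q - 1) = 2 := by omega
  rwa [e] at this

theorem mk_pow_eq_one_iff (x : SpecialLinearGroup (Fin 2) F) (n : ℕ) :
    (QuotientGroup.mk x : ProjectiveSpecialLinearGroup (Fin 2) F) ^ n = 1 ↔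
      x ^ n ∈ center (SpecialLinearGroup (Fin 2) F) := by
  rw [← QuotientGroup.mk_pow]
  exact QuotientGroup.eq_one_iff _

/-- the types of nontrivial elements -/
theorem types (h3 : (3 : F) = 0) (x : SpecialLinearGroup (Fin 2) F)
    (hxc : x ∉ center (SpecialLinearGroup (Fin 2) F)) :
    (tr x ^ 2 = 4 ∧
      orderOf (QuotientGroup.mk x : ProjectiveSpecialLinearGroup (Fin 2) F) ∣ 3) ∨
    ((∃ a : F, a ^ 2 - tr x * a + 1 = 0 ∧ a ^ 2 ≠ 1) ∧
      orderOf (QuotientGroup.mk x : ProjectiveSpecialLinearGroup (Fin 2) F) ∣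
        Fintype.card F - 1) ∨
    ((∀ a : F, a ^ 2 - tr x * a + 1 ≠ 0) ∧
      orderOf (QuotientGroup.mk x : ProjectiveSpecialLinearGroup (Fin 2) F) ∣
        Fintype.card F + 1 ∧
      Nat.card (centralizer ({x} : Set (SpecialLinearGroup (Fin 2) F))) = Fintype.card F + 1) := by
  have hmem : x ∈ centralizer ({x} : Set (SpecialLinearGroup (Fin 2) F)) :=
    mem_centralizer_singleton_iff.2 rfl
  have hdvd := Subgroup.orderOf_dvd_natCard _ hmem
  have hmk : orderOf (QuotientGroup.mk x : ProjectiveSpecialLinearGroup (Fin 2) F) ∣ orderOf x :=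
    orderOf_map_dvd (QuotientGroup.mk' (center (SpecialLinearGroup (Fin 2) F))) x
  rcases Cfsg.Agent.Lib.Helper47.card_centralizer_cases x hxc with ⟨h1, h4⟩ | ⟨h1, h4⟩ | ⟨h1, -⟩
  · right; right
    exact ⟨h1, hmk.trans (h4 ▸ hdvd), h4⟩
  · right; left
    exact ⟨h1, hmk.trans (h4 ▸ hdvd)⟩
  · left
    refine ⟨h1, orderOf_dvd_of_pow_eq_one ?_⟩
    rw [mk_pow_eq_one_iff]
    apply pow_mem_center_of_coeff (v := tr x)
    rw [mat_pow_three]
    congr 2
    linear_combination h1 + h3

theorem order_of_tr_zero {x : SpecialLinearGroup (Fin 2) F} (h : tr x = 0) :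
    orderOf (QuotientGroup.mk x : ProjectiveSpecialLinearGroup (Fin 2) F) ∣ 2 := by
  apply orderOf_dvd_of_pow_eq_one
  rw [mk_pow_eq_one_iff, pow_two, sq_of_tr_zero x h]
  exact negOne_mem_center

theorem three_pow_mod (k : ℕ) : 3 ^ (2 * k + 1) % 4 = 3 := by
  rw [pow_succ, pow_mul, Nat.mul_mod, Nat.pow_mod]
  norm_num

/-- Let G = PSL_2(F) with F a field of order q = 3^p, p an odd prime, and for x ∈ G call the solubilizer of x the set of y ∈ G such that x and y generate a solvable subgroup. Then the solubilizer of an involution has q(q + 1) elements; that of an element of order 3 has q(q + 5)/2 elements; that of an element of order neither 1 nor 2 dividing q − 1 has q(q − 1) elements; and that of an element of order neither 1 nor 2 dividing q + 1 has q + 1 elements. -/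
theorem result (p : ℕ) (hp : p.Prime) (hodd : Odd p) {F : Type*} [Field F] [Fintype F]
    (hF : Fintype.card F = 3 ^ p) (x : Matrix.ProjectiveSpecialLinearGroup (Fin 2) F) :
    (orderOf x = 2 → Nat.card {y : Matrix.ProjectiveSpecialLinearGroup (Fin 2) F // Group.IsSolvable ↥(Subgroup.closure ({x, y} : Set (Matrix.ProjectiveSpecialLinearGroup (Fin 2) F)))} = 3 ^ p * (3 ^ p + 1)) ∧
    (orderOf x = 3 → 2 * Nat.card {y : Matrix.ProjectiveSpecialLinearGroup (Fin 2) F // Group.IsSolvable ↥(Subgroup.closure ({x, y} : Set (Matrix.ProjectiveSpecialLinearGroup (Fin 2) F)))} = 3 ^ p * (3 ^ p + 5)) ∧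
    (x ≠ 1 → orderOf x ≠ 2 → orderOf x ∣ 3 ^ p - 1 → Nat.card {y : Matrix.ProjectiveSpecialLinearGroup (Fin 2) F // Group.IsSolvable ↥(Subgroup.closure ({x, y} : Set (Matrix.ProjectiveSpecialLinearGroup (Fin 2) F)))} = 3 ^ p * (3 ^ p - 1)) ∧
    (x ≠ 1 → orderOf x ≠ 2 → orderOf x ∣ 3 ^ p + 1 → Nat.card {y : Matrix.ProjectiveSpecialLinearGroup (Fin 2) F // Group.IsSolvable ↥(Subgroup.closure ({x, y} : Set (Matrix.ProjectiveSpecialLinearGroup (Fin 2) F)))} = 3 ^ p + 1) := by
  have h3 : (3 : F) = 0 := by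
    have h := Nat.cast_card_eq_zero F
    rw [hF] at h
    push_cast at h
    exact pow_eq_zero_iff hp.ne_zero |>.1 h
  have h2 := two_ne_zero_of_three h3
  have hns : ¬ IsSquare (-1 : F) := by
    rw [FiniteField.isSquare_neg_one_iff, hF]
    obtain ⟨k, rfl⟩ := hodd
    rw [three_pow_mod]
    simp
  have hq3' : 3 ∣ Fintype.card F := by rw [hF]; exact dvd_pow_self 3 hp.ne_zero
  have hq1 : 1 ≤ Fintype.card F := Fintype.card_pos
  have hq3 : 3 ≤ Fintype.card F := Nat.le_of_dvd hq1 hq3'
  induction x using QuotientGroup.induction_on with | H x =>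
  have hcen : (QuotientGroup.mk x : ProjectiveSpecialLinearGroup (Fin 2) F) ≠ 1 →
      x ∉ center (SpecialLinearGroup (Fin 2) F) := by
    intro h hc
    exact h ((QuotientGroup.eq_one_iff x).2 hc)
  have hone : ∀ {n : ℕ}, orderOf (QuotientGroup.mk x : ProjectiveSpecialLinearGroup (Fin 2) F) = n →
      n ≠ 1 → (QuotientGroup.mk x : ProjectiveSpecialLinearGroup (Fin 2) F) ≠ 1 := by
    intro n h hn h1
    rw [h1, orderOf_one] at h
    exact hn h.symm
  rw [← hF]
  refine ⟨?_, ?_, ?_, ?_⟩
  · intro ho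
    have hxc := hcen (hone ho (by norm_num))
    have ht : tr x = 0 := by
      apply coeff_zero_of_pow_mem_center hxc (mat_pow_two x)
      rw [← mk_pow_eq_one_iff]
      have := pow_orderOf_eq_one (QuotientGroup.mk x : ProjectiveSpecialLinearGroup (Fin 2) F)
      rwa [ho] at this
    have hrep : RepAll (0 : F) := by
      intro c _
      obtain ⟨z₁, z₂, hz⟩ := exists_aniso_eq (a := (0 : F)) (b := 1)
        (fun z₁ z₂ h => aniso hns (by linear_combination h)) c
      exact ⟨z₁, z₂, by linear_combination hz⟩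
    have hwc : (ww : SpecialLinearGroup (Fin 2) F) ∉ center (SpecialLinearGroup (Fin 2) F) :=
      fun h => tr_sq_ne_of_nonsplit (ww_nonsplit hns) (tr_sq_of_mem_center _ h)
    obtain ⟨P, hP⟩ := conj_of_tr_eq hrep x ww hxc hwc ht Cfsg.Agent.Lib.Helper47.tr_ww
    have key := card_sol h2 x P
    rw [hP] at key
    have e : {y : SpecialLinearGroup (Fin 2) F | Group.IsSolvable (gen2 ww y)} =
        {y | tr y = 0 ∨ tr (ww * y) = 0 ∨ Commute y ww ∨
          (tr y ^ 2 = 1 ∧ tr (ww * y) ^ 2 = 1)} := by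
      ext y
      exact crit_ww h3 hns y
    rw [e, count_ww h3 hns] at key
    exact Nat.eq_of_mul_eq_mul_left (by norm_num) key
  · intro ho
    have hxc := hcen (hone ho (by norm_num))
    have ht : tr x ^ 2 - 1 = 0 := by
      apply coeff_zero_of_pow_mem_center hxc (mat_pow_three x)
      rw [← mk_pow_eq_one_iff]
      have := pow_orderOf_eq_one (QuotientGroup.mk x : ProjectiveSpecialLinearGroup (Fin 2) F)
      rwa [ho] at this
    obtain ⟨x₁, hx₁, ht₁, hc₁⟩ : ∃ x₁ : SpecialLinearGroup (Fin 2) F,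
        (QuotientGroup.mk x₁ : ProjectiveSpecialLinearGroup (Fin 2) F) = QuotientGroup.mk x ∧
        tr x₁ = 2 ∧ x₁ ∉ center (SpecialLinearGroup (Fin 2) F) := by
      have h5 : (tr x - 2) * (tr x + 2) = 0 := by linear_combination ht - h3
      rcases mul_eq_zero.1 h5 with h6 | h6
      · exact ⟨x, rfl, by linear_combination h6, hxc⟩
      · refine ⟨negOne * x, mk_negOne_mul x, ?_, ?_⟩
        · rw [tr_negOne_mul]; linear_combination -h6
        · intro h
          apply hxc
          have := (center _).mul_mem ((center _).inv_mem negOne_mem_center) h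
          simpa using this
    obtain ⟨g, a, hg⟩ := exists_conj_uu ht₁
    have ha : a ≠ 0 := by
      rintro rfl
      rw [Cfsg.Agent.Lib.Helper7.uu_zero] at hg
      apply hc₁
      have : x₁ = 1 := by
        have := congrArg (fun w => g⁻¹ * w * g) hg
        simpa [mul_assoc] using this
      rw [this]; exact one_mem _
    rw [← hx₁, card_sol h2 x₁ g, hg, ← count_uu3 h3 ha]
    congr 1
    ext y
    exact crit_uu h3 hns ha y
  · intro hx ho2 ho
    have hxc := hcen hx
    have ho1 : orderOf (QuotientGroup.mk x : ProjectiveSpecialLinearGroup (Fin 2) F) ≠ 1 :=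
      fun h => hx (orderOf_eq_one_iff.1 h)
    have hnd : ¬ orderOf (QuotientGroup.mk x : ProjectiveSpecialLinearGroup (Fin 2) F) ∣ 2 := by
      intro h
      rcases (Nat.dvd_prime Nat.prime_two).1 h with h | h
      · exact ho1 h
      · exact ho2 h
    have ht0 : tr x ≠ 0 := fun h => hnd (order_of_tr_zero h)
    rcases types h3 x hxc with ⟨-, h⟩ | ⟨⟨a, ha, ha2⟩, -⟩ | ⟨-, h, -⟩
    · exfalso
      rcases (Nat.dvd_prime Nat.prime_three).1 h with h | h
      · exact ho1 h
      · rw [h] at ho
        omega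
    · obtain ⟨u, P, hu, hP⟩ := conj_dd_of_root x a ha ha2
      have hu2 : u ^ 2 ≠ 1 := by
        intro h
        apply ha2
        rw [← hu]
        have := congrArg Units.val h
        simpa using this
      have hg : P⁻¹ * x * P⁻¹⁻¹ = dd u := by rw [← hP]; group
      have ht0' : tr (dd u) ≠ 0 := by rw [← hg, tr_conj]; exact ht0
      have key := card_sol h2 x P⁻¹
      rw [hg] at key
      have e : {y : SpecialLinearGroup (Fin 2) F | Group.IsSolvable (gen2 (dd u) y)} =
          {y | y.1 1 0 = 0 ∨ y.1 0 1 = 0 ∨ (y.1 0 0 = 0 ∧ y.1 1 1 = 0)} := by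
        ext y
        exact crit_dd h3 hns hu2 ht0' y
      rw [e, count_dd, mul_assoc] at key
      exact Nat.eq_of_mul_eq_mul_left (by norm_num) key
    · exact absurd (dvd_two hq1 ho h) hnd
  · intro hx ho2 ho
    have hxc := hcen hx
    have ho1 : orderOf (QuotientGroup.mk x : ProjectiveSpecialLinearGroup (Fin 2) F) ≠ 1 :=
      fun h => hx (orderOf_eq_one_iff.1 h)
    have hnd : ¬ orderOf (QuotientGroup.mk x : ProjectiveSpecialLinearGroup (Fin 2) F) ∣ 2 := by
      intro h
      rcases (Nat.dvd_prime Nat.prime_two).1 h with h | h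
      · exact ho1 h
      · exact ho2 h
    have ht0 : tr x ≠ 0 := fun h => hnd (order_of_tr_zero h)
    rcases types h3 x hxc with ⟨-, h⟩ | ⟨-, h⟩ | ⟨hroot, -, hc⟩
    · exfalso
      rcases (Nat.dvd_prime Nat.prime_three).1 h with h | h
      · exact ho1 h
      · rw [h] at ho
        omega
    · exact absurd (dvd_two hq1 h ho) hnd
    · have key := card_transfer h2 x
      have e : {y : SpecialLinearGroup (Fin 2) F | Group.IsSolvable (gen2 x y)} =
          (torN x : Set (SpecialLinearGroup (Fin 2) F)) := by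
        ext y
        exact crit_nonsplit h3 hns hroot ht0 y
      have e2 : ((torN x : Set (SpecialLinearGroup (Fin 2) F))).ncard = Nat.card (torN x) :=
        (Nat.card_coe_set_eq _).symm
      rw [e, e2, card_torN (tr_sq_ne_of_nonsplit hroot) hq3, hc] at key
      exact Nat.eq_of_mul_eq_mul_left (by norm_num) key

end Cfsg.Agent.S2258
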