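import Cfsg.Statements.S2277
import Cfsg.Agent.Lib.Helper72.BS.Amb
import Cfsg.Agent.Lib.Helper72.BS.Fact

set_option autoImplicit false
open Cfsg

namespace Cfsg.Agent.S2277

open Subgroup

structure Hy (p : ℕ) {G : Type*} [Group G] (N : Subgroup G) {ι κ : Type*} (c : ι → G) (d : κ → G) :
    Prop where
  cl : closure (Set.range c) = closure (Set.range d)
  pg : IsPGroup p (closure (Set.range c))
  cop : (Nat.card N).Coprime p
  pair : ∀ x ∈ N, ∀ i j, IsPGroup p (closure ({x * c i * x⁻¹, d j} : Set G))

theorem isPGroup_of_map {p : ℕ} {G H : Type*} [Group G] [Group H] (f : H →* G)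
    (hf : Function.Injective f) (K : Subgroup H) (h : IsPGroup p (K.map f)) : IsPGroup p K := by
  intro g
  obtain ⟨k, hk⟩ := h ⟨f g, mem_map_of_mem f g.2⟩
  refine ⟨k, ?_⟩
  apply Subtype.ext
  apply hf
  have := congrArg Subtype.val hk
  simpa using this

theorem Hy.of_injective {p : ℕ} {G H : Type*} [Group G] [Group H] [Finite G] {N : Subgroup G}
    {ι κ : Type*} {c : ι → G} {d : κ → G} (h : Hy p N c d) (f : H →* G)
    (hf : Function.Injective f) (N' : Subgroup H) (hN' : N'.map f ≤ N) (c' : ι → H) (d' : κ → H)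
    (hc : ∀ i, f (c' i) = c i) (hd : ∀ j, f (d' j) = d j) : Hy p N' c' d' := by
  have hc' : f ∘ c' = c := funext hc
  have hd' : f ∘ d' = d := funext hd
  have e1 : (closure (Set.range c')).map f = closure (Set.range c) := by
    rw [MonoidHom.map_closure, ← Set.range_comp, hc']
  have e2 : (closure (Set.range d')).map f = closure (Set.range d) := by
    rw [MonoidHom.map_closure, ← Set.range_comp, hd']
  refine ⟨?_, ?_, ?_, ?_⟩
  · apply map_injective hf
    rw [e1, e2, h.cl]
  · apply isPGroup_of_map f hf
    rw [e1]; exact h.pg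
  · have h1 : Nat.card N' = Nat.card (N'.map f) := (card_map_of_injective hf).symm
    rw [h1]
    exact Nat.Coprime.coprime_dvd_left (card_dvd_of_le hN') h.cop
  · intro x hx i j
    apply isPGroup_of_map f hf
    rw [MonoidHom.map_closure, Set.image_pair]
    have := h.pair (f x) (hN' (mem_map_of_mem f hx)) i j
    rw [map_mul, map_mul, map_inv, hc, hd]
    exact this

theorem Hy.map {p : ℕ} {G H : Type*} [Group G] [Group H] [Finite G] {N : Subgroup G}
    {ι κ : Type*} {c : ι → G} {d : κ → G} (h : Hy p N c d) (f : G →* H) :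
    Hy p (N.map f) (f ∘ c) (f ∘ d) := by
  have e1 : closure (Set.range (f ∘ c)) = (closure (Set.range c)).map f := by
    rw [MonoidHom.map_closure, ← Set.range_comp]
  have e2 : closure (Set.range (f ∘ d)) = (closure (Set.range d)).map f := by
    rw [MonoidHom.map_closure, ← Set.range_comp]
  refine ⟨?_, ?_, ?_, ?_⟩
  · rw [e1, e2, h.cl]
  · rw [e1]; exact h.pg.map f
  · exact Nat.Coprime.coprime_dvd_left (card_map_dvd N f) h.cop
  · rintro _ ⟨x, hx, rfl⟩ i j
    have := (h.pair x hx i j).map f
    rw [MonoidHom.map_closure, Set.image_pair, map_mul, map_mul, map_inv] at this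
    exact this

theorem Hy.mono {p : ℕ} {G : Type*} [Group G] [Finite G] {N K : Subgroup G}
    {ι κ : Type*} {c : ι → G} {d : κ → G} (h : Hy p N c d) (hK : K ≤ N) : Hy p K c d :=
  ⟨h.cl, h.pg, Nat.Coprime.coprime_dvd_left (card_dvd_of_le hK) h.cop,
    fun x hx i j => h.pair x (hK hx) i j⟩

theorem eq_one_of_comm {G : Type*} [Group G] [Finite G] {p : ℕ} (N : Subgroup G)
    (hcop : (Nat.card N).Coprime p) (g x y : G) (hg : ∃ k : ℕ, g ^ p ^ k = 1) (hy : y ∈ N)
    (hxy : g * x * g⁻¹ = x * y) (hgy : g * y = y * g) : y = 1 := by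
  have key : ∀ n : ℕ, g ^ n * x * (g ^ n)⁻¹ = x * y ^ n := by
    intro n
    induction n with
    | zero => simp
    | succ n ih =>
      have hgyn : g * y ^ n * g⁻¹ = y ^ n := by
        have : Commute g (y ^ n) := Commute.pow_right hgy n
        rw [this.eq]; group
      calc g ^ (n + 1) * x * (g ^ (n + 1))⁻¹ = g * (g ^ n * x * (g ^ n)⁻¹) * g⁻¹ := by
            rw [pow_succ']; group
        _ = (g * x * g⁻¹) * (g * y ^ n * g⁻¹) := by rw [ih]; group
        _ = x * y ^ (n + 1) := by rw [hxy, hgyn, pow_succ', mul_assoc]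
  obtain ⟨k, hk⟩ := hg
  have h1 : y ^ p ^ k = 1 := by
    have := key (p ^ k)
    rw [hk] at this
    simpa using this.symm
  have h2 : y ^ Nat.card N = 1 := by
    have h := pow_card_eq_one' (x := (⟨y, hy⟩ : N))
    have h' := congrArg Subtype.val h
    rwa [Subgroup.coe_pow, Subgroup.coe_one] at h'
  have h3 : orderOf y ∣ Nat.gcd (Nat.card N) (p ^ k) :=
    Nat.dvd_gcd (orderOf_dvd_of_pow_eq_one h2) (orderOf_dvd_of_pow_eq_one h1)
  rw [Nat.Coprime.pow_right k hcop] at h3
  exact orderOf_eq_one_iff.mp (Nat.dvd_one.mp h3)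

universe u

/-- the induction hypothesis / conclusion -/
def Concl (p : ℕ) (ι κ : Type*) (n : ℕ) : Prop :=
  ∀ (G : Type u) [Group G] [Finite G] (N : Subgroup G) [N.Normal] (c : ι → G) (d : κ → G),
    Hy p N c d → Nat.card N = n → ∀ i, ∀ x ∈ N, c i * x = x * c i

theorem card_map_mk_lt {G : Type*} [Group G] [Finite G] (N K : Subgroup G) [K.Normal] (hK : K ≤ N)
    (hK1 : K ≠ ⊥) : Nat.card (N.map (QuotientGroup.mk' K)) < Nat.card N := by
  have h1 : Nat.card (N.map (QuotientGroup.mk' K)) * Nat.card K = Nat.card N := by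
    have e1 := Subgroup.card_mul_index (N.map (QuotientGroup.mk' K))
    have e2 : (N.map (QuotientGroup.mk' K)).index = N.index := by
      rw [Subgroup.index_map, QuotientGroup.ker_mk', sup_eq_left.mpr hK,
        MonoidHom.range_eq_top.mpr (QuotientGroup.mk'_surjective K)]
      simp
    have e3 := Subgroup.card_mul_index N
    have e4 := Subgroup.card_eq_card_quotient_mul_card_subgroup K
    have hpos : 0 < N.index := Nat.pos_of_ne_zero (Subgroup.index_ne_zero_of_finite)
    rw [e2] at e1
    apply Nat.eq_of_mul_eq_mul_right hpos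
    calc Nat.card (N.map (QuotientGroup.mk' K)) * Nat.card K * N.index
        = (Nat.card (N.map (QuotientGroup.mk' K)) * N.index) * Nat.card K := by ring
      _ = Nat.card (G ⧸ K) * Nat.card K := by rw [e1]
      _ = Nat.card G := e4.symm
      _ = Nat.card N * N.index := e3.symm
  have h2 : 1 < Nat.card K := by
    rw [Finite.one_lt_card_iff_nontrivial]
    exact (Subgroup.nontrivial_iff_ne_bot K).mpr hK1
  have h3 : 0 < Nat.card (N.map (QuotientGroup.mk' K)) := Nat.card_pos
  nlinarith

theorem arith {p n A B : ℕ} (hp3 : 3 ≤ p) (hn : 2 ≤ n) (h1 : n ≤ A * B) (hA : A ^ p ≤ n)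
    (hB : B ^ p ≤ n) : False := by
  have h2 : n ^ p ≤ n ^ 2 := by
    calc n ^ p ≤ (A * B) ^ p := Nat.pow_le_pow_left h1 p
      _ = A ^ p * B ^ p := mul_pow A B p
      _ ≤ n * n := Nat.mul_le_mul hA hB
      _ = n ^ 2 := (sq n).symm
  have h3 : n ^ 2 < n ^ p := Nat.pow_lt_pow_right (by omega) (by omega)
  omega

theorem step (p : ℕ) [Fact p.Prime] (hp3 : 3 ≤ p) {ι κ : Type*} (n : ℕ)
    (IH : ∀ m < n, Concl.{u} p ι κ m) (G : Type u) [Group G] [Finite G] (N : Subgroup G) [N.Normal]
    (c : ι → G) (d : κ → G) (h : Hy p N c d) (hn : Nat.card N = n)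
    (htop : N ⊔ closure (Set.range c) = ⊤) : ∀ i, ∀ x ∈ N, c i * x = x * c i := by
  classical
  set P := closure (Set.range c) with hPdef
  have hcP : ∀ i, c i ∈ P := fun i => subset_closure ⟨i, rfl⟩
  have hdP : ∀ j, d j ∈ P := fun j => by rw [hPdef, h.cl]; exact subset_closure ⟨j, rfl⟩
  have hcpow : ∀ i, ∃ k : ℕ, c i ^ p ^ k = 1 := by
    intro i
    obtain ⟨k, hk⟩ := h.pg ⟨c i, hcP i⟩
    refine ⟨k, ?_⟩
    have h' := congrArg Subtype.val hk
    rwa [Subgroup.coe_pow, Subgroup.coe_one] at h'
  by_cases hA : ∃ K : Subgroup G, K.Normal ∧ K ≤ N ∧ K ≠ ⊥ ∧ K ≠ N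
  · obtain ⟨K, hKn, hKN, hK1, hK2⟩ := hA
    have hlt : Nat.card K < n := by
      rw [← hn]
      rcases lt_or_eq_of_le (Subgroup.card_le_of_le hKN) with h1 | h1
      · exact h1
      · exact absurd (Subgroup.eq_of_le_of_card_ge hKN h1.ge) hK2
    have c1 := IH _ hlt G K c d (h.mono hKN) rfl
    have hlt2 : Nat.card (N.map (QuotientGroup.mk' K)) < n := hn ▸ card_map_mk_lt N K hKN hK1
    have : (N.map (QuotientGroup.mk' K)).Normal :=
      Normal.map inferInstance _ (QuotientGroup.mk'_surjective K)
    have c2 := IH _ hlt2 (G ⧸ K) (N.map (QuotientGroup.mk' K)) _ _ (h.map (QuotientGroup.mk' K)) rfl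
    intro i x hx
    have h3 := c2 i (QuotientGroup.mk' K x) (mem_map_of_mem _ hx)
    set y := x⁻¹ * (c i * x * (c i)⁻¹) with hy
    have hyK : y ∈ K := by
      rw [← QuotientGroup.eq_one_iff]
      have h4 : (QuotientGroup.mk' K) (c i) * (QuotientGroup.mk' K) x
          = (QuotientGroup.mk' K) x * (QuotientGroup.mk' K) (c i) := h3
      change (QuotientGroup.mk' K) y = 1
      rw [hy, map_mul, map_mul, map_mul, map_inv, map_inv, h4]
      group
    have hy1 : y = 1 := eq_one_of_comm N h.cop (c i) x y (hcpow i) (hKN hyK)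
      (by rw [hy]; group) (c1 i y hyK)
    have : c i * x * (c i)⁻¹ = x := by
      have : c i * x * (c i)⁻¹ = x * y := by rw [hy]; group
      rw [this, hy1, mul_one]
    calc c i * x = (c i * x * (c i)⁻¹) * c i := by group
      _ = x * c i := by rw [this]
  · have hmin : ∀ K : Subgroup G, K.Normal → K ≤ N → K = ⊥ ∨ K = N := by
      intro K hKn hKN
      by_contra hcon
      push Not at hcon
      exact hA ⟨K, hKn, hKN, hcon.1, hcon.2⟩
    have hPN : P ≤ normalizer (N : Set G) := le_normalizer_of_normal
    have hcopPN : (Nat.card P).Coprime (Nat.card N) := by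
      obtain ⟨k, hk⟩ := IsPGroup.iff_card.mp h.pg
      rw [hk]
      exact (Nat.Coprime.pow_right k h.cop).symm
    have hsolv : Group.IsSolvable P := by
      have := h.pg.isNilpotent
      infer_instance
    by_cases hq : ∃ q : ℕ, q.Prime ∧ IsPGroup q N
    · -- the abelian case
      obtain ⟨q, hqp, hqN⟩ := hq
      have : Fact q.Prime := ⟨hqp⟩
      by_contra hne
      push Not at hne
      obtain ⟨i₀, x₀, hx₀, hne⟩ := hne
      have hN1 : N ≠ ⊥ := by
        rintro rfl
        rw [mem_bot] at hx₀
        subst hx₀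
        simp at hne
      have hcomm : ∀ a ∈ N, ∀ b ∈ N, a * b = b * a := by
        have : Nontrivial N := (Subgroup.nontrivial_iff_ne_bot N).mpr hN1
        have hc := hqN.center_nontrivial
        obtain ⟨z, hz⟩ := exists_ne (1 : center N)
        have hZ : (N ⊓ centralizer (N : Set G)) = ⊥ ∨ (N ⊓ centralizer (N : Set G)) = N :=
          hmin _ inferInstance inf_le_left
        rcases hZ with hZ | hZ
        · exfalso
          have hzmem : ((z : N) : G) ∈ N ⊓ centralizer (N : Set G) := by
            refine mem_inf.mpr ⟨(z : N).2, ?_⟩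
            rw [mem_centralizer_iff]
            intro b hb
            have := (mem_center_iff.mp z.2) ⟨b, hb⟩
            exact congrArg Subtype.val this
          rw [hZ, mem_bot] at hzmem
          apply hz
          apply Subtype.ext
          apply Subtype.ext
          exact hzmem
        · intro a ha b hb
          have hb' : b ∈ centralizer (N : Set G) := by
            have : b ∈ N ⊓ centralizer (N : Set G) := by rw [hZ]; exact hb
            exact (mem_inf.mp this).2
          exact (mem_centralizer_iff.mp hb') a ha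
      have hirr : ∀ K : Subgroup G, K ≤ N → (∀ g ∈ P, ∀ w ∈ K, g * w * g⁻¹ ∈ K) →
          K = ⊥ ∨ K = N := by
        intro K hKN hKP
        apply hmin K _ hKN
        rw [← normalizer_eq_top_iff, eq_top_iff, ← htop, sup_le_iff]
        constructor
        · intro g hg
          rw [mem_normalizer_iff]
          intro w
          constructor
          · intro hw
            have : g * w * g⁻¹ = w := by rw [hcomm g hg w (hKN hw)]; group
            rw [this]; exact hw
          · intro hw
            have h1 : g * w * g⁻¹ ∈ N := hKN hw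
            have h2 : w ∈ N := by
              have := N.mul_mem (N.mul_mem (N.inv_mem hg) h1) hg
              have e : g⁻¹ * (g * w * g⁻¹) * g = w := by group
              rwa [e] at this
            have : g * w * g⁻¹ = w := by rw [hcomm g hg w h2]; group
            rw [this] at hw; exact hw
        · intro g hg
          rw [mem_normalizer_iff]
          intro w
          constructor
          · intro hw
            exact hKP g hg w hw
          · intro hw
            have := hKP g⁻¹ (P.inv_mem hg) _ hw
            have e : g⁻¹ * (g * w * g⁻¹) * g⁻¹⁻¹ = w := by group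
            rwa [e] at this
      obtain ⟨M, hPM, hM⟩ := Cfsg.Agent.Lib.Helper72.BS.exists_proper_amb (p := p) (by omega) P N h.pg
        hcomm h.cop hirr ⟨c i₀, hcP i₀, x₀, hx₀, hne⟩
      have hi : ∃ i, c i ∉ M := by
        by_contra hcon
        push Not at hcon
        apply hPM
        rw [hPdef, closure_le]
        rintro _ ⟨i, rfl⟩
        exact hcon i
      have hj : ∃ j, d j ∉ M := by
        by_contra hcon
        push Not at hcon
        apply hPM
        rw [hPdef, h.cl, closure_le]
        rintro _ ⟨j, rfl⟩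
        exact hcon j
      obtain ⟨i, hi⟩ := hi
      obtain ⟨j, hj⟩ := hj
      have hle := Cfsg.Agent.Lib.Helper72.BS.card_le_of_fact N P h.pg h.cop (c i) (d j) (hcP i) (hdP j)
        (fun x hx => h.pair x hx i j)
      have h2 : 2 ≤ Nat.card N := by
        have : Nontrivial N := (Subgroup.nontrivial_iff_ne_bot N).mpr hN1
        exact Finite.one_lt_card
      exact arith hp3 h2 hle (hM _ (hdP j) hj) (hM _ (hcP i) hi)
    · -- not of prime power order
      intro i
      have key : N ⊓ centralizer {c i} = N := by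
        apply Cfsg.Agent.Lib.Helper72.BS.eq_of_forall_isSylowIn_le N _ inf_le_left
        intro q hqf
        obtain ⟨Q, hQ, hPQ⟩ := Cfsg.Agent.Lib.Helper30.exists_invariant_isSylowIn hPN hcopPN
          (Or.inl hsolv) q
        refine ⟨Q, hQ, ?_⟩
        have hQN : Q ≠ N := by
          rintro rfl
          exact hq ⟨q, hqf.out, hQ.isPGroup⟩
        have hlt : Nat.card Q < n := by
          rw [← hn]
          rcases lt_or_eq_of_le (Subgroup.card_le_of_le hQ.le) with h1 | h1
          · exact h1
          · exact absurd (Subgroup.eq_of_le_of_card_ge hQ.le h1.ge) hQN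
        set R := normalizer (Q : Set G) with hR
        have : (Q.subgroupOf R).Normal := normal_in_normalizer
        have hy' : Hy p (Q.subgroupOf R) (fun i => (⟨c i, hPQ (hcP i)⟩ : R))
            (fun j => (⟨d j, hPQ (hdP j)⟩ : R)) :=
          h.of_injective R.subtype R.subtype_injective _
            (by rw [subgroupOf_map_subtype]; exact inf_le_left.trans hQ.le) _ _
            (fun _ => rfl) (fun _ => rfl)
        have hcard : Nat.card (Q.subgroupOf R) = Nat.card Q := by
          rw [← card_map_of_injective R.subtype_injective, map_subgroupOf_eq_of_le le_normalizer]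
        have c3 := IH _ (hcard ▸ hlt) R (Q.subgroupOf R) _ _ hy' rfl i
        intro x hx
        refine mem_inf.mpr ⟨hQ.le hx, ?_⟩
        rw [mem_centralizer_singleton_iff]
        have := c3 ⟨x, le_normalizer hx⟩ (by rw [mem_subgroupOf]; exact hx)
        exact (congrArg Subtype.val this).symm
      intro x hx
      have : x ∈ N ⊓ centralizer {c i} := by rw [key]; exact hx
      have := (mem_inf.mp this).2
      rw [mem_centralizer_singleton_iff] at this
      exact this.symm

theorem main (p : ℕ) [Fact p.Prime] (hp3 : 3 ≤ p) {ι κ : Type*} (n : ℕ) : Concl.{u} p ι κ n := by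
  induction n using Nat.strong_induction_on with
  | _ n IH =>
    intro G _ _ N _ c d h hn
    set P := closure (Set.range c) with hPdef
    have hcP : ∀ i, c i ∈ P := fun i => subset_closure ⟨i, rfl⟩
    have hdP : ∀ j, d j ∈ P := fun j => by rw [hPdef, h.cl]; exact subset_closure ⟨j, rfl⟩
    set H := N ⊔ P with hH
    have hNH : N ≤ H := le_sup_left
    have hPH : P ≤ H := le_sup_right
    have hy' : Hy p (N.subgroupOf H) (fun i => (⟨c i, hPH (hcP i)⟩ : H))
        (fun j => (⟨d j, hPH (hdP j)⟩ : H)) :=
      h.of_injective H.subtype H.subtype_injective _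
        (by rw [subgroupOf_map_subtype]; exact inf_le_left) _ _ (fun _ => rfl) (fun _ => rfl)
    have hcard : Nat.card (N.subgroupOf H) = n := by
      rw [← card_map_of_injective H.subtype_injective, map_subgroupOf_eq_of_le hNH, hn]
    have htop : N.subgroupOf H ⊔ closure (Set.range (fun i => (⟨c i, hPH (hcP i)⟩ : H))) = ⊤ := by
      apply map_injective H.subtype_injective
      rw [Subgroup.map_sup, map_subgroupOf_eq_of_le hNH, MonoidHom.map_closure, ← Set.range_comp,
        ← MonoidHom.range_eq_map, range_subtype]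
      rfl
    have c3 := step p hp3 n IH H (N.subgroupOf H) _ _ hy' hcard htop
    intro i x hx
    have := c3 i ⟨x, hNH hx⟩ (by rw [mem_subgroupOf]; exact hx)
    exact congrArg Subtype.val this

/-- Let p ≥ 3 be prime and G a finite group with a Sylow p-subgroup P and a normal p-complement N (N normal, of order prime to p, with NP = G). Suppose P is generated by a subset C and also by a subset D, and that ⟨x c x⁻¹, d⟩ is a p-group for all x ∈ N, c ∈ C, d ∈ D. Then P centralizes N, so that G = N × P. -/
theorem result {G : Type*} [Group G] [Finite G] (p : ℕ) [Fact p.Prime] (hp3 : 3 ≤ p) (P : Sylow p G)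
    (N : Subgroup G) [N.Normal] (hN : (Nat.card N).Coprime p) (hNP : N ⊔ (P : Subgroup G) = ⊤)
    (C D : Set G) (hC : Subgroup.closure C = (P : Subgroup G)) (hD : Subgroup.closure D = (P : Subgroup G))
    (h : ∀ x ∈ N, ∀ c ∈ C, ∀ d ∈ D, IsPGroup p ↥(Subgroup.closure ({x * c * x⁻¹, d} : Set G))) :
    ⁅(P : Subgroup G), N⁆ = ⊥ := by
  have hy : Hy p N (Subtype.val : C → G) (Subtype.val : D → G) := by
    refine ⟨?_, ?_, hN, ?_⟩
    · rw [Subtype.range_coe, Subtype.range_coe, hC, hD]
    · rw [Subtype.range_coe, hC]; exact P.2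
    · intro x hx i j
      exact h x hx i.1 i.2 j.1 j.2
  have hm := main p hp3 (Nat.card N) G N _ _ hy rfl
  rw [commutator_eq_bot_iff_le_centralizer, ← hC, closure_le]
  intro c hc
  rw [SetLike.mem_coe, mem_centralizer_iff]
  intro x hx
  exact (hm ⟨c, hc⟩ x hx).symm

end Cfsg.Agent.S2277
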