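import Cfsg.Statements.S2352
-- import your own Cfsg.Agent.* helpers here
import Mathlib

set_option autoImplicit false
open Cfsg

namespace Cfsg.Agent.S2352


/-- Free groups are residually finite (in the form: a non-trivial element acts non-trivially
on some finite set). -/
theorem exists_finite_action (w : FreeGroup ℕ) (hw : w ≠ 1) :
    ∃ (S : Type) (_ : Finite S) (σ : ℕ → Equiv.Perm S), FreeGroup.lift σ w ≠ 1 := by
  classical
  set L := w.toWord with hL
  have hLw : FreeGroup.mk L = w := FreeGroup.mk_toWord
  let S : Set (FreeGroup ℕ) := FreeGroup.mk '' {T | T ∈ L.tails}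
  have hSfin : S.Finite := (List.finite_toSet L.tails).image _
  have hmem : ∀ T, T <:+ L → FreeGroup.mk T ∈ S := fun T hT => ⟨T, (List.mem_tails _ _).2 hT, rfl⟩
  have hex : ∀ a : ℕ, ∃ σ : Equiv.Perm S, ∀ s : {s : S // FreeGroup.of a * s.1 ∈ S},
      σ s.1 = ⟨FreeGroup.of a * s.1.1, s.2⟩ := by
    intro a
    haveI : Finite S := hSfin
    apply Equiv.Perm.exists_extending_pair (fun s : {s : S // FreeGroup.of a * s.1 ∈ S} => s.1)
      (fun s => ⟨FreeGroup.of a * s.1.1, s.2⟩)
    · exact Subtype.val_injective
    · intro s t hst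
      have := congrArg Subtype.val hst
      simp only [mul_right_inj] at this
      exact Subtype.ext (Subtype.ext this)
  choose σ hσ using hex
  have h1 : (1 : FreeGroup ℕ) ∈ S := by
    have := hmem [] (List.nil_suffix)
    rwa [← FreeGroup.one_eq_mk] at this
  have key : ∀ T, T <:+ L → ((FreeGroup.lift σ (FreeGroup.mk T)) ⟨1, h1⟩ : S).1 = FreeGroup.mk T := by
    intro T
    induction T with
    | nil =>
      intro _
      rw [← FreeGroup.one_eq_mk, map_one]
      rfl
    | cons x T' ih =>
      intro hT
      obtain ⟨a, b⟩ := x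
      have hT' : T' <:+ L := (List.suffix_cons _ _).trans hT
      have ih' := ih hT'
      have hsplit : FreeGroup.mk ((a, b) :: T') = FreeGroup.mk [(a, b)] * FreeGroup.mk T' := by
        rw [FreeGroup.mul_mk]; rfl
      have ihS : (FreeGroup.lift σ (FreeGroup.mk T')) ⟨1, h1⟩ = ⟨FreeGroup.mk T', hmem T' hT'⟩ :=
        Subtype.ext ih'
      rw [hsplit, map_mul, Equiv.Perm.mul_apply, ihS]
      cases b with
      | true =>
        have e1 : FreeGroup.mk [(a, true)] = FreeGroup.of a := rfl
        rw [e1, FreeGroup.lift_apply_of]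
        have hm : FreeGroup.of a * FreeGroup.mk T' ∈ S := by
          have := hmem _ hT
          rwa [hsplit, e1] at this
        have := hσ a ⟨⟨FreeGroup.mk T', hmem T' hT'⟩, hm⟩
        rw [this]
      | false =>
        have e1 : FreeGroup.mk [(a, false)] = (FreeGroup.of a)⁻¹ := rfl
        rw [e1, map_inv, FreeGroup.lift_apply_of]
        have hm : (FreeGroup.of a)⁻¹ * FreeGroup.mk T' ∈ S := by
          have := hmem _ hT
          rwa [hsplit, e1] at this
        have hm2 : FreeGroup.of a * ((FreeGroup.of a)⁻¹ * FreeGroup.mk T') ∈ S := by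
          rw [mul_inv_cancel_left]; exact hmem T' hT'
        have := hσ a ⟨⟨(FreeGroup.of a)⁻¹ * FreeGroup.mk T', hm⟩, hm2⟩
        have e2 : (σ a)⁻¹ ⟨FreeGroup.mk T', hmem T' hT'⟩
            = ⟨(FreeGroup.of a)⁻¹ * FreeGroup.mk T', hm⟩ := by
          rw [Equiv.Perm.inv_eq_iff_eq, this]
          exact Subtype.ext (by simp)
        rw [e2]
  refine ⟨S, hSfin, σ, ?_⟩
  intro hcon
  have := key L (List.suffix_refl L)
  rw [hLw, hcon] at this
  exact hw this.symm

/-- A non-trivial law holds in only finitely many alternating groups: for every non-trivial element w of the free group on countably many generators there is N such that for all n ≥ N some substitution of elements of the alternating group of degree n into w is not the identity. -/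
theorem result (w : FreeGroup ℕ) (hw : w ≠ 1) :
    ∃ N : ℕ, ∀ n : ℕ, N ≤ n → ∃ f : ℕ → alternatingGroup (Fin n), FreeGroup.lift f w ≠ 1 := by
  classical
  obtain ⟨S, hS, σ, hσ⟩ := exists_finite_action w hw
  haveI := Fintype.ofFinite S
  refine ⟨Fintype.card (S ⊕ S), ?_⟩
  intro n hn
  obtain ⟨ι⟩ : Nonempty ((S ⊕ S) ↪ Fin n) := by
    apply Function.Embedding.nonempty_of_card_le
    simpa using hn
  let ψ : Equiv.Perm S →* Equiv.Perm (Fin n) :=
    (Equiv.Perm.viaEmbeddingHom ι).comp
      ((Equiv.Perm.sumCongrHom S S).comp (MonoidHom.prod (MonoidHom.id _) (MonoidHom.id _)))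
  have hψinj : Function.Injective ψ := by
    apply (Equiv.Perm.viaEmbeddingHom_injective ι).comp
    apply (Equiv.Perm.sumCongrHom_injective).comp
    intro a b hab
    exact congrArg Prod.fst hab
  have hψalt : ∀ τ, ψ τ ∈ alternatingGroup (Fin n) := by
    intro τ
    rw [Equiv.Perm.mem_alternatingGroup]
    have e : ψ τ = Equiv.Perm.viaEmbedding (Equiv.Perm.sumCongr τ τ) ι := rfl
    rw [e]
    unfold Equiv.Perm.viaEmbedding
    rw [Equiv.Perm.sign_extendDomain, Equiv.Perm.sign_sumCongr]
    exact Int.units_mul_self _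
  refine ⟨fun a => ⟨ψ (σ a), hψalt _⟩, ?_⟩
  intro hcon
  have hcomp : (alternatingGroup (Fin n)).subtype.comp
      (FreeGroup.lift (fun a => (⟨ψ (σ a), hψalt _⟩ : alternatingGroup (Fin n))))
      = ψ.comp (FreeGroup.lift σ) := by
    ext a
    simp
  have := DFunLike.congr_fun hcomp w
  simp only [MonoidHom.comp_apply, hcon, map_one] at this
  apply hσ
  apply hψinj
  rw [← this, map_one]

end Cfsg.Agent.S2352
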