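import Cfsg.Statements.S2362
import Cfsg.Agent.Lib.Helper99.SPD.Main
import Cfsg.Agent.Lib.Helper99.SPD.PartA
import Cfsg.Agent.S0790

set_option autoImplicit false
open Cfsg
open Cfsg.Agent.Lib.Helper18 Cfsg.Agent.Lib.Helper18.OmegaCenter Cfsg.Agent.Lib.Helper49
  Cfsg.Agent.Lib.Helper99.SPD

namespace Cfsg.Agent.S2362

/-- Let F be a finite field of odd order and n ≥ 3. The simple orthogonal group PΩ(2n+1, F) (type B_n) and the projective symplectic group PSp(2n, F) (type C_n), which have the same order, do not have the same set of element orders. -/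
theorem result {F : Type*} [Field F] [Fintype F] (hodd : Odd (Fintype.card F)) (n : ℕ) (hn : 3 ≤ n) :
    Set.range (orderOf : Cfsg.POmega F (Cfsg.quadFormOdd n F) → ℕ) ≠ Set.range (orderOf : Cfsg.PSp n F → ℕ) := by
  have h2 : (2 : F) ≠ 0 := Cfsg.Agent.S0790.two_ne_zero_of_odd_card hodd
  obtain ⟨p, hchar⟩ := CharP.exists F
  have hp : Fact p.Prime := ⟨CharP.char_is_prime F p⟩
  intro heq
  obtain ⟨y, hy⟩ := exists_PSp_order (F := F) p h2 (n := n) (by omega)
  have hmem : p * (Fintype.card F ^ (n - 1) + 1) ∈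
      Set.range (orderOf : Cfsg.POmega F (Cfsg.quadFormOdd n F) → ℕ) := by
    rw [heq]
    exact ⟨y, hy⟩
  obtain ⟨x, hx⟩ := hmem
  have hZ : Nat.card (Subgroup.center ↥(Cfsg.Omega F (Cfsg.quadFormOdd n F))) = 1 := by
    rw [← oddQF_coe n F]
    have hQ := oddQF_nondegenerate n F h2
    apply card_center_eq_one (oddQF n F) hQ (frame_odd n hn)
    right
    rintro ⟨g, hg, hg1⟩
    have hd := det_of_mem_Omega (oddQF n F) g hg
    rw [hg1, Matrix.det_neg, Matrix.det_one] at hd
    have hc : Fintype.card (Unit ⊕ (Fin n ⊕ Fin n)) = 2 * n + 1 := by simp; omega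
    rw [hc, pow_succ, pow_mul] at hd
    simp only [even_two, Even.neg_pow, one_pow, one_mul, mul_one] at hd
    apply h2
    linear_combination -hd
  have hZbot : Subgroup.center ↥(Cfsg.Omega F (Cfsg.quadFormOdd n F)) = ⊥ :=
    Subgroup.card_eq_one.mp hZ
  obtain ⟨g, rfl⟩ := QuotientGroup.mk_surjective x
  have hinj : Function.Injective
      (QuotientGroup.mk' (Subgroup.center ↥(Cfsg.Omega F (Cfsg.quadFormOdd n F)))) := by
    rw [injective_iff_map_eq_one]
    intro a ha
    rw [QuotientGroup.mk'_apply, QuotientGroup.eq_one_iff, hZbot, Subgroup.mem_bot] at ha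
    exact ha
  have hg1 : orderOf g = p * (Fintype.card F ^ (n - 1) + 1) := by
    rw [← hx]
    exact (orderOf_injective _ hinj g).symm
  have hg2 : orderOf (g : ↥(Cfsg.isometryGroup F (Cfsg.quadFormOdd n F))) =
      p * (Fintype.card F ^ (n - 1) + 1) := by
    rw [← hg1]
    exact Subgroup.orderOf_coe g
  have hcard := card_V (F := F) h2 n
  have hgm := g.2
  revert hg2 hgm hcard
  generalize (g : ↥(Cfsg.isometryGroup F (Cfsg.quadFormOdd n F))) = g'
  revert g'
  rw [← oddQF_coe n F]
  intro g' hg2 hcard hgm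
  exact no_order h2 hodd p hn (oddQF n F) (oddQF_nondegenerate n F h2) (by simp; omega) hcard g' hgm
    hg2

end Cfsg.Agent.S2362
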