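import Cfsg.Statements.S2467
import Cfsg.Agent.Lib.Helper65.AltSpec

set_option autoImplicit false
open Cfsg

namespace Cfsg.Agent.S2467

lemma two_le_sum_of_odd (m : Multiset ℕ) (h2 : ∀ a ∈ m, 2 ≤ a) (h : Odd (m.sum + m.card)) : 2 ≤ m.sum := by
  rcases Multiset.empty_or_exists_mem m with rfl | ⟨c, hc⟩
  · simp at h
  · exact (h2 c hc).trans (Multiset.le_sum_of_mem hc)

/-- Adjacency of 2 and an odd prime in the prime graph of the alternating groups: let r be an odd prime at most n, with n ≥ 4. The alternating group of degree n has an element of order 2r if and only if r + 4 ≤ n. -/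
theorem result (n r : ℕ) (hn : 4 ≤ n) (hr : r.Prime) (hr2 : r ≠ 2) (hrn : r ≤ n) :
    (2 * r ∈ Set.range (orderOf : alternatingGroup (Fin n) → ℕ)) ↔ r + 4 ≤ n := by
  rw [Cfsg.Agent.Lib.Helper65.AltSpec.mem_range_orderOf_alt_iff]
  have hodd : Odd r := hr.odd_of_ne_two hr2
  have hcop : Nat.Coprime 2 r := (Nat.coprime_primes Nat.prime_two hr).mpr (Ne.symm hr2)
  have hr3 : 3 ≤ r := by
    have := hr.two_le
    omega
  constructor
  · rintro ⟨m, h2, hsum, hev, hl⟩
    obtain ⟨a, ha, hra⟩ := Cfsg.Agent.Lib.Helper65.AltSpec.exists_dvd_of_prime_dvd_lcm hr m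
      (hl ▸ Dvd.intro_left _ rfl)
    obtain ⟨b, hb, h2b⟩ := Cfsg.Agent.Lib.Helper65.AltSpec.exists_dvd_of_prime_dvd_lcm Nat.prime_two m
      (hl ▸ Dvd.intro _ rfl)
    obtain ⟨m', rfl⟩ := Multiset.exists_cons_of_mem ha
    rw [Multiset.sum_cons] at hsum
    rw [Multiset.sum_cons, Multiset.card_cons] at hev
    have ha0 : 0 < a := by have := h2 a ha; omega
    have hb0 : 0 < b := by have := h2 b hb; omega
    have h2' : ∀ x ∈ m', 2 ≤ x := fun x hx => h2 x (Multiset.mem_cons_of_mem hx)
    rcases Nat.even_or_odd a with hae | hao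
    · have h1 : 2 * r ≤ a := Nat.le_of_dvd ha0 (hcop.mul_dvd_of_dvd_of_dvd hae.two_dvd hra)
      have h3 : Odd (m'.sum + m'.card) := by
        by_contra hcon
        rw [Nat.not_odd_iff_even] at hcon
        have h4 : Even (a + (m'.sum + m'.card)) := hae.add hcon
        have h5 : a + m'.sum + (m'.card + 1) = a + (m'.sum + m'.card) + 1 := by ring
        rw [h5] at hev
        exact (Nat.not_even_iff_odd.mpr h4.add_one) hev
      have := two_le_sum_of_odd m' h2' h3
      omega
    · have hba : b ≠ a := by
        rintro rfl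
        exact (Nat.not_even_iff_odd.mpr hao) (even_iff_two_dvd.mpr h2b)
      have hb' : b ∈ m' := (Multiset.mem_cons.mp hb).resolve_left hba
      obtain ⟨m'', rfl⟩ := Multiset.exists_cons_of_mem hb'
      rw [Multiset.sum_cons] at hsum
      rw [Multiset.sum_cons, Multiset.card_cons] at hev
      have h2'' : ∀ x ∈ m'', 2 ≤ x := fun x hx => h2' x (Multiset.mem_cons_of_mem hx)
      have hbe : Even b := even_iff_two_dvd.mpr h2b
      have h3 : Odd (m''.sum + m''.card) := by
        by_contra hcon
        rw [Nat.not_odd_iff_even] at hcon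
        have h4 : Even ((a + 1) + b + (m''.sum + m''.card)) := (hao.add_one.add hbe).add hcon
        have h5 : a + (b + m''.sum) + (m''.card + 1 + 1) = (a + 1) + b + (m''.sum + m''.card) + 1 := by ring
        rw [h5] at hev
        exact (Nat.not_even_iff_odd.mpr h4.add_one) hev
      have := two_le_sum_of_odd m'' h2'' h3
      have h1 : r ≤ a := Nat.le_of_dvd ha0 hra
      have h6 : 2 ≤ b := h2 b hb
      omega
  · intro h
    refine ⟨{r, 2, 2}, ?_, ?_, ?_, ?_⟩
    · intro a ha
      simp only [Multiset.insert_eq_cons, Multiset.mem_cons, Multiset.mem_singleton] at ha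
      rcases ha with rfl | rfl | rfl
      · exact hr.two_le
      · exact le_rfl
      · exact le_rfl
    · simp only [Multiset.insert_eq_cons, Multiset.sum_cons, Multiset.sum_singleton]
      omega
    · simp only [Multiset.insert_eq_cons, Multiset.sum_cons, Multiset.sum_singleton,
        Multiset.card_cons, Multiset.card_singleton]
      obtain ⟨k, rfl⟩ := hodd
      exact ⟨k + 4, by ring⟩
    · simp only [Multiset.insert_eq_cons, Multiset.lcm_cons, Multiset.lcm_singleton, normalize_eq]
      have h1 : lcm 2 2 = 2 := by decide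
      rw [h1]
      have h3 : Nat.lcm r 2 = r * 2 := hcop.symm.lcm_eq_mul
      rw [mul_comm]
      exact h3

end Cfsg.Agent.S2467
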