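import Cfsg.Statements.S2468
import Cfsg.Agent.Lib.Helper65.PrimeGraphSL

set_option autoImplicit false
open Cfsg

namespace Cfsg.Agent.S2468

open Cfsg.Agent.Lib.Helper65.UnipCent

/-- Adjacency of two odd primes in the prime graph of PSL(n,q): let F be a finite field of characteristic p with q elements, n ≥ 2 with PSL(n,F) simple, and let r ≠ s be odd primes different from p dividing the order of PSL(n,F). Let k and l be the multiplicative orders of q modulo r and modulo s, and suppose 2 ≤ k ≤ l. Then PSL(n,F) has NO element of order r·s if and only if k + l > n and k does not divide l. -/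
theorem result {F : Type*} [Field F] [Fintype F] (p : ℕ) [Fact p.Prime] [CharP F p] (n : ℕ) (hn : 2 ≤ n) (hsmall : n = 2 → 4 ≤ Fintype.card F)
    (r s : ℕ) (hr : r.Prime) (hs : s.Prime) (hr2 : r ≠ 2) (hs2 : s ≠ 2) (hrp : r ≠ p) (hsp : s ≠ p) (hrs : r ≠ s)
    (hrG : r ∣ Nat.card (Matrix.ProjectiveSpecialLinearGroup (Fin n) F)) (hsG : s ∣ Nat.card (Matrix.ProjectiveSpecialLinearGroup (Fin n) F))
    (k l : ℕ) (hk : k = orderOf ((Fintype.card F : ℕ) : ZMod r)) (hl : l = orderOf ((Fintype.card F : ℕ) : ZMod s))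
    (h2k : 2 ≤ k) (hkl : k ≤ l) :
    (r * s ∉ Set.range (orderOf : Matrix.ProjectiveSpecialLinearGroup (Fin n) F → ℕ)) ↔ (n < k + l ∧ ¬ k ∣ l) := by
  have hq : 1 ≤ Fintype.card F := Fintype.card_pos
  have hrk : r ∣ Fintype.card F ^ k - 1 := by rw [hk]; exact dvd_pow_orderOf_sub_one hq
  have hsl : s ∣ Fintype.card F ^ l - 1 := by rw [hl]; exact dvd_pow_orderOf_sub_one hq
  have hrs' : Nat.Coprime r s := (Nat.coprime_primes hr hs).2 hrs
  constructor
  · intro h
    by_contra hcon
    apply h
    have hcop : Nat.Coprime (r * s) (Fintype.card F - 1) := by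
      apply Nat.Coprime.mul_left
      · exact (Nat.Prime.coprime_iff_not_dvd hr).2 (not_dvd_sub_one_of_two_le hq (hk ▸ h2k))
      · exact (Nat.Prime.coprime_iff_not_dvd hs).2
          (not_dvd_sub_one_of_two_le hq (hl ▸ (h2k.trans hkl)))
    have : NeZero k := ⟨by omega⟩
    have : NeZero l := ⟨by omega⟩
    by_cases hdiv : k ∣ l
    · have hln : l ≤ n := by
        rw [hl]; exact orderOf_le_of_dvd_card_PSL p (by omega) hs hsp hsG
      have hr' : r ∣ Fintype.card F ^ l - 1 :=
        hrk.trans (Nat.pow_sub_one_dvd_pow_sub_one _ hdiv)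
      obtain ⟨x, hx⟩ := exists_unit_orderOf (F := F) p l (r * s)
        (Nat.Coprime.mul_dvd_of_dvd_of_dvd hrs' hr' hsl)
      obtain ⟨g, hg⟩ := exists_orderOf_PSL (FiniteField.Extension F p l) n (by omega)
        (by rw [FiniteField.finrank_extension]; exact hln) x (by rw [hx]; exact hcop)
      exact ⟨g, by rw [hg, hx]⟩
    · have hkln : k + l ≤ n := by
        by_contra h1
        exact hcon ⟨by omega, hdiv⟩
      obtain ⟨x, hx⟩ := exists_unit_orderOf (F := F) p k r hrk
      obtain ⟨y, hy⟩ := exists_unit_orderOf (F := F) p l s hsl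
      have hu : orderOf (MulEquiv.prodUnits.symm (x, y) :
          (FiniteField.Extension F p k × FiniteField.Extension F p l)ˣ) = r * s := by
        rw [MulEquiv.orderOf_eq, Prod.orderOf, hx, hy]
        exact hrs'.lcm_eq_mul
      obtain ⟨g, hg⟩ := exists_orderOf_PSL (F := F)
        (FiniteField.Extension F p k × FiniteField.Extension F p l) n (by omega)
        (by rw [Module.finrank_prod, FiniteField.finrank_extension, FiniteField.finrank_extension]
            exact hkln) _ (by rw [hu]; exact hcop)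
      exact ⟨g, by rw [hg, hu]⟩
  · rintro ⟨hlt, hnd⟩ ⟨g, hg⟩
    apply hnd
    rw [hk, hl]
    refine dvd_of_commuting_PSL p (by omega) hr hs hrp hsp (g ^ s) (g ^ r) ?_ ?_ ?_ (hk ▸ h2k)
      (hk ▸ hl ▸ hkl) (hk ▸ hl ▸ hlt)
    · rw [orderOf_pow_of_dvd hs.ne_zero (by rw [hg]; exact Dvd.intro_left _ rfl), hg]
      exact Nat.mul_div_cancel _ hs.pos
    · rw [orderOf_pow_of_dvd hr.ne_zero (by rw [hg]; exact Dvd.intro _ rfl), hg]
      exact Nat.mul_div_cancel_left _ hr.pos
    · exact (Commute.refl g).pow_pow _ _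

end Cfsg.Agent.S2468
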