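import Cfsg.Statements.S2469
import Cfsg.Agent.Lib.Helper99.PSA.Main
import Cfsg.Agent.Lib.Helper48.SpSpec
import Cfsg.Agent.Lib.Helper11.PGBPSP
import Cfsg.Agent.S2472
import Cfsg.Agent.Lib.Helper66.PSABWD

set_option autoImplicit false
open Cfsg

namespace Cfsg.Agent.S2469

open Cfsg.Agent.Lib.Helper99.PSA Cfsg.Agent.Lib.Helper66.PSA Cfsg.Agent.Lib.Helper29.PSA Cfsg.Agent.Lib.Helper17
  Cfsg.Agent.Lib.Helper48 Cfsg.Agent.Lib.Helper65.UnipCent Cfsg.Agent.Lib.Helper11.PGB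

theorem ord_spec {q r : ℕ} (hq : 1 ≤ q) (hr : r.Prime) (hrq : ¬ r ∣ q) :
    (∀ j, r ∣ q ^ j - 1 ↔ orderOf ((q : ℕ) : ZMod r) ∣ j) ∧ 0 < orderOf ((q : ℕ) : ZMod r) := by
  have : Fact r.Prime := ⟨hr⟩
  have h1 : ∀ j, r ∣ q ^ j - 1 ↔ orderOf ((q : ℕ) : ZMod r) ∣ j := by
    intro j
    rw [Cfsg.Agent.S2472.dvd_pow_sub_one_iff' hq, orderOf_dvd_iff_pow_eq_one]
  refine ⟨h1, ?_⟩
  have h0 : ((q : ℕ) : ZMod r) ≠ 0 := by
    rw [Ne, ZMod.natCast_eq_zero_iff]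
    exact hrq
  have h2 := ZMod.pow_card_sub_one_eq_one h0
  rw [← orderOf_dvd_iff_pow_eq_one] at h2
  exact Nat.pos_of_dvd_of_pos h2 (by have := hr.two_le; omega)

/-- Adjacency of two odd primes in the prime graph of PSp(2n,q): let F be a finite field of characteristic p with q elements, n ≥ 2 with PSp(2n,F) simple, and let r ≠ s be odd primes different from p dividing the order of PSp(2n,F). Let k, l be the multiplicative orders of q modulo r and s, put η(m) = m for odd m and η(m) = m/2 for even m, and suppose η(k) ≤ η(l). Then PSp(2n,F) has NO element of order r·s if and only if η(k) + η(l) > n and l/k is not an odd integer. -/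
theorem result {F : Type*} [Field F] [Fintype F] (p : ℕ) [Fact p.Prime] [CharP F p] (n : ℕ) (hn : 2 ≤ n) (hsmall : n = 2 → 3 ≤ Fintype.card F)
    (r s : ℕ) (hr : r.Prime) (hs : s.Prime) (hr2 : r ≠ 2) (hs2 : s ≠ 2) (hrp : r ≠ p) (hsp : s ≠ p) (hrs : r ≠ s)
    (hrG : r ∣ Nat.card (Cfsg.PSp n F)) (hsG : s ∣ Nat.card (Cfsg.PSp n F))
    (k l ηk ηl : ℕ) (hk : k = orderOf ((Fintype.card F : ℕ) : ZMod r)) (hl : l = orderOf ((Fintype.card F : ℕ) : ZMod s))
    (hηk : (Odd k ∧ ηk = k) ∨ (Even k ∧ 2 * ηk = k)) (hηl : (Odd l ∧ ηl = l) ∨ (Even l ∧ 2 * ηl = l)) (hkl : ηk ≤ ηl) :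
    (r * s ∉ Set.range (orderOf : Cfsg.PSp n F → ℕ)) ↔ (n < ηk + ηl ∧ ¬ ∃ t : ℕ, Odd t ∧ l = k * t) := by
  have hrq : ¬ r ∣ Fintype.card F := not_dvd_card_of_ne p hr hrp
  have hsq : ¬ s ∣ Fintype.card F := not_dvd_card_of_ne p hs hsp
  have hq : 1 ≤ Fintype.card F := Fintype.card_pos
  obtain ⟨hk', hk0⟩ := ord_spec hq hr hrq
  obtain ⟨hl', hl0⟩ := ord_spec hq hs hsq
  rw [← hk] at hk' hk0
  rw [← hl] at hl' hl0
  have hodd : Odd (r * s) := (hr.odd_of_ne_two hr2).mul (hs.odd_of_ne_two hs2)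
  have hηln : ηl ≤ n := by
    haveI : Fact s.Prime := ⟨hs⟩
    obtain ⟨y, hy⟩ := exists_prime_orderOf_dvd_card' (G := Cfsg.PSp n F) s hsG
    obtain ⟨T, hT, hord⟩ := exists_isoB_of_PSp_odd y (by rw [hy]; exact hs.odd_of_ne_two hs2)
    rw [hy] at hord
    have hT1 : T ≠ 1 := by
      intro h1
      have h2 := (hord 1).1 (by rw [pow_one, h1])
      exact hs.one_lt.ne' (Nat.dvd_one.1 h2)
    have h1 := eta_le_rank (sympB n F) (sympB_isAlt (F := F) n) (sympB_nondegenerate (F := F) n).1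
      T hT hs hsq ((hord s).2 dvd_rfl) hT1 l ηl hl' hηl
    have h2 : Module.finrank F (LinearMap.range (T - 1)) ≤ Module.finrank F (Fin n ⊕ Fin n → F) :=
      Submodule.finrank_le _
    rw [finrank_symp_space (F := F) n] at h2
    omega
  constructor
  · intro h
    by_contra hcon
    apply h
    have h1 : ηk + ηl ≤ n ∨ ∃ t, Odd t ∧ l = k * t := by
      by_contra h2
      push_neg at h2
      apply hcon
      refine ⟨h2.1, ?_⟩
      rintro ⟨t, ht, hlt⟩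
      exact h2.2 t ht hlt
    exact psp_of_AR hodd (bwd hr hs hr2 hs2 hrs k l ηk ηl hk0 hl0 hk' hl' hηk hηl
      hηln h1)
  · rintro ⟨hlt, hno⟩ ⟨y, hy⟩
    apply hno
    obtain ⟨T, hT, hord⟩ := exists_isoB_of_PSp_odd y (by rw [hy]; exact hodd)
    rw [hy] at hord
    exact fwd_abs (sympB n F) (sympB_isAlt (F := F) n) (sympB_nondegenerate (F := F) n).1
      (finrank_symp_space (F := F) n) T hT hr hs hr2 hs2 hrq hsq
      (Cfsg.Agent.Lib.Helper99.PG.natCast_ne_zero_of_not_dvd hr hrq)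
      (Cfsg.Agent.Lib.Helper99.PG.natCast_ne_zero_of_not_dvd hs hsq) hord k l ηk ηl hk' hl' hηk hηl
      hkl hlt

end Cfsg.Agent.S2469
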