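import Cfsg.Statements.S2475
import Cfsg.Agent.Lib.Helper46.SL2Spectrum

set_option autoImplicit false
open Cfsg
open Cfsg.Agent.Lib.Helper46

namespace Cfsg.Agent.S2475

/-- The set of element orders of PSL(2,q): let F be a finite field of characteristic p with q ≥ 4 elements and d = gcd(2, q − 1). The orders of elements of PSL(2,F) are exactly the divisors of p, of (q − 1)/d and of (q + 1)/d. -/
theorem result {F : Type*} [Field F] [Fintype F] (p : ℕ) [Fact p.Prime] [CharP F p] (h4 : 4 ≤ Fintype.card F) :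
    Set.range (orderOf : Matrix.ProjectiveSpecialLinearGroup (Fin 2) F → ℕ) =
      {m : ℕ | m ∣ p ∨ m ∣ (Fintype.card F - 1) / Nat.gcd 2 (Fintype.card F - 1) ∨ m ∣ (Fintype.card F + 1) / Nat.gcd 2 (Fintype.card F - 1)} := by
  have hq : 2 ≤ Fintype.card F := Fintype.one_lt_card
  ext m
  simp only [Set.mem_range, Set.mem_setOf_eq]
  constructor
  · rintro ⟨g, rfl⟩
    rcases psl2_pow_cases p g with h | h | h
    · exact Or.inl (orderOf_dvd_of_pow_eq_one h)
    · exact Or.inr (Or.inl (orderOf_dvd_of_pow_eq_one h))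
    · exact Or.inr (Or.inr (orderOf_dvd_of_pow_eq_one h))
  · have key : ∀ n : ℕ, (∃ g : Matrix.ProjectiveSpecialLinearGroup (Fin 2) F, orderOf g = n) →
        n ≠ 0 → m ∣ n → ∃ g : Matrix.ProjectiveSpecialLinearGroup (Fin 2) F, orderOf g = m := by
      rintro n ⟨g, rfl⟩ hn ⟨k, hk⟩
      have hk0 : k ≠ 0 := by
        rintro rfl
        exact hn (by rw [hk, mul_zero])
      refine ⟨g ^ k, ?_⟩
      rw [orderOf_pow_of_dvd hk0 (hk ▸ dvd_mul_left _ _), hk, Nat.mul_div_cancel _ (Nat.pos_of_ne_zero hk0)]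
    rintro (h | h | h)
    · refine key p ⟨QuotientGroup.mk (uu 1), ?_⟩ (Fact.out : p.Prime).ne_zero h
      apply orderOf_eq_prime
      · rw [← QuotientGroup.mk_pow, QuotientGroup.eq_one_iff]
        apply pow_char_mem_center
        simp only [tr, uu, mk2_00, mk2_11]
        norm_num
      · rw [Ne, QuotientGroup.eq_one_iff, mem_center_iff2]
        simp [uu]
    · obtain ⟨u, -, hu⟩ := exists_orderOf_card_sub_one (F := F)
      refine key _ ⟨QuotientGroup.mk (dd u), ?_⟩ ?_ h
      · rw [orderOf_mk, hu, Nat.gcd_comm]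
        rw [hu]
        rcases parity_cases (F := F) with ⟨h2, -⟩ | ⟨-, h2⟩
        · exact Or.inl h2
        · right; rw [Nat.odd_iff]; omega
      · rcases parity_cases (F := F) with ⟨-, h2⟩ | ⟨-, h2⟩
        · rw [gcd_two_sub.1 h2]; omega
        · rw [gcd_two_sub.2 h2]; omega
    · obtain ⟨X, hX⟩ := exists_orderOf_card_add_one (F := F) p
      refine key _ ⟨QuotientGroup.mk X, ?_⟩ ?_ h
      · rw [orderOf_mk, hX]
        · congr 1
          rcases parity_cases (F := F) with ⟨-, h2⟩ | ⟨-, h2⟩
          · rw [gcd_two_sub.1 h2]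
            apply Nat.gcd_eq_right
            omega
          · rw [gcd_two_sub.2 h2]
            have : Nat.Coprime (Fintype.card F + 1) 2 := by
              rw [Nat.coprime_two_right, Nat.odd_iff]; omega
            exact this
        · rw [hX]
          rcases parity_cases (F := F) with ⟨h2, -⟩ | ⟨-, h2⟩
          · exact Or.inl h2
          · right; rw [Nat.odd_iff]; omega
      · rcases parity_cases (F := F) with ⟨-, h2⟩ | ⟨-, h2⟩
        · rw [gcd_two_sub.1 h2]; omega
        · rw [gcd_two_sub.2 h2]; omega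

end Cfsg.Agent.S2475
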