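import Cfsg.Statements.S2470
import Cfsg.Agent.Lib.Helper99.PG.PSL3
import Cfsg.Agent.Lib.Helper65.UnipCent2
import Cfsg.Agent.Lib.Helper48.ProjSpec
import Cfsg.Agent.S2475

set_option autoImplicit false
open Cfsg

namespace Cfsg.Agent.S2470

open Cfsg.Agent.Lib.Helper99.PG Cfsg.Agent.Lib.Helper48 Cfsg.Agent.Lib.Helper65.UnipCent

theorem dvd_pow_sub_one_iff {q r : ℕ} (hq : 1 ≤ q) (j : ℕ) :
    r ∣ q ^ j - 1 ↔ ((q : ℕ) : ZMod r) ^ j = 1 := by
  have h1 : 1 ≤ q ^ j := Nat.one_le_pow _ _ hq
  rw [← ZMod.natCast_eq_zero_iff, Nat.cast_sub h1, Nat.cast_pow, Nat.cast_one, sub_eq_zero]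

theorem exists_elt_of_order {F : Type*} [Field F] [Fintype F] (d : ℕ) (hd : d ∣ Fintype.card F - 1) :
    ∃ x : F, x ≠ 0 ∧ orderOf x = d := by
  classical
  obtain ⟨g, hg⟩ := IsCyclic.exists_generator (α := Fˣ)
  have ho : orderOf g = Fintype.card F - 1 := by
    rw [orderOf_eq_card_of_forall_mem_zpowers hg, Nat.card_eq_fintype_card, Fintype.card_units]
  have hpos : 0 < Fintype.card F - 1 := by
    have := Fintype.one_lt_card (α := F)
    omega
  obtain ⟨e, he⟩ := hd
  have he0 : e ≠ 0 := by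
    rintro rfl
    simp at he
    omega
  refine ⟨((g ^ e : Fˣ) : F), Units.ne_zero _, ?_⟩
  rw [orderOf_units, orderOf_pow_of_dvd he0 (by rw [ho, he]; exact Dvd.intro_left _ rfl), ho, he]
  exact Nat.mul_div_cancel _ (Nat.pos_of_ne_zero he0)

/-- Adjacency of an odd prime and the characteristic in the prime graph of PSL(n,q): let F be a finite field of characteristic p with q elements, n ≥ 2 with PSL(n,F) simple, and let r ≠ p be an odd prime dividing the order of PSL(n,F), with k the multiplicative order of q modulo r. Then PSL(n,F) has NO element of order r·p if and only if either k > n − 2, or n = 3, r = 3 and 3 divides q − 1 exactly once. -/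
theorem result {F : Type*} [Field F] [Fintype F] (p : ℕ) [Fact p.Prime] [CharP F p] (n : ℕ) (hn : 2 ≤ n) (hsmall : n = 2 → 4 ≤ Fintype.card F)
    (r : ℕ) (hr : r.Prime) (hr2 : r ≠ 2) (hrp : r ≠ p) (hrG : r ∣ Nat.card (Matrix.ProjectiveSpecialLinearGroup (Fin n) F))
    (k : ℕ) (hk : k = orderOf ((Fintype.card F : ℕ) : ZMod r)) :
    (r * p ∉ Set.range (orderOf : Matrix.ProjectiveSpecialLinearGroup (Fin n) F → ℕ)) ↔
      (n - 2 < k ∨ (n = 3 ∧ r = 3 ∧ 3 ∣ Fintype.card F - 1 ∧ ¬ 9 ∣ Fintype.card F - 1)) := by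
  have hp : p.Prime := Fact.out
  have : Fact r.Prime := ⟨hr⟩
  have hq1 : 1 ≤ Fintype.card F := Fintype.card_pos
  have hrq : ¬ r ∣ Fintype.card F := not_dvd_card_of_ne p hr hrp
  have hcop : Nat.Coprime r p := (Nat.coprime_primes hr hp).2 hrp
  -- `k` is positive
  have hkpos : 0 < k := by
    rw [hk, orderOf_pos_iff]
    have hu : IsUnit ((Fintype.card F : ℕ) : ZMod r) := by
      rw [isUnit_iff_ne_zero, Ne, ZMod.natCast_eq_zero_iff]
      exact hrq
    exact hu.isOfFinOrder
  have hkdvd : r ∣ Fintype.card F ^ k - 1 := by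
    rw [dvd_pow_sub_one_iff hq1, hk]
    exact pow_orderOf_eq_one _
  constructor
  · intro hno
    by_contra hcon
    push Not at hcon
    obtain ⟨hkn, hex⟩ := hcon
    apply hno
    have hn3 : 3 ≤ n := by omega
    rcases Nat.lt_or_ge n 4 with hn4 | hn4
    · -- n = 3
      obtain rfl : n = 3 := by omega
      have hk1 : k = 1 := by omega
      have hrq1 : r ∣ Fintype.card F - 1 := by simpa [hk1] using hkdvd
      by_cases hr3 : r = 3
      · subst hr3
        have h9 : 9 ∣ Fintype.card F - 1 := hex rfl rfl hrq1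
        obtain ⟨x, hx0, hx⟩ := exists_elt_of_order (F := F) 9 h9
        apply exists_PSL3 p 3 hr hrp x hx0
        intro j
        rw [← orderOf_dvd_iff_pow_eq_one, hx]
        constructor
        · intro h
          have : 3 * 3 ∣ 3 * j := by simpa using h
          exact Nat.dvd_of_mul_dvd_mul_left (by norm_num) this
        · intro h
          have : 3 * 3 ∣ 3 * j := Nat.mul_dvd_mul_left 3 h
          simpa using this
      · obtain ⟨x, hx0, hx⟩ := exists_elt_of_order (F := F) r hrq1
        apply exists_PSL3 p r hr hrp x hx0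
        intro j
        rw [← orderOf_dvd_iff_pow_eq_one, hx]
        have hc3 : Nat.Coprime r 3 := (Nat.coprime_primes hr Nat.prime_three).2 hr3
        exact ⟨fun h => hc3.dvd_of_dvd_mul_left h, fun h => Dvd.dvd.mul_left h 3⟩
    · -- n ≥ 4
      have hcard : r ∣ Nat.card (Matrix.SpecialLinearGroup (Fin (n - 2)) F) :=
        dvd_card_SL_of_dvd (n - 2) k r (by omega) hkpos hkn hkdvd
      obtain ⟨x, hx⟩ := exists_prime_orderOf_dvd_card' r hcard
      set g₁ : GL (Fin (n - 2)) F := Matrix.SpecialLinearGroup.toGL x with hg₁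
      have hg₁o : orderOf g₁ = r := by
        rw [hg₁, orderOf_injective Matrix.SpecialLinearGroup.toGL
          Matrix.SpecialLinearGroup.toGL_injective, hx]
      obtain ⟨g₂, hg₂⟩ := exists_GL_orderOf_p_pow (F := F) p 2 1 (Or.inr (by simp))
      obtain ⟨T, hdet, -, hT⟩ := exists_decomp_pord p n (n - 2) 2 (by omega) (by omega) (by omega) g₁
        (by rw [hg₁]; simp) g₂ 1 hg₂
      obtain ⟨y, hy⟩ := exists_PSL_orderOf_of_pord T hdet _ hT
      refine ⟨y, ?_⟩
      rw [hy, hg₁o, pow_one, hcop.lcm_eq_mul]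
  · intro hcase
    rintro ⟨y, hy⟩
    rcases Nat.lt_or_ge n 3 with hn3 | hn3
    · -- n = 2
      obtain rfl : n = 2 := by omega
      have h4 := hsmall rfl
      have hmem : r * p ∈ Set.range (orderOf : Matrix.ProjectiveSpecialLinearGroup (Fin 2) F → ℕ) :=
        ⟨y, hy⟩
      rw [Cfsg.Agent.S2475.result p h4] at hmem
      have hpq : p ∣ Fintype.card F := char_dvd_card p
      rcases hmem with h | h | h
      · have h1 : r * p ∣ 1 * p := by simpa using h
        have h2 := Nat.dvd_of_mul_dvd_mul_right hp.pos h1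
        exact hr.one_lt.ne' (Nat.dvd_one.1 h2)
      · have h1 : p ∣ Fintype.card F - 1 :=
          ((Dvd.intro_left _ rfl).trans h).trans (Nat.div_dvd_of_dvd (Nat.gcd_dvd_right _ _))
        have h2 : p ∣ 1 := by
          have := Nat.dvd_sub hpq h1
          rwa [Nat.sub_sub_self hq1] at this
        exact hp.one_lt.ne' (Nat.dvd_one.1 h2)
      · have hg : Nat.gcd 2 (Fintype.card F - 1) ∣ Fintype.card F + 1 := by
          have h1 : Nat.gcd 2 (Fintype.card F - 1) ∣ Fintype.card F - 1 := Nat.gcd_dvd_right _ _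
          have h2 : Nat.gcd 2 (Fintype.card F - 1) ∣ 2 := Nat.gcd_dvd_left _ _
          have : Fintype.card F + 1 = (Fintype.card F - 1) + 2 := by omega
          rw [this]
          exact Nat.dvd_add h1 h2
        have h1 : p ∣ Fintype.card F + 1 :=
          ((Dvd.intro_left _ rfl).trans h).trans (Nat.div_dvd_of_dvd hg)
        have h2 : p ∣ 1 := (Nat.dvd_add_right hpq).1 h1
        exact hp.one_lt.ne' (Nat.dvd_one.1 h2)
    · -- n ≥ 3
      have ha : orderOf (y ^ r) = p := by
        rw [orderOf_pow_of_dvd hr.ne_zero (by rw [hy]; exact Dvd.intro _ rfl), hy]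
        exact Nat.mul_div_cancel_left _ hr.pos
      have hb : orderOf (y ^ p) = r := by
        rw [orderOf_pow_of_dvd hp.ne_zero (by rw [hy]; exact Dvd.intro_left _ rfl), hy]
        exact Nat.mul_div_cancel _ hp.pos
      obtain ⟨j, hj1, hjn, hj⟩ := exists_dvd_PSL p hr hrp hn3 (y ^ r) (y ^ p) ha hb
        ((Commute.refl y).pow_pow r p)
      have hkj : k ∣ j := by
        rw [hk]
        exact orderOf_dvd_of_pow_eq_one ((dvd_pow_sub_one_iff hq1 j).1 hj)
      have hkle : k ≤ j := Nat.le_of_dvd hj1 hkj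
      rcases hcase with h | ⟨rfl, rfl, h3, h9⟩
      · omega
      · obtain ⟨T, hdet, hT⟩ := exists_pord_of_PSL y
        rw [hy] at hT
        exact no_three_p p (Ne.symm hrp) h3 h9 T hdet hT

end Cfsg.Agent.S2470
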