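import Cfsg.Statements.S2474
import Cfsg.Agent.Lib.Helper99.PGB.Asm2
import Cfsg.Agent.S0790

set_option autoImplicit false
open Cfsg

namespace Cfsg.Agent.S2474

open Cfsg.Agent.Lib.Helper99.PGB Cfsg.Agent.Lib.Helper65.UnipCent

/-- For q odd and n ≥ 3 the simple groups PΩ(2n+1,q) and PSp(2n,q) (which have the same order but different sets of element orders) have the same prime graph: for all distinct primes r, s, one of them has an element of order r·s if and only if the other does. -/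
theorem result {F : Type*} [Field F] [Fintype F] (hodd : Odd (Fintype.card F)) (n : ℕ) (hn : 3 ≤ n) (r s : ℕ) (hr : r.Prime) (hs : s.Prime) (hrs : r ≠ s) :
    (r * s ∈ Set.range (orderOf : Cfsg.POmega F (Cfsg.quadFormOdd n F) → ℕ)) ↔ (r * s ∈ Set.range (orderOf : Cfsg.PSp n F → ℕ)) := by
  have h2 : (2 : F) ≠ 0 := Cfsg.Agent.S0790.two_ne_zero_of_odd_card hodd
  obtain ⟨p, hpc⟩ := CharP.exists F
  have hpp : p.Prime := CharP.char_is_prime F p
  have : Fact p.Prime := ⟨hpp⟩
  have hnq : ∀ {t : ℕ}, t.Prime → t ≠ p → ¬ t ∣ Fintype.card F :=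
    fun ht htp => not_dvd_card_of_ne p ht htp
  by_cases hr2 : r = 2
  · subst hr2
    by_cases hsp : s = p
    · subst hsp
      exact iff_of_true (two_p h2 s hn).1 (two_p h2 s hn).2
    · exact two_iff h2 hn hs (Ne.symm hrs) (hnq hs hsp)
  by_cases hs2 : s = 2
  · subst hs2
    rw [mul_comm]
    by_cases hrp : r = p
    · subst hrp
      exact iff_of_true (two_p h2 r hn).1 (two_p h2 r hn).2
    · exact two_iff h2 hn hr hrs (hnq hr hrp)
  by_cases hsp : s = p
  · subst hsp
    exact p_iff h2 s hn hr hr2 hrs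
  by_cases hrp : r = p
  · subst hrp
    rw [mul_comm]
    exact p_iff h2 r hn hs hs2 (Ne.symm hrs)
  apply odd_iff h2 hn ((hr.odd_of_ne_two hr2).mul (hs.odd_of_ne_two hs2))
  rw [Nat.cast_mul]
  exact mul_ne_zero (Cfsg.Agent.Lib.Helper99.PG.natCast_ne_zero_of_not_dvd hr (hnq hr hrp))
    (Cfsg.Agent.Lib.Helper99.PG.natCast_ne_zero_of_not_dvd hs (hnq hs hsp))

end Cfsg.Agent.S2474
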