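import Cfsg.Statements.S2495
import Cfsg.Agent.Lib.Helper48.PpdIrr
import Cfsg.Agent.Lib.Helper48.HalfTorusArith
import Cfsg.Agent.S2904

set_option autoImplicit false
open Cfsg

namespace Cfsg.Agent.S2495

/-- Let q be an odd prime power, n ≥ 4 even, and L = PSL(n,q). Then L has an element of order q^(n/2) + 1 if and only if the 2-part of n exceeds the 2-part of q − 1. -/
theorem result {F : Type*} [Field F] [Fintype F] {q : ℕ} (hF : Fintype.card F = q) (hodd : Odd q)
    {n : ℕ} (hn : 4 ≤ n) (heven : Even n) :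
    (∃ g : Matrix.ProjectiveSpecialLinearGroup (Fin n) F, orderOf g = q ^ (n / 2) + 1) ↔
      padicValNat 2 (q - 1) < padicValNat 2 n := by
  classical
  subst hF
  set q := Fintype.card F with hq
  have hq2 : 2 ≤ q := Fintype.one_lt_card
  obtain ⟨m, rfl⟩ : ∃ m, n = 2 * m := by
    obtain ⟨m, hm⟩ := heven
    exact ⟨m, by omega⟩
  have hm : 2 ≤ m := by omega
  rw [Nat.mul_div_cancel_left m (by norm_num)]
  have : Finite (Matrix.ProjectiveSpecialLinearGroup (Fin (2 * m)) F) := inferInstance
  have hd := Cfsg.Agent.Lib.Helper48.gcd_dvd_geom q (2 * m) hq2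
  rw [← Cfsg.Agent.Lib.Helper48.half_torus_dvd_iff q m hq2 (by omega) hd]
  constructor
  · rintro ⟨g, hg⟩
    obtain ⟨T, hdet, hT⟩ := Cfsg.Agent.Lib.Helper48.exists_pord_of_PSL g
    rw [hg] at hT
    obtain ⟨s, hs, hs1, hs2⟩ := Cfsg.Agent.S2904.result q (2 * m) (by omega) (by omega)
      (by
        rintro ⟨h, -⟩
        rw [h] at hodd
        exact absurd hodd (by decide))
      (by
        rintro ⟨h, -⟩
        omega)
    have hfr : Module.finrank F (Fin (2 * m) → F) = 2 * m := Module.finrank_fin_fun F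
    have hsa : s ∣ q ^ m + 1 := by
      have h1 : q ^ (2 * m) - 1 = (q ^ m - 1) * (q ^ m + 1) := by
        have h2 : 1 ≤ q ^ m := Nat.one_le_pow _ _ (by omega)
        obtain ⟨c, hc⟩ := Nat.exists_eq_add_of_le h2
        rw [two_mul, pow_add, hc]
        simp only [Nat.add_sub_cancel_left]
        have : (1 + c) * (1 + c) = c * (1 + c + 1) + 1 := by ring
        omega
      rw [h1] at hs1
      exact (hs.dvd_mul.1 hs1).resolve_left (hs2 m (by omega) (by omega))
    have := Cfsg.Agent.Lib.Helper48.scalar_of_ppd hdet (by omega) hT hs hsa (by rw [hfr]; omega)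
      (by rw [hfr]; exact hs1) (by rw [hfr]; exact hs2)
    rwa [hfr] at this
  · intro h
    obtain ⟨y, hy⟩ := Cfsg.Agent.Lib.Helper48.exists_PSL_orderOf_singer (F := F) (2 * m) (by omega)
    exact Cfsg.Agent.Lib.Helper48.exists_orderOf_eq_of_dvd y (hy ▸ h)

end Cfsg.Agent.S2495
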