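import Cfsg.Statements.S2496
import Cfsg.Agent.Lib.Helper48.UHalf
import Cfsg.Agent.Lib.Helper48.UDich
import Cfsg.Agent.Lib.Helper65.PrimeGraphSL
import Cfsg.Agent.S2904

set_option autoImplicit false
open Cfsg

namespace Cfsg.Agent.S2496

/-- Let q be an odd prime power, n ≥ 4 even, and U = PSU(n,q) (realised over the field with q² elements). Then U has an element of order q^(n/2) + (−1)^(n/2) — that is, q^(n/2) + 1 when n/2 is even and q^(n/2) − 1 when n/2 is odd — if and only if the 2-part of n exceeds the 2-part of q + 1. -/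
theorem result {F : Type*} [Field F] [Fintype F] {q : ℕ} (hF : Fintype.card F = q ^ 2) (hodd : Odd q)
    {n : ℕ} (hn : 4 ≤ n) (heven : Even n) :
    (∃ g : Cfsg.PSU n F q, orderOf g = if Even (n / 2) then q ^ (n / 2) + 1 else q ^ (n / 2) - 1) ↔
      padicValNat 2 (q + 1) < padicValNat 2 n := by
  classical
  have hq2 : 2 ≤ q := Lib.Helper17.two_le_of_card_sq hF
  obtain ⟨m, rfl⟩ : ∃ m, n = 2 * m := by
    obtain ⟨m, hm⟩ := heven
    exact ⟨m, by omega⟩
  have hm : 2 ≤ m := by omega
  rw [Nat.mul_div_cancel_left m (by norm_num)]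
  rw [← Lib.Helper48.half_torus_u_dvd_iff q m hq2 (by omega)]
  have hq6 : ∀ N, ¬ (q = 2 ∧ N = 6) := by
    rintro N ⟨h, -⟩
    rw [h] at hodd
    exact absurd hodd (by decide)
  have hord0 : ∀ (s N : ℕ), 0 < N → s ∣ q ^ N - 1 → (∀ k, 0 < k → k < N → ¬ s ∣ q ^ k - 1) →
      orderOf ((q : ℕ) : ZMod s) = N := by
    intro s N hN hs1 hs2
    have h1 : orderOf ((q : ℕ) : ZMod s) ∣ N :=
      Cfsg.Agent.Lib.Helper65.UnipCent.orderOf_dvd_of_dvd_pow_sub_one (by omega) hs1
    have h2 : 0 < orderOf ((q : ℕ) : ZMod s) := Nat.pos_of_dvd_of_pos h1 hN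
    have h3 : s ∣ q ^ orderOf ((q : ℕ) : ZMod s) - 1 :=
      Cfsg.Agent.Lib.Helper65.UnipCent.dvd_pow_orderOf_sub_one (by omega)
    have h4 : ¬ orderOf ((q : ℕ) : ZMod s) < N := fun h => hs2 _ h2 h h3
    exact le_antisymm (Nat.le_of_dvd hN h1) (not_lt.1 h4)
  have hsq0 : ∀ (s N : ℕ), s.Prime → 0 < N → s ∣ q ^ N - 1 → ¬ s ∣ q := by
    intro s N hs hN hs1 h
    have h1 : s ∣ q ^ N := Dvd.dvd.trans h (dvd_pow_self q (by omega))
    have h2 : 1 ≤ q ^ N := Nat.one_le_pow _ _ (by omega)
    have h3 := Nat.dvd_sub h1 hs1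
    rw [show q ^ N - (q ^ N - 1) = 1 by omega] at h3
    exact hs.one_lt.ne' (Nat.dvd_one.1 h3)
  have hpos : 2 ≤ q ^ m := by
    calc 2 ≤ q := hq2
      _ ≤ q ^ m := Nat.le_self_pow (by omega) q
  constructor
  · rintro ⟨g, hg⟩
    obtain ⟨x, hx⟩ := Lib.Helper48.exists_pord_of_PSU hF g
    rw [hg] at hx
    by_cases hme : Even m
    · rw [if_pos hme] at hx ⊢
      obtain ⟨s, hs, hs1, hs2⟩ := Cfsg.Agent.S2904.result q (2 * m) (by omega) (by omega) (hq6 _)
        (by rintro ⟨h, -⟩; omega)
      have hsa : s ∣ q ^ m + 1 := by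
        have h1 : q ^ (2 * m) - 1 = (q ^ m - 1) * (q ^ m + 1) := by
          obtain ⟨c, hc⟩ := Nat.exists_eq_add_of_le (show 1 ≤ q ^ m by omega)
          rw [two_mul, pow_add, hc]
          simp only [Nat.add_sub_cancel_left]
          have : (1 + c) * (1 + c) = c * (1 + c + 1) + 1 := by ring
          omega
        rw [h1] at hs1
        exact (hs.dvd_mul.1 hs1).resolve_left (hs2 m (by omega) (by omega))
      have ho := hord0 s (2 * m) (by omega) hs1 hs2
      refine Lib.Helper48.scalar_of_ppd_u hF hm x (by omega) hx hs hsa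
        (hsq0 s (2 * m) hs (by omega) hs1) ?_ ?_
      · intro e he
        rw [← pow_mul] at he
        have h1 := Cfsg.Agent.Lib.Helper65.UnipCent.orderOf_dvd_of_dvd_pow_sub_one (by omega) he
        rw [ho] at h1
        exact Nat.dvd_of_mul_dvd_mul_left (by norm_num) h1
      · intro e hodd' hme' _ _
        have : Even e := hme.trans_dvd hme'
        exact (Nat.not_even_iff_odd.2 hodd') this
    · rw [if_neg hme] at hx ⊢
      have hmodd : Odd m := Nat.not_even_iff_odd.1 hme
      have hm3 : 3 ≤ m := by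
        rcases hmodd with ⟨k, hk⟩
        omega
      obtain ⟨s, hs, hs1, hs2⟩ := Cfsg.Agent.S2904.result q m (by omega) (by omega) (hq6 _)
        (by rintro ⟨h, -⟩; omega)
      have ho := hord0 s m (by omega) hs1 hs2
      refine Lib.Helper48.scalar_of_ppd_u hF hm x (by omega) hx hs hs1
        (hsq0 s m hs (by omega) hs1) ?_ ?_
      · intro e he
        rw [← pow_mul] at he
        have h1 := Cfsg.Agent.Lib.Helper65.UnipCent.orderOf_dvd_of_dvd_pow_sub_one (by omega) he
        rw [ho] at h1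
        exact (Nat.Coprime.dvd_of_dvd_mul_left (Nat.Coprime.symm
          (Nat.coprime_two_left.2 hmodd)) h1)
      · intro e hodd' hme' hle hse
        have hem : e = m := by
          obtain ⟨k, rfl⟩ := hme'
          have hk2 : k ≤ 2 := by
            by_contra hcon
            have : m * 3 ≤ m * k := Nat.mul_le_mul_left m (by omega)
            omega
          have hk0 : k ≠ 0 := by
            rintro rfl
            simp at hodd'
          have hk2' : k ≠ 2 := by
            rintro rfl
            exact (Nat.not_even_iff_odd.2 hodd') ⟨m, by ring⟩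
          have : k = 1 := by omega
          rw [this, mul_one]
        rw [hem] at hse
        have h2 : s ∣ 2 := by
          have := Nat.dvd_sub hse hs1
          rwa [show q ^ m + 1 - (q ^ m - 1) = 2 by omega] at this
        have hs2' : s = 2 := (Nat.prime_dvd_prime_iff_eq hs Nat.prime_two).1 h2
        apply hs2 1 (by norm_num) (by omega)
        rw [hs2', pow_one]
        obtain ⟨k, hk⟩ := hodd
        exact ⟨k, by omega⟩
  · intro h
    obtain ⟨y, hy⟩ := Lib.Helper48.exists_PSU_torus hF (n := 2 * m) (by omega)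
    exact Lib.Helper48.exists_orderOf_eq_of_dvd y (hy ▸ h)

end Cfsg.Agent.S2496
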