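import Cfsg.Statements.S2512
import Cfsg.Agent.Lib.Helper48.SpSpec2

set_option autoImplicit false
open Cfsg

namespace Cfsg.Agent.S2512

/-- Let F be a finite field of odd order q = p^a, n ≥ 2 (with q ≥ 3 automatic), and L = PSp(2n, F). Then for every m the direct product L × L × L × (ℤ/2)^m has the same set of element orders as L × L × L; and if 2n − 1 is not a power of p, then already L × L × (ℤ/2)^m has the same set of element orders as L × L. -/
theorem result {F : Type*} [Field F] [Fintype F] (p a n m : ℕ) (hp : p.Prime) (ha : 1 ≤ a) (hF : Fintype.card F = p ^ a) (hodd : Odd (Fintype.card F))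
    (hn : 2 ≤ n) :
    Set.range (orderOf : Cfsg.PSp n F × Cfsg.PSp n F × Cfsg.PSp n F × Multiplicative (Fin m → ZMod 2) → ℕ) = Set.range (orderOf : Cfsg.PSp n F × Cfsg.PSp n F × Cfsg.PSp n F → ℕ) ∧
    ((¬ ∃ j : ℕ, 2 * n - 1 = p ^ j) →
      Set.range (orderOf : Cfsg.PSp n F × Cfsg.PSp n F × Multiplicative (Fin m → ZMod 2) → ℕ) = Set.range (orderOf : Cfsg.PSp n F × Cfsg.PSp n F → ℕ)) := by
  classical
  have : Fact p.Prime := ⟨hp⟩
  have : CharP F p := by
    obtain ⟨p', hp'⟩ := CharP.exists F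
    obtain ⟨k, hk1, hk2⟩ := FiniteField.card F p'
    have h1 : p ∣ p' ^ (k : ℕ) := by
      rw [← hk2, hF]
      exact dvd_pow_self p (by omega)
    have h2 : p = p' := (Nat.prime_dvd_prime_iff_eq hp hk1).1 (hp.dvd_of_dvd_pow h1)
    rw [h2]
    exact hp'
  have h2 : (2 : F) ≠ 0 := by
    intro h
    have h3 : ((2 : ℕ) : F) = 0 := by exact_mod_cast h
    have h4 : p ∣ 2 := (CharP.cast_eq_zero_iff F p 2).1 h3
    have h5 : 2 ∣ Fintype.card F := by
      rw [hF, ← (Nat.prime_dvd_prime_iff_eq hp Nat.prime_two).1 h4]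
      exact dvd_pow_self p (by omega)
    rcases hodd with ⟨w, hw⟩
    omega
  have H0 := Lib.Helper48.psp_order_dichotomy (F := F) p h2 hn
  refine ⟨Lib.Helper48.range_orderOf_prod3 2 m Nat.prime_two _ (p ^ Nat.clog p (2 * n))
    (Lib.Helper48.exists_PSp_orderOf_spM h2 n (by omega))
    (Lib.Helper48.exists_PSp_orderOf_unip' p h2 n (by omega))
    (Lib.Helper48.exists_PSp_orderOf_two h2 n hn) ?_, fun hj =>
    Lib.Helper48.range_orderOf_prod2 2 m Nat.prime_two _
    (Lib.Helper48.exists_PSp_orderOf_spM h2 n (by omega))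
    (Lib.Helper48.exists_PSp_orderOf_two h2 n hn) ?_⟩
  · intro x
    rcases H0 x with h | h | ⟨t, ht1, ht2, ht3⟩
    · exact Or.inl h
    · exact Or.inr (Or.inl h)
    · refine Or.inr (Or.inr (ht3.trans (pow_dvd_pow p ?_)))
      have h5 : t - 1 < Nat.clog p (2 * n) := by
        rw [Nat.lt_clog_iff_pow_lt hp.one_lt]
        omega
      omega
  · intro x
    rcases H0 x with h | h | ⟨t, ht1, ht2, ht3⟩
    · exact Or.inl h
    · exact Or.inr h
    · exact absurd ⟨t - 1, by omega⟩ hj

end Cfsg.Agent.S2512
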