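import Cfsg.Statements.S2537
import Cfsg.Agent.Lib.Helper7.PSL2TorEx
import Cfsg.Agent.Lib.Helper7.PSL2Bor
import Cfsg.Agent.Lib.Helper7.SL2Full3
import Cfsg.Agent.Lib.Helper7.PSL2Exc
import Cfsg.Agent.Lib.Helper66.PiHall
import Cfsg.Agent.S0802
import Cfsg.Agent.S0803
-- import your own Cfsg.Agent.* helpers here

set_option autoImplicit false
open Cfsg

namespace Cfsg.Agent.S2537

open Matrix MatrixGroups Subgroup Cfsg.Agent.Lib.Helper46 Cfsg.Agent.Lib.Helper18.SL2
open Cfsg.Agent.Lib.Helper7 Cfsg.Agent.Lib.Helper7.PMax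

theorem exists_cofactor (N : ℕ) (hN : N ≠ 0) :
    ∃ j, N = 2 ^ (N.factorization 2) * 3 ^ (N.factorization 3) * j ∧ ¬ 2 ∣ j ∧ ¬ 3 ∣ j := by
  have h2 : 2 ^ (N.factorization 2) ∣ N := Nat.ordProj_dvd N 2
  have h3 : 3 ^ (N.factorization 3) ∣ N := Nat.ordProj_dvd N 3
  have hc : Nat.Coprime (2 ^ (N.factorization 2)) (3 ^ (N.factorization 3)) :=
    Nat.Coprime.pow _ _ (by norm_num)
  obtain ⟨j, hj⟩ := hc.mul_dvd_of_dvd_of_dvd h2 h3
  refine ⟨j, hj, ?_, ?_⟩
  · rintro ⟨c, rfl⟩
    apply Nat.pow_succ_factorization_not_dvd hN Nat.prime_two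
    refine ⟨3 ^ (N.factorization 3) * c, ?_⟩
    conv_lhs => rw [hj]
    ring
  · rintro ⟨c, rfl⟩
    apply Nat.pow_succ_factorization_not_dvd hN Nat.prime_three
    refine ⟨2 ^ (N.factorization 2) * c, ?_⟩
    conv_lhs => rw [hj]
    ring

theorem part_eq {N a b j : ℕ} (h : N = 2 ^ a * 3 ^ b * j) (h2 : ¬ 2 ∣ j) (h3 : ¬ 3 ∣ j) :
    2 ^ (N.factorization 2) * 3 ^ (N.factorization 3) = 2 ^ a * 3 ^ b := by
  have hj : j ≠ 0 := by rintro rfl; exact h2 (dvd_zero _)
  have e2 : N.factorization 2 = a := by
    rw [h, Nat.factorization_mul (by positivity) hj, Nat.factorization_mul (by positivity)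
      (by positivity), Nat.Prime.factorization_pow Nat.prime_two,
      Nat.Prime.factorization_pow Nat.prime_three]
    simp [Nat.factorization_eq_zero_of_not_dvd h2]
  have e3 : N.factorization 3 = b := by
    rw [h, Nat.factorization_mul (by positivity) hj, Nat.factorization_mul (by positivity)
      (by positivity), Nat.Prime.factorization_pow Nat.prime_two,
      Nat.Prime.factorization_pow Nat.prime_three]
    simp [Nat.factorization_eq_zero_of_not_dvd h3]
  rw [e2, e3]

theorem mem_pi {r : ℕ} : r ∈ ({2, 3} : Set ℕ) ↔ r = 2 ∨ r = 3 := by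
  simp

variable {F : Type*} [Field F] [Fintype F]

/-- a subgroup of order `12` or `24` is a Hall subgroup when the `{2,3}`-part is right -/
theorem hall_of_card {H : Subgroup (ProjectiveSpecialLinearGroup (Fin 2) F)} {a j : ℕ}
    (hz : zc F = 2) (hH : Nat.card H = 2 ^ a * 3)
    (hj : Fintype.card F ^ 2 - 1 = 2 ^ (a + 1) * 3 ^ 1 * j) (h2 : ¬ 2 ∣ j) (h3 : ¬ 3 ∣ j)
    (hq2 : ¬ 2 ∣ Fintype.card F) (hq3 : ¬ 3 ∣ Fintype.card F) :
    Cfsg.IsPiHall ({2, 3} : Set ℕ) H := by
  constructor
  · intro r hr hd
    rw [hH] at hd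
    rw [mem_pi]
    rcases (Nat.Prime.dvd_mul hr).1 hd with h | h
    · left; exact (Nat.prime_dvd_prime_iff_eq hr Nat.prime_two).1 (hr.dvd_of_dvd_pow h)
    · right; exact (Nat.prime_dvd_prime_iff_eq hr Nat.prime_three).1 h
  · have h1 := H.card_mul_index
    have h4 := card_PSL (F := F)
    rw [hz, ← h1, hH, hj] at h4
    have h5 : H.index = Fintype.card F * j := by
      have hpos : 0 < 2 ^ (a + 1) * 3 := by positivity
      apply Nat.eq_of_mul_eq_mul_left hpos
      calc 2 ^ (a + 1) * 3 * H.index = 2 * (2 ^ a * 3 * H.index) := by ring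
        _ = Fintype.card F * (2 ^ (a + 1) * 3 ^ 1 * j) := h4
        _ = 2 ^ (a + 1) * 3 * (Fintype.card F * j) := by ring
    intro r hr hmem hd
    rw [h5] at hd
    rw [mem_pi] at hmem
    rcases hmem with rfl | rfl
    · rcases (Nat.Prime.dvd_mul hr).1 hd with h | h
      · exact hq2 h
      · exact h2 h
    · rcases (Nat.Prime.dvd_mul hr).1 hd with h | h
      · exact hq3 h
      · exact h3 h

/-- the Hall subgroup of a torus normaliser -/
theorem hall_of_torus {w w' : ℕ} (hz : zc F = 2) (hq : 3 ≤ Fintype.card F)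
    (hww : Fintype.card F ^ 2 - 1 = w * w') (hw0 : 0 < w)
    {x : SpecialLinearGroup (Fin 2) F} (hs : tr x ^ 2 ≠ 4)
    (hC : Nat.card (centralizer ({x} : Set (SpecialLinearGroup (Fin 2) F))) = w)
    (h4 : ¬ 4 ∣ w') (h3 : ¬ 3 ∣ w')
    (hq2 : ¬ 2 ∣ Fintype.card F) (hq3 : ¬ 3 ∣ Fintype.card F) :
    ∃ H : Subgroup (ProjectiveSpecialLinearGroup (Fin 2) F),
      Cfsg.IsPiHall ({2, 3} : Set ℕ) H := by
  obtain ⟨H, hle, hpi, hrel⟩ := Cfsg.Agent.Lib.Helper66.exists_isPiHallOf ({2, 3} : Set ℕ)
    (img (torN x)) (img_torN_solvable hs)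
  refine ⟨H, hpi, ?_⟩
  have hM := card_img_torN hs hq
  rw [hz, hC] at hM
  have hM' : Nat.card (img (torN x)) = w := by omega
  have h1 := (img (torN x)).card_mul_index
  have h5 := card_PSL (F := F)
  rw [hz, ← h1, hM', hww] at h5
  have h6 : 2 * (img (torN x)).index = Fintype.card F * w' := by
    apply Nat.eq_of_mul_eq_mul_left hw0
    calc w * (2 * (img (torN x)).index) = 2 * (w * (img (torN x)).index) := by ring
      _ = Fintype.card F * (w * w') := h5
      _ = w * (Fintype.card F * w') := by ring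
  intro r hr hmem hd
  rw [← Subgroup.relIndex_mul_index hle] at hd
  rcases (Nat.Prime.dvd_mul hr).1 hd with h | h
  · exact hrel r hr hmem h
  · rw [mem_pi] at hmem
    obtain ⟨c, hc⟩ := h
    rw [hc] at h6
    rcases hmem with rfl | rfl
    · have h7 : 4 ∣ Fintype.card F * w' := ⟨c, by rw [← h6]; ring⟩
      have hcop : Nat.Coprime 4 (Fintype.card F) := by
        have : Nat.Coprime 2 (Fintype.card F) := (Nat.Prime.coprime_iff_not_dvd Nat.prime_two).2 hq2
        exact Nat.Coprime.pow_left 2 this
      exact h4 (hcop.dvd_of_dvd_mul_left h7)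
    · have h7 : 3 ∣ Fintype.card F * w' := ⟨2 * c, by rw [← h6]; ring⟩
      rcases (Nat.Prime.dvd_mul Nat.prime_three).1 h7 with h | h
      · exact hq3 h
      · exact h3 h


/-- Let `F` be a finite field with `q` elements of characteristic `p ≥ 5`, and `ε = 1` if `q ≡ 1 (mod 4)`, `ε = -1` otherwise. Then `PSL(2, F)` has a Hall `{2, 3}`-subgroup if and only if `3` divides `q − ε`, or the `{2,3}`-part of `q² − 1` is 24, or the `{2,3}`-part of `q² − 1` is 48 (the `{2,3}`-part of `m` being the largest divisor of `m` with no prime factor other than 2 and 3). -/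
theorem result {F : Type*} [Field F] [Fintype F] {p : ℕ} [Fact p.Prime] [CharP F p]
    (hp : 5 ≤ p) (q : ℕ) (hq : Fintype.card F = q) :
    (∃ H : Subgroup (Matrix.ProjectiveSpecialLinearGroup (Fin 2) F), Cfsg.IsPiHall ({2, 3} : Set ℕ) H) ↔
      (3 ∣ q - 1 ∧ q % 4 = 1) ∨ (3 ∣ q + 1 ∧ q % 4 = 3) ∨
        2 ^ (q ^ 2 - 1).factorization 2 * 3 ^ (q ^ 2 - 1).factorization 3 = 24 ∨
        2 ^ (q ^ 2 - 1).factorization 2 * 3 ^ (q ^ 2 - 1).factorization 3 = 48 := by
  classical
  subst hq
  have hpp : p.Prime := Fact.out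
  obtain ⟨n, -, hn⟩ := FiniteField.card F p
  have hnd : ∀ r : ℕ, r.Prime → r < 5 → ¬ r ∣ Fintype.card F := by
    intro r hr hlt hd
    rw [hn] at hd
    have := (Nat.prime_dvd_prime_iff_eq hr hpp).1 (hr.dvd_of_dvd_pow hd)
    omega
  have hq2 := hnd 2 Nat.prime_two (by norm_num)
  have hq3 := hnd 3 Nat.prime_three (by norm_num)
  have h2F : (2 : F) ≠ 0 := by
    intro h
    obtain ⟨k, hk⟩ := even_card_of_two_eq h
    exact hq2 ⟨k, by omega⟩
  have hz : zc F = 2 := zc_of_two_ne h2F
  have hq5 : 5 ≤ Fintype.card F := by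
    rw [hn]
    calc 5 ≤ p := hp
      _ = p ^ 1 := (pow_one p).symm
      _ ≤ p ^ (n : ℕ) := Nat.pow_le_pow_right (by omega) n.pos
  obtain ⟨u, hu⟩ : ∃ u, Fintype.card F = u + 1 := ⟨Fintype.card F - 1, by omega⟩
  have hsq : Fintype.card F ^ 2 - 1 = u * (u + 2) := by
    rw [hu]
    have : (u + 1) ^ 2 = u * (u + 2) + 1 := by ring
    omega
  have hN0 : Fintype.card F ^ 2 - 1 ≠ 0 := by
    rw [hsq]
    have : 0 < u * (u + 2) := by
      apply Nat.mul_pos <;> omega
    omega
  constructor
  · rintro ⟨H, hpi, hidx⟩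
    have hi2 := hidx 2 Nat.prime_two (by simp)
    have hi3 := hidx 3 Nat.prime_three (by simp)
    have hcard := card_PSL (F := F)
    rw [hz, ← H.card_mul_index, hsq] at hcard
    have hHpos : 0 < Nat.card H := Nat.card_pos
    rcases dickson p (pre H) (center_le_pre H) with h | h | ⟨h, -⟩ | ⟨K, D, hIn, hK⟩
    · exfalso
      have h1 := BorType.card_dvd (G := pre H) h
      rw [card_pre, hz] at h1
      obtain ⟨c, hc⟩ := h1
      have hu' : Fintype.card F - 1 = u := by omega
      rw [hu'] at hc
      have h2 : H.index = c * (u + 2) := by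
        apply Nat.eq_of_mul_eq_mul_left (show 0 < 2 * Nat.card H by positivity)
        calc 2 * Nat.card H * H.index = 2 * (Nat.card H * H.index) := by ring
          _ = Fintype.card F * (u * (u + 2)) := hcard
          _ = (Fintype.card F * u) * (u + 2) := by ring
          _ = 2 * Nat.card H * (c * (u + 2)) := by rw [hc]; ring
      apply hi2
      rw [h2]
      apply Dvd.dvd.mul_left
      omega
    · obtain ⟨k, hk, hs⟩ := tor_struct H h
      rw [hz] at hk
      have hu' : Fintype.card F - 1 = u := by omega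
      have hu'' : Fintype.card F + 1 = u + 2 := by omega
      rw [hu', hu''] at hk
      -- `w` is the order of the torus, `w'` the other factor
      have key : ∀ w w' : ℕ, u * (u + 2) = w * w' → 2 * k ∣ w → 2 ∣ w' →
          ¬ 4 ∣ w' ∧ ¬ 3 ∣ w' := by
        intro w w' hww hkw hw'
        obtain ⟨c, hc⟩ := hkw
        rw [hww] at hcard
        rcases hs with ⟨-, hs⟩ | ⟨hs, -⟩
        · exfalso
          have h2 : H.index = Fintype.card F * c * w' := by
            apply Nat.eq_of_mul_eq_mul_left (show 0 < 2 * Nat.card H by positivity)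
            calc 2 * Nat.card H * H.index = 2 * (Nat.card H * H.index) := by ring
              _ = Fintype.card F * (w * w') := hcard
              _ = 2 * Nat.card H * (Fintype.card F * c * w') := by rw [hc, hs]; ring
          apply hi2
          rw [h2]
          exact Dvd.dvd.mul_left hw' _
        · have h2 : 2 * H.index = Fintype.card F * c * w' := by
            apply Nat.eq_of_mul_eq_mul_left hHpos
            calc Nat.card H * (2 * H.index) = 2 * (Nat.card H * H.index) := by ring
              _ = Fintype.card F * (w * w') := hcard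
              _ = Nat.card H * (Fintype.card F * c * w') := by rw [hc, hs]; ring
          constructor
          · rintro ⟨d, rfl⟩
            apply hi2
            refine ⟨Fintype.card F * c * d, ?_⟩
            have : 2 * H.index = 2 * (2 * (Fintype.card F * c * d)) := by rw [h2]; ring
            omega
          · rintro ⟨d, rfl⟩
            apply hi3
            have h3 : 3 ∣ 2 * H.index := ⟨Fintype.card F * c * d, by rw [h2]; ring⟩
            exact (Nat.Coprime.dvd_of_dvd_mul_left (by norm_num) h3)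
      have h3uv : 3 ∣ u * (u + 2) := by
        have : u % 3 = 0 ∨ u % 3 = 1 := by
          have : ¬ 3 ∣ u + 1 := by rw [← hu]; exact hq3
          omega
        rcases this with h | h
        · exact Dvd.dvd.mul_right (Nat.dvd_of_mod_eq_zero h) _
        · exact Dvd.dvd.mul_left (by omega) _
      have hueven : 2 ∣ u := by
        have : ¬ 2 ∣ u + 1 := by rw [← hu]; exact hq2
        omega
      rcases hk with hk | hk
      · obtain ⟨h4, h3⟩ := key (u + 2) u (by ring) hk hueven
        right; left
        refine ⟨?_, by omega⟩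
        rw [hu'']
        rcases (Nat.Prime.dvd_mul Nat.prime_three).1 h3uv with h | h
        · exact absurd h h3
        · exact h
      · obtain ⟨h4, h3⟩ := key u (u + 2) rfl hk (by omega)
        left
        refine ⟨?_, by omega⟩
        rw [hu']
        rcases (Nat.Prime.dvd_mul Nat.prime_three).1 h3uv with h | h
        · exact h
        · exact absurd h h3
    · -- exceptional groups
      have hcop : ∀ m : ℕ, Nat.card H = m → (∀ r : ℕ, r.Prime → r ∣ m → r < 5) →
          ∃ j, u * (u + 2) = 2 * m * j ∧ ¬ 2 ∣ j ∧ ¬ 3 ∣ j := by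
        intro m hm hsmall
        rw [hm] at hcard
        have hc1 : Nat.Coprime (Fintype.card F) (2 * m) := by
          apply Nat.Coprime.symm
          apply Nat.Coprime.mul_left
          · exact (Nat.Prime.coprime_iff_not_dvd Nat.prime_two).2 hq2
          · apply Nat.coprime_of_dvd
            intro r hr hrm hrq
            exact hnd r hr (hsmall r hr hrm) hrq
        have hd : Fintype.card F ∣ 2 * m * H.index := ⟨u * (u + 2), by rw [← hcard]; ring⟩
        obtain ⟨j, hj⟩ := hc1.dvd_of_dvd_mul_left hd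
        refine ⟨j, ?_, fun h => hi2 (hj ▸ Dvd.dvd.mul_left h _),
          fun h => hi3 (hj ▸ Dvd.dvd.mul_left h _)⟩
        apply Nat.eq_of_mul_eq_mul_left (show 0 < Fintype.card F by omega)
        rw [← hcard, hj]; ring
      rcases h with ⟨h1, -⟩ | ⟨h1, -⟩ | ⟨h1, -⟩
      · right; right; left
        obtain ⟨j, hj, j2, j3⟩ := hcop 12 (card_of_card_pre h1) (by
          intro r hr hd
          have : r ∣ 2 ^ 2 * 3 := by norm_num; exact hd
          rcases (Nat.Prime.dvd_mul hr).1 this with h | h
          · have := (Nat.prime_dvd_prime_iff_eq hr Nat.prime_two).1 (hr.dvd_of_dvd_pow h); omega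
          · have := (Nat.prime_dvd_prime_iff_eq hr Nat.prime_three).1 h; omega)
        rw [part_eq (a := 3) (b := 1) (j := j) (by rw [hsq, hj]; ring) j2 j3]
        norm_num
      · right; right; right
        obtain ⟨j, hj, j2, j3⟩ := hcop 24 (card_of_card_pre h1) (by
          intro r hr hd
          have : r ∣ 2 ^ 3 * 3 := by norm_num; exact hd
          rcases (Nat.Prime.dvd_mul hr).1 this with h | h
          · have := (Nat.prime_dvd_prime_iff_eq hr Nat.prime_two).1 (hr.dvd_of_dvd_pow h); omega
          · have := (Nat.prime_dvd_prime_iff_eq hr Nat.prime_three).1 h; omega)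
        rw [part_eq (a := 4) (b := 1) (j := j) (by rw [hsq, hj]; ring) j2 j3]
        norm_num
      · exfalso
        have := hpi 5 (by norm_num) (by rw [card_of_card_pre h1]; norm_num)
        rw [mem_pi] at this
        omega
    · exfalso
      -- the characteristic divides the order
      have hpK : p ∣ Nat.card K := by
        have h1 := card_eq_pow K
        rw [hn] at h1
        have hm0 : Module.finrank K F ≠ 0 := by
          intro h0
          rw [h0, pow_zero] at h1
          have := Nat.one_lt_pow n.ne_zero hpp.one_lt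
          omega
        have h2 : Nat.card K ∣ p ^ (n : ℕ) := by rw [h1]; exact dvd_pow_self _ hm0
        obtain ⟨i, -, hi⟩ := (Nat.dvd_prime_pow hpp).1 h2
        rw [hi]
        apply dvd_pow_self
        rintro rfl
        rw [pow_zero] at hi
        omega
      have hpH : p ∣ Nat.card H := by
        rcases hIn.equiv H (fun g => Iff.rfl) with ⟨⟨e⟩⟩ | ⟨⟨e⟩⟩
        · have h1 := card_of_equiv_psl e
          rw [hz] at h1
          have h2 : p ∣ 2 * Nat.card H := by rw [h1]; exact Dvd.dvd.mul_right hpK _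
          rcases (Nat.Prime.dvd_mul hpp).1 h2 with h | h
          · have := Nat.le_of_dvd (by norm_num) h; omega
          · exact h
        · rw [card_of_equiv_pgl e]; exact Dvd.dvd.mul_right hpK _
      have := hpi p hpp hpH
      rw [mem_pi] at this
      omega
  · have hu' : Fintype.card F - 1 = u := by omega
    have hu'' : Fintype.card F + 1 = u + 2 := by omega
    rintro (⟨h3, h4⟩ | ⟨h3, h4⟩ | h | h)
    · obtain ⟨x, hs, hC⟩ := exists_torus_minus (F := F) (by omega)
      rw [hu'] at hC h3
      exact hall_of_torus hz (by omega) hsq (by omega) hs hC (by omega) (by omega) hq2 hq3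
    · obtain ⟨x, hs, hC⟩ := exists_torus_plus (F := F)
      rw [hu''] at hC h3
      exact hall_of_torus hz (by omega) (hsq.trans (mul_comm _ _)) (by omega) hs hC (by omega)
        (by omega) hq2 hq3
    · obtain ⟨j, hj, j2, j3⟩ := exists_cofactor _ hN0
      rw [h] at hj
      obtain ⟨H, ⟨e⟩⟩ := (Cfsg.Agent.S0802.result (F := F) p n hn).2 (by
        rintro ⟨rfl, -⟩; omega)
      refine ⟨H, hall_of_card (a := 2) (j := j) hz ?_ (by rw [hj]; norm_num) j2 j3 hq2 hq3⟩
      rw [Nat.card_congr e.toEquiv, nat_card_alternatingGroup]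
      simp [Nat.factorial]
    · obtain ⟨j, hj, j2, j3⟩ := exists_cofactor _ hN0
      rw [h] at hj
      obtain ⟨H, ⟨e⟩⟩ := (Cfsg.Agent.S0803.result (F := F) rfl).2 (by
        have : 1 ≤ Fintype.card F ^ 2 := Nat.one_le_pow _ _ (by omega)
        omega)
      refine ⟨H, hall_of_card (a := 3) (j := j) hz ?_ (by rw [hj]; norm_num) j2 j3 hq2 hq3⟩
      rw [Nat.card_congr e.toEquiv, Nat.card_perm]
      simp [Nat.factorial]

end Cfsg.Agent.S2537
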