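import Cfsg.Statements.S2542
-- import your own Cfsg.Agent.* helpers here
import Cfsg.Agent.S0804
import Cfsg.Agent.S0675
import Cfsg.Agent.Lib.Helper7.SL2Center

set_option autoImplicit false
open Cfsg

namespace Cfsg.Agent.S2542

/-- Let F be a field with 11 elements. PSL_2(F) has a subgroup H of index 11 isomorphic to the alternating group A_5, and the action of PSL_2(F) on the cosets of H is 2-transitive (of degree 11). -/
theorem result {F : Type*} [Field F] [Fintype F] (hF : Fintype.card F = 11) : ∃ H : Subgroup (Matrix.ProjectiveSpecialLinearGroup (Fin 2) F), H.index = 11 ∧ Nonempty (H ≃* alternatingGroup (Fin 5)) ∧ MulAction.IsMultiplyPretransitive (Matrix.ProjectiveSpecialLinearGroup (Fin 2) F) ((Matrix.ProjectiveSpecialLinearGroup (Fin 2) F) ⧸ H) 2 := by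
  classical
  set G := Matrix.ProjectiveSpecialLinearGroup (Fin 2) F with hG
  have hfinS : Finite (Matrix.SpecialLinearGroup (Fin 2) F) :=
    Finite.of_injective (fun A : Matrix.SpecialLinearGroup (Fin 2) F =>
      (A : Matrix (Fin 2) (Fin 2) F)) Subtype.val_injective
  have hfinG : Finite G := by rw [hG]; exact Quotient.finite _
  obtain ⟨H, ⟨e⟩⟩ := (Cfsg.Agent.S0804.result (F := F) (q := 11) hF).mpr (by norm_num)
  have hH : Nat.card H = 60 := by
    rw [Nat.card_congr e.toEquiv, nat_card_alternatingGroup]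
    simp [Nat.factorial]
  have h2 : (2 : F) ≠ 0 := by
    rcases Cfsg.Agent.Lib.Helper46.parity_cases (F := F) with ⟨h2, -⟩ | ⟨-, hev⟩
    · exact h2
    · rw [hF] at hev; omega
  have hcard : Nat.card G = 660 := by
    have this : Nat.card G * 2 = Fintype.card F * (Fintype.card F ^ 2 - 1) :=
      Cfsg.Agent.Lib.Helper7.card_PSL2 (F := F) h2
    rw [hF] at this
    have h3 : (11 * (11 ^ 2 - 1) : ℕ) = 1320 := by norm_num
    rw [h3] at this
    omega
  have hidx : H.index = 11 := by
    have := H.card_mul_index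
    rw [hH, hcard] at this
    omega
  have hsimple : IsSimpleGroup G :=
    Matrix.ProjectiveSpecialLinearGroup.rank_two_simple (by
      rw [Nat.card_eq_fintype_card, hF]; norm_num)
  refine ⟨H, hidx, ⟨e⟩, ?_⟩
  have hHbot : H ≠ ⊥ := by
    intro h
    rw [h, Subgroup.card_bot] at hH
    omega
  have hHtop : H ≠ ⊤ := by
    intro h
    rw [h, Subgroup.index_top] at hidx
    omega
  have : Fintype (G ⧸ H) := Fintype.ofFinite _
  have hdeg : (Fintype.card (G ⧸ H)).Prime := by
    rw [← Nat.card_eq_fintype_card, ← Subgroup.index_eq_card, hidx]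
    norm_num
  let φ : G →* Equiv.Perm (G ⧸ H) := MulAction.toPermHom G (G ⧸ H)
  have hφ : ∀ (g : G) (x : G ⧸ H), φ g x = g • x := fun g x => rfl
  have hinj : Function.Injective φ := by
    rw [← MonoidHom.ker_eq_bot_iff]
    rcases hsimple.eq_bot_or_eq_top_of_normal φ.ker inferInstance with h | h
    · exact h
    · exfalso
      apply hHtop
      rw [eq_top_iff]
      intro g _
      have hg : g ∈ φ.ker := by rw [h]; trivial
      have h1 : φ g ((1 : G) : G ⧸ H) = ((1 : G) : G ⧸ H) := by
        rw [MonoidHom.mem_ker.mp hg]; rfl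
      rw [hφ] at h1
      have h3 : ((g * 1 : G) : G ⧸ H) = ((1 : G) : G ⧸ H) := h1
      rw [mul_one, eq_comm, QuotientGroup.eq] at h3
      simpa using h3
  have htr : MulAction.IsPretransitive φ.range (G ⧸ H) := by
    constructor
    intro x y
    obtain ⟨g, hg⟩ := MulAction.exists_smul_eq G x y
    exact ⟨⟨φ g, g, rfl⟩, hg⟩
  rcases Cfsg.Agent.S0675.result hdeg φ.range with hsol | h2t
  · exfalso
    have hsolG : Group.IsSolvable G :=
      Group.isSolvable_of_isSolvable_injective (f := φ.rangeRestrict) (by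
        intro a b hab
        apply hinj
        exact congrArg Subtype.val hab)
    have hcomm := IsSimpleGroup.comm_iff_isSolvable.mpr hsolG
    have hN : H.Normal := ⟨fun n hn g => by rw [hcomm g n]; simpa using hn⟩
    rcases hsimple.eq_bot_or_eq_top_of_normal H hN with h | h
    · exact hHbot h
    · exact hHtop h
  · constructor
    intro x y
    obtain ⟨⟨k, g, rfl⟩, hk⟩ := h2t.exists_smul_eq x y
    refine ⟨g, ?_⟩
    rw [← hk]
    rfl

end Cfsg.Agent.S2542
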