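import Cfsg.Statements.S2679
import Cfsg.Agent.Lib.Helper50.FiniteFieldExt

set_option autoImplicit false
open Cfsg
open Polynomial Matrix

namespace Cfsg.Agent.S2679

/-- an anisotropic binary form over a finite field splits over the quadratic extension with distinct roots -/
theorem exists_roots {F K : Type*} [Field F] [Fintype F] [Field K] [Fintype K] [Algebra F K]
    (h2 : Module.finrank F K = 2) (a c : F)
    (hac : ∀ z₁ z₂ : F, z₁ ^ 2 + a * z₁ * z₂ + c * z₂ ^ 2 = 0 → z₁ = 0 ∧ z₂ = 0) :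
    ∃ α β : K, α ≠ β ∧ α + β = - algebraMap F K a ∧ α * β = algebraMap F K c := by
  classical
  let f : F[X] := X ^ 2 + C a * X + C c
  have hfdeg : f.natDegree = 2 := by
    simp only [f]; compute_degree!
  have hfmonic : f.Monic := by
    simp only [f]; monicity!
  have hnoroot : ∀ z : F, ¬ f.IsRoot z := by
    intro z hz
    have : z ^ 2 + a * z * 1 + c * 1 ^ 2 = 0 := by
      have h : f.eval z = 0 := hz
      simp only [f, eval_add, eval_pow, eval_X, eval_mul, eval_C] at h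
      linear_combination h
    exact one_ne_zero (hac z 1 this).2
  have hirr : Irreducible f := by
    apply Polynomial.irreducible_of_degree_le_three_of_not_isRoot
    · rw [hfdeg]; simp
    · exact hnoroot
  have : Fact (Irreducible f) := ⟨hirr⟩
  have hfin : Module.finrank F (AdjoinRoot f) = 2 := by
    rw [(AdjoinRoot.powerBasis hirr.ne_zero).finrank, AdjoinRoot.powerBasis_dim, hfdeg]
  obtain ⟨φ⟩ := FiniteField.nonempty_algHom_of_finrank_dvd (F := F) (K := AdjoinRoot f) (L := K)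
    (by rw [hfin, h2])
  let α : K := φ (AdjoinRoot.root f)
  have hα : α ^ 2 + algebraMap F K a * α + algebraMap F K c = 0 := by
    have h1 : aeval (AdjoinRoot.root f) f = 0 := AdjoinRoot.aeval_eq f ▸ AdjoinRoot.mk_self
    have h3 : aeval α f = 0 := by
      rw [Polynomial.aeval_algHom_apply, h1, map_zero]
    simpa [f] using h3
  refine ⟨α, - algebraMap F K a - α, ?_, by ring, by linear_combination -hα⟩
  intro heq
  have h2α : 2 * α = - algebraMap F K a := by linear_combination heq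
  by_cases hchar : (2 : F) = 0
  · have h2K : (2 : K) = 0 := by
      rw [← map_ofNat (algebraMap F K) 2, hchar, map_zero]
    have ha0 : a = 0 := by
      apply (algebraMap F K).injective
      rw [map_zero]
      linear_combination h2α - α * h2K
    have hc2 : CharP F 2 := CharTwo.of_one_ne_zero_of_two_eq_zero one_ne_zero hchar
    obtain ⟨d, hd⟩ := FiniteField.isSquare_of_char_two (ringChar.eq F 2) c
    have : d ^ 2 + a * d * 1 + c * 1 ^ 2 = 0 := by
      rw [ha0, hd]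
      linear_combination d * d * hchar
    exact one_ne_zero (hac d 1 this).2
  · have h2K : (2 : K) ≠ 0 := by
      rw [← map_ofNat (algebraMap F K) 2]
      exact fun h => hchar ((map_eq_zero _).1 h)
    have hαz : α = algebraMap F K (-a / 2) := by
      rw [map_div₀, map_neg, map_ofNat, eq_div_iff h2K]
      linear_combination h2α
    have : (-a / 2) ^ 2 + a * (-a / 2) * 1 + c * 1 ^ 2 = 0 := by
      apply (algebraMap F K).injective
      rw [map_zero, ← hα, hαz]
      simp only [map_add, map_mul, map_pow, map_one]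
      ring
    exact one_ne_zero (hac _ 1 this).2

theorem mem_iso {ι : Type} [Fintype ι] [DecidableEq ι] {F : Type*} [Field F] (Q : (ι → F) → F)
    (g : Matrix.GeneralLinearGroup ι F) :
    g ∈ Cfsg.isometryGroup F Q ↔ ∀ u, Q ((g : Matrix ι ι F) *ᵥ u) = Q u := by
  constructor
  · intro h u; exact h u u
  · intro h u _; exact h u

/-- conjugation by a rectangular invertible pair -/
def conjHom {ι₁ ι₂ : Type} [Fintype ι₁] [DecidableEq ι₁] [Fintype ι₂] [DecidableEq ι₂] {K : Type*} [Field K]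
    (P : Matrix ι₂ ι₁ K) (P' : Matrix ι₁ ι₂ K) (h1 : P * P' = 1) (h2 : P' * P = 1) :
    Matrix.GeneralLinearGroup ι₁ K →* Matrix.GeneralLinearGroup ι₂ K where
  toFun g := ⟨P * (g : Matrix ι₁ ι₁ K) * P', P * ((g⁻¹ : Matrix.GeneralLinearGroup ι₁ K) : Matrix ι₁ ι₁ K) * P',
    by
      calc P * (g : Matrix ι₁ ι₁ K) * P' * (P * ((g⁻¹ : Matrix.GeneralLinearGroup ι₁ K) : Matrix ι₁ ι₁ K) * P')
          = P * ((g : Matrix ι₁ ι₁ K) * (P' * P) * ((g⁻¹ : Matrix.GeneralLinearGroup ι₁ K) : Matrix ι₁ ι₁ K)) * P' := by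
            simp only [Matrix.mul_assoc]
        _ = 1 := by rw [h2, Matrix.mul_one, ← Units.val_mul, mul_inv_cancel, Units.val_one, Matrix.mul_one, h1],
    by
      calc P * ((g⁻¹ : Matrix.GeneralLinearGroup ι₁ K) : Matrix ι₁ ι₁ K) * P' * (P * (g : Matrix ι₁ ι₁ K) * P')
          = P * (((g⁻¹ : Matrix.GeneralLinearGroup ι₁ K) : Matrix ι₁ ι₁ K) * (P' * P) * (g : Matrix ι₁ ι₁ K)) * P' := by
            simp only [Matrix.mul_assoc]
        _ = 1 := by rw [h2, Matrix.mul_one, ← Units.val_mul, inv_mul_cancel, Units.val_one, Matrix.mul_one, h1]⟩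
  map_one' := by
    apply Units.ext
    change P * ((1 : Matrix.GeneralLinearGroup ι₁ K) : Matrix ι₁ ι₁ K) * P' = 1
    rw [Units.val_one, Matrix.mul_one, h1]
  map_mul' g h := by
    apply Units.ext
    change P * ((g * h : Matrix.GeneralLinearGroup ι₁ K) : Matrix ι₁ ι₁ K) * P' =
      (P * (g : Matrix ι₁ ι₁ K) * P') * (P * (h : Matrix ι₁ ι₁ K) * P')
    calc P * ((g * h : Matrix.GeneralLinearGroup ι₁ K) : Matrix ι₁ ι₁ K) * P'
        = P * ((g : Matrix ι₁ ι₁ K) * 1 * (h : Matrix ι₁ ι₁ K)) * P' := by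
          rw [Matrix.mul_one, Units.val_mul]
      _ = _ := by rw [← h2]; simp only [Matrix.mul_assoc]

theorem conjHom_val {ι₁ ι₂ : Type} [Fintype ι₁] [DecidableEq ι₁] [Fintype ι₂] [DecidableEq ι₂] {K : Type*} [Field K]
    (P : Matrix ι₂ ι₁ K) (P' : Matrix ι₁ ι₂ K) (h1 : P * P' = 1) (h2 : P' * P = 1)
    (g : Matrix.GeneralLinearGroup ι₁ K) :
    ((conjHom P P' h1 h2 g : Matrix.GeneralLinearGroup ι₂ K) : Matrix ι₂ ι₂ K) = P * (g : Matrix ι₁ ι₁ K) * P' := rfl

theorem conjHom_injective {ι₁ ι₂ : Type} [Fintype ι₁] [DecidableEq ι₁] [Fintype ι₂] [DecidableEq ι₂] {K : Type*} [Field K]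
    (P : Matrix ι₂ ι₁ K) (P' : Matrix ι₁ ι₂ K) (h1 : P * P' = 1) (h2 : P' * P = 1) :
    Function.Injective (conjHom P P' h1 h2) := by
  intro g h hgh
  have h3 := congrArg (fun x : Matrix.GeneralLinearGroup ι₂ K => P' * (x : Matrix ι₂ ι₂ K) * P) hgh
  simp only [conjHom_val] at h3
  apply Units.ext
  calc (g : Matrix ι₁ ι₁ K) = (P' * P) * (g : Matrix ι₁ ι₁ K) * (P' * P) := by rw [h2, Matrix.one_mul, Matrix.mul_one]
    _ = P' * (P * (g : Matrix ι₁ ι₁ K) * P') * P := by simp only [Matrix.mul_assoc]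
    _ = P' * (P * (h : Matrix ι₁ ι₁ K) * P') * P := h3
    _ = (P' * P) * (h : Matrix ι₁ ι₁ K) * (P' * P) := by simp only [Matrix.mul_assoc]
    _ = h := by rw [h2, Matrix.one_mul, Matrix.mul_one]

theorem conjHom_mem {ι₁ ι₂ : Type} [Fintype ι₁] [DecidableEq ι₁] [Fintype ι₂] [DecidableEq ι₂] {K : Type*} [Field K]
    (P : Matrix ι₂ ι₁ K) (P' : Matrix ι₁ ι₂ K) (h1 : P * P' = 1) (h2 : P' * P = 1)
    (Q₁ : (ι₁ → K) → K) (Q₂ : (ι₂ → K) → K) (hQ : ∀ v, Q₂ (P *ᵥ v) = Q₁ v)
    (g : Matrix.GeneralLinearGroup ι₁ K) (hg : g ∈ Cfsg.isometryGroup K Q₁) :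
    conjHom P P' h1 h2 g ∈ Cfsg.isometryGroup K Q₂ := by
  rw [mem_iso] at hg ⊢
  intro w
  rw [conjHom_val, ← mulVec_mulVec, ← mulVec_mulVec, hQ, hg, ← hQ, mulVec_mulVec, h1, one_mulVec]

theorem polar_id {F K : Type*} [Field F] [Field K] [Algebra F K] (k : ℕ) (a c : F) (s t : K)
    (u w : (Fin k ⊕ Fin k) ⊕ Fin 2 → F) :
    Cfsg.quadFormMinus k K (algebraMap F K a) (algebraMap F K c)
        (s • (algebraMap F K ∘ u) + t • (algebraMap F K ∘ w)) =
      s ^ 2 * algebraMap F K (Cfsg.quadFormMinus k F a c u) +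
      s * t * algebraMap F K (Cfsg.quadFormMinus k F a c (u + w) - Cfsg.quadFormMinus k F a c u
        - Cfsg.quadFormMinus k F a c w) +
      t ^ 2 * algebraMap F K (Cfsg.quadFormMinus k F a c w) := by
  simp only [Cfsg.quadFormMinus, Pi.add_apply, Pi.smul_apply, Function.comp_apply, smul_eq_mul, map_add, map_sub,
    map_sum, map_mul, map_pow]
  have key : ∀ i : Fin k, (s * algebraMap F K (u (.inl (.inl i))) + t * algebraMap F K (w (.inl (.inl i)))) *
      (s * algebraMap F K (u (.inl (.inr i))) + t * algebraMap F K (w (.inl (.inr i)))) =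
      s ^ 2 * (algebraMap F K (u (.inl (.inl i))) * algebraMap F K (u (.inl (.inr i)))) +
      s * t * ((algebraMap F K (u (.inl (.inl i))) + algebraMap F K (w (.inl (.inl i)))) *
        (algebraMap F K (u (.inl (.inr i))) + algebraMap F K (w (.inl (.inr i)))) -
        algebraMap F K (u (.inl (.inl i))) * algebraMap F K (u (.inl (.inr i))) -
        algebraMap F K (w (.inl (.inl i))) * algebraMap F K (w (.inl (.inr i)))) +
      t ^ 2 * (algebraMap F K (w (.inl (.inl i))) * algebraMap F K (w (.inl (.inr i)))) := by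
    intro i; ring
  rw [Finset.sum_congr rfl (fun i _ => key i)]
  simp only [Finset.sum_add_distrib, Finset.sum_sub_distrib, ← Finset.mul_sum]
  ring

theorem base_change {F K : Type*} [Field F] [Field K] [Algebra F K]
    (h2 : Module.finrank F K = 2) (k : ℕ) (a c : F)
    (g : Matrix.GeneralLinearGroup ((Fin k ⊕ Fin k) ⊕ Fin 2) F)
    (hg : g ∈ Cfsg.isometryGroup F (Cfsg.quadFormMinus k F a c)) :
    Matrix.GeneralLinearGroup.map (algebraMap F K) g ∈
      Cfsg.isometryGroup K (Cfsg.quadFormMinus k K (algebraMap F K a) (algebraMap F K c)) := by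
  rw [mem_iso] at hg ⊢
  intro v
  have hfd : Module.Finite F K := Module.finite_of_finrank_pos (by omega)
  let b : Module.Basis (Fin 2) F K := Module.finBasisOfFinrankEq F K h2
  have hv : v = b 0 • (algebraMap F K ∘ (fun i => b.repr (v i) 0)) + b 1 • (algebraMap F K ∘ (fun i => b.repr (v i) 1)) := by
    ext i
    have := b.sum_repr (v i)
    rw [Fin.sum_univ_two] at this
    simp only [Pi.add_apply, Pi.smul_apply, Function.comp_apply, smul_eq_mul]
    conv_lhs => rw [← this]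
    rw [Algebra.smul_def, Algebra.smul_def, mul_comm (b 0), mul_comm (b 1)]
  have hmap : ∀ u : (Fin k ⊕ Fin k) ⊕ Fin 2 → F,
      ((Matrix.GeneralLinearGroup.map (algebraMap F K) g : Matrix.GeneralLinearGroup _ K) :
          Matrix ((Fin k ⊕ Fin k) ⊕ Fin 2) ((Fin k ⊕ Fin k) ⊕ Fin 2) K) *ᵥ (algebraMap F K ∘ u)
        = algebraMap F K ∘ ((g : Matrix ((Fin k ⊕ Fin k) ⊕ Fin 2) ((Fin k ⊕ Fin k) ⊕ Fin 2) F) *ᵥ u) := by
    intro u
    ext i
    simp only [Function.comp_apply]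
    rw [RingHom.map_mulVec]
    rfl
  rw [hv, mulVec_add, mulVec_smul, mulVec_smul, hmap, hmap, polar_id, polar_id, ← mulVec_add, hg, hg, hg]

def Lmap {K : Type*} [Field K] (k : ℕ) (α β : K) :
    (((Fin k ⊕ Fin k) ⊕ Fin 2) → K) →ₗ[K] ((Fin (k + 1) ⊕ Fin (k + 1)) → K) where
  toFun v := Sum.elim (Fin.cons (v (.inr 0) - α * v (.inr 1)) (fun i => v (.inl (.inl i))))
    (Fin.cons (v (.inr 0) - β * v (.inr 1)) (fun i => v (.inl (.inr i))))
  map_add' v w := by
    ext j
    rcases j with j | j <;> refine Fin.cases ?_ (fun i => ?_) j <;> simp <;> ring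
  map_smul' r v := by
    ext j
    rcases j with j | j <;> refine Fin.cases ?_ (fun i => ?_) j <;> simp <;> ring

theorem Lmap_inl_zero {K : Type*} [Field K] (k : ℕ) (α β : K) (v : ((Fin k ⊕ Fin k) ⊕ Fin 2) → K) :
    Lmap k α β v (.inl 0) = v (.inr 0) - α * v (.inr 1) := rfl
theorem Lmap_inr_zero {K : Type*} [Field K] (k : ℕ) (α β : K) (v : ((Fin k ⊕ Fin k) ⊕ Fin 2) → K) :
    Lmap k α β v (.inr 0) = v (.inr 0) - β * v (.inr 1) := rfl
theorem Lmap_inl_succ {K : Type*} [Field K] (k : ℕ) (α β : K) (v : ((Fin k ⊕ Fin k) ⊕ Fin 2) → K) (i : Fin k) :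
    Lmap k α β v (.inl i.succ) = v (.inl (.inl i)) := rfl
theorem Lmap_inr_succ {K : Type*} [Field K] (k : ℕ) (α β : K) (v : ((Fin k ⊕ Fin k) ⊕ Fin 2) → K) (i : Fin k) :
    Lmap k α β v (.inr i.succ) = v (.inl (.inr i)) := rfl

theorem Lmap_form {K : Type*} [Field K] (k : ℕ) (α β a c : K) (h1 : α + β = -a) (h2 : α * β = c)
    (v : ((Fin k ⊕ Fin k) ⊕ Fin 2) → K) :
    Cfsg.quadFormPlus (k + 1) K (Lmap k α β v) = Cfsg.quadFormMinus k K a c v := by
  rw [Cfsg.quadFormPlus, Cfsg.quadFormMinus, Fin.sum_univ_succ]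
  simp only [Lmap_inl_zero, Lmap_inr_zero, Lmap_inl_succ, Lmap_inr_succ]
  rw [← h2]
  have ha : a = -(α + β) := by rw [h1, neg_neg]
  rw [ha]
  ring

theorem Lmap_injective {K : Type*} [Field K] (k : ℕ) (α β : K) (hne : α ≠ β) :
    Function.Injective (Lmap k α β) := by
  rw [injective_iff_map_eq_zero]
  intro v hv
  have e1 := congrFun hv (.inl 0)
  have e2 := congrFun hv (.inr 0)
  rw [Lmap_inl_zero] at e1
  rw [Lmap_inr_zero] at e2
  simp only [Pi.zero_apply] at e1 e2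
  have e3 : (α - β) * v (.inr 1) = 0 := by linear_combination e2 - e1
  have e4 : v (.inr 1) = 0 := by
    rcases mul_eq_zero.1 e3 with h | h
    · exact absurd (sub_eq_zero.1 h) hne
    · exact h
  have e5 : v (.inr 0) = 0 := by rw [e4] at e1; linear_combination e1
  ext j
  rcases j with (j | j) | j
  · exact congrFun hv (.inl j.succ)
  · exact congrFun hv (.inr j.succ)
  · fin_cases j
    · exact e5
    · exact e4

theorem exists_P {K : Type*} [Field K] (k : ℕ) (α β a c : K) (hne : α ≠ β) (h1 : α + β = -a) (h2 : α * β = c) :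
    ∃ (P : Matrix (Fin (k + 1) ⊕ Fin (k + 1)) ((Fin k ⊕ Fin k) ⊕ Fin 2) K)
      (P' : Matrix ((Fin k ⊕ Fin k) ⊕ Fin 2) (Fin (k + 1) ⊕ Fin (k + 1)) K),
      P * P' = 1 ∧ P' * P = 1 ∧ ∀ v, Cfsg.quadFormPlus (k + 1) K (P *ᵥ v) = Cfsg.quadFormMinus k K a c v := by
  have hdim : Module.finrank K (((Fin k ⊕ Fin k) ⊕ Fin 2) → K) = Module.finrank K ((Fin (k + 1) ⊕ Fin (k + 1)) → K) := by
    simp only [Module.finrank_fintype_fun_eq_card, Fintype.card_sum, Fintype.card_fin]
    ring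
  let Le := LinearEquiv.ofInjectiveOfFinrankEq (Lmap k α β) (Lmap_injective k α β hne) hdim
  have hLe : ∀ v, Le v = Lmap k α β v := fun v => rfl
  refine ⟨LinearMap.toMatrix' (Lmap k α β), LinearMap.toMatrix' Le.symm.toLinearMap, ?_, ?_, ?_⟩
  · rw [← LinearMap.toMatrix'_comp, ← LinearMap.toMatrix'_id]
    congr 1
    apply LinearMap.ext; intro w
    simp only [LinearMap.comp_apply, LinearEquiv.coe_coe, LinearMap.id_apply]
    rw [← hLe, LinearEquiv.apply_symm_apply]
  · rw [← LinearMap.toMatrix'_comp, ← LinearMap.toMatrix'_id]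
    congr 1
    apply LinearMap.ext; intro w
    simp only [LinearMap.comp_apply, LinearEquiv.coe_coe, LinearMap.id_apply]
    rw [← hLe, LinearEquiv.symm_apply_apply]
  · intro v
    rw [LinearMap.toMatrix'_mulVec, Lmap_form k α β a c h1 h2]

theorem result {F K : Type*} [Field F] [Fintype F] [Field K] [Fintype K] {q : ℕ} (hF : Fintype.card F = q) (hK : Fintype.card K = q ^ 2) {m : ℕ} (hm : 1 ≤ m) (a c : F) (hac : ∀ z₁ z₂ : F, z₁ ^ 2 + a * z₁ * z₂ + c * z₂ ^ 2 = 0 → z₁ = 0 ∧ z₂ = 0) : ∃ φ : ↥(Cfsg.isometryGroup F (Cfsg.quadFormMinus (m - 1) F a c)) →* ↥(Cfsg.isometryGroup K (Cfsg.quadFormPlus m K)), Function.Injective φ := by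
  obtain ⟨alg, h2⟩ := Cfsg.Agent.Lib.Helper50.exists_algebra_of_card_pow (F := F) (K := K) 2 (by rw [hK, hF])
  obtain ⟨k, rfl⟩ : ∃ k, m = k + 1 := ⟨m - 1, by omega⟩
  rw [Nat.add_sub_cancel]
  obtain ⟨α, β, hne, hs, hp⟩ := exists_roots h2 a c hac
  obtain ⟨P, P', h1, h2', hQ⟩ := exists_P k α β _ _ hne hs hp
  let ψ : Matrix.GeneralLinearGroup ((Fin k ⊕ Fin k) ⊕ Fin 2) F →* Matrix.GeneralLinearGroup (Fin (k + 1) ⊕ Fin (k + 1)) K :=
    (conjHom P P' h1 h2').comp (Matrix.GeneralLinearGroup.map (algebraMap F K))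
  have hψ : ∀ g : ↥(Cfsg.isometryGroup F (Cfsg.quadFormMinus k F a c)),
      ψ g.1 ∈ Cfsg.isometryGroup K (Cfsg.quadFormPlus (k + 1) K) := by
    intro g
    exact conjHom_mem P P' h1 h2' _ _ hQ _ (base_change h2 k a c g.1 g.2)
  refine ⟨(ψ.comp (Subgroup.subtype _)).codRestrict _ hψ, ?_⟩
  intro g h hgh
  have h3 : ψ g.1 = ψ h.1 := congrArg Subtype.val hgh
  have h4 := conjHom_injective P P' h1 h2' h3
  apply Subtype.ext
  apply Units.ext
  ext i j
  have h5 := congrArg (fun x : Matrix.GeneralLinearGroup _ K => (x : Matrix _ _ K) i j) h4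
  exact (algebraMap F K).injective h5

end Cfsg.Agent.S2679
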