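import Cfsg.Statements.S2717
import Cfsg.Agent.S2695
import Cfsg.Agent.Lib.Helper6.GF.Main

set_option autoImplicit false
open Cfsg

namespace Cfsg.Agent.S2717

open scoped MatrixGroups in
/-- the statement for forms given as functions equal to the standard ones -/
theorem key {F : Type*} [Field F] [Fintype F] {p f : ℕ} {k : ℕ}
    (F₀ : Type*) [Field F₀] [Fintype F₀]
    (Q : ((Fin (k + 1) ⊕ Fin (k + 1)) → F) → F) (hQ : Q = Cfsg.quadFormPlus (k + 1) F)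
    (Qm : F₀ → F₀ → (((Fin k ⊕ Fin k) ⊕ Fin 2) → F₀) → F₀)
    (hQm : Qm = fun a b => Cfsg.quadFormMinus k F₀ a b)
    (H : ∀ (x : MulAut (Cfsg.POmega F Q))
      (_ : ∃ (α γ φ : MulAut (Cfsg.POmega F Q)) (σ : F ≃+* F)
          (v : Fin (k + 1) ⊕ Fin (k + 1) → F) (r : GL (Fin (k + 1) ⊕ Fin (k + 1)) F),
          σ ≠ RingEquiv.refl F ∧ Q v ≠ 0 ∧ (∀ i, σ (v i) = v i) ∧
          (r : Matrix (Fin (k + 1) ⊕ Fin (k + 1)) (Fin (k + 1) ⊕ Fin (k + 1)) F) =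
            Cfsg.reflectionMatrix Q v ∧
          Cfsg.IsInducedBySemilinearPOmega Q r (RingEquiv.refl F) γ ∧
          Cfsg.IsFieldAutPOmegaOf Q σ φ ∧ α * x * α⁻¹ = γ * φ)
      (_ : orderOf x = 2),
      Even f ∧
      (∀ y : MulAut (Cfsg.POmega F Q),
        (∃ (α γ φ : MulAut (Cfsg.POmega F Q)) (σ : F ≃+* F)
          (v : Fin (k + 1) ⊕ Fin (k + 1) → F) (r : GL (Fin (k + 1) ⊕ Fin (k + 1)) F),
          σ ≠ RingEquiv.refl F ∧ Q v ≠ 0 ∧ (∀ i, σ (v i) = v i) ∧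
          (r : Matrix (Fin (k + 1) ⊕ Fin (k + 1)) (Fin (k + 1) ⊕ Fin (k + 1)) F) =
            Cfsg.reflectionMatrix Q v ∧
          Cfsg.IsInducedBySemilinearPOmega Q r (RingEquiv.refl F) γ ∧
          Cfsg.IsFieldAutPOmegaOf Q σ φ ∧ α * y * α⁻¹ = γ * φ) → orderOf y = 2 →
        Cfsg.IsConjUnder (Cfsg.Agent.Lib.Helper6.OA.inndiagOf Q
          (Cfsg.PreservesSingularClasses Q)) x y) ∧
      (∃ a₀ b₀ : F₀, (∀ z₁ z₂ : F₀, z₁ ^ 2 + a₀ * z₁ * z₂ + b₀ * z₂ ^ 2 = 0 → z₁ = 0 ∧ z₂ = 0) ∧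
        Nonempty (↥(Cfsg.Agent.Lib.Helper6.OA.inndiagOf Q
          (Cfsg.PreservesSingularClasses Q) ⊓ Subgroup.centralizer {x}) ≃*
          ↥(Cfsg.Agent.Lib.Helper6.OA.inndiagOf (Qm a₀ b₀)
            (Cfsg.PreservesSingularClassesMinus k a₀ b₀)))) ∧
      (p = 2 → Cfsg.splitClassCount (Cfsg.Agent.Lib.Helper6.OA.inndiagOf Q
          (Cfsg.PreservesSingularClasses Q)) (Cfsg.Inn (Cfsg.POmega F Q)) x = 1) ∧
      ((p ≠ 2 ∧ Odd (k + 1) ∧ p ^ (f / 2) % 4 = 1) →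
        Cfsg.splitClassCount (Cfsg.Agent.Lib.Helper6.OA.inndiagOf Q
          (Cfsg.PreservesSingularClasses Q)) (Cfsg.Inn (Cfsg.POmega F Q)) x = 4) ∧
      ((p ≠ 2 ∧ ¬ (Odd (k + 1) ∧ p ^ (f / 2) % 4 = 1)) →
        Cfsg.splitClassCount (Cfsg.Agent.Lib.Helper6.OA.inndiagOf Q
          (Cfsg.PreservesSingularClasses Q)) (Cfsg.Inn (Cfsg.POmega F Q)) x = 2))
    (x : MulAut (Cfsg.POmega F (Cfsg.quadFormPlus (k + 1) F)))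
    (hx : Cfsg.IsGraphFieldAutClassPOmegaPlus (k + 1) x) (hx2 : orderOf x = 2) :
    Even f ∧ (∀ y : MulAut (Cfsg.POmega F (Cfsg.quadFormPlus (k + 1) F)), Cfsg.IsGraphFieldAutClassPOmegaPlus (k + 1) y → orderOf y = 2 → Cfsg.IsConjUnder (Cfsg.inndiagPOmegaPlus (k + 1) F) x y) ∧ (∃ a₀ b₀ : F₀, (∀ z₁ z₂ : F₀, z₁ ^ 2 + a₀ * z₁ * z₂ + b₀ * z₂ ^ 2 = 0 → z₁ = 0 ∧ z₂ = 0) ∧ Nonempty (↥(Cfsg.inndiagPOmegaPlus (k + 1) F ⊓ Subgroup.centralizer {x}) ≃* ↥(Cfsg.inndiagPOmegaMinus (k + 1 - 1) F₀ a₀ b₀))) ∧ (p = 2 → Cfsg.splitClassCount (Cfsg.inndiagPOmegaPlus (k + 1) F) (Cfsg.Inn (Cfsg.POmega F (Cfsg.quadFormPlus (k + 1) F))) x = 1) ∧ ((p ≠ 2 ∧ Odd (k + 1) ∧ p ^ (f / 2) % 4 = 1) → Cfsg.splitClassCount (Cfsg.inndiagPOmegaPlus (k + 1) F) (Cfsg.Inn (Cfsg.POmega F (Cfsg.quadFormPlus (k + 1) F))) x = 4) ∧ ((p ≠ 2 ∧ ¬ (Odd (k + 1) ∧ p ^ (f /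 2) % 4 = 1)) → Cfsg.splitClassCount (Cfsg.inndiagPOmegaPlus (k + 1) F) (Cfsg.Inn (Cfsg.POmega F (Cfsg.quadFormPlus (k + 1) F))) x = 2) := by
  subst hQ
  subst hQm
  exact H x hx hx2

/-- Let T = PΩ⁺_{2m}(F) with m ≥ 5 (dimension 2m ≠ 8) and |F| = p^f, G = Inndiag(T), and x an involutory graph-field automorphism of T. Then f is even; any two involutory graph-field automorphisms of T are G-conjugate; C_G(x) is isomorphic to Inndiag(PΩ⁻_{2m}(F₀)) for a field F₀ with p^(f/2) elements (some anisotropic binary part over F₀); and the G-class of x is the union of exactly c T-classes with c = 1 if p = 2, c = 4 if p is odd, m is odd and p^(f/2) ≡ 1 (mod 4), and c = 2 otherwise. -/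
theorem result {F : Type*} [Field F] [Fintype F] {p f : ℕ} [Fact p.Prime] (hF : Fintype.card F = p ^ f) (hf : 1 ≤ f) {m : ℕ} (hm : 5 ≤ m) (x : MulAut (Cfsg.POmega F (Cfsg.quadFormPlus m F))) (hx : Cfsg.IsGraphFieldAutClassPOmegaPlus m x) (hx2 : orderOf x = 2) (F₀ : Type*) [Field F₀] [Fintype F₀] (hF₀ : Fintype.card F₀ = p ^ (f / 2)) :
    Even f ∧ (∀ y : MulAut (Cfsg.POmega F (Cfsg.quadFormPlus m F)), Cfsg.IsGraphFieldAutClassPOmegaPlus m y → orderOf y = 2 → Cfsg.IsConjUnder (Cfsg.inndiagPOmegaPlus m F) x y) ∧ (∃ a₀ b₀ : F₀, (∀ z₁ z₂ : F₀, z₁ ^ 2 + a₀ * z₁ * z₂ + b₀ * z₂ ^ 2 = 0 → z₁ = 0 ∧ z₂ = 0) ∧ Nonempty (↥(Cfsg.inndiagPOmegaPlus m F ⊓ Subgroup.centralizer {x}) ≃* ↥(Cfsg.inndiagPOmegaMinus (m - 1) F₀ a₀ b₀))) ∧ (p = 2 → Cfsg.splitClassCount (Cfsg.inndiagPOmegaPlus m F) (Cfsg.Inn (Cfsg.POmega F (Cfsg.quadFormPlus m F)))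 x = 1) ∧ ((p ≠ 2 ∧ Odd m ∧ p ^ (f / 2) % 4 = 1) → Cfsg.splitClassCount (Cfsg.inndiagPOmegaPlus m F) (Cfsg.Inn (Cfsg.POmega F (Cfsg.quadFormPlus m F))) x = 4) ∧ ((p ≠ 2 ∧ ¬ (Odd m ∧ p ^ (f / 2) % 4 = 1)) → Cfsg.splitClassCount (Cfsg.inndiagPOmegaPlus m F) (Cfsg.Inn (Cfsg.POmega F (Cfsg.quadFormPlus m F))) x = 2) := by
  obtain ⟨k, rfl⟩ : ∃ k, m = k + 1 := ⟨m - 1, by omega⟩
  refine key F₀ _ (Cfsg.Agent.Lib.Helper49.plusQF_coe (k + 1) F)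
    (fun a b => ⇑(Cfsg.Agent.Lib.Helper49.minusQF k F₀ a b))
    (by funext a b; exact Cfsg.Agent.Lib.Helper49.minusQF_coe k F₀ a b) ?_ x hx hx2
  intro x hx hx2
  refine Cfsg.Agent.Lib.Helper6.GF.main hF k hm ?_ x hx hx2 F₀ hF₀
  rw [Cfsg.Agent.Lib.Helper49.plusQF_coe]
  exact Cfsg.Agent.S2695.result hm

end Cfsg.Agent.S2717
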