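import Cfsg.Statements.S2787
import Cfsg.Agent.Lib.Helper85.Qd.QP
import Cfsg.Agent.Lib.Helper85.Qd.QT
import Cfsg.Agent.Lib.Helper85.Qd.QE

set_option autoImplicit false
open Cfsg
open scoped IsMulCommutative commutatorElement

namespace Cfsg.Agent.S2787

/-- Let p be a prime and let H act by conjugation on the elementary abelian p-subgroup V of a finite group, irreducibly (no H-invariant subgroups of V other than 1 and V) and nontrivially, and suppose H/C_H(V) is isomorphic to PSL₂(F) for a field F with p^n elements, p^n odd, or p = 3 and H/C_H(V) is isomorphic to a Ree group ²G₂(3^(2m+1)), m ≥ 1. Then no subgroup A of H acting nontrivially on V acts quadratically: [V, A, A] = 1 forces [V, A] = 1. -/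
theorem result {G : Type*} [Group G] [Finite G] {p : ℕ} [Fact p.Prime] (V H : Subgroup G) (hV : Cfsg.IsElementaryAbelian p V) (hHV : H ≤ Subgroup.normalizer (V : Set G)) (hirr : ∀ U : Subgroup G, U ≤ V → H ≤ Subgroup.normalizer (U : Set G) → U = ⊥ ∨ U = V) (hnt : ¬ H ≤ Subgroup.centralizer (V : Set G)) [hn : ((Subgroup.centralizer (V : Set G)).subgroupOf H).Normal] (hq : (∃ (F : Type) (_ : Field F) (_ : Fintype F) (n : ℕ), Fintype.card F = p ^ n ∧ Odd (Fintype.card F) ∧ Nonempty (↥H ⧸ (Subgroup.centralizer (V : Set G)).subgroupOf H ≃* Matrix.ProjectiveSpecialLinearGroup (Fin 2) F)) ∨ (p = 3 ∧ Cfsg.Lie.IsoRee (↥H ⧸ (Subgroup.centralizer (V : Set G)).subgroupOf H))) (A : Subgroup G) (hA : A ≤ H) (hquad : ⁅⁅V, A⁆, A⁆ = ⊥) : ⁅V, A⁆ = ⊥ := by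
  have hVc : IsMulCommutative ↥V := hV.1
  obtain ⟨σ, hσ, hσa⟩ := Cfsg.Agent.Lib.Helper85.Qd.exists_faithful_action V H hHV
  have hU : ∀ u : ↥V, u ^ p = 1 := fun u => Subtype.ext (by simpa using hV.2 u u.2)
  -- quadratic automorphisms
  have hQ : ∀ a (ha : a ∈ A), Cfsg.Agent.Lib.Helper14.QuadAut (σ (QuotientGroup.mk ⟨a, hA ha⟩)) := by
    intro a ha u
    apply Subtype.ext
    rw [hσa]
    rw [Subgroup.commutator_eq_bot_iff_le_centralizer] at hquad
    have hc : (((σ (QuotientGroup.mk ⟨a, hA ha⟩) u * u⁻¹ : ↥V)) : G) ∈ ⁅V, A⁆ := by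
      rw [Subgroup.commutator_comm]
      have := Subgroup.commutator_mem_commutator ha u.2
      have h3 : (((σ (QuotientGroup.mk ⟨a, hA ha⟩) u * u⁻¹ : ↥V)) : G) = ⁅a, (u : G)⁆ := by
        rw [Subgroup.coe_mul, hσa, commutatorElement_def]; rfl
      rw [h3]; exact this
    have := (Subgroup.mem_centralizer_iff.1 (hquad hc)) a ha
    show a * _ * a⁻¹ = _
    rw [this]; simp
  -- it suffices that every element of `A` acts trivially
  suffices hall : ∀ a (ha : a ∈ A), σ (QuotientGroup.mk ⟨a, hA ha⟩) = 1 by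
    rw [Subgroup.commutator_eq_bot_iff_le_centralizer]
    intro v hv
    rw [Subgroup.mem_centralizer_iff]
    intro a ha
    have h1 := hσa ⟨a, hA ha⟩ ⟨v, hv⟩
    rw [hall a ha] at h1
    have h2 : v = a * v * a⁻¹ := h1
    rw [eq_mul_inv_iff_mul_eq] at h2
    exact h2.symm
  intro a ha
  rcases hq with ⟨F, _, _, n, hF, hodd, ⟨e⟩⟩ | ⟨h3, K, _, _, m, hm, hK, ⟨e⟩⟩
  · have hch : CharP F p := Cfsg.Agent.Lib.Helper85.NatSL2.charP_of_card F p n hF
    have hp2 : p ≠ 2 := by
      rintro rfl
      rw [hF] at hodd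
      rcases Nat.eq_zero_or_pos n with h0 | h0
      · subst h0
        have := Fintype.one_lt_card (α := F)
        rw [hF] at this
        simp at this
      · exact (Nat.not_even_iff_odd.2 hodd) (Nat.even_pow.2 ⟨even_two, h0.ne'⟩)
    let τ : Matrix.SpecialLinearGroup (Fin 2) F →* MulAut ↥V :=
      σ.comp (e.symm.toMonoidHom.comp (QuotientGroup.mk' _))
    have hτ : ∀ g, τ g = σ (e.symm (QuotientGroup.mk g)) := fun _ => rfl
    have hcen : ∀ g : Matrix.SpecialLinearGroup (Fin 2) F,
        g ∈ Subgroup.center (Matrix.SpecialLinearGroup (Fin 2) F) ↔ g = 1 ∨ g = -1 := by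
      intro g
      rw [Matrix.SpecialLinearGroup.mem_center_iff]
      constructor
      · rintro ⟨r, hr, hg⟩
        have hr2 : r = 1 ∨ r = -1 := by
          have : r ^ 2 = 1 := by simpa using hr
          have h0 : (r - 1) * (r + 1) = 0 := by linear_combination this
          rcases mul_eq_zero.mp h0 with h | h
          · left; linear_combination h
          · right; linear_combination h
        rcases hr2 with rfl | rfl
        · left; apply Subtype.ext; rw [← hg]; simp
        · right; apply Subtype.ext; rw [← hg]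
          ext i j; fin_cases i <;> fin_cases j <;> simp
      · rintro (rfl | rfl)
        · exact ⟨1, by simp, by simp⟩
        · exact ⟨-1, by simp, by ext i j; fin_cases i <;> fin_cases j <;> simp⟩
    have hker : ∀ g, τ g = 1 → g = 1 ∨ g = -1 := by
      intro g hg
      rw [hτ] at hg
      have h1 : e.symm (QuotientGroup.mk g) = 1 := hσ (hg.trans (map_one σ).symm)
      rw [MulEquiv.map_eq_one_iff, QuotientGroup.eq_one_iff] at h1
      exact (hcen g).1 h1
    have hz : τ (-1) = 1 := by
      rw [hτ]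
      have : (QuotientGroup.mk (-1 : Matrix.SpecialLinearGroup (Fin 2) F) :
          Matrix.ProjectiveSpecialLinearGroup (Fin 2) F) = 1 := by
        rw [QuotientGroup.eq_one_iff]; exact (hcen _).2 (Or.inr rfl)
      rw [this, map_one, map_one]
    obtain ⟨g, hg⟩ := QuotientGroup.mk_surjective (e (QuotientGroup.mk ⟨a, hA ha⟩))
    have hga : τ g = σ (QuotientGroup.mk ⟨a, hA ha⟩) := by
      rw [hτ, hg, MulEquiv.symm_apply_apply]
    rw [← hga]
    exact Cfsg.Agent.Lib.Helper85.Qd.psl2_no_quad hp2 hU τ hker hz g (by rw [hga]; exact hQ a ha)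
  · subst h3
    have h1 := Cfsg.Agent.Lib.Helper85.Qd.ree_no_quad hm hK hU (σ.comp e.symm.toMonoidHom)
      (hσ.comp e.symm.injective) (e (QuotientGroup.mk ⟨a, hA ha⟩)) (by
        show Cfsg.Agent.Lib.Helper14.QuadAut (σ (e.symm (e _)))
        rw [MulEquiv.symm_apply_apply]; exact hQ a ha)
    rw [MulEquiv.map_eq_one_iff] at h1
    rw [h1, map_one]

end Cfsg.Agent.S2787
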