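import Cfsg.Statements.S2794
import Cfsg.Agent.Lib.Helper57.WZ
-- import your own Cfsg.Agent.* helpers here

set_option autoImplicit false
open Cfsg

namespace Cfsg.Agent.S2794


/-- For an odd prime p and a finite group G, the group Qd(p) is not involved in G if and only if in every section K/R of G, for every Sylow p-subgroup S* of K/R, the centre of J(S*) (J generated by the abelian subgroups of largest order) controls strong fusion in K/R. -/
theorem result {G : Type*} [Group G] [Finite G] {p : ℕ} [Fact p.Prime] (hp : p ≠ 2) : ¬ Cfsg.Involves ↥(Cfsg.qd p) G ↔ ∀ (K R : Subgroup G) [hR : (R.subgroupOf K).Normal], ∀ T : Sylow p (K ⧸ R.subgroupOf K), Cfsg.ControlsStrongFusion p (Cfsg.centerThompsonAOf (T : Subgroup (K ⧸ R.subgroupOf K))) := by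
  constructor
  · intro hfree K R hR T
    have h := Cfsg.Agent.Lib.Helper57.WZ_good hp
      (Cfsg.Agent.Lib.Helper68.not_involves_of_isSec
        (Cfsg.Agent.Lib.Helper40.isSec_section K R) hfree) T
    rwa [Cfsg.Agent.Lib.Helper57.ind_WZ_zero] at h
  · rintro h ⟨K, R, hR, ⟨e⟩⟩
    obtain ⟨T⟩ : Nonempty (Sylow p (↥K ⧸ R.subgroupOf K)) := inferInstance
    have h0 := h K R T
    rw [← Cfsg.Agent.Lib.Helper57.ind_WZ_zero] at h0
    have h1 := Cfsg.Agent.Lib.Helper68.csf_map_equiv' e _ h0
    rw [← Cfsg.Agent.Lib.Helper57.ind_WZ_map] at h1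
    have hes : Function.Surjective e.toMonoidHom := e.surjective
    have hnt := Cfsg.Agent.Lib.Helper57.sylow_qd_nontrivial (T.mapSurjective hes)
    exact Cfsg.Agent.Lib.Helper57.not_csf_qd_of_char (T.mapSurjective hes) _
      ((Cfsg.Agent.Lib.Helper57.WZ_isCharPFunctor (p := p) (Or.inl rfl)).1 _
        (T.mapSurjective hes).2 hnt)
      Cfsg.Agent.Lib.Helper57.WZ_characteristic h1

end Cfsg.Agent.S2794
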