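import Cfsg.Statements.S2803
import Cfsg.Agent.Lib.Helper52.PReduced

set_option autoImplicit false
open Cfsg

namespace Cfsg.Agent.S2803

open Cfsg.Agent.Lib.Helper52 in
theorem normal_sup_of {L : Type*} [Group L] {N C D : Subgroup L} [hC : C.Normal]
    (h : ∀ g : L, ∃ a ∈ N, ∃ c ∈ C, g = a * c) (hD : N ≤ Subgroup.normalizer (D : Set L)) :
    (D ⊔ C).Normal := by
  constructor
  intro x hx g
  obtain ⟨a, ha, c, hc, rfl⟩ := h g
  have h1 : c * x * c⁻¹ ∈ D ⊔ C :=
    (D ⊔ C).mul_mem ((D ⊔ C).mul_mem (le_sup_right (a := D) hc) hx)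
      ((D ⊔ C).inv_mem (le_sup_right (a := D) hc))
  have h4 : c * x * c⁻¹ ∈ ((D ⊔ C : Subgroup L) : Set L) := h1
  rw [Subgroup.mul_normal] at h4
  obtain ⟨d, hd, c', hc', h5⟩ := h4
  have h6 : a * c * x * (a * c)⁻¹ = (a * d * a⁻¹) * (a * c' * a⁻¹) := by
    have : a * c * x * (a * c)⁻¹ = a * (c * x * c⁻¹) * a⁻¹ := by group
    rw [this, ← h5]
    simp only []
    group
  rw [h6]
  exact (D ⊔ C).mul_mem (le_sup_left (b := C) (mem_normalizer_conj (hD ha) hd))
    (le_sup_right (a := D) (hC.conj_mem c' hc' a))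

/-- Let L be a finite group and p a prime with C_L(O_p(L)) ≤ O_p(L), T a Sylow p-subgroup, and Y the largest p-reduced normal subgroup of L. Put T_L = C_T(Y) and L_T = N_L(T_L). Then L = L_T · C_L(Y) (elementwise), T_L = O_p(L_T), and Y = Ω₁(Z(T_L)). -/
theorem result {L : Type*} [Group L] [Finite L] {p : ℕ} [Fact p.Prime] (hchar : Subgroup.centralizer (Cfsg.pCore p L : Set L) ≤ Cfsg.pCore p L) (T : Sylow p L) (Y : Subgroup L) (hY : (Cfsg.IsPReducedNormal p Y ∧ ∀ V : Subgroup L, Cfsg.IsPReducedNormal p V → V ≤ Y)) (TL : Subgroup L) (hTL : TL = (T : Subgroup L) ⊓ Subgroup.centralizer (Y : Set L)) : (∀ g : L, ∃ a ∈ Subgroup.normalizer (TL : Set L), ∃ c ∈ Subgroup.centralizer (Y : Set L), g = a * c) ∧ (Cfsg.pCore p ↥(Subgroup.normalizer (TL : Set L))).map (Subgroup.normalizer (TL : Set L)).subtype = TL ∧ Y = Cfsg.omegaOne p (TL ⊓ Subgroup.centralizer (TL : Set L)) := by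
  classical
  obtain ⟨hY1, hYmax⟩ := hY
  have hYP := (Cfsg.Agent.Lib.Helper52.isPReducedNormal_iff Y).1 hY1
  obtain ⟨hYn, hYe, hYD⟩ := hYP
  have hCn : (Subgroup.centralizer (Y : Set L)).Normal := inferInstance
  subst hTL
  have part1 : ∀ g : L, ∃ a ∈ Subgroup.normalizer
      (((T : Subgroup L) ⊓ Subgroup.centralizer (Y : Set L) : Subgroup L) : Set L),
      ∃ c ∈ Subgroup.centralizer (Y : Set L), g = a * c :=
    fun g => Cfsg.Agent.Lib.Helper52.frattini_elementwise T _ g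
  set TL : Subgroup L := (T : Subgroup L) ⊓ Subgroup.centralizer (Y : Set L) with hTLdef
  have hTLp : IsPGroup p TL := T.2.to_le inf_le_left
  have hTN : (T : Subgroup L) ≤ Subgroup.normalizer (TL : Set L) := by
    intro t ht
    have key : ∀ t ∈ (T : Subgroup L), ∀ x ∈ TL, t * x * t⁻¹ ∈ TL := fun t ht x hx =>
      ⟨(T : Subgroup L).mul_mem ((T : Subgroup L).mul_mem ht hx.1) ((T : Subgroup L).inv_mem ht),
        hCn.conj_mem x hx.2 t⟩
    rw [Subgroup.mem_normalizer_iff]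
    intro x
    refine ⟨key t ht x, fun hx => ?_⟩
    have := key t⁻¹ ((T : Subgroup L).inv_mem ht) _ hx
    simpa [mul_assoc] using this
  -- any subgroup normalized by `N(TL)` with `p`-power elements modulo `C(Y)` centralizes `Y`
  have hkey : ∀ D : Subgroup L, Subgroup.normalizer (TL : Set L) ≤ Subgroup.normalizer (D : Set L) →
      (∀ d ∈ D, ∃ k : ℕ, d ^ (p ^ k) ∈ Subgroup.centralizer (Y : Set L)) →
      D ≤ Subgroup.centralizer (Y : Set L) := by
    intro D hD1 hD2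
    have h1 := hYD (D ⊔ Subgroup.centralizer (Y : Set L)) (normal_sup_of part1 hD1)
      (Cfsg.Agent.Lib.Helper52.pow_mem_of_mem_sup hD2)
    exact le_sup_left.trans h1
  have part2 : Cfsg.pCoreOf p (Subgroup.normalizer (TL : Set L)) = TL := by
    apply le_antisymm
    · apply le_inf (Cfsg.Agent.Lib.Helper52.pCoreOf_le_sylow T hTN)
      apply hkey _ (Cfsg.Agent.Lib.Helper52.le_normalizer_pCoreOf _)
      intro d hd
      obtain ⟨k, hk⟩ := Cfsg.Agent.Lib.Helper52.pCoreOf_isPGroup (p := p) _ ⟨d, hd⟩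
      refine ⟨k, ?_⟩
      have := congrArg Subtype.val hk
      simp only [SubmonoidClass.mk_pow, OneMemClass.coe_one] at this
      rw [this]
      exact Subgroup.one_mem _
    · exact Cfsg.Agent.Lib.Helper52.le_pCoreOf Subgroup.le_normalizer le_rfl hTLp
  have hYTL : Y ≤ Cfsg.omegaOne p (TL ⊓ Subgroup.centralizer (TL : Set L)) := by
    intro y hy
    rw [Cfsg.Agent.Lib.Helper52.mem_omegaZ]
    refine ⟨⟨Cfsg.Agent.Lib.Helper52.normal_pgroup_le_sylow hYn
      (Cfsg.Agent.Lib.Helper52.IsElementaryAbelian.isPGroup hYe) T hy,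
      Cfsg.Agent.Lib.Helper52.IsElementaryAbelian.le_centralizer hYe hy⟩, ?_, hYe.2 y hy⟩
    exact (Subgroup.le_centralizer_iff.1 (inf_le_right : TL ≤ _)) hy
  refine ⟨part1, part2, le_antisymm hYTL ?_⟩
  -- `Ω₁(Z(TL))` is `p`-reduced in `N(TL)`
  set X : Subgroup L := Cfsg.omegaOne p (TL ⊓ Subgroup.centralizer (TL : Set L)) with hXdef
  have hXTL : X ≤ TL := fun x hx => (Cfsg.Agent.Lib.Helper52.mem_omegaZ.1 hx).1
  have hTLX : TL ≤ Subgroup.centralizer (X : Set L) := by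
    rw [Subgroup.le_centralizer_iff]
    exact fun x hx => (Cfsg.Agent.Lib.Helper52.mem_omegaZ.1 hx).2.1
  have hPR : Cfsg.Agent.Lib.Helper52.PRin p (Subgroup.normalizer (TL : Set L)) X := by
    refine ⟨hXTL.trans Subgroup.le_normalizer,
      Cfsg.Agent.Lib.Helper52.normalizer_le_normalizer_omegaZ TL,
      Cfsg.Agent.Lib.Helper52.omegaZ_isElementaryAbelian TL, ?_⟩
    intro D hD1 hD2 hD3
    have hDC : D ≤ Subgroup.centralizer (Y : Set L) := by
      apply hkey D hD2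
      intro d hd
      obtain ⟨k, hk⟩ := hD3 d hd
      exact ⟨k, Subgroup.centralizer_le hYTL hk⟩
    obtain ⟨m, e, hm, hme⟩ := Cfsg.Agent.Lib.Helper52.exists_pprime_exponent L p
    intro d hd
    obtain ⟨k, hk⟩ := hD3 d hd
    apply Cfsg.Agent.Lib.Helper52.mem_of_pow_mem_of_coprime _ (a := m) (b := p ^ k) _ hk
      (Nat.Coprime.pow_right k hm)
    apply hTLX
    -- `d ^ m` is a `p`-element of `N(TL) ∩ C(Y)`
    have hu1 : d ^ m ∈ Subgroup.normalizer (TL : Set L) := Subgroup.pow_mem _ (hD1 hd) m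
    have hu2 : d ^ m ∈ Subgroup.centralizer (Y : Set L) := Subgroup.pow_mem _ (hDC hd) m
    have hup : IsPGroup p (Subgroup.zpowers (d ^ m)) := by
      rw [IsPGroup.iff_orderOf]
      rintro ⟨_, ⟨j, rfl⟩⟩
      have h1 : ((d ^ m) ^ j) ^ (p ^ e) = 1 := by
        rw [← zpow_natCast, ← zpow_mul, mul_comm, zpow_mul, zpow_natCast, hme, one_zpow]
      obtain ⟨i, _, hi⟩ := (Nat.dvd_prime_pow (Fact.out : p.Prime)).1 (orderOf_dvd_of_pow_eq_one h1)
      refine ⟨i, ?_⟩
      rw [← hi]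
      exact Subgroup.orderOf_mk _ _
    have hQ : IsPGroup p (Subgroup.zpowers (d ^ m) ⊔ TL : Subgroup L) :=
      hup.to_sup_of_normal_right' hTLp (by rw [Subgroup.zpowers_le]; exact hu1)
    have hQeq := Cfsg.Agent.Lib.Helper52.sylow_inf_normal_maximal T
      (Subgroup.centralizer (Y : Set L)) hQ le_sup_right
      (sup_le (by rw [Subgroup.zpowers_le]; exact hu2) inf_le_right)
    have : d ^ m ∈ Subgroup.zpowers (d ^ m) ⊔ TL :=
      le_sup_left (b := TL) (Subgroup.mem_zpowers _)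
    rw [hQeq] at this
    exact this
  have hfin := hYmax _ (Cfsg.Agent.Lib.Helper52.isPReducedNormal_iff_PRin_top.2
    (Cfsg.Agent.Lib.Helper52.PRin_normalClosure hchar T hTN hPR))
  exact (Subgroup.le_normalClosure).trans hfin

end Cfsg.Agent.S2803
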