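import Cfsg.Statements.S2804
import Cfsg.Agent.Lib.Helper52.Subn
import Cfsg.Agent.Lib.Helper52.PReduced

set_option autoImplicit false
open Cfsg

namespace Cfsg.Agent.S2804

open Cfsg.Agent.Lib.Helper52

theorem coprime_centralizes_of_two_step {G : Type*} [Group G] [Finite G] {p : ℕ} [Fact p.Prime]
    {V W : Subgroup G} (hW : IsPGroup p W) {g : G}
    (h1 : ∀ a ∈ V, g * a * g⁻¹ * a⁻¹ ∈ W) (h2 : ∀ a ∈ W, g * a = a * g)
    (hc : Nat.Coprime (orderOf g) p) : g ∈ Subgroup.centralizer (V : Set G) := by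
  have h3 := pow_centralizes g V W (p ^ Nat.card G) h1 h2 (pow_card_eq_one_of_isPGroup hW)
  apply mem_of_pow_mem_of_coprime_order _ (k := Nat.card G) _ hc
  rw [Subgroup.mem_centralizer_iff]
  intro a ha
  exact (h3 a ha).symm

/-- Let L be a finite group and p a prime with C_L(O_p(L)) ≤ O_p(L), V a p-reduced normal subgroup of L and K a subnormal subgroup of L. Then [V, O^p(K)] is contained in K and is a p-reduced normal subgroup of K, where O^p(K) is the subgroup of K generated by its elements of order prime to p. -/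
theorem result {L : Type*} [Group L] [Finite L] {p : ℕ} [Fact p.Prime] (hchar : Subgroup.centralizer (Cfsg.pCore p L : Set L) ≤ Cfsg.pCore p L) (V : Subgroup L) (hV : Cfsg.IsPReducedNormal p V) (K : Subgroup L) (hK : K.IsSubnormal) : ⁅V, (Cfsg.pResidual p ↥K).map K.subtype⁆ ≤ K ∧ Cfsg.IsPReducedNormal p ((⁅V, (Cfsg.pResidual p ↥K).map K.subtype⁆).subgroupOf K) := by
  classical
  rw [pResidual_map_subtype]
  obtain ⟨hVn, hVe, hCn, hVcore⟩ := hV
  have hPp : IsPGroup p (Cfsg.pCore p L) := pCore_isPGroup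
  have hKR : K ≤ Subgroup.normalizer (pResOf p K : Set L) :=
    Subgroup.le_normalizer.trans (normalizer_le_normalizer_pResOf p K)
  have hRsub : (pResOf p K).IsSubnormal :=
    Subgroup.IsSubnormal.step _ K (pResOf_le p K) hK
      ((Subgroup.normal_subgroupOf_iff_le_normalizer (pResOf_le p K)).2 hKR)
  have hPR : Cfsg.pCore p L ≤ Subgroup.normalizer (pResOf p K : Set L) :=
    le_normalizer_of_isSubnormal_of_pResOf_eq hRsub hPp (pResOf_idem p K)
  have hVP : V ≤ Cfsg.pCore p L := le_pCore hVn (IsElementaryAbelian.isPGroup hVe)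
  have hWR : ⁅V, pResOf p K⁆ ≤ pResOf p K := by
    rw [Subgroup.commutator_comm]
    exact commutator_le_of_le_normalizer (hVP.trans hPR)
  have hWK : ⁅V, pResOf p K⁆ ≤ K := hWR.trans (pResOf_le p K)
  have hWV : ⁅V, pResOf p K⁆ ≤ V := Subgroup.commutator_le_left V _
  refine ⟨hWK, ?_⟩
  rw [isPReducedNormal_subtype_iff, Subgroup.map_subgroupOf_eq_of_le hWK]
  refine ⟨hWK, ?_, isElementaryAbelian_of_le hWV hVe, ?_⟩
  · refine le_trans (le_inf ?_ hKR) (normalizer_inf_le_normalizer_commutator V (pResOf p K))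
    rw [Subgroup.normalizer_eq_top]
    exact le_top
  · intro D hD1 hD2 hD3
    -- `O^p(D)` centralizes `V`
    have h1 : pResOf p D ≤ Subgroup.centralizer (V : Set L) := by
      apply (Subgroup.closure_le _).2
      intro g hg
      obtain ⟨k, hk⟩ := hD3 g hg.1
      have hgW : g ∈ Subgroup.centralizer ((⁅V, pResOf p K⁆ : Subgroup L) : Set L) :=
        mem_of_pow_mem_of_coprime_order _ hk hg.2
      apply coprime_centralizes_of_two_step (W := ⁅V, pResOf p K⁆)
        ((IsElementaryAbelian.isPGroup hVe).to_le hWV) _ _ hg.2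
      · intro a ha
        rw [Subgroup.commutator_comm]
        exact Subgroup.commutator_mem_commutator (mem_pResOf (hD1 hg.1) hg.2) ha
      · intro a ha
        exact (Subgroup.mem_centralizer_iff.1 hgW a ha).symm
    -- the image of `D` in `L / C(V)` is a subnormal `p`-subgroup
    have hDsub : D.IsSubnormal :=
      Subgroup.IsSubnormal.step _ K hD1 hK ((Subgroup.normal_subgroupOf_iff_le_normalizer hD1).2 hD2)
    have h2 : D.map (QuotientGroup.mk' (Subgroup.centralizer (V : Set L))) ≤
        Cfsg.pCore p (L ⧸ Subgroup.centralizer (V : Set L)) := by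
      apply le_pCore_of_isSubnormal (hDsub.map (QuotientGroup.mk'_surjective _))
      rintro ⟨_, ⟨d, hd, rfl⟩⟩
      obtain ⟨k, hk⟩ := exists_pow_mem_pResOf (p := p) hd
      refine ⟨k, ?_⟩
      apply Subtype.ext
      simp only [QuotientGroup.mk'_apply, SubmonoidClass.mk_pow, OneMemClass.coe_one]
      rw [← QuotientGroup.mk_pow]
      exact (QuotientGroup.eq_one_iff _).2 (h1 hk)
    rw [hVcore] at h2
    intro d hd
    have h3 : QuotientGroup.mk' (Subgroup.centralizer (V : Set L)) d ∈
        (⊥ : Subgroup (L ⧸ Subgroup.centralizer (V : Set L))) := h2 (Subgroup.mem_map_of_mem _ hd)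
    rw [Subgroup.mem_bot] at h3
    exact Subgroup.centralizer_le hWV ((QuotientGroup.eq_one_iff _).1 h3)

end Cfsg.Agent.S2804
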