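import Cfsg.Statements.S2805
import Cfsg.Agent.Lib.Helper37.Kieler

set_option autoImplicit false
open Cfsg

namespace Cfsg.Agent.S2805

/-- Kieler's Lemma: let H be a finite group of characteristic p (C_H(O_p(H)) ≤ O_p(H)), T a Sylow p-subgroup of H and L a subnormal subgroup of H. Then C_L(Ω₁(Z(T))) = C_L(Ω₁(Z(T ∩ L))), Ω₁(Z(·)) denoting the elements of order dividing p in the centre. -/
theorem result {H : Type*} [Group H] [Finite H] {p : ℕ} [Fact p.Prime] (hH : Subgroup.centralizer (Cfsg.pCore p H : Set H) ≤ Cfsg.pCore p H) (T : Sylow p H) (L : Subgroup H) (hL : L.IsSubnormal) : L ⊓ Subgroup.centralizer ((Cfsg.omegaOne p ((T : Subgroup H) ⊓ Subgroup.centralizer ((T : Subgroup H) : Set H))) : Set H) = L ⊓ Subgroup.centralizer ((Cfsg.omegaOne p (((T : Subgroup H) ⊓ L) ⊓ Subgroup.centralizer ((((T : Subgroup H) ⊓ L) : Subgroup H) : Set H))) : Set H) := by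
  induction hL with
  | top => rw [inf_top_eq]
  | step L K hLK hKsn hN ih =>
    have hKc : Lib.Helper37.CharP p ↥K := Lib.Helper37.CharP.of_subnormal hH hKsn
    have hS : Lib.Helper53.IsSyl p ((T : Subgroup H) ⊓ K) K := by
      rw [Lib.Helper53.isSyl_iff_relIndex]
      refine ⟨inf_le_right, T.2.to_le inf_le_left, ?_⟩
      rw [Subgroup.inf_relIndex_right]
      exact Lib.Helper37.sylow_relIndex_subnormal T hKsn
    have h1 := Lib.Helper37.kieler_step hKc hS hLK
      ((Subgroup.normal_subgroupOf_iff_le_normalizer hLK).1 hN)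
    have h2 : (T : Subgroup H) ⊓ K ⊓ L = (T : Subgroup H) ⊓ L := by
      rw [inf_assoc, inf_eq_right.2 hLK]
    rw [h2] at h1
    rw [← h1]
    have h3 : ∀ X : Subgroup H, L ⊓ X = L ⊓ (K ⊓ X) := by
      intro X
      rw [← inf_assoc, inf_eq_left.2 hLK]
    rw [h3, ih, ← h3]

end Cfsg.Agent.S2805
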