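import Cfsg.Statements.S2809
import Cfsg.Agent.Lib.Helper52.Stab

set_option autoImplicit false
open Cfsg

namespace Cfsg.Agent.S2809

/-- Let H be a finite group, p a prime, R a p-subgroup of H with C_H(R) ≤ R, and L a subgroup of N_H(R) acting nilpotently on R (some iterated commutator [R, L, …, L] is trivial). Then L is a p-group. -/
theorem result {H : Type*} [Group H] [Finite H] {p : ℕ} [Fact p.Prime] (R : Subgroup H) (hR : IsPGroup p ↥R) (hC : Subgroup.centralizer (R : Set H) ≤ R) (L : Subgroup H) (hL : L ≤ Subgroup.normalizer (R : Set H)) (hnil : ∃ n : ℕ, Cfsg.iterCommutator R L n = ⊥) : IsPGroup p ↥L := by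
  obtain ⟨n, hn⟩ := hnil
  have hle : ∀ j, Cfsg.iterCommutator R L j ≤ R := by
    intro j
    induction j with
    | zero => exact le_rfl
    | succ j ih =>
      show ⁅Cfsg.iterCommutator R L j, L⁆ ≤ R
      rw [Subgroup.commutator_le]
      intro r hr l hl
      have h1 : l * r⁻¹ * l⁻¹ ∈ R :=
        (Subgroup.mem_normalizer_iff.1 (hL hl) r⁻¹).1 (R.inv_mem (ih hr))
      have : r * l * r⁻¹ * l⁻¹ = r * (l * r⁻¹ * l⁻¹) := by group
      show r * l * r⁻¹ * l⁻¹ ∈ R
      rw [this]
      exact R.mul_mem (ih hr) h1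
  have key := Cfsg.Agent.Lib.Helper52.stab_chain (p := p) L n
    (fun i => Cfsg.iterCommutator R L (n - i)) (by simpa using hn)
    (by
      intro i hi y hy a ha
      have h1 : n - i = (n - (i + 1)) + 1 := by omega
      show y * a * y⁻¹ * a⁻¹ ∈ Cfsg.iterCommutator R L (n - i)
      rw [h1]
      show y * a * y⁻¹ * a⁻¹ ∈ ⁅Cfsg.iterCommutator R L (n - (i + 1)), L⁆
      rw [Subgroup.commutator_comm]
      exact Subgroup.commutator_mem_commutator hy ha)
    (by
      intro i _
      exact hR.to_le (hle _))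
  intro x
  obtain ⟨k, hk⟩ := key x.1 x.2
  have h2 : x.1 ^ (p ^ k) ∈ R := by
    apply hC
    rw [Subgroup.mem_centralizer_iff]
    intro a ha
    have := hk a (by simpa [Cfsg.iterCommutator] using ha)
    exact this.symm
  obtain ⟨j, hj⟩ := hR ⟨_, h2⟩
  refine ⟨k + j, ?_⟩
  have hj' : (x.1 ^ (p ^ k)) ^ (p ^ j) = 1 := by
    have := congrArg Subtype.val hj
    simpa using this
  apply Subtype.ext
  rw [pow_add, pow_mul]
  simpa using hj'

end Cfsg.Agent.S2809
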