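import Cfsg.Statements.S2810
import Cfsg.Agent.Lib.Helper52.Stab
import Cfsg.Agent.Lib.Helper52.PCore

set_option autoImplicit false
open Cfsg

namespace Cfsg.Agent.S2810

/-- Let H be a finite group of characteristic p and L a subgroup of H centralizing every factor of some H-invariant chain 1 = A₀ ≤ A₁ ≤ … ≤ Aₙ = O_p(H) of normal subgroups (that is, [A_{i+1}, L] ≤ Aᵢ for each i). Then L ≤ O_p(H). -/
theorem result {H : Type*} [Group H] [Finite H] {p : ℕ} [Fact p.Prime] (hchar : Subgroup.centralizer (Cfsg.pCore p H : Set H) ≤ Cfsg.pCore p H) (L : Subgroup H) (n : ℕ) (A : Fin (n + 1) → Subgroup H) (h0 : A 0 = ⊥) (hn : A (Fin.last n) = Cfsg.pCore p H) (hmono : Monotone A) (hnorm : ∀ i, (A i).Normal) (hcent : ∀ i : Fin n, ⁅A i.succ, L⁆ ≤ A i.castSucc) : L ≤ Cfsg.pCore p H := by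
  classical
  let C : Subgroup H := ⨅ i : Fin n,
    Cfsg.Agent.Lib.Helper52.chainStab (A i.succ) (A i.castSucc) (hnorm _)
  have hCn : C.Normal := Subgroup.normal_iInf_normal
    (fun i => Cfsg.Agent.Lib.Helper52.chainStab_normal (hnorm _) (hnorm _))
  have hLC : L ≤ C := le_iInf
    (fun i => Cfsg.Agent.Lib.Helper52.le_chainStab_of_commutator_le (hnorm _) (hcent i))
  have hle : ∀ i, A i ≤ Cfsg.pCore p H := fun i => hn ▸ hmono (Fin.le_last i)
  have key := Cfsg.Agent.Lib.Helper52.stab_chain (p := p) C n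
    (fun i => A ⟨min i n, by omega⟩) (by simpa using h0)
    (by
      intro i hi y hy a ha
      have h1 := (Subgroup.mem_iInf.1 hy) ⟨i, hi⟩
      have e1 : (⟨min (i + 1) n, by omega⟩ : Fin (n + 1)) = (⟨i, hi⟩ : Fin n).succ := by
        apply Fin.ext
        simp
        omega
      have e2 : (⟨min i n, by omega⟩ : Fin (n + 1)) = (⟨i, hi⟩ : Fin n).castSucc := by
        apply Fin.ext
        simp
        omega
      simp only [e1] at ha
      simp only [e2]
      exact h1 a ha)
    (by
      intro i _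
      exact Cfsg.Agent.Lib.Helper52.pCore_isPGroup.to_le (hle _))
  have hCp : IsPGroup p C := by
    intro x
    obtain ⟨k, hk⟩ := key x.1 x.2
    have h2 : x.1 ^ (p ^ k) ∈ Cfsg.pCore p H := by
      apply hchar
      rw [Subgroup.mem_centralizer_iff]
      intro a ha
      have e3 : (⟨min n n, by omega⟩ : Fin (n + 1)) = Fin.last n := by
        apply Fin.ext
        simp
      have := hk a (by simp only [e3]; rw [hn]; exact ha)
      exact this.symm
    obtain ⟨j, hj⟩ := Cfsg.Agent.Lib.Helper52.pCore_isPGroup (p := p) ⟨_, h2⟩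
    refine ⟨k + j, ?_⟩
    have hj' : (x.1 ^ (p ^ k)) ^ (p ^ j) = 1 := by
      have := congrArg Subtype.val hj
      simpa using this
    apply Subtype.ext
    rw [pow_add, pow_mul]
    simpa using hj'
  exact hLC.trans (Cfsg.Agent.Lib.Helper52.le_pCore hCn hCp)

end Cfsg.Agent.S2810
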