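import Cfsg.Statements.S2813
import Cfsg.Agent.Lib.Helper52.Subn

set_option autoImplicit false
open Cfsg

namespace Cfsg.Agent.S2813

open Cfsg.Agent.Lib.Helper52

/-- Let K be a subgroup of the finite group H with O_p(K) = 1 and Y a p-subgroup of N_H(K) with [K, Y, Y] = 1. Then [K, Y] = 1. -/
theorem result {H : Type*} [Group H] [Finite H] {p : ℕ} [Fact p.Prime] (K : Subgroup H) (hO : Cfsg.pCore p ↥K = ⊥) (Y : Subgroup H) (hY : IsPGroup p ↥Y) (hYK : Y ≤ Subgroup.normalizer (K : Set H)) (hq : ⁅⁅K, Y⁆, Y⁆ = ⊥) : ⁅K, Y⁆ = ⊥ := by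
  classical
  have hNK : ⁅K, Y⁆ ≤ K := commutator_le_of_le_normalizer hYK
  have hXN := le_normalizer_commutator K Y
  have hNY : ⁅K, Y⁆ ≤ Subgroup.centralizer (Y : Set H) :=
    Subgroup.commutator_eq_bot_iff_le_centralizer.1 hq
  have hMY : ⁅K, Y⁆ ⊔ Y ≤ Subgroup.normalizer (Y : Set H) :=
    sup_le (hNY.trans (Subgroup.centralizer_le_normalizer _)) Subgroup.le_normalizer
  have hKM : K ≤ Subgroup.normalizer ((⁅K, Y⁆ ⊔ Y : Subgroup H) : Set H) := by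
    apply le_normalizer_of_conj_mem
    intro k hk x hx
    have h1 : ⁅K, Y⁆ ⊔ Y ≤ (⁅K, Y⁆ ⊔ Y : Subgroup H).comap (MulAut.conj k).toMonoidHom := by
      apply sup_le
      · intro n hn
        exact le_sup_left (b := Y) (mem_normalizer_conj (hXN (le_sup_left (b := Y) hk)) hn)
      · intro y hy
        show k * y * k⁻¹ ∈ ⁅K, Y⁆ ⊔ Y
        have : k * y * k⁻¹ = (k * y * k⁻¹ * y⁻¹) * y := by group
        rw [this]
        exact Subgroup.mul_mem _ (le_sup_left (b := Y) (Subgroup.commutator_mem_commutator hk hy))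
          (le_sup_right (a := ⁅K, Y⁆) hy)
    exact h1 hx
  have hYQ : Y ≤ Cfsg.pCoreOf p (⁅K, Y⁆ ⊔ Y) := le_pCoreOf le_sup_right hMY hY
  have hKQ : K ≤ Subgroup.normalizer (Cfsg.pCoreOf p (⁅K, Y⁆ ⊔ Y) : Set H) :=
    hKM.trans (normalizer_le_normalizer_pCoreOf _)
  have hQK : Cfsg.pCoreOf p (⁅K, Y⁆ ⊔ Y) ≤ Subgroup.normalizer (K : Set H) :=
    (pCoreOf_le _).trans (sup_le (hNK.trans Subgroup.le_normalizer) hYK)
  have h1 : ⁅K, Y⁆ ≤ K ⊓ Cfsg.pCoreOf p (⁅K, Y⁆ ⊔ Y) := by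
    refine (Subgroup.commutator_mono le_rfl hYQ).trans (le_inf ?_ ?_)
    · exact commutator_le_of_le_normalizer hQK
    · rw [Subgroup.commutator_comm]
      exact commutator_le_of_le_normalizer hKQ
  have h2 : K ⊓ Cfsg.pCoreOf p (⁅K, Y⁆ ⊔ Y) ≤ Cfsg.pCoreOf p K := by
    apply le_pCoreOf inf_le_left
    · apply le_normalizer_of_conj_mem
      intro k hk x hx
      exact ⟨K.mul_mem (K.mul_mem hk hx.1) (K.inv_mem hk), mem_normalizer_conj (hKQ hk) hx.2⟩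
    · exact (pCoreOf_isPGroup _).to_le inf_le_right
  have h3 : Cfsg.pCoreOf p K = ⊥ := by
    unfold Cfsg.pCoreOf
    rw [hO, Subgroup.map_bot]
  rw [h3] at h2
  exact eq_bot_iff.2 (h1.trans h2)

end Cfsg.Agent.S2813
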