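import Cfsg.Statements.S2814
import Cfsg.Agent.Lib.Helper52.Subn

set_option autoImplicit false
open Cfsg

namespace Cfsg.Agent.S2814

open Cfsg.Agent.Lib.Helper52

theorem le_subnormalClosure {H : Type*} [Group H] (A : Subgroup H) :
    A ≤ Cfsg.subnormalClosure A := le_sInf fun _ h => h.1

theorem subnormalClosure_le {H : Type*} [Group H] {A M : Subgroup H} (h1 : A ≤ M)
    (h2 : M.IsSubnormal) : Cfsg.subnormalClosure A ≤ M := sInf_le ⟨h1, h2⟩

theorem subnormalClosure_isSubnormal {H : Type*} [Group H] [Finite H] (A : Subgroup H) :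
    (Cfsg.subnormalClosure A).IsSubnormal := by
  obtain ⟨M, hM⟩ := (Set.toFinite {K : Subgroup H | A ≤ K ∧ K.IsSubnormal}).exists_minimal
    ⟨⊤, le_top, Subgroup.IsSubnormal.top⟩
  have h1 : Cfsg.subnormalClosure A = M := by
    apply le_antisymm (sInf_le hM.1)
    apply le_sInf
    intro K' hK'
    have h2 : M ⊓ K' ∈ {K : Subgroup H | A ≤ K ∧ K.IsSubnormal} :=
      ⟨le_inf hM.1.1 hK'.1, hM.1.2.inf hK'.2⟩
    exact (hM.2 h2 inf_le_left).trans inf_le_right
  rw [h1]
  exact hM.1.2

/-- Let A be a subgroup of the finite group H and K the subnormal closure of A (intersection of the subnormal subgroups containing A). Then K is the normal closure of A inside K and N_H(A) ≤ N_H(K); K = A·O^p(K), O^p(K) being generated by the elements of K of order prime to p; and if A is a p-group, O^p(K) = [O^p(K), A]. -/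
theorem result {H : Type*} [Group H] [Finite H] {p : ℕ} [Fact p.Prime] (A : Subgroup H) (K : Subgroup H) (hK : K = Cfsg.subnormalClosure A) : (Subgroup.normalClosure ((A.subgroupOf K : Subgroup ↥K) : Set ↥K)).map K.subtype = K ∧ Subgroup.normalizer (A : Set H) ≤ Subgroup.normalizer (K : Set H) ∧ A ⊔ (Cfsg.pResidual p ↥K).map K.subtype = K ∧ (IsPGroup p ↥A → ⁅(Cfsg.pResidual p ↥K).map K.subtype, A⁆ = (Cfsg.pResidual p ↥K).map K.subtype) := by
  classical
  have hAK : A ≤ K := hK ▸ le_subnormalClosure A
  have hKs : K.IsSubnormal := hK ▸ subnormalClosure_isSubnormal A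
  have hmin : ∀ M : Subgroup H, A ≤ M → M.IsSubnormal → K ≤ M :=
    fun M h1 h2 => hK ▸ subnormalClosure_le h1 h2
  -- subgroups normalized by `K`
  have hmin' : ∀ M : Subgroup H, A ≤ M → M ≤ K → K ≤ Subgroup.normalizer (M : Set H) → M = K := by
    intro M h1 h2 h3
    exact le_antisymm h2 (hmin M h1 (Subgroup.IsSubnormal.step _ K h2 hKs
      ((Subgroup.normal_subgroupOf_iff_le_normalizer h2).2 h3)))
  rw [pResidual_map_subtype]
  have hKR : K ≤ Subgroup.normalizer (pResOf p K : Set H) :=
    Subgroup.le_normalizer.trans (normalizer_le_normalizer_pResOf p K)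
  have part3 : A ⊔ pResOf p K = K := by
    apply le_antisymm (sup_le hAK (pResOf_le p K))
    -- work in the `p`-group `K / O^p(K)`
    have hn : (Cfsg.pResidual p K).Normal := by
      rw [normal_subtype_iff, pResidual_map_subtype]
      exact hKR
    have hQ : IsPGroup p (↥K ⧸ Cfsg.pResidual p K) := by
      intro x
      obtain ⟨x, rfl⟩ := QuotientGroup.mk'_surjective _ x
      obtain ⟨k, hk⟩ := exists_pow_mem_pResOf (p := p) x.2
      refine ⟨k, ?_⟩
      rw [QuotientGroup.mk'_apply, ← QuotientGroup.mk_pow]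
      apply (QuotientGroup.eq_one_iff _).2
      rw [← pResidual_map_subtype] at hk
      obtain ⟨y, hy, hxy⟩ := hk
      have : y = x ^ (p ^ k) := Subtype.ext (by simpa using hxy)
      rwa [← this]
    have hnil : Group.IsNilpotent (↥K ⧸ Cfsg.pResidual p K) := hQ.isNilpotent
    have h1 := isSubnormal_of_isNilpotent
      ((A.subgroupOf K ⊔ Cfsg.pResidual p K).map (QuotientGroup.mk' (Cfsg.pResidual p K)))
    have h2 := h1.comap (QuotientGroup.mk' (Cfsg.pResidual p K))
    rw [Subgroup.comap_map_eq, QuotientGroup.ker_mk', sup_assoc, sup_idem] at h2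
    have h3 := h2.trans' hKs
    rw [Subgroup.map_sup, Subgroup.map_subgroupOf_eq_of_le hAK, pResidual_map_subtype] at h3
    exact hmin _ le_sup_left h3
  refine ⟨?_, ?_, part3, ?_⟩
  · apply le_antisymm (Subgroup.map_subtype_le _)
    apply hmin
    · have h1 : A.subgroupOf K ≤ Subgroup.normalClosure ((A.subgroupOf K : Subgroup ↥K) : Set ↥K) :=
        Subgroup.le_normalClosure
      have h2 := Subgroup.map_mono (f := K.subtype) h1
      rwa [Subgroup.map_subgroupOf_eq_of_le hAK] at h2
    · exact (Subgroup.normalClosure_normal.isSubnormal).trans' hKs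
  · apply le_normalizer_of_conj_mem
    intro g hg x hx
    have h1 : K ≤ K.map (MulAut.conj g⁻¹).toMonoidHom := by
      apply hmin
      · intro a ha
        rw [mem_map_conj]
        simpa using hAK (mem_normalizer_conj hg ha)
      · exact hKs.map (MulAut.conj g⁻¹).surjective
    have := mem_map_conj.1 (h1 hx)
    simpa using this
  · intro hAp
    have hAR : A ≤ Subgroup.normalizer (pResOf p K : Set H) := hAK.trans hKR
    have hCR : ⁅pResOf p K, A⁆ ≤ pResOf p K := commutator_le_of_le_normalizer hAR
    apply le_antisymm hCR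
    have hCn : K ≤ Subgroup.normalizer ((⁅pResOf p K, A⁆ : Subgroup H) : Set H) := by
      have := le_normalizer_commutator (pResOf p K) A
      rwa [sup_comm, part3] at this
    have hM : A ⊔ ⁅pResOf p K, A⁆ = K := by
      apply hmin' _ le_sup_left (sup_le hAK (hCR.trans (pResOf_le p K)))
      refine le_trans part3.ge ?_
      apply sup_le
      · exact le_sup_left.trans Subgroup.le_normalizer
      · apply le_normalizer_of_conj_mem
        intro r hr x hx
        have h1 : A ⊔ ⁅pResOf p K, A⁆ ≤
            (A ⊔ ⁅pResOf p K, A⁆ : Subgroup H).comap (MulAut.conj r).toMonoidHom := by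
          apply sup_le
          · intro a ha
            show r * a * r⁻¹ ∈ A ⊔ ⁅pResOf p K, A⁆
            have : r * a * r⁻¹ = (r * a * r⁻¹ * a⁻¹) * a := by group
            rw [this]
            exact Subgroup.mul_mem _
              (le_sup_right (a := A) (Subgroup.commutator_mem_commutator hr ha))
              (le_sup_left (b := ⁅pResOf p K, A⁆) ha)
          · intro c hc
            exact le_sup_right (a := A) (mem_normalizer_conj (hCn (pResOf_le p K hr)) hc)
        exact h1 hx
    apply pResOf_le_of_pow_mem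
    intro x hx
    rw [← hM, sup_comm] at hx
    have h4 : x ∈ ((⁅pResOf p K, A⁆ ⊔ A : Subgroup H) : Set H) := hx
    rw [Subgroup.coe_mul_of_right_le_normalizer_left _ _ (hAK.trans hCn)] at h4
    obtain ⟨c, hc, a, ha, rfl⟩ := h4
    obtain ⟨k, hk⟩ := hAp ⟨a, ha⟩
    have hk' : a ^ (p ^ k) = 1 := by simpa using congrArg Subtype.val hk
    have h5 := mul_pow_mem_of_normalizer hc (hCn (hAK ha)) (p ^ k)
    rw [hk', inv_one, mul_one] at h5
    exact ⟨k, h5⟩

end Cfsg.Agent.S2814
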