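import Cfsg.Statements.S2815
import Cfsg.Agent.Lib.Helper52.Quasi

set_option autoImplicit false
open Cfsg

namespace Cfsg.Agent.S2815

open Cfsg.Agent.Lib.Helper52

/-- Let H be a finite group and p a prime dividing its order with O_p(H) = 1, and suppose K = O^p(H) (generated by the elements of order prime to p) is quasisimple. Then K = F*(H); for every nontrivial p-subgroup Y of H, K = [K, Y] and K lies in the subgroup generated by the K-conjugates of Y; every normal subgroup of H not containing K has order prime to p; and H is p-irreducible. -/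
theorem result {H : Type*} [Group H] [Finite H] {p : ℕ} [Fact p.Prime] (hp : p ∣ Nat.card H) (hO : Cfsg.pCore p H = ⊥) (hq : Cfsg.IsQuasisimple ↥(Cfsg.pResidual p H)) : Cfsg.pResidual p H = Cfsg.generalizedFittingSubgroup H ∧ (∀ Y : Subgroup H, IsPGroup p ↥Y → Y ≠ ⊥ → ⁅Cfsg.pResidual p H, Y⁆ = Cfsg.pResidual p H ∧ Cfsg.pResidual p H ≤ ⨆ k : ↥(Cfsg.pResidual p H), Y.map (MulAut.conj (k : H)).toMonoidHom) ∧ (∀ C : Subgroup H, C.Normal → ¬ Cfsg.pResidual p H ≤ C → (Nat.card ↥C).Coprime p) ∧ Cfsg.IsPIrreducible p H := by
  classical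
  set K : Subgroup H := Cfsg.pResidual p H with hKdef
  have hKn : K.Normal := by
    rw [hKdef, ← pResOf_top, ← Subgroup.normalizer_eq_top_iff, eq_top_iff]
    refine le_trans ?_ (normalizer_le_normalizer_pResOf p ⊤)
    rw [Subgroup.normalizer_eq_top]
  have hKK : ⁅K, K⁆ = K := quasisimple_commutator_self hq
  have hpow : ∀ x : H, ∃ k : ℕ, x ^ (p ^ k) ∈ K := by
    intro x
    obtain ⟨k, hk⟩ := exists_pow_mem_pResOf (p := p) (Subgroup.mem_top x)
    exact ⟨k, by rwa [pResOf_top] at hk⟩
  have hsub0 : ∀ A : Subgroup H, A.IsSubnormal → IsPGroup p A → A = ⊥ := by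
    intro A h1 h2
    exact eq_bot_iff.2 (hO ▸ le_pCore_of_isSubnormal h1 h2)
  -- `p`-subgroups of `C(K)` are trivial
  have hCn : (Subgroup.centralizer (K : Set H)).Normal := inferInstance
  have hQ4 : ∀ Y : Subgroup H, IsPGroup p Y → Y ≤ Subgroup.centralizer (K : Set H) → Y = ⊥ := by
    intro Y hY hYC
    obtain ⟨T, hT⟩ := hY.exists_le_sylow
    have h1 : Subgroup.centralizer (K : Set H) ≤ Subgroup.normalizer
        (((T : Subgroup H) ⊓ Subgroup.centralizer (K : Set H) : Subgroup H) : Set H) := by
      apply normal_le_of_sylow_inf T (Subgroup.centralizer (K : Set H)) K _ (fun d _ => hpow d)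
      · rw [inf_comm]
        exact Subgroup.le_normalizer
      · refine le_trans ?_ (Subgroup.centralizer_le_normalizer _)
        intro x hx
        rw [Subgroup.mem_centralizer_iff]
        intro y hy
        exact (Subgroup.mem_centralizer_iff.1 hy.2 x hx.2).symm
    have h2 : ((T : Subgroup H) ⊓ Subgroup.centralizer (K : Set H)).IsSubnormal :=
      Subgroup.IsSubnormal.step _ _ inf_le_right hCn.isSubnormal
        ((Subgroup.normal_subgroupOf_iff_le_normalizer inf_le_right).2 h1)
    have h3 := hsub0 _ h2 (T.2.to_le inf_le_left)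
    exact eq_bot_iff.2 (h3 ▸ le_inf hT hYC)
  have hcop : ∀ C : Subgroup H, C ≤ Subgroup.centralizer (K : Set H) → (Nat.card C).Coprime p := by
    intro C hC
    rw [Nat.coprime_comm, (Fact.out : p.Prime).coprime_iff_not_dvd]
    intro hdvd
    obtain ⟨P⟩ : Nonempty (Sylow p C) := inferInstance
    have h1 := hQ4 ((P : Subgroup C).map C.subtype) (P.2.map _)
      ((Subgroup.map_subtype_le _).trans hC)
    have h2 : (P : Subgroup C) = ⊥ := by
      rw [← Subgroup.map_bot C.subtype] at h1
      exact Subgroup.map_injective C.subtype_injective h1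
    exact P.ne_bot_of_dvd_card hdvd h2
  have hnormal : ∀ C : Subgroup H, C.Normal → ¬ K ≤ C → C ≤ Subgroup.centralizer (K : Set H) := by
    intro C hC hKC
    apply centralizes_of_commutator_le_centralizer hKK
    have h1 : ⁅C, K⁆ ≤ C ⊓ K := le_inf (Subgroup.commutator_le_left C K)
      (Subgroup.commutator_le_right C K)
    refine h1.trans ?_
    rcases quasisimple_normal_rel hq (inf_le_right : C ⊓ K ≤ K) (by
      have : (C ⊓ K).Normal := inferInstance
      rw [Subgroup.normalizer_eq_top]
      exact le_top) with h | h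
    · exact h
    · exact absurd (h ▸ inf_le_left : K ≤ C) hKC
  refine ⟨?_, ?_, ?_, ?_, ?_⟩
  · -- `K = F*(H)`
    apply le_antisymm
    · refine le_trans ?_ (le_sup_left : Cfsg.layer H ≤ _)
      exact le_sSup ⟨hKn.isSubnormal, hq⟩
    · apply sup_le
      · apply sSup_le
        intro X hX
        exact perfect_le_pResidual (quasisimple_commutator_self hX.2)
      · apply sSup_le
        rintro N ⟨hN1, hN2⟩
        have hNcop : (Nat.card N).Coprime p := by
          rw [Nat.coprime_comm, (Fact.out : p.Prime).coprime_iff_not_dvd]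
          intro hdvd
          obtain ⟨P⟩ : Nonempty (Sylow p N) := inferInstance
          have htf : Group.IsNilpotent N ↔
              ∀ (p : ℕ) (_hp : Fact p.Prime) (P : Sylow p N), (↑P : Subgroup N).Normal :=
            (Group.isNilpotent_of_finite_tfae (G := N)).out 0 3
          have hPn : (P : Subgroup N).Normal := htf.1 hN2 p inferInstance P
          have h1 := hsub0 ((P : Subgroup N).map N.subtype) (hPn.isSubnormal.trans' hN1.isSubnormal)
            (P.2.map _)
          have h2 : (P : Subgroup N) = ⊥ := by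
            rw [← Subgroup.map_bot N.subtype] at h1
            exact Subgroup.map_injective N.subtype_injective h1
          exact P.ne_bot_of_dvd_card hdvd h2
        intro x hx
        apply Subgroup.subset_closure
        show Nat.Coprime (orderOf x) p
        have h1 : orderOf x ∣ Nat.card N := by
          have := orderOf_dvd_natCard (⟨x, hx⟩ : N)
          rwa [Subgroup.orderOf_mk] at this
        exact Nat.Coprime.coprime_dvd_left h1 hNcop
  · intro Y hY hY1
    have hN : ⁅K, Y⁆ = K := by
      rcases quasisimple_normal_rel hq (Subgroup.commutator_le_left K Y)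
        (le_sup_left.trans (le_normalizer_commutator K Y)) with h | h
      · exfalso
        apply hY1
        apply hQ4 Y hY
        apply centralizes_of_commutator_le_centralizer hKK
        rwa [Subgroup.commutator_comm]
      · exact h
    refine ⟨hN, ?_⟩
    conv_lhs => rw [← hN]
    rw [Subgroup.commutator_le]
    intro k hk y hy
    have e : k * y * k⁻¹ * y⁻¹ = (k * y * k⁻¹) * y⁻¹ := by group
    show k * y * k⁻¹ * y⁻¹ ∈ _
    apply Subgroup.mul_mem
    · exact (le_iSup (fun k : K => Y.map (MulAut.conj (k : H)).toMonoidHom) ⟨k, hk⟩) ⟨y, hy, rfl⟩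
    · apply Subgroup.inv_mem
      exact (le_iSup (fun k : K => Y.map (MulAut.conj (k : H)).toMonoidHom) 1) ⟨y, hy, by simp⟩
  · intro C hC hKC
    exact hcop C (hnormal C hC hKC)
  · intro hcl
    obtain ⟨P⟩ : Nonempty (Sylow p H) := inferInstance
    exact P.ne_bot_of_dvd_card hp (hsub0 _ (hcl P).isSubnormal P.2)
  · intro N hN hNcl
    by_contra hKN
    apply hNcl
    intro P
    have h1 := hcop N (hnormal N hN hKN)
    have h2 : (P : Subgroup N) = ⊥ := by
      by_contra hne
      obtain ⟨n, hn⟩ := IsPGroup.iff_card.1 P.2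
      have h3 : Nat.card (P : Subgroup N) ∣ Nat.card N := Subgroup.card_subgroup_dvd_card _
      have h4 : n ≠ 0 := by
        rintro rfl
        rw [pow_zero] at hn
        exact hne (Subgroup.card_eq_one.1 hn)
      have h5 : p ∣ Nat.card N := (dvd_pow_self p h4).trans (hn ▸ h3)
      exact (Fact.out : p.Prime).coprime_iff_not_dvd.1 h1.symm h5
    rw [h2]
    infer_instance

end Cfsg.Agent.S2815
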