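import Cfsg.Statements.S2816
import Cfsg.Agent.Lib.Helper52.FStarAct2

set_option autoImplicit false
open Cfsg

namespace Cfsg.Agent.S2816

open Cfsg.Agent.Lib.Helper52
open Cfsg.Agent.Lib

/-- Let H be a finite group and p a prime with O_p(H) = 1, and Y a p-subgroup of H. Then for every subnormal subgroup K of H containing Y, [F*(H), Y] = [F*(K), Y] = [F*(K), Y, Y]; and if Y₀ ≤ Y with [F*(H), Y, Y₀] = 1 then Y₀ = 1 (in particular [F*(H), Y] = 1 forces Y = 1). -/
theorem result {H : Type*} [Group H] [Finite H] {p : ℕ} [Fact p.Prime] (hO : Cfsg.pCore p H = ⊥) (Y : Subgroup H) (hY : IsPGroup p ↥Y) : (∀ K : Subgroup H, K.IsSubnormal → Y ≤ K → ⁅Cfsg.generalizedFittingSubgroup H, Y⁆ = ⁅(Cfsg.generalizedFittingSubgroup ↥K).map K.subtype, Y⁆ ∧ ⁅(Cfsg.generalizedFittingSubgroup ↥K).map K.subtype, Y⁆ = ⁅⁅(Cfsg.generalizedFittingSubgroup ↥K).map K.subtype, Y⁆, Y⁆) ∧ (∀ Y₀ : Subgroup H, Y₀ ≤ Y → ⁅⁅Cfsg.generalizedFittingSubgroup H, Y⁆, Y₀⁆ = ⊥ → Y₀ = ⊥) := by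
  have hX := fstar_comm hO genFitting_isSubnormal le_rfl hY (le_normalizer_genFitting Y)
  have hXs := fstar_sup hO genFitting_isSubnormal le_rfl hY (le_normalizer_genFitting Y)
  refine ⟨?_, ?_⟩
  · intro K hK hYK
    have hsub : ((Cfsg.generalizedFittingSubgroup ↥K).map K.subtype).IsSubnormal :=
      (Helper28.genFitting_normal (G := ↥K)).isSubnormal.trans' hK
    have hle : (Cfsg.generalizedFittingSubgroup ↥K).map K.subtype ≤
        Cfsg.generalizedFittingSubgroup H := Helper28.genFitting_subnormal_le hK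
    refine ⟨?_, fstar_comm hO hsub hle hY (hYK.trans (Helper28.le_normalizer_fstarIn K))⟩
    apply le_antisymm
    · have h1 : ⁅Cfsg.generalizedFittingSubgroup H, Y⁆ ≤ K :=
        le_of_isSubnormal_of_commutator_eq hX hK hYK
      have h2 : ⁅Cfsg.generalizedFittingSubgroup H, Y⁆ ≤
          (Cfsg.generalizedFittingSubgroup ↥K).map K.subtype := by
        rw [← Helper28.genFitting_inf_subnormal hK]
        exact le_inf (commutator_le_of_le_normalizer (le_normalizer_genFitting Y)) h1
      conv_lhs => rw [hX]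
      exact Subgroup.commutator_mono h2 le_rfl
    · exact Subgroup.commutator_mono hle le_rfl
  · intro Y₀ hY₀ h
    apply eq_bot_of_le_centralizer_genFitting hO (hY.to_le hY₀)
    rw [Subgroup.le_centralizer_iff]
    conv_lhs => rw [← hXs]
    apply sup_le
    · exact Subgroup.commutator_eq_bot_iff_le_centralizer.1 h
    · exact inf_le_right.trans (Subgroup.centralizer_le hY₀)

end Cfsg.Agent.S2816
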