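import Cfsg.Statements.S2817
import Cfsg.Agent.Lib.Helper52.FStarAct3

set_option autoImplicit false
open Cfsg

namespace Cfsg.Agent.S2817

open Cfsg.Agent.Lib.Helper52
open Cfsg.Agent.Lib

/-- Let H be a finite group and p a prime with O_p(H) = 1, Q a p-subgroup of H, L = [F*(H), Q], and F the largest normal subgroup of F*(H) centralized by Q (a normal subgroup of F*(H) centralized by Q and containing every such). Then F = C_{F*(H)}(LQ); L = [L, Q]; L ∩ F ≤ Φ(L); every p-subgroup B of N_H(Q) with [L, B] ≤ F satisfies [L, B] = 1; and C_H(FL) has order prime to p. -/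
theorem result {H : Type*} [Group H] [Finite H] {p : ℕ} [Fact p.Prime] (hO : Cfsg.pCore p H = ⊥) (Q : Subgroup H) (hQ : IsPGroup p ↥Q) (L : Subgroup H) (hL : L = ⁅Cfsg.generalizedFittingSubgroup H, Q⁆) (F : Subgroup H) (hF : F ≤ Cfsg.generalizedFittingSubgroup H ∧ Cfsg.generalizedFittingSubgroup H ≤ Subgroup.normalizer (F : Set H) ∧ Q ≤ Subgroup.centralizer (F : Set H) ∧ ∀ N : Subgroup H, N ≤ Cfsg.generalizedFittingSubgroup H → Cfsg.generalizedFittingSubgroup H ≤ Subgroup.normalizer (N : Set H) → Q ≤ Subgroup.centralizer (N : Set H) → N ≤ F) : F = Cfsg.generalizedFittingSubgroup H ⊓ Subgroup.centralizer ((L ⊔ Q : Subgroup H) : Set H) ∧ ⁅L, Q⁆ = L ∧ L ⊓ F ≤ (frattini ↥L).map L.subtype ∧ (∀ B : Subgroup H, IsPGroup p ↥B → B ≤ Subgroup.normalizer (Q : Set H) → ⁅L, B⁆ ≤ F → ⁅L, B⁆ = ⊥) ∧ (Nat.card ↥(Subgroup.centralizer ((F ⊔ L : Subgroup H) : Set H))).Coprime p := by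
  obtain ⟨hFX, hXF, hQF, hmax⟩ := hF
  set X := Cfsg.generalizedFittingSubgroup H with hXdef
  have hXn : ∀ Y : Subgroup H, Y ≤ Subgroup.normalizer (X : Set H) := le_normalizer_genFitting
  have hXs : L ⊔ (X ⊓ Subgroup.centralizer (Q : Set H)) = X := by
    rw [hL]
    exact fstar_sup hO genFitting_isSubnormal le_rfl hQ (hXn Q)
  have hLc : L = ⁅L, Q⁆ := by
    rw [hL]
    exact fstar_comm hO genFitting_isSubnormal le_rfl hQ (hXn Q)
  have hLX : L ≤ X := by
    rw [hL]
    exact commutator_le_of_le_normalizer (hXn Q)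
  have hXL : X ≤ Subgroup.normalizer (L : Set H) := by
    rw [hL]
    exact (le_sup_left : X ≤ X ⊔ Q).trans (le_normalizer_commutator X Q)
  have hQL : Q ≤ Subgroup.normalizer (L : Set H) := by
    rw [hL]
    exact (le_sup_right : Q ≤ X ⊔ Q).trans (le_normalizer_commutator X Q)
  have hLsub : L.IsSubnormal := Subgroup.IsSubnormal.step L X hLX genFitting_isSubnormal
    ((Subgroup.normal_subgroupOf_iff_le_normalizer hLX).2 hXL)
  have hQF' : ⁅Q, F⁆ = ⊥ := Subgroup.commutator_eq_bot_iff_le_centralizer.2 hQF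
  have hLF : ⁅L, F⁆ = ⊥ := by
    rw [hL]
    apply Subgroup.commutator_commutator_eq_bot_of_rotate
    · rw [hQF', Subgroup.commutator_bot_left]
    · rw [eq_bot_iff, ← hQF', Subgroup.commutator_comm Q F]
      exact Subgroup.commutator_mono (commutator_le_of_le_normalizer hXF) le_rfl
  have hFcent : F ≤ Subgroup.centralizer ((L ⊔ Q : Subgroup H) : Set H) := by
    rw [Subgroup.le_centralizer_iff]
    exact sup_le (Subgroup.commutator_eq_bot_iff_le_centralizer.1 hLF) hQF
  have hOL : Cfsg.pCore p ↥L = ⊥ := pCore_eq_bot_of_subnormal hLsub hO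
  have h3 : L ⊓ F ≤ (frattini ↥L).map L.subtype := by
    intro z hz
    have hzL : z ∈ Subgroup.centralizer (L : Set H) :=
      Subgroup.centralizer_le (le_sup_left : L ≤ L ⊔ Q) (hFcent hz.2)
    have hzQ : z ∈ Subgroup.centralizer (Q : Set H) :=
      Subgroup.centralizer_le (le_sup_right : Q ≤ L ⊔ Q) (hFcent hz.2)
    have h1 := pow_card_mem_commutator hQL hLc.symm hz.1 hzQ
    obtain ⟨k, hk⟩ := IsPGroup.iff_card.1 hQ
    rw [hk] at h1
    have h2 : z ∈ ⁅L, L⁆ := mem_of_pow_mem_of_central hOL hz.1 hzL h1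
    refine ⟨⟨z, hz.1⟩, mem_frattini_of_central_of_mem_commutator ?_ ?_, rfl⟩
    · rw [Subgroup.mem_center_iff]
      intro g
      apply Subtype.ext
      exact Subgroup.mem_centralizer_iff.1 hzL g g.2
    · have h4 : (commutator ↥L).map L.subtype = ⁅L, L⁆ := by
        rw [commutator_def, Subgroup.map_commutator, map_top_subtype]
      rw [← h4] at h2
      obtain ⟨w, hw, hwz⟩ := h2
      have : w = ⟨z, hz.1⟩ := Subtype.ext hwz
      exact this ▸ hw
  refine ⟨?_, hLc.symm, h3, ?_, ?_⟩
  · apply le_antisymm (le_inf hFX hFcent)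
    apply hmax _ inf_le_left
    · conv_lhs => rw [← hXs]
      apply sup_le
      · have h1 : X ⊓ Subgroup.centralizer ((L ⊔ Q : Subgroup H) : Set H) ≤
            Subgroup.centralizer (L : Set H) :=
          inf_le_right.trans (Subgroup.centralizer_le (le_sup_left : L ≤ L ⊔ Q))
        exact (Subgroup.le_centralizer_iff.1 h1).trans (Subgroup.centralizer_le_normalizer _)
      · intro x hx
        apply normalizer_inf_le_normalizer_inf
        refine ⟨hXn ⊤ (Subgroup.mem_top x), normalizer_le_normalizer_centralizer' _ ?_⟩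
        apply normalizer_inf_le_normalizer_sup
        exact ⟨hXL hx.1, Subgroup.centralizer_le_normalizer _ hx.2⟩
    · rw [Subgroup.le_centralizer_iff]
      exact inf_le_right.trans (Subgroup.centralizer_le (le_sup_right : Q ≤ L ⊔ Q))
  · intro B hB hBQ hLB
    have hBL : B ≤ Subgroup.normalizer (L : Set H) := by
      rw [hL]
      intro b hb
      exact normalizer_inf_le_normalizer_commutator _ _ ⟨hXn B hb, hBQ hb⟩
    have h1 := fstar_sup hO hLsub hLX hB hBL
    have h2 : ⁅L, B⁆ ≤ (frattini ↥L).map L.subtype :=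
      (le_inf (commutator_le_of_le_normalizer hBL) hLB).trans h3
    have h4 : (Subgroup.centralizer (B : Set H)).subgroupOf L ⊔ frattini ↥L = ⊤ := by
      apply Subgroup.map_injective L.subtype_injective
      rw [Subgroup.map_sup, Subgroup.subgroupOf_map_subtype, map_top_subtype]
      apply le_antisymm (sup_le inf_le_right (Subgroup.map_subtype_le _))
      conv_lhs => rw [← h1]
      rw [sup_comm, inf_comm]
      exact sup_le_sup le_rfl h2
    have h5 := frattini_nongenerating h4
    rw [Subgroup.subgroupOf_eq_top] at h5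
    exact Subgroup.commutator_eq_bot_iff_le_centralizer.2 h5
  · rw [Nat.coprime_comm, (Fact.out : p.Prime).coprime_iff_not_dvd]
    intro hdvd
    have hQC : Q ≤ Subgroup.normalizer
        ((Subgroup.centralizer ((F ⊔ L : Subgroup H) : Set H) : Subgroup H) : Set H) := by
      intro q hq
      apply normalizer_le_normalizer_centralizer'
      apply normalizer_inf_le_normalizer_sup
      exact ⟨Subgroup.centralizer_le_normalizer _ (hQF hq), hQL hq⟩
    obtain ⟨u, hu, hu1, huQ, hup⟩ := exists_fixed_pElement hQ hQC hdvd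
    set B₁ := Subgroup.zpowers u with hB₁
    have hB₁Q : ⁅B₁, Q⁆ = ⊥ :=
      Subgroup.commutator_eq_bot_iff_le_centralizer.2 (Subgroup.zpowers_le.2 huQ)
    have hB₁C : B₁ ≤ Subgroup.centralizer ((F ⊔ L : Subgroup H) : Set H) := Subgroup.zpowers_le.2 hu
    have hLB₁ : ⁅L, B₁⁆ = ⊥ := by
      rw [Subgroup.commutator_comm]
      exact Subgroup.commutator_eq_bot_iff_le_centralizer.2
        (hB₁C.trans (Subgroup.centralizer_le (le_sup_right : L ≤ F ⊔ L)))
    have hFB₁ : ⁅F, B₁⁆ = ⊥ := by
      rw [Subgroup.commutator_comm]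
      exact Subgroup.commutator_eq_bot_iff_le_centralizer.2
        (hB₁C.trans (Subgroup.centralizer_le (le_sup_left : F ≤ F ⊔ L)))
    have h1 : ⁅X, B₁⁆ ≤ F := by
      apply hmax _ (commutator_le_of_le_normalizer (hXn B₁))
        ((le_sup_left : X ≤ X ⊔ B₁).trans (le_normalizer_commutator X B₁))
      rw [Subgroup.le_centralizer_iff, ← Subgroup.commutator_eq_bot_iff_le_centralizer]
      apply Subgroup.commutator_commutator_eq_bot_of_rotate
      · rw [hB₁Q, Subgroup.commutator_bot_left]
      · rw [Subgroup.commutator_comm Q X, ← hL, hLB₁]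
    have h2 : ⁅X, B₁⁆ = ⊥ := by
      rw [fstar_comm hO genFitting_isSubnormal le_rfl hup (hXn B₁), eq_bot_iff, ← hFB₁]
      exact Subgroup.commutator_mono h1 le_rfl
    have h4 : B₁ = ⊥ := by
      apply eq_bot_of_le_centralizer_genFitting hO hup
      rw [Subgroup.le_centralizer_iff]
      exact Subgroup.commutator_eq_bot_iff_le_centralizer.1 h2
    rw [hB₁, Subgroup.zpowers_eq_bot] at h4
    exact hu1 h4

end Cfsg.Agent.S2817
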