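import Cfsg.Statements.S2818
import Cfsg.Agent.Lib.Helper52.Frat

set_option autoImplicit false
open Cfsg

namespace Cfsg.Agent.S2818

open Cfsg.Agent.Lib.Helper52

/-- Let P be a finite p-subgroup of a group G and H a subgroup of N_G(P) with [P, H] ≤ Ω₁(Z(P)) (the elements of order dividing p in the centre of P). Then H centralizes the Frattini subgroup of P. -/
theorem result {G : Type*} [Group G] [Finite G] {p : ℕ} [Fact p.Prime] (P : Subgroup G) (hP : IsPGroup p ↥P) (H : Subgroup G) (hH : H ≤ Subgroup.normalizer (P : Set G)) (h : ⁅P, H⁆ ≤ Cfsg.omegaOne p (P ⊓ Subgroup.centralizer (P : Set G))) : ⁅(frattini ↥P).map P.subtype, H⁆ = ⊥ := by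
  classical
  rw [Subgroup.commutator_eq_bot_iff_le_centralizer]
  rintro _ ⟨u, hu, rfl⟩
  rw [Subgroup.mem_centralizer_iff]
  intro h₀ hh₀
  have hz : ∀ x : P, h₀ * x * h₀⁻¹ * (x : G)⁻¹ ∈ Cfsg.omegaOne p (P ⊓ Subgroup.centralizer (P : Set G)) := by
    intro x
    apply h
    rw [Subgroup.commutator_comm]
    exact Subgroup.commutator_mem_commutator hh₀ x.2
  have hzc : ∀ x : P, (⟨h₀ * x * h₀⁻¹ * (x : G)⁻¹, (mem_omegaZ.1 (hz x)).1⟩ : P) ∈
      Subgroup.center P := by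
    intro x
    rw [Subgroup.mem_center_iff]
    intro g
    apply Subtype.ext
    exact Subgroup.mem_centralizer_iff.1 (mem_omegaZ.1 (hz x)).2.1 g g.2
  let δ : P →* Subgroup.center P := MonoidHom.mk' (fun x => ⟨_, hzc x⟩) (by
    intro x y
    apply Subtype.ext
    apply Subtype.ext
    have h1 := Subgroup.mem_centralizer_iff.1 (mem_omegaZ.1 (hz y)).2.1 (x : G)⁻¹ (P.inv_mem x.2)
    show h₀ * (x * y : G) * h₀⁻¹ * (x * y : G)⁻¹ =
      (h₀ * x * h₀⁻¹ * (x : G)⁻¹) * (h₀ * y * h₀⁻¹ * (y : G)⁻¹)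
    calc h₀ * (x * y : G) * h₀⁻¹ * (x * y : G)⁻¹
        = h₀ * x * h₀⁻¹ * ((h₀ * y * h₀⁻¹ * (y : G)⁻¹) * (x : G)⁻¹) := by group
      _ = h₀ * x * h₀⁻¹ * ((x : G)⁻¹ * (h₀ * y * h₀⁻¹ * (y : G)⁻¹)) := by rw [h1]
      _ = _ := by group)
  have hδ : ∀ x : P, (δ x) ^ p = 1 := by
    intro x
    apply Subtype.ext
    apply Subtype.ext
    exact (mem_omegaZ.1 (hz x)).2.2
  have hcomm : ∀ a b : Subgroup.center P, a * b = b * a := by
    intro a b
    apply Subtype.ext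
    exact (Subgroup.mem_center_iff.1 b.2 a.1)
  have h2 := frattini_le_ker (p := p) δ hcomm hδ hu
  rw [MonoidHom.mem_ker] at h2
  have h3 : h₀ * u * h₀⁻¹ * (u : G)⁻¹ = 1 := congrArg (fun z => z.1.1) h2
  show h₀ * (u : G) = u * h₀
  calc h₀ * (u : G) = (h₀ * u * h₀⁻¹ * (u : G)⁻¹) * (u * h₀) := by group
    _ = u * h₀ := by rw [h3, one_mul]

end Cfsg.Agent.S2818
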