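import Cfsg.Statements.S2819
import Cfsg.Agent.Lib.Helper52.Frat
import Cfsg.Agent.Lib.Helper52.Misc

set_option autoImplicit false
open Cfsg

namespace Cfsg.Agent.S2819

open Cfsg.Agent.Lib.Helper52

/-- Let P be a finite p-subgroup of a group G, H a subgroup of N_G(P), and Y a subgroup of H centralizing the derived subgroup P' such that [P, Y] is elementary abelian. Then O^p(⟨Y^H⟩), the subgroup of the normal closure of Y in H generated by its elements of order prime to p, centralizes the Frattini subgroup of P. -/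
theorem result {G : Type*} [Group G] [Finite G] {p : ℕ} [Fact p.Prime] (P : Subgroup G) (hP : IsPGroup p ↥P) (H : Subgroup G) (hH : H ≤ Subgroup.normalizer (P : Set G)) (Y : Subgroup G) (hYH : Y ≤ H) (hYc : Y ≤ Subgroup.centralizer ((⁅P, P⁆ : Subgroup G) : Set G)) (hel : Cfsg.IsElementaryAbelian p ⁅P, Y⁆) (NY : Subgroup G) (hNY : NY = (Subgroup.normalClosure ((Y.subgroupOf H : Subgroup ↥H) : Set ↥H)).map H.subtype) : (Cfsg.pResidual p ↥NY).map NY.subtype ≤ Subgroup.centralizer (((frattini ↥P).map P.subtype : Subgroup G) : Set G) := by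
  classical
  rw [pResidual_map_subtype]
  have hΓD : Subgroup.normalizer (P : Set G) ≤ Subgroup.normalizer ((⁅P, P⁆ : Subgroup G) : Set G) := by
    have := normalizer_inf_le_normalizer_commutator P P
    rwa [inf_idem] at this
  have hΓF := normalizer_le_normalizer_frattini P
  have hDP : ⁅P, P⁆ ≤ P := commutator_le_of_le_normalizer Subgroup.le_normalizer
  -- Claim 1
  have claim1 : ∀ y ∈ Y, ∀ u ∈ (frattini P).map P.subtype, y * u * y⁻¹ * u⁻¹ ∈ ⁅P, P⁆ := by
    rintro y hy _ ⟨u, hu, rfl⟩
    have hyΓ : y ∈ Subgroup.normalizer (P : Set G) := hH (hYH hy)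
    let f : P →* Abelianization P :=
      (Abelianization.of.comp (P.normalizerMonoidHom ⟨y, hyΓ⟩).toMonoidHom) / Abelianization.of
    have hf : ∀ x : P, f x = Abelianization.of (P.normalizerMonoidHom ⟨y, hyΓ⟩ x * x⁻¹) := by
      intro x
      show Abelianization.of (P.normalizerMonoidHom ⟨y, hyΓ⟩ x) / Abelianization.of x = _
      rw [map_mul, map_inv, div_eq_mul_inv]
    have hfp : ∀ x : P, (f x) ^ p = 1 := by
      intro x
      rw [hf, ← map_pow]
      have : (P.normalizerMonoidHom ⟨y, hyΓ⟩ x * x⁻¹) ^ p = 1 := by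
        apply Subtype.ext
        have h1 : y * x * y⁻¹ * (x : G)⁻¹ ∈ ⁅P, Y⁆ := by
          rw [Subgroup.commutator_comm]
          exact Subgroup.commutator_mem_commutator hy x.2
        have := hel.2 _ h1
        simpa using this
      rw [this, map_one]
    have h2 := frattini_le_ker (p := p) f mul_comm hfp hu
    rw [MonoidHom.mem_ker, hf, ← MonoidHom.mem_ker, Abelianization.ker_of] at h2
    rw [← Subgroup.map_subtype_commutator]
    exact ⟨_, h2, by simp⟩
  -- the stabilizer of the chain
  set S : Subgroup G := chainStabRel (Subgroup.normalizer (P : Set G))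
    ((frattini P).map P.subtype) ⁅P, P⁆ hΓD ⊓ Subgroup.centralizer ((⁅P, P⁆ : Subgroup G) : Set G)
    with hS
  have hYS : Y ≤ S := fun y hy => ⟨⟨hH (hYH hy), claim1 y hy⟩, hYc hy⟩
  have hHS : H ≤ Subgroup.normalizer (S : Set G) := by
    apply le_normalizer_of_conj_mem
    intro h hh x hx
    exact ⟨mem_normalizer_conj (le_normalizer_chainStabRel hΓD hΓF (hH hh)) hx.1,
      mem_normalizer_conj (normalizer_le_normalizer_centralizer' _ (hΓD (hH hh))) hx.2⟩
  have hNYS : NY ≤ S := hNY ▸ normalClosure_subgroupOf_map_le hYS hHS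
  apply (Subgroup.closure_le _).2
  intro g hg
  have hgS := hNYS hg.1
  apply coprime_centralizes_two_step (W := ⁅P, P⁆) (hP.to_le hDP) hgS.1.2 _ hg.2
  intro a ha
  exact (Subgroup.mem_centralizer_iff.1 hgS.2 a ha).symm

end Cfsg.Agent.S2819
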