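import Cfsg.Statements.S2820
import Cfsg.Agent.Lib.Helper52.Subn

set_option autoImplicit false
open Cfsg

namespace Cfsg.Agent.S2820

/-- Let A and B be subnormal subgroups of the finite group H with A a p-group and B = O^p(B) (B generated by its elements of order prime to p). Then A normalizes B and B = O^p(AB), the subgroup of ⟨A, B⟩ generated by its elements of order prime to p. -/
theorem result {H : Type*} [Group H] [Finite H] {p : ℕ} [Fact p.Prime] (A B : Subgroup H) (hA : A.IsSubnormal) (hB : B.IsSubnormal) (hAp : IsPGroup p ↥A) (hBres : (Cfsg.pResidual p ↥B).map B.subtype = B) : A ≤ Subgroup.normalizer (B : Set H) ∧ (Cfsg.pResidual p ↥(A ⊔ B)).map (A ⊔ B).subtype = B := by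
  rw [Cfsg.Agent.Lib.Helper52.pResidual_map_subtype] at hBres ⊢
  have hAP : A ≤ Cfsg.pCore p H := Cfsg.Agent.Lib.Helper52.le_pCore_of_isSubnormal hA hAp
  have hPp : IsPGroup p (Cfsg.pCore p H) := Cfsg.Agent.Lib.Helper52.pCore_isPGroup
  refine ⟨hAP.trans
    (Cfsg.Agent.Lib.Helper52.le_normalizer_of_isSubnormal_of_pResOf_eq hB hPp hBres), ?_⟩
  apply le_antisymm
  · apply (Subgroup.closure_le _).2
    intro g hg
    apply Cfsg.Agent.Lib.Helper52.mem_of_mem_sup_of_isSubnormal hB hPp _ hg.2
    exact (sup_le (hAP.trans le_sup_right) le_sup_left : A ⊔ B ≤ B ⊔ Cfsg.pCore p H) hg.1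
  · calc B = Cfsg.Agent.Lib.Helper52.pResOf p B := hBres.symm
      _ ≤ _ := Cfsg.Agent.Lib.Helper52.pResOf_mono p le_sup_right

end Cfsg.Agent.S2820
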