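import Cfsg.Statements.S2821
import Cfsg.Agent.Lib.Helper52.PReduced

set_option autoImplicit false
open Cfsg

namespace Cfsg.Agent.S2821

open Cfsg.Agent.Lib.Helper52

theorem sylow_relIndex_of_le_normalizer {G : Type*} [Group G] [Finite G] {p : ℕ} [Fact p.Prime]
    (T : Sylow p G) (D : Subgroup G) (h : (T : Subgroup G) ≤ Subgroup.normalizer (D : Set G)) :
    ¬ p ∣ (T : Subgroup G).relIndex D := by
  have h1 := sylow_relIndex_normal (T.subtype h) (D.subgroupOf (Subgroup.normalizer (D : Set G)))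
  rw [Sylow.coe_subtype, Subgroup.relIndex_subgroupOf Subgroup.le_normalizer] at h1
  exact h1

theorem normalizer_le_normalizer_centralizer {G : Type*} [Group G] (Y : Subgroup G) :
    Subgroup.normalizer (Y : Set G) ≤
      Subgroup.normalizer ((Subgroup.centralizer (Y : Set G) : Subgroup G) : Set G) := by
  have key : ∀ g ∈ Subgroup.normalizer (Y : Set G), ∀ x ∈ Subgroup.centralizer (Y : Set G),
      g * x * g⁻¹ ∈ Subgroup.centralizer (Y : Set G) := by
    intro g hg x hx
    rw [Subgroup.mem_centralizer_iff]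
    intro w hw
    have h1 := Subgroup.mem_centralizer_iff.1 hx _ (mem_normalizer_conj' hg hw)
    calc w * (g * x * g⁻¹) = g * ((g⁻¹ * w * g) * x) * g⁻¹ := by group
      _ = g * (x * (g⁻¹ * w * g)) * g⁻¹ := by rw [h1]
      _ = g * x * g⁻¹ * w := by group
  intro g hg
  rw [Subgroup.mem_normalizer_iff]
  intro x
  refine ⟨key g hg x, fun hx => ?_⟩
  have := key g⁻¹ (Subgroup.inv_mem _ hg) _ hx
  simpa [mul_assoc] using this

theorem largest_isPReduced {L : Type*} [Group L] [Finite L] {p : ℕ} [Fact p.Prime] :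
    Cfsg.IsPReducedNormal p (Cfsg.largestPReduced p L) := by
  have h1 : {V : Subgroup L | Cfsg.IsPReducedNormal p V} = {V | PRin p ⊤ V} := by
    ext V
    exact isPReducedNormal_iff_PRin_top
  unfold Cfsg.largestPReduced
  rw [h1]
  exact isPReducedNormal_iff_PRin_top.2 (PRin_sSup ⊤)

theorem omegaZ_sylow_le_largest {L : Type*} [Group L] [Finite L] {p : ℕ} [Fact p.Prime]
    (hchar : Subgroup.centralizer (Cfsg.pCore p L : Set L) ≤ Cfsg.pCore p L) (S : Sylow p L) :
    Cfsg.omegaOne p ((S : Subgroup L) ⊓ Subgroup.centralizer ((S : Subgroup L) : Set L)) ≤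
      Cfsg.largestPReduced p L := by
  have hPR : PRin p (S : Subgroup L)
      (Cfsg.omegaOne p ((S : Subgroup L) ⊓ Subgroup.centralizer ((S : Subgroup L) : Set L))) := by
    refine ⟨fun x hx => (mem_omegaZ.1 hx).1,
      Subgroup.le_normalizer.trans (normalizer_le_normalizer_omegaZ _),
      omegaZ_isElementaryAbelian _, ?_⟩
    intro D hD1 _ _
    refine hD1.trans ?_
    rw [Subgroup.le_centralizer_iff]
    exact fun x hx => (mem_omegaZ.1 hx).2.1
  have h1 := isPReducedNormal_iff_PRin_top.2 (PRin_normalClosure hchar S le_rfl hPR)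
  exact Subgroup.le_normalClosure.trans (le_sSup h1)

/-- Let H be a finite group, p a prime, T a Sylow p-subgroup and L a subgroup of characteristic p containing T; let Y_L be the largest p-reduced normal subgroup of L (the join of the normal elementary abelian p-subgroups V of L with O_p(L/C_L(V)) = 1). Then T₀ := C_T(Y_L) is a Sylow p-subgroup of C_H(Y_L); moreover O_p(L) ≤ T₀ ≤ C_L(Y_L) and Ω₁(Z(T)) ≤ Z_L ≤ Y_L ≤ Ω₁(Z(O_p(L))), where Z_L is generated by the Ω₁(Z(S)) over the Sylow p-subgroups S of L. -/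
theorem result {H : Type*} [Group H] [Finite H] {p : ℕ} [Fact p.Prime] (T : Sylow p H) (L : Subgroup H) (hTL : (T : Subgroup H) ≤ L) (hL : Subgroup.centralizer (Cfsg.pCore p ↥L : Set ↥L) ≤ Cfsg.pCore p ↥L) (T₀ : Subgroup H) (hT₀ : T₀ = (T : Subgroup H) ⊓ Subgroup.centralizer (((Cfsg.largestPReducedOf p L) : Subgroup H) : Set H)) : (∃ P : Sylow p ↥(Subgroup.centralizer (((Cfsg.largestPReducedOf p L) : Subgroup H) : Set H)), (P : Subgroup ↥(Subgroup.centralizer (((Cfsg.largestPReducedOf p L) : Subgroup H) : Set H))) = T₀.subgroupOf (Subgroup.centralizer (((Cfsg.largestPReducedOf p L) : Subgroup H) : Set H))) ∧ (Cfsg.pCoreOf p L) ≤ T₀ ∧ T₀ ≤ L ⊓ Subgroup.centralizer (((Cfsg.largestPReducedOf p L) : Subgroup H) : Set H) ∧ (Cfsg.omegaOne p ((T : Subgroup H) ⊓ Subgroup.centralizer (((T : Subgroup H) : Subgroup H) : Set H))) ≤ Cfsg.sylowCenterClosure p L ∧ Cfsg.sylowCenterClosure p L ≤ (Cfsg.largestPReducedOf p L) ∧ (Cfsg.largestPReducedOf p L) ≤ (Cfsg.omegaOne p ((Cfsg.pCoreOf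 p L) ⊓ Subgroup.centralizer (((Cfsg.pCoreOf p L) : Subgroup H) : Set H))) := by
  classical
  have hPR : PRin p L (Cfsg.largestPReducedOf p L) :=
    isPReducedNormal_subtype_iff.1 largest_isPReduced
  subst hT₀
  refine ⟨?_, ?_, ?_, ?_, ?_, ?_⟩
  · have hTN : (T : Subgroup H) ≤ Subgroup.normalizer
        ((Subgroup.centralizer ((Cfsg.largestPReducedOf p L : Subgroup H) : Set H) : Subgroup H) : Set H) :=
      (hTL.trans hPR.2.1).trans (normalizer_le_normalizer_centralizer _)
    have h1 := sylow_relIndex_of_le_normalizer T _ hTN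
    rw [← Subgroup.inf_relIndex_right] at h1
    exact ⟨IsPGroup.toSylow (isPGroup_subgroupOf (T.2.to_le inf_le_left)) h1, rfl⟩
  · exact le_inf (pCoreOf_le_sylow T hTL) hPR.pCoreOf_le_centralizer
  · exact inf_le_inf_right _ hTL
  · unfold Cfsg.sylowCenterClosure
    refine le_iSup_of_le (T.subtype hTL) ?_
    rw [Sylow.coe_subtype, Subgroup.map_subgroupOf_eq_of_le hTL]
  · unfold Cfsg.sylowCenterClosure
    apply iSup_le
    intro S x hx
    rw [mem_omegaZ] at hx
    obtain ⟨⟨s, hs, rfl⟩, hx2, hx3⟩ := hx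
    refine ⟨s, omegaZ_sylow_le_largest hL S ?_, rfl⟩
    rw [mem_omegaZ]
    refine ⟨hs, mem_centralizer_subtype.2 hx2, ?_⟩
    apply Subtype.ext
    simpa using hx3
  · exact hPR.le_omegaZ

end Cfsg.Agent.S2821
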