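import Cfsg.Statements.S2823
import Cfsg.Agent.Lib.Helper37.Kieler
import Cfsg.Agent.Lib.Helper51.Amalgam

set_option autoImplicit false
open Cfsg

namespace Cfsg.Agent.S2823

open scoped commutatorElement
open Cfsg.Agent.Lib Cfsg.Agent.Lib.Helper37

/-- Let H be a finite group, p a prime, T a Sylow p-subgroup and L a subgroup of characteristic p containing T; let Z_L be the subgroup generated by the Ω₁(Z(S)) over the Sylow p-subgroups S of L and O^p(L) the subgroup generated by the elements of L of order prime to p. Then Z_L = Ω₁(Z(L))·[Z_L, O^p(L)] and [Z_L, L] = [Z_L, O^p(L)]. -/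
theorem result {H : Type*} [Group H] [Finite H] {p : ℕ} [Fact p.Prime] (T : Sylow p H) (L : Subgroup H) (hTL : (T : Subgroup H) ≤ L) (hL : Subgroup.centralizer (Cfsg.pCore p ↥L : Set ↥L) ≤ Cfsg.pCore p ↥L) : Cfsg.sylowCenterClosure p L = (Cfsg.omegaOne p (L ⊓ Subgroup.centralizer ((L : Subgroup H) : Set H))) ⊔ ⁅Cfsg.sylowCenterClosure p L, (Cfsg.pResidual p ↥L).map L.subtype⁆ ∧ ⁅Cfsg.sylowCenterClosure p L, L⁆ = ⁅Cfsg.sylowCenterClosure p L, (Cfsg.pResidual p ↥L).map L.subtype⁆ := by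
  set ZL := Cfsg.sylowCenterClosure p L with hZL
  set R := (Cfsg.pResidual p ↥L).map L.subtype with hR
  set V := Cfsg.omegaOne p (Cfsg.pCoreOf p L ⊓ Subgroup.centralizer (Cfsg.pCoreOf p L : Set H))
    with hV
  set W := ⁅ZL, R⁆ with hW
  set ΩL := Cfsg.omegaOne p (L ⊓ Subgroup.centralizer ((L : Subgroup H) : Set H)) with hΩL
  have hZLV : ZL ≤ V := iSup_le fun S => omegaOne_center_le_of_charP hL (Helper53.isSyl_of_sylow S)
  have hVcomm : ∀ a ∈ V, ∀ b ∈ V, a * b = b * a := by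
    intro a ha b hb
    exact ((mem_omegaOne_center_iff p _ b).1 hb).2.1 a ((mem_omegaOne_center_iff p _ a).1 ha).1
  have hLV : L ≤ Subgroup.normalizer (V : Set H) :=
    (Helper53.le_normalizer_pCoreOf p L).trans (normalizer_le_normalizer_omegaOne_center p _)
  have hVL : V ≤ L := fun v hv =>
    Helper53.pCoreOf_le p L ((mem_omegaOne_center_iff p _ v).1 hv).1
  have hLZL : L ≤ Subgroup.normalizer (ZL : Set H) := Helper51.le_normalizer_sylowCenterClosure L
  have hLR : L ≤ Subgroup.normalizer (R : Set H) :=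
    Subgroup.le_normalizer.trans (Helper53.normalizer_le_normalizer_pRes p L)
  have hRL : R ≤ L := Helper53.pRes_le p L
  have hLW : L ≤ Subgroup.normalizer (W : Set H) := Helper53.le_normalizer_commutator hLZL hLR
  have hWZL : W ≤ ZL := by
    rw [hW, Subgroup.commutator_le]
    intro z hz r hr
    have h1 : r * z⁻¹ * r⁻¹ ∈ ZL :=
      (Subgroup.mem_normalizer_iff.1 (hLZL (hRL hr)) z⁻¹).1 (ZL.inv_mem hz)
    have h2 : ⁅z, r⁆ = z * (r * z⁻¹ * r⁻¹) := by rw [commutatorElement_def]; group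
    rw [h2]
    exact ZL.mul_mem hz h1
  have hΩLL : ΩL ≤ L := fun x hx => ((mem_omegaOne_center_iff p _ x).1 hx).1
  have hΩZL : ΩL ≤ ZL := by
    intro x hx
    obtain ⟨h1, h2, h3⟩ := (mem_omegaOne_center_iff p _ x).1 hx
    have hS := Helper53.isSyl_of_sylow (T.subtype hTL)
    have hxQ : x ∈ Cfsg.pCoreOf p L := (Helper53.charP_iff.1 hL)
      ⟨h1, Subgroup.mem_centralizer_iff.2 fun s hs => h2 s (Helper53.pCoreOf_le p L hs)⟩
    have : x ∈ Cfsg.omegaOne p ((((T.subtype hTL : Sylow p ↥L) : Subgroup ↥L).map L.subtype) ⊓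
        Subgroup.centralizer ((((T.subtype hTL : Sylow p ↥L) : Subgroup ↥L).map L.subtype :
          Subgroup H) : Set H)) :=
      (mem_omegaOne_center_iff p _ x).2
        ⟨Helper53.pCoreOf_le_isSyl hS hxQ, fun s hs => h2 s (hS.le hs), h3⟩
    exact (le_iSup (fun S : Sylow p ↥L => Cfsg.omegaOne p (((S : Subgroup ↥L).map L.subtype) ⊓
      Subgroup.centralizer (((S : Subgroup ↥L).map L.subtype : Subgroup H) : Set H)))
      (T.subtype hTL)) this
  have hfirst : ZL = ΩL ⊔ W := by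
    apply le_antisymm _ (sup_le hΩZL hWZL)
    apply iSup_le
    intro S u hu
    have hS := Helper53.isSyl_of_sylow S
    set S' := (S : Subgroup ↥L).map L.subtype with hS'
    have huZL : u ∈ ZL := (le_iSup (fun S : Sylow p ↥L =>
      Cfsg.omegaOne p (((S : Subgroup ↥L).map L.subtype) ⊓
      Subgroup.centralizer (((S : Subgroup ↥L).map L.subtype : Subgroup H) : Set H))) S) hu
    obtain ⟨huS, huc, hup⟩ := (mem_omegaOne_center_iff p _ u).1 hu
    obtain ⟨τ, h1, _, h3, _, h5, _⟩ := Trace.exists_trace V L S' hVcomm hLV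
    have hidx : ¬ p ∣ S'.relIndex L := (Helper53.isSyl_iff_relIndex.1 hS).2.2
    have hy : τ u ∈ ΩL := (mem_omegaOne_center_iff p _ _).2
      ⟨hVL (h1 u (hZLV huZL)), h3 u (hZLV huZL) huc,
        ((mem_omegaOne_center_iff p _ _).1 (h1 u (hZLV huZL))).2.2⟩
    have hc : τ u * (u ^ S'.relIndex L)⁻¹ ∈ W := by
      apply h5 u (hZLV huZL)
      intro b hb
      rw [← Helper53.pRes_sup_isSyl hS,
        Helper53.mem_sup_of_le_normalizer' (hS.le.trans hLR)] at hb
      obtain ⟨k, hk, t, ht, rfl⟩ := hb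
      have e1 : k * t * u * (k * t)⁻¹ * u⁻¹ = ⁅k, u⁆ := by
        rw [commutatorElement_def, mul_assoc k t u, huc t ht]
        group
      rw [e1, hW, Subgroup.commutator_comm]
      exact Subgroup.commutator_mem_commutator hk huZL
    apply Helper52.mem_of_pow_mem_of_coprime _ (a := S'.relIndex L) (b := p)
    · have e2 : u ^ S'.relIndex L = (τ u * (u ^ S'.relIndex L)⁻¹)⁻¹ * τ u := by group
      rw [e2]
      exact Subgroup.mul_mem _ (Subgroup.inv_mem _ (Subgroup.mem_sup_right hc))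
        (Subgroup.mem_sup_left hy)
    · rw [hup]; exact Subgroup.one_mem _
    · exact ((Nat.Prime.coprime_iff_not_dvd Fact.out).2 hidx).symm
  refine ⟨hfirst, le_antisymm ?_ (Subgroup.commutator_mono le_rfl hRL)⟩
  rw [Subgroup.commutator_le]
  intro z hz g hg
  rw [hfirst, Helper53.mem_sup_of_le_normalizer (hΩLL.trans hLW)] at hz
  obtain ⟨a, ha, w, hw, rfl⟩ := hz
  obtain ⟨haL, hac, _⟩ := (mem_omegaOne_center_iff p _ a).1 ha
  have e1 : g * w⁻¹ * g⁻¹ ∈ W := (Subgroup.mem_normalizer_iff.1 (hLW hg) w⁻¹).1 (W.inv_mem hw)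
  have e2 : a * (w * (g * w⁻¹ * g⁻¹)) * a⁻¹ ∈ W :=
    (Subgroup.mem_normalizer_iff.1 (hLW haL) _).1 (W.mul_mem hw e1)
  have e3 : ⁅a * w, g⁆ = a * (w * (g * w⁻¹ * g⁻¹)) * a⁻¹ := by
    have hcomm : Commute g a := hac g hg
    have h4 : a⁻¹ * g⁻¹ = g⁻¹ * a⁻¹ := (hcomm.inv_inv).symm.eq
    rw [commutatorElement_def, mul_inv_rev]
    calc a * w * g * (w⁻¹ * a⁻¹) * g⁻¹ = a * w * g * w⁻¹ * (a⁻¹ * g⁻¹) := by group
      _ = a * w * g * w⁻¹ * (g⁻¹ * a⁻¹) := by rw [h4]
      _ = a * (w * (g * w⁻¹ * g⁻¹)) * a⁻¹ := by group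
  rw [e3]
  exact e2

end Cfsg.Agent.S2823
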