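import Cfsg.Statements.S2825
import Cfsg.Agent.Lib.Helper52.PRed2

set_option autoImplicit false
open Cfsg

namespace Cfsg.Agent.S2825

open Cfsg.Agent.Lib.Helper52

theorem aux {H : Type*} [Group H] [Finite H] {p : ℕ} [Fact p.Prime] (L : Subgroup H)
    (hL : L.IsSubnormal) :
    (∀ V : Subgroup H, PRin p ⊤ V → PRin p L (V ⊓ L)) ∧
    (∀ V : Subgroup H, PRin p ⊤ V →
      L ⊓ Subgroup.centralizer ((V ⊓ L : Subgroup H) : Set H) ≤ Subgroup.centralizer (V : Set H)) ∧
    L ⊓ Subgroup.centralizer (Cfsg.largestPReduced p H : Set H) ≤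
      Subgroup.centralizer (Cfsg.largestPReducedOf p L : Set H) := by
  induction hL with
  | top =>
    refine ⟨?_, ?_, ?_⟩
    · intro V hV
      rwa [inf_top_eq]
    · intro V _
      rw [inf_top_eq]
      exact inf_le_right
    · exact inf_le_right.trans (Subgroup.centralizer_le (PRin_largestOf ⊤).le_largest)
  | step L K hLK _ hN ih =>
    have hKL : K ≤ Subgroup.normalizer (L : Set H) :=
      (Subgroup.normal_subgroupOf_iff_le_normalizer hLK).1 hN
    have hinf : ∀ V : Subgroup H, V ⊓ K ⊓ L = V ⊓ L := by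
      intro V
      rw [inf_assoc, inf_eq_right.2 hLK]
    refine ⟨?_, ?_, ?_⟩
    · intro V hV
      have h1 := (ih.1 V hV).inf_normal hLK hKL
      rwa [hinf] at h1
    · intro V hV
      have h1 := (ih.1 V hV).inf_centralizer_inf_le hLK hKL
      rw [hinf] at h1
      exact (le_inf (inf_le_left.trans hLK) h1).trans (ih.2.1 V hV)
    · have h1 : L ⊓ Subgroup.centralizer (Cfsg.largestPReduced p H : Set H) ≤
          L ⊓ Subgroup.centralizer (Cfsg.largestPReducedOf p K : Set H) :=
        le_inf inf_le_left ((inf_le_inf_right _ hLK).trans ih.2.2)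
      exact h1.trans (inf_centralizer_largestOf_le hLK hKL)

/-- Let L be a subnormal subgroup of the finite group H, p a prime, Y_H and Y_L the largest p-reduced normal subgroups. Then Y_H ∩ L = Y_H ∩ Y_L and this subgroup is a p-reduced normal subgroup of L; C_L(Y_L) = C_L(Y_H) = C_L(Y_H ∩ L); and if O^p(H) ≤ L, then [Y_L, L] = 1 if and only if [Y_H, H] = 1. -/
theorem result {H : Type*} [Group H] [Finite H] {p : ℕ} [Fact p.Prime] (L : Subgroup H) (hL : L.IsSubnormal) : Cfsg.largestPReduced p H ⊓ L = Cfsg.largestPReduced p H ⊓ (Cfsg.largestPReducedOf p L) ∧ Cfsg.IsPReducedNormal p ((Cfsg.largestPReduced p H ⊓ L).subgroupOf L) ∧ L ⊓ Subgroup.centralizer ((Cfsg.largestPReducedOf p L : Subgroup H) : Set H) = L ⊓ Subgroup.centralizer (Cfsg.largestPReduced p H : Set H) ∧ L ⊓ Subgroup.centralizer (Cfsg.largestPReduced p H : Set H) = L ⊓ Subgroup.centralizer ((Cfsg.largestPReduced p H ⊓ L : Subgroup H) : Set H) ∧ (Cfsg.pResidual p H ≤ L → (⁅(Cfsg.largestPReducedOf p L), L⁆ = ⊥ ↔ ⁅Cfsg.largestPReduced p H, (⊤ : Subgroup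 H)⁆ = ⊥)) := by
  obtain ⟨h1, h2, h3⟩ := aux (p := p) L hL
  have hY : PRin p ⊤ (Cfsg.largestPReduced p H) := PRin_largest
  have hYL := h1 _ hY
  have hle : Cfsg.largestPReduced p H ⊓ L ≤ Cfsg.largestPReducedOf p L := hYL.le_largestOf
  have e3 : L ⊓ Subgroup.centralizer ((Cfsg.largestPReducedOf p L : Subgroup H) : Set H) =
      L ⊓ Subgroup.centralizer (Cfsg.largestPReduced p H : Set H) := by
    apply le_antisymm
    · exact le_inf inf_le_left ((inf_le_inf_left L (Subgroup.centralizer_le hle)).trans (h2 _ hY))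
    · exact le_inf inf_le_left h3
  refine ⟨?_, ?_, e3, ?_, ?_⟩
  · apply le_antisymm
    · exact le_inf inf_le_left hle
    · exact inf_le_inf_left _ (PRin_largestOf L).1
  · rw [isPReducedNormal_subtype_iff, Subgroup.map_subgroupOf_eq_of_le inf_le_right]
    exact hYL
  · apply le_antisymm
    · exact inf_le_inf_left L (Subgroup.centralizer_le inf_le_left)
    · exact le_inf inf_le_left (h2 _ hY)
  · intro hRL
    constructor
    · intro h
      have h4 : L ≤ Subgroup.centralizer ((Cfsg.largestPReducedOf p L : Subgroup H) : Set H) := by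
        rw [Subgroup.le_centralizer_iff]
        exact Subgroup.commutator_eq_bot_iff_le_centralizer.1 h
      have h5 : L ≤ Subgroup.centralizer (Cfsg.largestPReduced p H : Set H) := by
        have : L ≤ L ⊓ Subgroup.centralizer (Cfsg.largestPReduced p H : Set H) := by
          rw [← e3]
          exact le_inf le_rfl h4
        exact this.trans inf_le_right
      have h6 : (⊤ : Subgroup H) ≤ Subgroup.centralizer (Cfsg.largestPReduced p H : Set H) := by
        apply hY.2.2.2 ⊤ le_rfl (by rw [Subgroup.normalizer_eq_top])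
        intro d _
        obtain ⟨k, hk⟩ := exists_pow_mem_pResOf (p := p) (Subgroup.mem_top d)
        rw [pResOf_top] at hk
        exact ⟨k, h5 (hRL hk)⟩
      rw [Subgroup.commutator_eq_bot_iff_le_centralizer, Subgroup.le_centralizer_iff]
      exact h6
    · intro h
      have h4 : (⊤ : Subgroup H) ≤ Subgroup.centralizer (Cfsg.largestPReduced p H : Set H) := by
        rw [Subgroup.le_centralizer_iff]
        exact Subgroup.commutator_eq_bot_iff_le_centralizer.1 h
      have h5 : L ≤ L ⊓ Subgroup.centralizer ((Cfsg.largestPReducedOf p L : Subgroup H) : Set H) := by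
        rw [e3]
        exact le_inf le_rfl (le_top.trans h4)
      rw [Subgroup.commutator_eq_bot_iff_le_centralizer, Subgroup.le_centralizer_iff]
      exact h5.trans inf_le_right

end Cfsg.Agent.S2825
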