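import Cfsg.Statements.S2826
import Cfsg.Agent.Lib.Helper37.TraceCor
import Cfsg.Agent.Lib.Helper53.Basic

set_option autoImplicit false
open Cfsg

namespace Cfsg.Agent.S2826

open scoped commutatorElement

/-- Let H be a finite group of characteristic p, T a Sylow p-subgroup, and V a normal elementary abelian p-subgroup of H containing Ω₁(Z(T)). Then C_H(Ω₁(Z(T))) = C_H([V, O^p(H)] ∩ Ω₁(Z(T))), O^p(H) being generated by the elements of order prime to p. -/
theorem result {H : Type*} [Group H] [Finite H] {p : ℕ} [Fact p.Prime] (hH : Subgroup.centralizer (Cfsg.pCore p H : Set H) ≤ Cfsg.pCore p H) (T : Sylow p H) (V : Subgroup H) [V.Normal] (hV : Cfsg.IsElementaryAbelian p V) (hZV : (Cfsg.omegaOne p ((T : Subgroup H) ⊓ Subgroup.centralizer (((T : Subgroup H) : Subgroup H) : Set H))) ≤ V) : Subgroup.centralizer ((Cfsg.omegaOne p ((T : Subgroup H) ⊓ Subgroup.centralizer (((T : Subgroup H) : Subgroup H) : Set H))) : Set H) = Subgroup.centralizer (((⁅V, Cfsg.pResidual p H⁆ ⊓ (Cfsg.omegaOne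 p ((T : Subgroup H) ⊓ Subgroup.centralizer (((T : Subgroup H) : Subgroup H) : Set H)))) : Subgroup H) : Set H) := by
  apply le_antisymm (Subgroup.centralizer_le inf_le_right)
  set Z := Cfsg.omegaOne p ((T : Subgroup H) ⊓ Subgroup.centralizer (((T : Subgroup H) : Subgroup H) : Set H))
    with hZ
  set C := Subgroup.centralizer (((⁅V, Cfsg.pResidual p H⁆ ⊓ Z) : Subgroup H) : Set H) with hC
  have hVp : IsPGroup p ↥V := by
    intro v
    refine ⟨1, ?_⟩
    apply Subtype.ext
    simpa using hV.2 v v.2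
  have hVT : V ≤ (T : Subgroup H) :=
    (Lib.Helper53.le_pCore inferInstance hVp).trans (Lib.Helper53.pCore_le_sylow T)
  have hTC : (T : Subgroup H) ≤ C := by
    intro t ht
    rw [hC, Subgroup.mem_centralizer_iff]
    intro z hz
    have := ((Lib.Helper37.mem_omegaOne_center_iff p _ z).1 hz.2).2.1 t ht
    exact this.symm
  have hidx : ¬ p ∣ (T : Subgroup H).relIndex C := by
    intro h
    apply T.not_dvd_index
    rw [← Subgroup.relIndex_mul_index hTC]
    exact Dvd.dvd.mul_right h _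
  have hres : (Cfsg.pResidual p H).Normal := Lib.Helper53.pResidual_normal p H
  intro x hx
  rw [Subgroup.mem_centralizer_iff]
  intro u hu
  obtain ⟨huT, huc, hup⟩ := (Lib.Helper37.mem_omegaOne_center_iff p _ u).1 hu
  have key := Lib.Helper37.commute_of_trace V C (T : Subgroup H) ⁅V, Cfsg.pResidual p H⁆
    (fun a ha b hb => congrArg Subtype.val (hV.1.is_comm.comm ⟨a, ha⟩ ⟨b, hb⟩))
    (by rw [Subgroup.normalizer_eq_top]; exact le_top) hTC hidx (hZV hu) hup huc ?_ ?_ x hx
  · exact key.symm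
  · intro b _
    have hb : b ∈ Cfsg.pResidual p H ⊔ (T : Subgroup H) := by
      rw [Lib.Helper53.pResidual_sup_sylow]; exact Subgroup.mem_top b
    rw [← SetLike.mem_coe, Subgroup.normal_mul] at hb
    obtain ⟨k, hk, t, ht, rfl⟩ := hb
    have h1 : k * t * u * (k * t)⁻¹ * u⁻¹ = ⁅k, u⁆ := by
      rw [commutatorElement_def, mul_assoc k t u, huc t ht]
      group
    rw [h1, Subgroup.commutator_comm]
    exact Subgroup.commutator_mem_commutator hk (hZV hu)
  · rintro c ⟨hcV, hcW⟩ hcT b hb
    have hcZ : c ∈ Z := (Lib.Helper37.mem_omegaOne_center_iff p _ c).2 ⟨hVT hcV, hcT, hV.2 c hcV⟩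
    exact ((Subgroup.mem_centralizer_iff.1 hb) c ⟨hcW, hcZ⟩).symm

end Cfsg.Agent.S2826
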