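import Cfsg.Statements.S2827
import Cfsg.Agent.Lib.Helper53.Basic

set_option autoImplicit false
open Cfsg

namespace Cfsg.Agent.S2827

open Cfsg.Agent.Lib.Helper53

/-- Let H be a finite p-irreducible group (not p-closed, and O^p(H) lies in every normal subgroup that is not p-closed) and T a Sylow p-subgroup. Then H is generated by the conjugates of T and H = H'·T; O^p(H) ≤ H'; and for every normal subgroup Y of T not contained in O_p(H), O^p(H) = [O^p(H), Y] and O^p(H) is contained in the normal closure of Y in H. -/
theorem result {H : Type*} [Group H] [Finite H] {p : ℕ} [Fact p.Prime] (hH : Cfsg.IsPIrreducible p H) (T : Sylow p H) : Subgroup.normalClosure ((T : Subgroup H) : Set H) = ⊤ ∧ commutator H ⊔ (T : Subgroup H) = ⊤ ∧ Cfsg.pResidual p H ≤ commutator H ∧ ∀ Y : Subgroup H, Y ≤ (T : Subgroup H) → (T : Subgroup H) ≤ Subgroup.normalizer (Y : Set H) → ¬ Y ≤ Cfsg.pCore p H → ⁅Cfsg.pResidual p H, Y⁆ = Cfsg.pResidual p H ∧ Cfsg.pResidual p H ≤ Subgroup.normalClosure (Y : Set H) := by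
  obtain ⟨hnc, hirr⟩ := hH
  have hRT := pResidual_sup_sylow T
  have hRn := pResidual_normal p H
  have h1 : Subgroup.normalClosure ((T : Subgroup H) : Set H) = ⊤ := by
    have h2 : pResidual p H ≤ Subgroup.normalClosure ((T : Subgroup H) : Set H) := by
      apply hirr _ inferInstance
      intro hc
      exact hnc (isPClosed_of_sylow_le_pCore T
        (le_pCore_of_isPClosed_normal Subgroup.le_normalClosure T.isPGroup' hc))
    rw [eq_top_iff, ← hRT]
    exact sup_le h2 Subgroup.le_normalClosure
  have h2 : commutator H ⊔ (T : Subgroup H) = ⊤ := by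
    have : (commutator H ⊔ (T : Subgroup H)).Normal := Subgroup.Normal.of_commutator_le H le_sup_left
    rw [eq_top_iff, ← h1]
    exact Subgroup.normalClosure_le_normal (le_sup_right (a := commutator H))
  refine ⟨h1, h2, ?_, ?_⟩
  · apply pResidual_le_of_sup_eq_top (A := (T : Subgroup H)) Subgroup.le_normalizer_of_normal
      T.isPGroup'
    rw [sup_comm]; exact h2
  · intro Y hYT hTY hY
    have hYp : IsPGroup p Y := T.isPGroup'.to_le hYT
    have h3 : pResidual p H ≤ Subgroup.normalClosure (Y : Set H) := by
      apply hirr _ inferInstance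
      intro hc
      exact hY (le_pCore_of_isPClosed_normal Subgroup.le_normalClosure hYp hc)
    refine ⟨le_antisymm (Subgroup.commutator_le_left _ _) ?_, h3⟩
    have hDn : (⁅pResidual p H, Y⁆ : Subgroup H).Normal := by
      rw [← Subgroup.normalizer_eq_top_iff, eq_top_iff, ← hRT]
      exact sup_le (Subgroup.normalizer_commutator_ge_left _ _)
        (le_normalizer_commutator Subgroup.le_normalizer_of_normal hTY)
    have hYDn : (Y ⊔ ⁅pResidual p H, Y⁆ : Subgroup H).Normal := by
      rw [← Subgroup.normalizer_eq_top_iff, eq_top_iff, ← hRT]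
      exact sup_le (le_normalizer_sup_commutator _ _)
        (le_normalizer_sup hTY Subgroup.le_normalizer_of_normal)
    apply pResidual_le_of_pResidual_le_sup (A := Y) Subgroup.le_normalizer_of_normal hYp
    exact h3.trans (Subgroup.normalClosure_le_normal (le_sup_left (a := Y)))

end Cfsg.Agent.S2827
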