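import Cfsg.Statements.S2828
import Cfsg.Agent.Lib.Helper53.Basic

set_option autoImplicit false
open Cfsg

namespace Cfsg.Agent.S2828

open Cfsg.Agent.Lib.Helper53

theorem closed_of_map {H : Type*} [Group H] [Finite H] {p : ℕ} [Fact p.Prime] (D : Subgroup H)
    [D.Normal] (hD : IsPGroup p ↥D) (N : Subgroup H)
    (h : IsPClosed p ↥(N.map (QuotientGroup.mk' D))) : IsPClosed p ↥N := by
  rw [isPClosed_sub_iff] at h ⊢
  intro A hA hp
  have h1 := h (A.map (QuotientGroup.mk' D)) (Subgroup.map_mono hA) (hp.map _)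
  have h2 : A ≤ (pCoreOf p (N.map (QuotientGroup.mk' D))).comap (QuotientGroup.mk' D) ⊓ N :=
    le_inf (Subgroup.map_le_iff_le_comap.1 h1) hA
  apply h2.trans
  apply le_pCoreOf inf_le_right
  · apply le_normalizer_inf _ Subgroup.le_normalizer
    refine le_trans ?_ (Subgroup.le_normalizer_comap (QuotientGroup.mk' D))
    rw [← Subgroup.map_le_iff_le_comap]
    exact le_normalizer_pCoreOf p _
  · apply IsPGroup.to_inf_left
    apply (pCoreOf_isPGroup p _).comap_of_ker_isPGroup
    rwa [QuotientGroup.ker_mk']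

theorem closed_of_comap {H : Type*} [Group H] [Finite H] {p : ℕ} [Fact p.Prime] (D : Subgroup H)
    [D.Normal] (N : Subgroup (H ⧸ D))
    (h : IsPClosed p ↥(N.comap (QuotientGroup.mk' D))) : IsPClosed p ↥N :=
  isPClosed_of_surjective ((QuotientGroup.mk' D).subgroupComap N)
    ((QuotientGroup.mk' D).subgroupComap_surjective_of_surjective N
      (QuotientGroup.mk'_surjective D)) h

/-- Let H be a finite group, p a prime and D a normal p-subgroup of H. Then H is p-irreducible if and only if H/D is p-irreducible, and H is strongly p-irreducible if and only if H/D is strongly p-irreducible. -/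
theorem result {H : Type*} [Group H] [Finite H] {p : ℕ} [Fact p.Prime] (D : Subgroup H) [D.Normal] (hD : IsPGroup p ↥D) : (Cfsg.IsPIrreducible p H ↔ Cfsg.IsPIrreducible p (H ⧸ D)) ∧ (Cfsg.IsStronglyPIrreducible p H ↔ Cfsg.IsStronglyPIrreducible p (H ⧸ D)) := by
  have hsurj := QuotientGroup.mk'_surjective D
  have F1 : IsPClosed p H ↔ IsPClosed p (H ⧸ D) :=
    ⟨isPClosed_of_surjective _ hsurj, isPClosed_of_quotient D hD⟩
  have F2 := map_pResidual (p := p) (QuotientGroup.mk' D) hsurj
  have F3 := pCore_quotient D hD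
  have hDc : D ≤ pCore p H := le_pCore inferInstance hD
  have down : ∀ N : Subgroup (H ⧸ D), pResidual p H ≤ N.comap (QuotientGroup.mk' D) →
      pResidual p (H ⧸ D) ≤ N := by
    intro N h
    rw [← F2]
    exact Subgroup.map_le_iff_le_comap.2 h
  have up : ∀ N : Subgroup H, N.Normal → pResidual p (H ⧸ D) ≤ N.map (QuotientGroup.mk' D) →
      pResidual p H ≤ N := by
    intro N hN h
    rw [← F2, Subgroup.map_le_iff_le_comap, Subgroup.comap_map_eq, QuotientGroup.ker_mk',
      sup_comm] at h
    exact pResidual_le_of_pResidual_le_sup Subgroup.le_normalizer_of_normal hD h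
  refine ⟨⟨?_, ?_⟩, ⟨?_, ?_⟩⟩
  · rintro ⟨hnc, hirr⟩
    refine ⟨fun h => hnc (F1.2 h), fun N hN hNc => down N ?_⟩
    exact hirr _ inferInstance (fun h => hNc (closed_of_comap D N h))
  · rintro ⟨hnc, hirr⟩
    refine ⟨fun h => hnc (F1.1 h), fun N hN hNc => up N hN ?_⟩
    exact hirr _ (hN.map _ hsurj) (fun h => hNc (closed_of_map D hD N h))
  · rintro ⟨hnc, hirr⟩
    refine ⟨fun h => hnc (F1.2 h), fun N hN hNc => down N ?_⟩
    apply hirr _ inferInstance
    intro h
    apply hNc
    have := Subgroup.map_mono (f := QuotientGroup.mk' D) h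
    rwa [Subgroup.map_commutator, Subgroup.map_comap_eq_self_of_surjective hsurj,
      Subgroup.map_top_of_surjective _ hsurj, ← F3] at this
  · rintro ⟨hnc, hirr⟩
    refine ⟨fun h => hnc (F1.1 h), fun N hN hNc => up N hN ?_⟩
    apply hirr _ (hN.map _ hsurj)
    intro h
    apply hNc
    rw [F3, ← Subgroup.map_top_of_surjective _ hsurj, ← Subgroup.map_commutator,
      Subgroup.map_le_iff_le_comap, Subgroup.comap_map_eq, QuotientGroup.ker_mk',
      sup_eq_left.2 hDc] at h
    exact h

end Cfsg.Agent.S2828
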