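import Cfsg.Statements.S2829
import Cfsg.Agent.Lib.Helper53.Basic
-- import your own Cfsg.Agent.* helpers here

set_option autoImplicit false
open Cfsg

namespace Cfsg.Agent.S2829

open Cfsg.Agent.Lib.Helper53
open scoped commutatorElement

/-- Every strongly p-irreducible finite group is p-irreducible. -/
theorem result {H : Type*} [Group H] [Finite H] {p : ℕ} [Fact p.Prime] (hH : Cfsg.IsStronglyPIrreducible p H) : Cfsg.IsPIrreducible p H := by
  refine ⟨hH.1, fun N hN hNc => hH.2 N hN ?_⟩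
  intro hle
  apply hNc
  obtain ⟨P, hP⟩ := exists_isSyl p N
  apply isPClosed_of_isSyl hP
  rw [Subgroup.le_normalizer_iff]
  intro n hn x hx
  have h1 : ⁅n, x⁆ ∈ pCore p H ⊓ N := by
    refine ⟨hle (Subgroup.commutator_mem_commutator hn (Subgroup.mem_top x)), ?_⟩
    have : ⁅n, x⁆ = n * (x * n⁻¹ * x⁻¹) := by rw [commutatorElement_def]; group
    rw [this]
    exact N.mul_mem hn (hN.conj_mem _ (N.inv_mem hn) x)
  have h2 : ⁅n, x⁆ ∈ P := pCoreOf_le_isSyl hP (pCore_inf_le p N h1)
  have : n * x * n⁻¹ = ⁅n, x⁆ * x := by rw [commutatorElement_def]; group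
  rw [this]
  exact P.mul_mem h2 hx

end Cfsg.Agent.S2829
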