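import Cfsg.Statements.S2831
import Cfsg.Agent.Lib.Helper53.Basic

set_option autoImplicit false
open Cfsg

namespace Cfsg.Agent.S2831

open Cfsg.Agent.Lib.Helper53

/-- Let H be a finite group with Sylow p-subgroup T such that H is T-minimal (H is generated by the conjugates of T and T lies in exactly one maximal subgroup of H). Then H is p-irreducible: H is not p-closed and O^p(H) lies in every normal subgroup of H that is not p-closed. -/
theorem result {H : Type*} [Group H] [Finite H] {p : ℕ} [Fact p.Prime] (T : Sylow p H) (hmin : Cfsg.IsMinimalOver (T : Subgroup H)) : Cfsg.IsPIrreducible p H := by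
  have hmin' := hmin
  obtain ⟨hnc, M, ⟨hM, hTM⟩, -⟩ := hmin
  have key : ∀ X : Subgroup H, (T : Subgroup H) ≤ X → X ≠ ⊤ → X ≤ M :=
    fun X h1 h2 => IsMinimalOver.le_of_ne_top hmin' hM hTM h1 h2
  constructor
  · intro hc
    have hTn : (T : Subgroup H).Normal := hc T
    rw [Subgroup.normalClosure_eq_self] at hnc
    exact hM.1 (top_le_iff.1 (hnc ▸ hTM))
  · intro N hN hNc
    have hS : IsSyl p ((T : Subgroup H) ⊓ N) N :=
      (isSyl_top_of_sylow T).inf_normal le_top Subgroup.le_normalizer_of_normal
    have hfr := frattini_sup hS le_top Subgroup.le_normalizer_of_normal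
    have h1 : Subgroup.normalizer (((T : Subgroup H) ⊓ N : Subgroup H) : Set H) ≠ ⊤ := by
      intro h
      apply hNc
      apply isPClosed_of_isSyl hS
      rw [h]
      exact le_top
    have h2 : (T : Subgroup H) ≤ Subgroup.normalizer (((T : Subgroup H) ⊓ N : Subgroup H) : Set H) :=
      le_trans (le_inf Subgroup.le_normalizer Subgroup.le_normalizer_of_normal)
        Subgroup.inf_normalizer_le_normalizer_inf
    have h3 := key _ h2 h1
    have h4 : (T : Subgroup H) ⊔ N = ⊤ := by
      by_contra hne
      have h5 := key ((T : Subgroup H) ⊔ N) le_sup_left hne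
      have : ⊤ ≤ M := hfr ▸ sup_le (le_sup_right.trans h5) (inf_le_right.trans h3)
      exact hM.1 (top_le_iff.1 this)
    exact pResidual_le_of_sup_eq_top Subgroup.le_normalizer_of_normal T.isPGroup' h4

end Cfsg.Agent.S2831
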