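import Cfsg.Statements.S2832
import Cfsg.Agent.Lib.Helper53.Basic

set_option autoImplicit false
open Cfsg

namespace Cfsg.Agent.S2832

open Cfsg.Agent.Lib.Helper53

/-- Let H be a finite group with Sylow p-subgroup T such that H is T-minimal (generated by the conjugates of T, with T in exactly one maximal subgroup), and let N be a normal subgroup of H. Then either H/N is a p-group or H/N is minimal over the image of T in the same sense. -/
theorem result {H : Type*} [Group H] [Finite H] {p : ℕ} [Fact p.Prime] (T : Sylow p H) (hmin : Cfsg.IsMinimalOver (T : Subgroup H)) (N : Subgroup H) [N.Normal] : IsPGroup p (H ⧸ N) ∨ Cfsg.IsMinimalOver ((T : Subgroup H).map (QuotientGroup.mk' N)) := by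
  have hmin' := hmin
  obtain ⟨hnc, M, ⟨hM, hTM⟩, -⟩ := hmin
  have key : ∀ X : Subgroup H, (T : Subgroup H) ≤ X → X ≠ ⊤ → X ≤ M :=
    fun X h1 h2 => IsMinimalOver.le_of_ne_top hmin' hM hTM h1 h2
  by_cases h : (T : Subgroup H) ⊔ N = ⊤
  · left
    exact isPGroup_quotient_of_pResidual_le
      (pResidual_le_of_sup_eq_top Subgroup.le_normalizer_of_normal T.isPGroup' h)
  · right
    have hNM : N ≤ M := le_sup_right.trans (key _ le_sup_left h)
    have hsurj := QuotientGroup.mk'_surjective N
    have hcm : (M.map (QuotientGroup.mk' N)).comap (QuotientGroup.mk' N) = M := by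
      rw [Subgroup.comap_map_eq, QuotientGroup.ker_mk', sup_eq_left.2 hNM]
    have hMne : M.map (QuotientGroup.mk' N) ≠ ⊤ := by
      intro h1
      rw [h1, Subgroup.comap_top] at hcm
      exact hM.1 hcm.symm
    refine ⟨?_, M.map (QuotientGroup.mk' N), ⟨⟨hMne, ?_⟩, Subgroup.map_mono hTM⟩, ?_⟩
    · rw [Subgroup.coe_map, ← Subgroup.map_normalClosure _ _ hsurj, hnc,
        Subgroup.map_top_of_surjective _ hsurj]
    · intro X hX
      have h1 : M ≤ X.comap (QuotientGroup.mk' N) := by
        rw [← hcm]; exact Subgroup.comap_mono hX.le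
      have h2 : M ≠ X.comap (QuotientGroup.mk' N) := by
        intro h3
        have := congrArg (Subgroup.map (QuotientGroup.mk' N)) h3
        rw [Subgroup.map_comap_eq_self_of_surjective hsurj] at this
        exact hX.ne this
      have h3 := hM.2 _ (lt_of_le_of_ne h1 h2)
      have := congrArg (Subgroup.map (QuotientGroup.mk' N)) h3
      rwa [Subgroup.map_comap_eq_self_of_surjective hsurj,
        Subgroup.map_top_of_surjective _ hsurj] at this
    · rintro X ⟨hX, hTX⟩
      have h1 : (T : Subgroup H) ≤ X.comap (QuotientGroup.mk' N) :=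
        Subgroup.map_le_iff_le_comap.1 hTX
      have h2 : X.comap (QuotientGroup.mk' N) ≠ ⊤ := by
        intro h3
        have := congrArg (Subgroup.map (QuotientGroup.mk' N)) h3
        rw [Subgroup.map_comap_eq_self_of_surjective hsurj,
          Subgroup.map_top_of_surjective _ hsurj] at this
        exact hX.1 this
      have h3 := Subgroup.map_mono (f := QuotientGroup.mk' N) (key _ h1 h2)
      rw [Subgroup.map_comap_eq_self_of_surjective hsurj] at h3
      by_contra hne
      exact hMne (hX.2 _ (lt_of_le_of_ne h3 hne))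

end Cfsg.Agent.S2832
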