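import Cfsg.Statements.S2833
import Cfsg.Agent.Lib.Helper53.Large4

set_option autoImplicit false
open Cfsg

namespace Cfsg.Agent.S2833

open Cfsg.Agent.Lib.Helper53
open scoped commutatorElement

theorem le_centralizer_sup {G : Type*} [Group G] {D X X' : Subgroup G}
    (h1 : D ≤ Subgroup.centralizer (X : Set G)) (h2 : D ≤ Subgroup.centralizer (X' : Set G)) :
    D ≤ Subgroup.centralizer ((X ⊔ X' : Subgroup G) : Set G) := by
  rw [Subgroup.le_centralizer_iff] at h1 h2 ⊢
  exact sup_le h1 h2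

theorem norm_sup {G : Type*} [Group G] [Finite G] {V X B : Subgroup G} (hB : B ≤ V) :
    X ≤ Subgroup.normalizer ((⁅V, X⁆ ⊔ B : Subgroup G) : Set G) := by
  intro x hx
  rw [← cj_eq_self_iff]
  apply cj_eq_of_le
  rw [cj_sup]
  apply sup_le
  · rw [cj_eq_self_iff.2 (Subgroup.normalizer_commutator_ge_right V X hx)]
    exact le_sup_left
  · rintro _ ⟨b, hb, rfl⟩
    have e : (MulAut.conj x).toMonoidHom b = ⁅x, b⁆ * b := by
      change x * b * x⁻¹ = _
      rw [commutatorElement_def]; group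
    rw [e]
    apply mul_mem _ (Subgroup.mem_sup_right hb)
    apply Subgroup.mem_sup_left
    rw [Subgroup.commutator_comm]
    exact Subgroup.commutator_mem_commutator hx (hB hb)

/-- Let V be a subgroup of a finite group G normalized by the subgroup L, let X ≤ L and g ∈ L with [V, X, X] = 1 and L generated by X and gXg⁻¹. Put W = [V, L]. Then W = [V, X]·[V, gXg⁻¹], C_W(X) = [V, X], and C_W(L) = [V, X] ∩ [V, gXg⁻¹]. -/
theorem result {G : Type*} [Group G] [Finite G] (V L : Subgroup G) (hLV : L ≤ Subgroup.normalizer (V : Set G)) (X : Subgroup G) (hX : X ≤ L) (g : G) (hg : g ∈ L) (hq : ⁅⁅V, X⁆, X⁆ = ⊥) (hgen : X ⊔ X.map (MulAut.conj g).toMonoidHom = L) (W : Subgroup G) (hW : W = ⁅V, L⁆) : ⁅V, X⁆ ⊔ ⁅V, X.map (MulAut.conj g).toMonoidHom⁆ = W ∧ W ⊓ Subgroup.centralizer (X : Set G) = ⁅V, X⁆ ∧ W ⊓ Subgroup.centralizer (L : Set G) = ⁅V, X⁆ ⊓ ⁅V, X.map (MulAut.conj g).toMonoidHom⁆ := by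
  subst hW
  set X' := X.map (MulAut.conj g).toMonoidHom with hX'
  have hX'L : X' ≤ L := cj_le_of_le_of_mem hX hg
  have hVg : V.map (MulAut.conj g).toMonoidHom = V := cj_eq_self_iff.2 (hLV hg)
  have hBA : ⁅V, X'⁆ = (⁅V, X⁆).map (MulAut.conj g).toMonoidHom := by
    rw [Subgroup.map_commutator, hVg]
  have hAV : ⁅V, X⁆ ≤ V := Subgroup.le_normalizer_iff_commutator_le_left.1 (hX.trans hLV)
  have hBV : ⁅V, X'⁆ ≤ V := Subgroup.le_normalizer_iff_commutator_le_left.1 (hX'L.trans hLV)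
  have hAC : ⁅V, X⁆ ≤ Subgroup.centralizer (X : Set G) :=
    Subgroup.commutator_eq_bot_iff_le_centralizer.1 hq
  have hBC : ⁅V, X'⁆ ≤ Subgroup.centralizer (X' : Set G) := by
    rw [hBA, hX', centralizer_cj]
    exact cj_mono g hAC
  have h1 : ⁅V, X⁆ ⊔ ⁅V, X'⁆ = ⁅V, L⁆ := by
    apply le_antisymm
    · exact sup_le (Subgroup.commutator_mono le_rfl hX) (Subgroup.commutator_mono le_rfl hX'L)
    · rw [← hgen, Subgroup.commutator_comm]
      apply commutator_sup_le
      · exact norm_sup hBV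
      · rw [sup_comm]
        exact norm_sup hAV
      · rw [Subgroup.commutator_comm]; exact le_sup_left
      · rw [Subgroup.commutator_comm]; exact le_sup_right
  have h2 : ⁅V, L⁆ ⊓ Subgroup.centralizer (X : Set G) = ⁅V, X⁆ := by
    apply le_antisymm
    · rintro w ⟨hw, hwC⟩
      rw [SetLike.mem_coe, ← h1, sup_comm] at hw
      obtain ⟨b, hb, a, ha, rfl⟩ := (mem_sup_of_le_normalizer
        (hBV.trans (Subgroup.normalizer_commutator_ge_left V X))).1 hw
      have hbC : b ∈ Subgroup.centralizer (X : Set G) := by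
        have : b = (b * a) * a⁻¹ := by group
        rw [this]
        exact mul_mem hwC (inv_mem (hAC ha))
      have hbL : b ∈ Subgroup.centralizer (L : Set G) := by
        have h3 : Subgroup.centralizer (X : Set G) ⊓ Subgroup.centralizer (X' : Set G)
            ≤ Subgroup.centralizer ((X ⊔ X' : Subgroup G) : Set G) :=
          le_centralizer_sup inf_le_left inf_le_right
        rw [hgen] at h3
        exact h3 ⟨hbC, hBC hb⟩
      have hbA : b ∈ ⁅V, X⁆ := by
        have h4 := hb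
        rw [hBA, mem_cj] at h4
        have h5 : g⁻¹ * b * g = b := by
          rw [mul_assoc, ← Subgroup.mem_centralizer_iff.1 hbL g hg]; group
        rwa [h5] at h4
      exact mul_mem hbA ha
    · exact le_inf (Subgroup.commutator_mono le_rfl hX) hAC
  refine ⟨h1, h2, ?_⟩
  apply le_antisymm
  · rintro w ⟨hw, hwC⟩
    have hwA : w ∈ ⁅V, X⁆ := by
      rw [← h2]
      exact ⟨hw, Subgroup.centralizer_le hX hwC⟩
    refine ⟨hwA, ?_⟩
    change w ∈ ⁅V, X'⁆
    rw [hBA, mem_cj]
    have h5 : g⁻¹ * w * g = w := by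
      rw [mul_assoc, ← Subgroup.mem_centralizer_iff.1 hwC g hg]; group
    rwa [h5]
  · apply le_inf (inf_le_left.trans (Subgroup.commutator_mono le_rfl hX))
    have h3 := le_centralizer_sup (inf_le_left.trans hAC : ⁅V, X⁆ ⊓ ⁅V, X'⁆ ≤ _)
      (inf_le_right.trans hBC)
    rwa [hgen] at h3

end Cfsg.Agent.S2833
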