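import Cfsg.Statements.S2837
import Cfsg.Agent.Lib.Helper53.FrakH3
import Cfsg.Agent.Lib.Helper53.YMin
import Cfsg.Agent.Lib.Helper52.Frat

set_option autoImplicit false
open Cfsg

namespace Cfsg.Agent.S2837

open Cfsg.Agent.Lib.Helper53

theorem normalizer_eq_top_of_le_center {G : Type*} [Group G] {E : Subgroup G}
    (h : E ≤ Subgroup.center G) : Subgroup.normalizer (E : Set G) = ⊤ := by
  rw [eq_top_iff]
  intro x _
  rw [← cj_eq_self_iff]
  ext y
  rw [mem_cj]
  constructor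
  · intro hy
    have h1 := Subgroup.mem_center_iff.1 (h hy) x
    have e : y = x⁻¹ * y * x := by
      calc y = (x * (x⁻¹ * y * x)) * x⁻¹ := by group
        _ = ((x⁻¹ * y * x) * x) * x⁻¹ := by rw [h1]
        _ = x⁻¹ * y * x := by group
    rw [e]; exact hy
  · intro hy
    have h1 := Subgroup.mem_center_iff.1 (h hy) x
    have e : x⁻¹ * y * x = y := by
      calc x⁻¹ * y * x = x⁻¹ * (y * x) := by group
        _ = x⁻¹ * (x * y) := by rw [h1]
        _ = y := by group
    rw [e]; exact hy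

/-- Let L be a finite group of characteristic p, L₀ a maximal subgroup, Y an elementary abelian p-subgroup of L₀ with L Y-minimal and O_p(L) ≤ N_L(Y). Put A = the normal closure of O_p(L) ∩ Y in L. Then for every g ∈ L outside L₀: Φ(A) = A' = [A ∩ Y, A] = [A ∩ Y, A ∩ gYg⁻¹] ≤ C_Y(L), and Y ∩ gYg⁻¹ = (A ∩ Y) ∩ (A ∩ gYg⁻¹) = C_Y(L) = C_A(L). -/
theorem result {L : Type*} [Group L] [Finite L] {p : ℕ} [Fact p.Prime] (hchar : Subgroup.centralizer (Cfsg.pCore p L : Set L) ≤ Cfsg.pCore p L) (L₀ : Subgroup L) (hL₀ : IsCoatom L₀) (Y : Subgroup L) (hYL₀ : Y ≤ L₀) (hYel : Cfsg.IsElementaryAbelian p Y) (hmin : Cfsg.IsMinimalOver Y) (hOY : Cfsg.pCore p L ≤ Subgroup.normalizer (Y : Set L)) (A : Subgroup L) (hA : A = Subgroup.normalClosure (((Cfsg.pCore p L ⊓ Y : Subgroup L)) : Set L)) (g : L) (hg : g ∉ L₀) : (frattini ↥A).map A.subtype = ⁅A, A⁆ ∧ ⁅A, A⁆ = ⁅A ⊓ Y, A⁆ ∧ ⁅A ⊓ Y, A⁆ = ⁅A ⊓ Y, A ⊓ Y.map (MulAut.conj g).toMonoidHom⁆ ∧ ⁅A ⊓ Y, A⁆ ≤ Y ⊓ Subgroup.center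 L ∧ Y ⊓ Y.map (MulAut.conj g).toMonoidHom = Y ⊓ Subgroup.center L ∧ (A ⊓ Y) ⊓ (A ⊓ Y.map (MulAut.conj g).toMonoidHom) = Y ⊓ Subgroup.center L ∧ A ⊓ Subgroup.center L = Y ⊓ Subgroup.center L := by
  have hDn : (pCore p L).Normal := Cfsg.Agent.Lib.Helper53.pCore_normal p L
  have hDp := pCore_isPGroup p L
  set D := pCore p L with hD
  set B := D ⊓ Y with hB
  set Yg := Y.map (MulAut.conj g).toMonoidHom with hYg
  have hDtop : ∀ X : Subgroup L, X ≤ Subgroup.normalizer (D : Set L) :=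
    fun X => Subgroup.le_normalizer_of_normal
  have hDg : D.map (MulAut.conj g).toMonoidHom = D := cj_eq_self_iff.2 (hDtop ⊤ (Subgroup.mem_top g))
  have hBg : B.map (MulAut.conj g).toMonoidHom = D ⊓ Yg := by rw [hB, cj_inf, hDg]
  set Bg := D ⊓ Yg with hBgdef
  have hDYg : D ≤ Subgroup.normalizer (Yg : Set L) := by
    rw [hYg, normalizer_cj, ← hDg]
    exact cj_mono g hOY
  have hgen : Y ⊔ Yg = ⊤ := ymin_sup_cj_eq_top hL₀ hmin hYL₀ hg
  have hYab : Y ≤ Subgroup.centralizer (Y : Set L) := (elemAb_iff.1 hYel).1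
  have hYgel : Cfsg.IsElementaryAbelian p Yg := elemAb_map _ hYel
  have hYgab : Yg ≤ Subgroup.centralizer (Yg : Set L) := (elemAb_iff.1 hYgel).1
  have hc : IsMulCommutative ↥Y := Subgroup.le_centralizer_iff_isMulCommutative.1 hYab
  have h5 : Y ⊓ Yg = Y ⊓ Subgroup.center L := ymin_inf_cj hL₀ hmin hYL₀ hc hg
  -- normalising relations
  have nYB : Y ≤ Subgroup.normalizer (B : Set L) := le_normalizer_inf (hDtop Y) Subgroup.le_normalizer
  have nYgBg : Yg ≤ Subgroup.normalizer (Bg : Set L) :=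
    le_normalizer_inf (hDtop Yg) Subgroup.le_normalizer
  have nDB : D ≤ Subgroup.normalizer (B : Set L) := le_normalizer_inf (hDtop D) hOY
  have nDBg : D ≤ Subgroup.normalizer (Bg : Set L) := le_normalizer_inf (hDtop D) hDYg
  have cYBg : ⁅Y, Bg⁆ ≤ B :=
    (Subgroup.commutator_mono le_rfl inf_le_left).trans
      (le_inf (Subgroup.le_normalizer_iff_commutator_le_right.1 (hDtop Y))
        (Subgroup.le_normalizer_iff_commutator_le_left.1 hOY))
  have cYgB : ⁅Yg, B⁆ ≤ Bg :=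
    (Subgroup.commutator_mono le_rfl inf_le_left).trans
      (le_inf (Subgroup.le_normalizer_iff_commutator_le_right.1 (hDtop Yg))
        (Subgroup.le_normalizer_iff_commutator_le_left.1 hDYg))
  have hNn : (B ⊔ Bg).Normal := by
    rw [← Subgroup.normalizer_eq_top_iff, eq_top_iff, ← hgen]
    apply sup_le
    · have := le_normalizer_sup_of_commutator_le cYBg nYB
      rwa [sup_comm] at this
    · exact le_normalizer_sup_of_commutator_le cYgB nYgBg
  have hAn : A.Normal := by rw [hA]; exact Subgroup.normalClosure_normal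
  have hBA : B ≤ A := by rw [hA]; exact Subgroup.le_normalClosure
  have hBgA : Bg ≤ A := by
    rw [← hBg, ← cj_eq_self_iff.2 (Subgroup.le_normalizer_of_normal (H := A) (K := ⊤) (Subgroup.mem_top g))]
    exact cj_mono g hBA
  have hAeq : A = B ⊔ Bg := by
    apply le_antisymm _ (sup_le hBA hBgA)
    rw [hA]
    exact Subgroup.normalClosure_le_normal (le_sup_left : B ≤ B ⊔ Bg)
  have hAD : A ≤ D := by
    rw [hA]
    exact Subgroup.normalClosure_le_normal (inf_le_left : B ≤ D)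
  have hAY : A ⊓ Y = B := le_antisymm (inf_le_inf_right _ hAD) (le_inf hBA inf_le_right)
  have hAYg : A ⊓ Yg = Bg := le_antisymm (inf_le_inf_right _ hAD) (le_inf hBgA inf_le_right)
  rw [hAY, hAYg]
  set Z₀ := Y ⊓ Subgroup.center L with hZ₀
  have hE : ⁅B, Bg⁆ ≤ Z₀ := by
    rw [← h5]
    exact le_inf ((Subgroup.le_normalizer_iff_commutator_le_left.1 (inf_le_left.trans nDB)).trans inf_le_right)
      ((Subgroup.le_normalizer_iff_commutator_le_right.1 (inf_le_left.trans nDBg)).trans inf_le_right)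
  have hEN : ∀ X : Subgroup L, X ≤ Subgroup.normalizer ((⁅B, Bg⁆ : Subgroup L) : Set L) := by
    intro X
    rw [normalizer_eq_top_of_le_center (hE.trans inf_le_right)]
    exact le_top
  have hBB : ⁅B, B⁆ = ⊥ := by
    rw [Subgroup.commutator_eq_bot_iff_le_centralizer]
    exact (inf_le_right.trans hYab).trans (Subgroup.centralizer_le inf_le_right)
  have hBgBg : ⁅Bg, Bg⁆ = ⊥ := by
    rw [Subgroup.commutator_eq_bot_iff_le_centralizer]
    exact (inf_le_right.trans hYgab).trans (Subgroup.centralizer_le inf_le_right)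
  have hAB : ⁅A, B⁆ ≤ ⁅B, Bg⁆ := by
    rw [hAeq]
    apply commutator_sup_le (hEN _) (hEN _)
    · rw [hBB]; exact bot_le
    · rw [Subgroup.commutator_comm]
  have hABg : ⁅A, Bg⁆ ≤ ⁅B, Bg⁆ := by
    rw [hAeq]
    apply commutator_sup_le (hEN _) (hEN _) le_rfl
    rw [hBgBg]; exact bot_le
  have hAA : ⁅A, A⁆ ≤ ⁅B, Bg⁆ := by
    conv_lhs => rw [Subgroup.commutator_comm]
    conv_lhs => lhs; rw [hAeq]
    apply commutator_sup_le (hEN _) (hEN _)
    · rw [Subgroup.commutator_comm]; exact hAB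
    · rw [Subgroup.commutator_comm]; exact hABg
  have hBBgBA : ⁅B, Bg⁆ ≤ ⁅B, A⁆ := Subgroup.commutator_mono le_rfl hBgA
  have hBAAA : ⁅B, A⁆ ≤ ⁅A, A⁆ := Subgroup.commutator_mono hBA le_rfl
  have hAp : IsPGroup p A := hDp.to_le hAD
  have hZ₀D : Z₀ ≤ D := by
    apply le_pCore
    · rw [← Subgroup.normalizer_eq_top_iff]
      exact normalizer_eq_top_of_le_center inf_le_right
    · exact (elemAb_isPGroup hYel).to_le inf_le_left
  have hZ₀B : Z₀ ≤ B := le_inf hZ₀D inf_le_left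
  have hZ₀Bg : Z₀ ≤ Bg := le_inf hZ₀D (h5.ge.trans inf_le_right)
  refine ⟨?_, le_antisymm (hAA.trans hBBgBA) hBAAA, le_antisymm (hBAAA.trans hAA) hBBgBA,
    (hBAAA.trans hAA).trans hE, h5, ?_, ?_⟩
  · apply le_antisymm _ (commutator_le_map_frattini hAp)
    have h1 : frattini ↥A ≤ (Abelianization.of : ↥A →* Abelianization ↥A).ker := by
      apply Cfsg.Agent.Lib.Helper52.frattini_le_ker (p := p)
      · intro a b; exact mul_comm a b
      · intro x
        have hx : (x : L) ∈ B ⊔ Bg := hAeq ▸ x.2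
        obtain ⟨b, hb, b', hb', hxb⟩ := (mem_sup_of_le_normalizer (inf_le_left.trans nDBg)).1 hx
        have e : x = (⟨b, hBA hb⟩ : ↥A) * ⟨b', hBgA hb'⟩ := Subtype.ext hxb
        have e1 : (⟨b, hBA hb⟩ : ↥A) ^ p = 1 := Subtype.ext (hYel.2 b hb.2)
        have e2 : (⟨b', hBgA hb'⟩ : ↥A) ^ p = 1 := Subtype.ext (hYgel.2 b' hb'.2)
        rw [e, map_mul, mul_pow, ← map_pow, ← map_pow, e1, e2, map_one, mul_one]
    rw [Abelianization.ker_of] at h1
    have h2 := Subgroup.map_mono (f := A.subtype) h1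
    rwa [commutator_def, Subgroup.map_commutator, ← MonoidHom.range_eq_map,
      Subgroup.range_subtype] at h2
  · apply le_antisymm _ (le_inf hZ₀B hZ₀Bg)
    rw [← h5]
    exact inf_le_inf inf_le_right inf_le_right
  · apply le_antisymm _ (le_inf (hZ₀B.trans hBA) inf_le_right)
    rintro a ⟨haA, haZ⟩
    refine ⟨?_, haZ⟩
    have hx : a ∈ B ⊔ Bg := hAeq ▸ haA
    obtain ⟨b, hb, b', hb', rfl⟩ := (mem_sup_of_le_normalizer (inf_le_left.trans nDBg)).1 hx
    have hb'Y : b' ∈ Subgroup.centralizer (Y : Set L) := by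
      rw [Subgroup.mem_centralizer_iff]
      intro y hy
      have h1 := Subgroup.mem_center_iff.1 haZ y
      have h2 := Subgroup.mem_centralizer_iff.1 (hYab hb.2) y hy
      calc y * b' = b⁻¹ * ((y * b) * b') := by rw [h2]; group
        _ = b⁻¹ * (y * (b * b')) := by group
        _ = b⁻¹ * ((b * b') * y) := by rw [h1]
        _ = b' * y := by group
    have hb'Z : b' ∈ Subgroup.center L := by
      have h3 : Y ⊔ Yg ≤ Subgroup.centralizer ({b'} : Set L) := by
        apply sup_le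
        · intro y hy
          rw [Subgroup.mem_centralizer_iff]
          intro z hz
          rw [Set.mem_singleton_iff] at hz
          rw [hz]
          exact (Subgroup.mem_centralizer_iff.1 hb'Y y hy).symm
        · intro y hy
          rw [Subgroup.mem_centralizer_iff]
          intro z hz
          rw [Set.mem_singleton_iff] at hz
          rw [hz]
          exact (Subgroup.mem_centralizer_iff.1 (hYgab hb'.2) y hy).symm
      rw [hgen] at h3
      rw [Subgroup.mem_center_iff]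
      intro x
      exact (Subgroup.mem_centralizer_iff.1 (h3 (Subgroup.mem_top x)) b' rfl).symm
    have hb'Y2 : b' ∈ Y := by
      have h4 : b' ∈ Yg ⊓ Subgroup.center L := ⟨hb'.2, hb'Z⟩
      have h5' : g⁻¹ * b' * g ∈ Y := mem_cj.1 hb'.2
      have h6 : g⁻¹ * b' * g = b' := by
        rw [mul_assoc, ← Subgroup.mem_center_iff.1 hb'Z g]; group
      rwa [h6] at h5'
    exact mul_mem hb.2 hb'Y2

end Cfsg.Agent.S2837
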