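import Cfsg.Statements.S2842
import Cfsg.Agent.Lib.Helper53.CharP

set_option autoImplicit false
open Cfsg

namespace Cfsg.Agent.S2842

open Cfsg.Agent.Lib.Helper53

/-- Let Q be a nontrivial p-subgroup of the finite group H that is a weakly closed subgroup with C_H(Q) ≤ Q, and Q ≤ L ≤ H. Suppose H has characteristic p, or more generally that C_H(y) has characteristic p for some nonidentity y ∈ C_{O_p(L)}(Q). Then [Q, C_H(O_p(L))] ≤ Q ∩ O_p(L), C_H(O_p(L)) is a p-group, and L has characteristic p. -/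
theorem result {H : Type*} [Group H] [Finite H] {p : ℕ} [Fact p.Prime] (Q : Subgroup H) (hQp : IsPGroup p ↥Q) (hQ1 : Q ≠ ⊥) (hwc : Cfsg.IsWeaklyClosedSubgroup p Q) (hCQ : Subgroup.centralizer ((Q : Subgroup H) : Set H) ≤ Q) (L : Subgroup H) (hQL : Q ≤ L) (hyp : Subgroup.centralizer (Cfsg.pCore p H : Set H) ≤ Cfsg.pCore p H ∨ ∃ y : H, y ≠ 1 ∧ y ∈ (Cfsg.pCoreOf p L) ⊓ Subgroup.centralizer ((Q : Subgroup H) : Set H) ∧ Subgroup.centralizer (Cfsg.pCore p ↥(Subgroup.centralizer ({y} : Set H)) : Set ↥(Subgroup.centralizer ({y} : Set H))) ≤ Cfsg.pCore p ↥(Subgroup.centralizer ({y} : Set H))) : ⁅Q, Subgroup.centralizer (((Cfsg.pCoreOf p L) : Subgroup H) : Set H)⁆ ≤ Q ⊓ (Cfsg.pCoreOf p L) ∧ IsPGroup p ↥(Subgroup.centralizer (((Cfsg.pCoreOf p L) : Subgroup H) : Set H)) ∧ Subgroup.centralizer (Cfsg.pCore p ↥L : Set ↥L) ≤ Cfsg.pCore p ↥L := by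
  rcases hyp with hH | ⟨y, -, ⟨hyP, hyQ⟩, hy⟩
  · have hK : (⊤ : Subgroup H) ⊓ Subgroup.centralizer (pCoreOf p (⊤ : Subgroup H) : Set H)
        ≤ pCoreOf p (⊤ : Subgroup H) := by
      rw [pCoreOf_top, top_inf_eq]; exact hH
    obtain ⟨h1, h2, h3⟩ := wc_charP_overgroup hQp hwc hCQ hQL le_top hK
    rw [top_inf_eq] at h1 h2
    exact ⟨h1, h2, Cfsg.Agent.Lib.Helper53.charP_iff.2 h3⟩
  · have hK := Cfsg.Agent.Lib.Helper53.charP_iff.1 hy
    set K := Subgroup.centralizer ({y} : Set H) with hKdef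
    set P := pCoreOf p L with hP
    set D := Subgroup.centralizer (P : Set H) with hD
    have hDK : D ≤ K := Subgroup.centralizer_le (Set.singleton_subset_iff.2 hyP)
    have hQK : Q ≤ K := by
      intro q hq
      rw [hKdef, Subgroup.mem_centralizer_iff]
      intro h hh
      rw [Set.mem_singleton_iff] at hh
      subst hh
      exact ((Subgroup.mem_centralizer_iff.1 hyQ) q hq).symm
    have hLD : L ≤ Subgroup.normalizer (D : Set H) := le_normalizer_centralizer_pCoreOf p L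
    have hLDL : L ≤ Subgroup.normalizer ((L ⊓ D : Subgroup H) : Set H) :=
      le_normalizer_inf Subgroup.le_normalizer hLD
    -- (c)
    have hc : L ⊓ D ≤ P := by
      have A1 := (wc_charP_overgroup hQp hwc hCQ (le_sup_right : Q ≤ (L ⊓ D) ⊔ Q)
        (sup_le (inf_le_right.trans hDK) hQK) hK).2.2
      have A2 := charP_of_normal (le_sup_left : L ⊓ D ≤ (L ⊓ D) ⊔ Q)
        (sup_le Subgroup.le_normalizer (hQL.trans hLDL)) A1
      have A3 : pCoreOf p (L ⊓ D) ≤ P := pCoreOf_le_pCoreOf_of_normal p inf_le_left hLDL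
      have A4 : L ⊓ D ≤ Subgroup.centralizer (pCoreOf p (L ⊓ D) : Set H) :=
        inf_le_right.trans (Subgroup.centralizer_le A3)
      exact ((le_inf le_rfl A4).trans A2).trans A3
    have B1 := (wc_charP_overgroup hQp hwc hCQ (le_sup_right : Q ≤ D ⊔ Q)
        (sup_le hDK hQK) hK).2.2
    have B2 := charP_of_normal (le_sup_left : D ≤ D ⊔ Q)
        (sup_le Subgroup.le_normalizer (hQL.trans hLD)) B1
    have hDQ : D ≤ Subgroup.normalizer (Q : Set H) := by
      apply wc_normalized_of_series hQp hwc (hQL.trans hLD) (pCoreOf_isPGroup p D)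
        (le_normalizer_pCoreOf p D)
        ((hQL.trans hLD).trans (normalizer_le_normalizer_pCoreOf p D)) B2
        (hQL.trans (le_normalizer_pCoreOf p L)) le_rfl
      refine le_trans ?_ hc
      exact le_inf (inf_le_right.trans hQL) (inf_le_left.trans (pCoreOf_le p D))
    obtain ⟨h1, h2⟩ := commutator_le_and_isPGroup_of_normalizes hQp hCQ hQL hLD hDQ le_rfl
    exact ⟨h1, h2, Cfsg.Agent.Lib.Helper53.charP_iff.2 hc⟩

end Cfsg.Agent.S2842
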