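import Cfsg.Statements.S2844
import Cfsg.Agent.Lib.Helper53.Large

set_option autoImplicit false
open Cfsg

namespace Cfsg.Agent.S2844

open Cfsg.Agent.Lib.Helper53

/-- Let Q be a nontrivial large p-subgroup of the finite group H and Q• = O_p(N_H(Q)). Then for every g ∈ H outside N_H(Q): C_H(Q) ∩ C_H(gQg⁻¹) = 1, C_H(Q•) ∩ C_H(gQ•g⁻¹) = 1, Z(Q) ∩ Z(gQg⁻¹) = 1 and Z(Q•) ∩ Z(gQ•g⁻¹) = 1; moreover N_H(Q) = N_H(Q•) and Q• is large in H. -/
theorem result {H : Type*} [Group H] [Finite H] {p : ℕ} [Fact p.Prime] (Q : Subgroup H) (hQp : IsPGroup p ↥Q) (hQ1 : Q ≠ ⊥) (hL : Cfsg.IsLarge Q) (Qb : Subgroup H) (hQb : Qb = Cfsg.largeBullet p Q) : (∀ g : H, g ∉ Subgroup.normalizer ((Q : Subgroup H) : Set H) → Subgroup.centralizer ((Q : Subgroup H) : Set H) ⊓ Subgroup.centralizer ((((Q : Subgroup H).map (MulAut.conj (g : H)).toMonoidHom) : Subgroup H) : Set H) = ⊥ ∧ Subgroup.centralizer ((Qb : Subgroup H) : Set H) ⊓ Subgroup.centralizer ((((Qb :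 Subgroup H).map (MulAut.conj (g : H)).toMonoidHom) : Subgroup H) : Set H) = ⊥ ∧ (Q ⊓ Subgroup.centralizer ((Q : Subgroup H) : Set H)) ⊓ (((Q : Subgroup H).map (MulAut.conj (g : H)).toMonoidHom) ⊓ Subgroup.centralizer ((((Q : Subgroup H).map (MulAut.conj (g : H)).toMonoidHom) : Subgroup H) : Set H)) = ⊥ ∧ (Qb ⊓ Subgroup.centralizer ((Qb : Subgroup H) : Set H)) ⊓ (((Qb : Subgroup H).map (MulAut.conj (g : H)).toMonoidHom) ⊓ Subgroup.centralizer ((((Qb : Subgroup H).map (MulAut.conj (g : H)).toMonoidHom) : Subgroup H) : Set H)) = ⊥) ∧ Subgroup.normalizer ((Q : Subgroup H) : Set H) = Subgroup.normalizer ((Qb : Subgroup H) : Set H) ∧ Cfsg.IsLarge Qb := by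
  subst hQb
  have hQQb : Q ≤ Cfsg.largeBullet p Q := le_pCoreOf Subgroup.le_normalizer le_rfl hQp
  have hQbp : IsPGroup p (Cfsg.largeBullet p Q) := pCoreOf_isPGroup p _
  have hQb1 : Cfsg.largeBullet p Q ≠ ⊥ := fun hb => hQ1 (eq_bot_iff.2 (hb ▸ hQQb))
  have hC : Subgroup.centralizer ((Cfsg.largeBullet p Q : Subgroup H) : Set H)
      ≤ Subgroup.centralizer (Q : Set H) := Subgroup.centralizer_le hQQb
  have hN : Subgroup.normalizer ((Q : Subgroup H) : Set H)
      = Subgroup.normalizer ((Cfsg.largeBullet p Q : Subgroup H) : Set H) := by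
    apply le_antisymm
    · exact Subgroup.le_normalizer.trans (normalizer_le_normalizer_pCoreOf p _)
    · exact (normalizer_le_normalizer_center _).trans
        (hL.2 _ (inf_le_right.trans hC)
          (inf_centralizer_ne_bot hQbp hQbp hQb1 Subgroup.le_normalizer))
  refine ⟨fun g hg => ?_, hN, ⟨hC.trans (hL.1.trans hQQb), fun U hU hU1 => ?_⟩⟩
  · have h1 := IsLarge_centralizer_inf hL hQp hQ1 hg
    have hCg : Subgroup.centralizer ((((Cfsg.largeBullet p Q : Subgroup H).map (MulAut.conj (g : H)).toMonoidHom) : Subgroup H) : Set H)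
      ≤ Subgroup.centralizer ((((Q : Subgroup H).map (MulAut.conj (g : H)).toMonoidHom) : Subgroup H) : Set H) :=
      Subgroup.centralizer_le (cj_mono g hQQb)
    refine ⟨h1, ?_, ?_, ?_⟩
    · rw [eq_bot_iff, ← h1]
      exact inf_le_inf hC hCg
    · rw [eq_bot_iff, ← h1]
      exact inf_le_inf inf_le_right inf_le_right
    · rw [eq_bot_iff, ← h1]
      exact inf_le_inf (inf_le_right.trans hC) (inf_le_right.trans hCg)
  · rw [← hN]
    exact hL.2 U (hU.trans hC) hU1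

end Cfsg.Agent.S2844
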