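import Cfsg.Statements.S2846
import Cfsg.Agent.Lib.Helper53.FrakMEx

set_option autoImplicit false
open Cfsg

namespace Cfsg.Agent.S2846

open Cfsg.Agent.Lib.Helper53

/-- Let Q be a nontrivial large p-subgroup of the finite group H, S a Sylow p-subgroup containing Q, and L a subgroup containing S with O_p(L) ≠ 1 and C_H(O_p(L)) ≤ O_p(L). Then there are a subgroup M containing S having the basic property (M ∈ 𝔐_H, writing Y_X for the largest p-reduced normal subgroup of X and 𝓛_H for the set of subgroups X with O_p(X) ≠ 1 and C_H(O_p(X)) ≤ O_p(X): M ∈ 𝓛_H, M·C_H(Y_M) is the only maximal member of 𝓛_H containing M and its largest p-reduced normal subgroup is again Y_M, C_M(Y_M) is p-closed, and the image of C_M(Y_M) in M/O_p(M) lies in the Frattini subgroup of M/O_p(M)) and a subgroup L* with S ≤ L* ≤ M, O_p(L*) ≠ 1, C_H(O_p(L*)) ≤ O_p(L*), such that L·C_H(Y_L) = L*·C_H(Y_L), the weak closures of Q in L and in L* agree and lie in that of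 M, and Y_L = Y_{L*} ≤ Y_M. If moreover Q is not normal in L, then Q is normal in neither L* nor M. -/
theorem result {H : Type*} [Group H] [Finite H] {p : ℕ} [Fact p.Prime] (Q : Subgroup H) (hQp : IsPGroup p ↥Q) (hQ1 : Q ≠ ⊥) (hLg : Cfsg.IsLarge Q) (S : Sylow p H) (hQS : Q ≤ (S : Subgroup H)) (L : Subgroup H) (hSL : (S : Subgroup H) ≤ L) (hL : L ∈ Cfsg.charPSubgroups p H) : ∃ M Ls : Subgroup H, (S : Subgroup H) ≤ M ∧ Cfsg.IsInFrakM p M ∧ (S : Subgroup H) ≤ Ls ∧ Ls ≤ M ∧ Ls ∈ Cfsg.charPSubgroups p H ∧ L ⊔ Subgroup.centralizer (((Cfsg.largestPReducedOf p L) : Subgroup H) : Set H) = Ls ⊔ Subgroup.centralizer (((Cfsg.largestPReducedOf p L) : Subgroup H) : Set H) ∧ Cfsg.weakClosure Q L = Cfsg.weakClosure Q Ls ∧ Cfsg.weakClosure Q Ls ≤ Cfsg.weakClosure Q M ∧ (Cfsg.largestPReducedOf p L) = (Cfsg.largestPReducedOf p Ls) ∧ (Cfsg.largestPReducedOf p Ls) ≤ (Cfsg.largestPReducedOf p M) ∧ (¬ L ≤ Subgroup.normalizer ((Q : Subgroup H) : Set H) → ¬ Ls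 ≤ Subgroup.normalizer ((Q : Subgroup H) : Set H) ∧ ¬ M ≤ Subgroup.normalizer ((Q : Subgroup H) : Set H)) := by
  have hS := isSyl_top_of_sylow S
  have hPC : ∀ K : Subgroup H, (S : Subgroup H) ≤ K → pCoreOf p K ≠ ⊥ →
      Subgroup.centralizer (pCoreOf p K : Set H) ≤ pCoreOf p K :=
    fun K h1 h2 => large_parabolic hLg hQp ⟨S, h1⟩ h2
  have hL1 : pCoreOf p L ≠ ⊥ := pCore_ne_bot_iff.1 hL.1
  obtain ⟨M, Ls, h1, h2, h3, h4, h5, h6, h7, h8⟩ := exists_frakM hS hPC hSL hL1
  have hY1 : largestPReducedOf p L ≠ ⊥ :=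
    largest_ne_bot (hS.of_le hSL le_top) (inf_le_right.trans (hPC L hSL hL1)) hL1
  have hYp := (isPRed_largest p L).isPGroup
  have w1 := (large_weakClosure_centralizer hLg hQp hQ1 (hQS.trans hSL) hYp hY1
    (isPRed_largest p L).le_normalizer).1
  have w2 := (large_weakClosure_centralizer hLg hQp hQ1 (hQS.trans h3) hYp hY1
    (by rw [h6]; exact (isPRed_largest p Ls).le_normalizer)).1
  have hw : Cfsg.weakClosure Q L = Cfsg.weakClosure Q Ls := by rw [w1, w2, h8]
  refine ⟨M, Ls, h1, h2, h3, h4, h5, h8, hw, weakClosure_mono Q h4, h6, h6 ▸ h7, ?_⟩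
  intro hLQ
  have key : ¬ Ls ≤ Subgroup.normalizer ((Q : Subgroup H) : Set H) := by
    intro hLs
    apply hLQ
    have e : Cfsg.weakClosure Q Ls = Q := by
      apply le_antisymm _ (le_weakClosure (hQS.trans h3))
      rw [weakClosure_le_iff]
      intro g hg
      obtain ⟨k, hk, hk2⟩ := wc_conj_in hQp (IsLarge_wc hLg hQp hQ1) (hQS.trans h3) hg
      rw [hk2, cj_eq_self_iff.2 (hLs hk)]
    have := Subgroup.le_normalizer.trans (normalizer_le_normalizer_weakClosure Q L)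
    rwa [hw, e] at this
  exact ⟨key, fun hM => key (h4.trans hM)⟩

end Cfsg.Agent.S2846
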