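import Cfsg.Statements.S2848
import Cfsg.Agent.Lib.Helper53.FrakM

set_option autoImplicit false
open Cfsg

namespace Cfsg.Agent.S2848

open Cfsg.Agent.Lib.Helper53

/-- Standing hypotheses: G a finite group, S a Sylow p-subgroup, Q a nontrivial large p-subgroup of G contained in S (C_G(Q) ≤ Q and N_G(U) ≤ N_G(Q) for all nontrivial U ≤ C_G(Q)), and M a subgroup containing S with the basic property (M ∈ 𝔐_G(S)); Y_M denotes the largest p-reduced normal subgroup of M and M† = M·C_G(Y_M). Then O_p(M) is a weakly closed subgroup of M† (for p): it is the only M†-conjugate of itself inside some Sylow p-subgroup of M† containing it. -/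
theorem result {G : Type*} [Group G] [Finite G] {p : ℕ} [Fact p.Prime] (S : Sylow p G) (Q : Subgroup G) (hQp : IsPGroup p ↥Q) (hQ1 : Q ≠ ⊥) (hQS : Q ≤ (S : Subgroup G)) (hQ : Cfsg.IsLarge Q) (M : Subgroup G) (hSM : (S : Subgroup G) ≤ M) (hM : Cfsg.IsInFrakM p M) : Cfsg.IsWeaklyClosedSubgroup p (((Cfsg.pCoreOf p M)).subgroupOf (M ⊔ Subgroup.centralizer (((Cfsg.largestPReducedOf p M) : Subgroup G) : Set G))) := by
  have hS := isSyl_top_of_sylow S
  have hSM' : IsSyl p (S : Subgroup G) M := hS.of_le hSM le_top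
  have hP := pCoreOf_eq_inf_centralizer hSM' hM.2.2.2.2.1
  apply wc_subgroupOf_of (pCoreOf_le_isSyl hSM') (hS.of_le (hSM.trans le_sup_left) le_top)
  intro k hk hle
  apply cj_eq_of_le
  conv_rhs => rw [hP]
  refine le_inf hle ?_
  have h1 : k ∈ Subgroup.normalizer
      ((Subgroup.centralizer (largestPReducedOf p M : Set G) : Subgroup G) : Set G) :=
    normalizer_le_normalizer_centralizer _ (dagger_le_normalizer p M hk)
  rw [← cj_eq_self_iff.2 h1]
  apply cj_mono
  rw [hP]
  exact inf_le_right

end Cfsg.Agent.S2848
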