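import Cfsg.Statements.S2851
import Cfsg.Agent.Lib.Helper53.FrakM3
import Cfsg.Agent.Lib.Helper28.Layer

set_option autoImplicit false
open Cfsg

namespace Cfsg.Agent.S2851

open Cfsg.Agent.Lib.Helper53 Cfsg.Agent.Lib.Helper28

/-- `K` finite without nontrivial normal `p`-subgroups: a `p`-subgroup normalized by `F*(K)` is trivial. -/
theorem eq_bot_of_normalized {K : Type*} [Group K] [Finite K] {p : ℕ}
    (h0 : ∀ N : Subgroup K, N.Normal → IsPGroup p N → N = ⊥)
    (D : Subgroup K) (hD : IsPGroup p D)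
    (hn : Cfsg.generalizedFittingSubgroup K ≤ Subgroup.normalizer (D : Set K)) : D = ⊥ := by
  set F := Cfsg.generalizedFittingSubgroup K with hF
  have hFn : F.Normal := genFitting_normal
  have hE : D ⊓ F = ⊥ := by
    have h1 : D ⊓ F ≤ pCoreOf p F :=
      le_pCoreOf inf_le_right (le_normalizer_inf hn Subgroup.le_normalizer)
        (hD.to_le inf_le_left)
    have h2 : pCoreOf p F = ⊥ := by
      apply h0 _ _ (pCoreOf_isPGroup p F)
      apply Subgroup.normalizer_eq_top_iff.1
      apply top_le_iff.1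
      refine le_trans ?_ (normalizer_le_normalizer_pCoreOf p F)
      exact (Subgroup.normalizer_eq_top_iff.2 hFn).ge
    rw [h2] at h1
    exact le_bot_iff.1 h1
  have hc : D ≤ Subgroup.centralizer (F : Set K) := by
    intro d hd
    rw [Subgroup.mem_centralizer_iff]
    intro f hf
    have h1 : f * d * f⁻¹ * d⁻¹ ∈ D ⊓ F := by
      refine ⟨D.mul_mem ((Subgroup.mem_normalizer_iff.1 (hn hf) d).1 hd) (D.inv_mem hd), ?_⟩
      have : f * d * f⁻¹ * d⁻¹ = f * (d * f⁻¹ * d⁻¹) := by group
      rw [this]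
      exact F.mul_mem hf (hFn.conj_mem _ (F.inv_mem hf) d)
    rw [hE, Subgroup.mem_bot] at h1
    have : f * d = (f * d * f⁻¹ * d⁻¹) * (d * f) := by group
    rw [this, h1, one_mul]
  have h3 : D ≤ F := hc.trans centralizer_genFitting_le
  rw [← inf_eq_left.2 h3]
  exact hE

/-- Standing hypotheses: G a finite group, S a Sylow p-subgroup, Q a nontrivial large p-subgroup of G contained in S, M a subgroup containing S with the basic property (M ∈ 𝔐_G(S)); Y_M the largest p-reduced normal subgroup of M and M† = M·C_G(Y_M). Let F be the preimage in M† of the generalized Fitting subgroup of M†/C_{M†}(Y_M). If Y_M is asymmetric in G and H is a subgroup of characteristic p containing F, then Y_M ≤ Y_H. -/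
theorem result {G : Type*} [Group G] [Finite G] {p : ℕ} [Fact p.Prime] (S : Sylow p G) (Q : Subgroup G) (hQp : IsPGroup p ↥Q) (hQ1 : Q ≠ ⊥) (hQS : Q ≤ (S : Subgroup G)) (hQ : Cfsg.IsLarge Q) (M : Subgroup G) (hSM : (S : Subgroup G) ≤ M) (hM : Cfsg.IsInFrakM p M) (hasym : ¬ Cfsg.IsSymmetricIn (Cfsg.largestPReducedOf p M)) [hn : ((Subgroup.centralizer (((Cfsg.largestPReducedOf p M) : Subgroup G) : Set G)).subgroupOf (M ⊔ Subgroup.centralizer (((Cfsg.largestPReducedOf p M) : Subgroup G) : Set G))).Normal] (F : Subgroup G) (hF : F = ((Cfsg.generalizedFittingSubgroup (↥(M ⊔ Subgroup.centralizer (((Cfsg.largestPReducedOf p M) : Subgroup G) : Set G)) ⧸ (Subgroup.centralizer (((Cfsg.largestPReducedOf p M) : Subgroup G) : Set G)).subgroupOf (M ⊔ Subgroup.centralizer (((Cfsg.largestPReducedOf p M) : Subgroup G) : Set G)))).comap (QuotientGroup.mk' ((Subgroup.centralizer (((Cfsg.largestPReducedOf p M) : Subgroup G) : Set G)).subgroupOf (M ⊔ Subgroup.centralizer (((Cfsg.largestPReducedOf p M) : Subgroup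 G) : Set G))))).map ((M ⊔ Subgroup.centralizer (((Cfsg.largestPReducedOf p M) : Subgroup G) : Set G))).subtype) (H : Subgroup G) (hFH : F ≤ H) (hH : Subgroup.centralizer (Cfsg.pCore p ↥H : Set ↥H) ≤ Cfsg.pCore p ↥H) : (Cfsg.largestPReducedOf p M) ≤ Cfsg.largestPReducedOf p H := by
  have h := Std.mk' S hQp hQ1 hQS hQ hSM hM
  have hYd : IsPRed p (Cfsg.largestPReducedOf p M)
      (M ⊔ Subgroup.centralizer (((Cfsg.largestPReducedOf p M) : Subgroup G) : Set G)) := by
    have h1 := isPRed_largest p
      (M ⊔ Subgroup.centralizer (((Cfsg.largestPReducedOf p M) : Subgroup G) : Set G))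
    rw [← hM.2.2.2.1] at h1
    exact h1
  generalize hY : Cfsg.largestPReducedOf p M = Y at *
  generalize hC : Subgroup.centralizer ((Y : Subgroup G) : Set G) = C at *
  generalize hMd : M ⊔ C = Md at *
  have hCMd : C ≤ Md := hMd ▸ le_sup_right
  have hmemF : ∀ f : ↥Md, QuotientGroup.mk' (C.subgroupOf Md) f ∈
      Cfsg.generalizedFittingSubgroup (↥Md ⧸ C.subgroupOf Md) → (f : G) ∈ F := by
    intro f hf
    rw [hF]
    exact ⟨f, hf, rfl⟩
  have hCF : C ≤ F := by
    intro x hx
    apply hmemF ⟨x, hCMd hx⟩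
    have : QuotientGroup.mk' (C.subgroupOf Md) ⟨x, hCMd hx⟩ = 1 :=
      (QuotientGroup.eq_one_iff _).2 hx
    rw [this]
    exact one_mem _
  have hYC : Y ≤ C := by
    have := h.Y_le_P.trans h.P_le_C
    rwa [hY, hC] at this
  have hPH : pCoreOf p M ≤ H := by
    have := h.P_le_C
    rw [hY, hC] at this
    exact this.trans (hCF.trans hFH)
  obtain ⟨T, hT, hPT, hTN⟩ := h.exists_isSyl (by rw [hY]; exact hasym) hPH
  have hTMd : T ≤ Md := by
    have := h.normalizer_P_le_dagger
    rw [hY, hC, hMd] at this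
    exact hTN.trans this
  have hX : IsPRed p Y (H ⊓ Md) := by
    refine ⟨le_inf (hYC.trans (hCF.trans hFH)) hYd.le, inf_le_right.trans hYd.le_normalizer,
      hYd.elemAb, ?_⟩
    intro D hD hnD hpow
    rw [hC] at hpow ⊢
    have hDMd : D ≤ Md := hD.trans inf_le_right
    have key : (D.subgroupOf Md).map (QuotientGroup.mk' (C.subgroupOf Md)) = ⊥ := by
      apply eq_bot_of_normalized (p := p)
      · intro N hN hNp
        have h1 : (N.comap (QuotientGroup.mk' (C.subgroupOf Md))).map Md.subtype ≤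
            Subgroup.centralizer (Y : Set G) := by
          apply hYd.le_centralizer (Subgroup.map_subtype_le _)
          · exact (normal_iff_le_normalizer_map _).1 inferInstance
          · rintro _ ⟨y, hy, rfl⟩
            obtain ⟨n, hn'⟩ := hNp ⟨_, hy⟩
            refine ⟨n, ?_⟩
            have h2 : (QuotientGroup.mk' (C.subgroupOf Md) y) ^ (p ^ n) = 1 := by
              simpa using congrArg Subtype.val hn'
            rw [← map_pow] at h2
            have h3 := (QuotientGroup.eq_one_iff _).1 h2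
            rw [hC]
            exact h3
        rw [hC] at h1
        rw [eq_bot_iff]
        intro k hk
        obtain ⟨y, rfl⟩ := QuotientGroup.mk'_surjective (C.subgroupOf Md) k
        rw [Subgroup.mem_bot]
        apply (QuotientGroup.eq_one_iff _).2
        exact h1 ⟨y, hk, rfl⟩
      · rintro ⟨_, ⟨x, hx, rfl⟩⟩
        obtain ⟨n, hn'⟩ := hpow x hx
        refine ⟨n, ?_⟩
        apply Subtype.ext
        show (QuotientGroup.mk' (C.subgroupOf Md) x) ^ (p ^ n) = 1
        rw [← map_pow]
        exact (QuotientGroup.eq_one_iff _).2 hn'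
      · intro k hk
        obtain ⟨f, rfl⟩ := QuotientGroup.mk'_surjective (C.subgroupOf Md) k
        have hfF : (f : G) ∈ F := hmemF f hk
        have hfN : (f : G) ∈ Subgroup.normalizer (D : Set G) := hnD ⟨hFH hfF, f.2⟩
        have hfN' : f ∈ Subgroup.normalizer ((D.subgroupOf Md : Subgroup ↥Md) : Set ↥Md) := by
          rw [Subgroup.mem_normalizer_iff]
          intro y
          exact Subgroup.mem_normalizer_iff.1 hfN y
        exact Subgroup.le_normalizer_map _ ⟨f, hfN', rfl⟩
    intro x hx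
    have h1 : QuotientGroup.mk' (C.subgroupOf Md) ⟨x, hDMd hx⟩ ∈
        (D.subgroupOf Md).map (QuotientGroup.mk' (C.subgroupOf Md)) := ⟨_, hx, rfl⟩
    rw [key, Subgroup.mem_bot] at h1
    exact (QuotientGroup.eq_one_iff (N := C.subgroupOf Md) (⟨x, hDMd hx⟩ : ↥Md)).1 h1
  have hW := isPRed_closure hT (le_inf hT.le hTMd) inf_le_left (charP_iff.1 hH) hX
  exact (le_iSup_cj Y H).trans hW.le_largest

end Cfsg.Agent.S2851
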