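import Cfsg.Statements.S2859
import Cfsg.Agent.Lib.Helper53.WcFactor

set_option autoImplicit false
open Cfsg

namespace Cfsg.Agent.S2859

open Cfsg.Agent.Lib.Helper53

/-- Let Q be a nontrivial p-subgroup of the finite group H that is a weakly closed subgroup, H° the weak closure of Q in H (generated by the conjugates of Q) and H_∘ = O^p(H°). Suppose H₁, H₂ are normal subgroups of H° with H° = H₁H₂ and [H₁, H₂] ≤ N_H(Q), and put Kᵢ = O^p of the weak closure of Q in HᵢQ. Then for i = 1, 2: Kᵢ = [Kᵢ, Q] = [Kᵢ, Hᵢ] ≤ Hᵢ′ and Kᵢ is normal in H°; H_∘ = K₁K₂; and [K₁, K₂] ≤ O_p(H°). -/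
theorem result {G : Type*} [Group G] [Finite G] {p : ℕ} [Fact p.Prime] (Q : Subgroup G) (hQp : IsPGroup p ↥Q) (hQ1 : Q ≠ ⊥) (hwc : Cfsg.IsWeaklyClosedSubgroup p Q) (Hc : Subgroup G) (hHc : Hc = Cfsg.weakClosure Q ⊤) (H₁ H₂ : Subgroup G) (hn₁ : H₁ ≤ Hc ∧ Hc ≤ Subgroup.normalizer ((H₁ : Subgroup G) : Set G)) (hn₂ : H₂ ≤ Hc ∧ Hc ≤ Subgroup.normalizer ((H₂ : Subgroup G) : Set G)) (hprod : H₁ ⊔ H₂ = Hc) (hcomm : ⁅H₁, H₂⁆ ≤ Subgroup.normalizer ((Q : Subgroup G) : Set G)) (K₁ K₂ : Subgroup G) (hK₁ : K₁ = ((Cfsg.pResidual p ↥(Cfsg.weakClosure Q (H₁ ⊔ Q))).map ((Cfsg.weakClosure Q (H₁ ⊔ Q))).subtype)) (hK₂ : K₂ = ((Cfsg.pResidual p ↥(Cfsg.weakClosure Q (H₂ ⊔ Q))).map ((Cfsg.weakClosure Q (H₂ ⊔ Q))).subtype)) : (⁅K₁, Q⁆ = K₁ ∧ ⁅K₁, H₁⁆ = K₁ ∧ K₁ ≤ ⁅H₁, H₁⁆ ∧ Hc ≤ Subgroup.normalizer ((K₁ : Subgroup G) : Set G)) ∧ (⁅K₂, Q⁆ = K₂ ∧ ⁅K₂, H₂⁆ = K₂ ∧ K₂ ≤ ⁅H₂, H₂⁆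 ∧ Hc ≤ Subgroup.normalizer ((K₂ : Subgroup G) : Set G)) ∧ K₁ ⊔ K₂ = ((Cfsg.pResidual p ↥Hc).map (Hc).subtype) ∧ ⁅K₁, K₂⁆ ≤ (Cfsg.pCoreOf p Hc) := by
  subst hHc
  have hcomm' : ⁅H₂, H₁⁆ ≤ Subgroup.normalizer ((Q : Subgroup G) : Set G) := by
    rw [Subgroup.commutator_comm]; exact hcomm
  have hprod' : H₂ ⊔ H₁ = Cfsg.weakClosure Q ⊤ := by rw [sup_comm]; exact hprod
  obtain ⟨a1, a2, a3, a4, a5, a6, a7⟩ := wc_factor_half hQp hwc hn₁ hn₂ hprod hcomm hK₁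
  obtain ⟨b1, b2, b3, b4, b5, b6, b7⟩ := wc_factor_half hQp hwc hn₂ hn₁ hprod' hcomm' hK₂
  refine ⟨⟨a1, a2, a3, a4⟩, ⟨b1, b2, b3, b4⟩, ?_, (Subgroup.commutator_mono le_rfl b6).trans a5⟩
  have hQHc : Q ≤ Cfsg.weakClosure Q ⊤ := le_weakClosure le_top
  apply le_antisymm
  · apply sup_le
    · rw [hK₁]; exact pRes_mono p (weakClosure_mono Q le_top)
    · rw [hK₂]; exact pRes_mono p (weakClosure_mono Q le_top)
  · have hKn : Cfsg.weakClosure Q ⊤ ≤ Subgroup.normalizer ((K₁ ⊔ K₂ : Subgroup G) : Set G) :=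
      le_normalizer_sup a4 b4
    apply pRes_le_of_le_sup (A := Q) (hQHc.trans hKn) hQp
    have hM : Cfsg.weakClosure Q ⊤ ≤ Subgroup.normalizer ((Q ⊔ (K₁ ⊔ K₂) : Subgroup G) : Set G) := by
      rw [← hprod]
      apply sup_le
      · intro h hh
        rw [← cj_eq_self_iff]
        apply cj_eq_of_le
        rw [cj_sup, cj_eq_self_iff.2 (hKn (hn₁.1 hh))]
        apply sup_le _ le_sup_right
        have h1 : Q.map (MulAut.conj h).toMonoidHom ≤ Cfsg.weakClosure Q (H₁ ⊔ Q) :=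
          cj_le_weakClosure (cj_le_of_le_of_mem le_sup_right (Subgroup.mem_sup_left hh))
        rw [a7] at h1
        exact h1.trans (sup_le (le_sup_left.trans le_sup_right) le_sup_left)
      · intro h hh
        rw [← cj_eq_self_iff]
        apply cj_eq_of_le
        rw [cj_sup, cj_eq_self_iff.2 (hKn (hn₂.1 hh))]
        apply sup_le _ le_sup_right
        have h1 : Q.map (MulAut.conj h).toMonoidHom ≤ Cfsg.weakClosure Q (H₂ ⊔ Q) :=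
          cj_le_weakClosure (cj_le_of_le_of_mem le_sup_right (Subgroup.mem_sup_left hh))
        rw [b7] at h1
        exact h1.trans (sup_le (le_sup_right.trans le_sup_right) le_sup_left)
    rw [weakClosure_le_iff]
    intro g _
    obtain ⟨k, hk, hk2⟩ := wc_conj_in hQp hwc hQHc (g := g) (cj_le_weakClosure le_top)
    rw [hk2, ← cj_eq_self_iff.2 (hM hk)]
    exact cj_mono k le_sup_left

end Cfsg.Agent.S2859
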