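import Cfsg.Statements.S2860
import Cfsg.Agent.Lib.Helper40.QSE

set_option autoImplicit false
open Cfsg

namespace Cfsg.Agent.S2860

open Cfsg.Agent.Lib.Helper53 Cfsg.Agent.Lib.Helper40.QSE

/-- Let Q be a nontrivial large p-subgroup of the finite group H, U a nontrivial elementary abelian p-subgroup of H, and Q ≤ E ≤ N_H(U) with Q not normal in E. Suppose O_p(E/C_E(U)) = 1 and O^p(E)·C_E(U)/C_E(U) is quasisimple. Let E° be the weak closure of Q in E (generated by the conjugates of Q inside E) and E_∘ = O^p(E°). Then O^p(E)·C_E(U) = E_∘·C_E(U); E_∘ is perfect and equals O^p(E_∘); E_∘/C_{E_∘}(U) and E_∘/O_p(E_∘) are quasisimple; and E_∘ = [E_∘, Y] for every p-subgroup Y of E not centralizing U. -/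
theorem result {G : Type*} [Group G] [Finite G] {p : ℕ} [Fact p.Prime] (Q : Subgroup G) (hQp : IsPGroup p ↥Q) (hQ1 : Q ≠ ⊥) (hQ : Cfsg.IsLarge Q) (U : Subgroup G) (hU : Cfsg.IsElementaryAbelian p U) (hU1 : U ≠ ⊥) (E : Subgroup G) (hQE : Q ≤ E) (hEU : E ≤ Subgroup.normalizer ((U : Subgroup G) : Set G)) (hQn : ¬ E ≤ Subgroup.normalizer ((Q : Subgroup G) : Set G)) [hn : ((Subgroup.centralizer ((U : Subgroup G) : Set G)).subgroupOf E).Normal] (hred : Cfsg.pCore p (↥E ⧸ (Subgroup.centralizer ((U : Subgroup G) : Set G)).subgroupOf E) = ⊥) (hqs : Cfsg.IsQuasisimple ↥(((Cfsg.pResidual p ↥E) ⊔ (Subgroup.centralizer ((U : Subgroup G) : Set G)).subgroupOf E).map (QuotientGroup.mk' ((Subgroup.centralizer ((U : Subgroup G) : Set G)).subgroupOf E)))) (Er : Subgroup G) (hEr : Er = ((Cfsg.pResidual p ↥(Cfsg.weakClosure Q E)).map ((Cfsg.weakClosure Q E)).subtype)) [hn2 : ((Subgroup.centralizer ((U : Subgroup G) : Set G)).subgroupOf Er).Normal] : ((Cfsg.pResidual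 p ↥E).map (E).subtype) ⊔ (E ⊓ Subgroup.centralizer ((U : Subgroup G) : Set G)) = Er ⊔ (E ⊓ Subgroup.centralizer ((U : Subgroup G) : Set G)) ∧ ⁅Er, Er⁆ = Er ∧ ((Cfsg.pResidual p ↥Er).map (Er).subtype) = Er ∧ Cfsg.IsQuasisimple (↥Er ⧸ (Subgroup.centralizer ((U : Subgroup G) : Set G)).subgroupOf Er) ∧ Cfsg.IsQuasisimple (↥Er ⧸ Cfsg.pCore p ↥Er) ∧ ∀ Y : Subgroup G, Y ≤ E → IsPGroup p ↥Y → ¬ Y ≤ Subgroup.centralizer ((U : Subgroup G) : Set G) → ⁅Er, Y⁆ = Er := by
  have hUp : IsPGroup p ↥U := by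
    intro u
    refine ⟨1, ?_⟩
    apply Subtype.ext
    simpa using hU.2 u.1 u.2
  obtain ⟨I1, I2, I3, I4⟩ := bridge hred hqs
  obtain ⟨c1, c2, c3, c6, hDR, hErE, hEEr⟩ :=
    main_internal hQp hQ1 hQ hUp hU1 hQE hEU hQn I1 I2 hEr
  have hperf : Group.IsPerfect ↥Er := Subgroup.isPerfect_iff.2 c2
  have hker : ((QuotientGroup.mk' ((Subgroup.centralizer ((U : Subgroup G) : Set G)).subgroupOf E)).comp
      (Subgroup.inclusion hErE)).ker = (Subgroup.centralizer ((U : Subgroup G) : Set G)).subgroupOf Er := by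
    ext x
    rw [MonoidHom.mem_ker, MonoidHom.comp_apply, QuotientGroup.mk'_apply, QuotientGroup.eq_one_iff,
      Subgroup.mem_subgroupOf, Subgroup.mem_subgroupOf]
    rfl
  have hrange : ((QuotientGroup.mk' ((Subgroup.centralizer ((U : Subgroup G) : Set G)).subgroupOf E)).comp
      (Subgroup.inclusion hErE)).range = ((Cfsg.pResidual p ↥E) ⊔ (Subgroup.centralizer ((U : Subgroup G) : Set G)).subgroupOf E).map (QuotientGroup.mk' ((Subgroup.centralizer ((U : Subgroup G) : Set G)).subgroupOf E)) := by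
    rw [← I4 Er hErE c1, ← MonoidHom.map_range, Subgroup.inclusion_range]
  have hq : IsQuasisimple ↥((QuotientGroup.mk' ((Subgroup.centralizer ((U : Subgroup G) : Set G)).subgroupOf E)).comp
      (Subgroup.inclusion hErE)).range := by
    rw [hrange]; exact hqs
  refine ⟨c1, c2, c3, ?_, ?_, c6⟩
  · apply QQ _ _ hperf hker.ge _ hq
    rw [hker]
    exact Subgroup.commutator_le_left _ _
  · apply QQ _ _ hperf _ _ hq
    · rw [hker]
      intro x hx
      rw [Subgroup.mem_subgroupOf]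
      exact I3 (pCoreOf p Er) ((pCoreOf_le p Er).trans hErE)
        (hEEr.trans (normalizer_le_normalizer_pCoreOf p Er)) (pCoreOf_isPGroup p Er)
        (Subgroup.mem_map_of_mem _ hx)
    · rw [hker, ← Subgroup.map_le_map_iff_of_injective Er.subtype_injective, Subgroup.map_commutator,
        Subgroup.subgroupOf_map_subtype, ← MonoidHom.range_eq_map, Subgroup.range_subtype, inf_comm]
      exact hDR

end Cfsg.Agent.S2860
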