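import Cfsg.Statements.S2864
import Cfsg.Agent.Lib.Helper53.FrakM3
import Cfsg.Agent.Lib.Helper53.Cop

set_option autoImplicit false
open Cfsg

namespace Cfsg.Agent.S2864

open Cfsg.Agent.Lib.Helper53

/-- Standing hypotheses: G a finite group, S a Sylow p-subgroup, Q a nontrivial large p-subgroup of G contained in S, M a subgroup containing S with the basic property (M ∈ 𝔐_G(S)); Y_M the largest p-reduced normal subgroup of M and M† = M·C_G(Y_M). Let I be a nontrivial normal p-subgroup of M and Y ≤ O_p(M†); let L be a subgroup of G containing Y and A a normal p-subgroup of L with I ≤ A ≤ M. If [Y, A] ≤ [I, A], then Y ≤ O_p(L). -/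
theorem result {G : Type*} [Group G] [Finite G] {p : ℕ} [Fact p.Prime] (S : Sylow p G) (Q : Subgroup G) (hQp : IsPGroup p ↥Q) (hQ1 : Q ≠ ⊥) (hQS : Q ≤ (S : Subgroup G)) (hQ : Cfsg.IsLarge Q) (M : Subgroup G) (hSM : (S : Subgroup G) ≤ M) (hM : Cfsg.IsInFrakM p M) (I : Subgroup G) (hI1 : I ≠ ⊥) (hIp : IsPGroup p ↥I) (hIM : I ≤ M ∧ M ≤ Subgroup.normalizer ((I : Subgroup G) : Set G)) (Y : Subgroup G) (hY : Y ≤ (Cfsg.pCoreOf p (M ⊔ Subgroup.centralizer (((Cfsg.largestPReducedOf p M) : Subgroup G) : Set G)))) (L : Subgroup G) (hYL : Y ≤ L) (A : Subgroup G) (hAp : IsPGroup p ↥A) (hAL : A ≤ L ∧ L ≤ Subgroup.normalizer ((A : Subgroup G) : Set G)) (hIA : I ≤ A) (hAM : A ≤ M) (hc : ⁅Y, A⁆ ≤ ⁅I, A⁆) : Y ≤ (Cfsg.pCoreOf p L) := by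
  have h := Std.mk' S hQp hQ1 hQS hQ hSM hM
  have hdag := h.normalizer_le_dagger hIp hI1 hIM.2
  set Md := M ⊔ Subgroup.centralizer (((Cfsg.largestPReducedOf p M) : Subgroup G) : Set G) with hMd
  have hYp : IsPGroup p Y := (pCoreOf_isPGroup p Md).to_le hY
  apply le_pCoreOf_of_commutator hYp hYL
  set Ys : Subgroup G := ⨆ l : L, Y.map (MulAut.conj (l : G)).toMonoidHom with hYs
  set R := (pResidual p Ys).map Ys.subtype with hR
  have hYsL : Ys ≤ L := iSup_le fun l => cj_le_of_le_of_mem hYL l.2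
  have h1 : ⁅Ys, A⁆ ≤ ⁅A, A⁆ := by
    apply commutator_iSup_le
    · intro l
      exact ((cj_le_of_le_of_mem hYL l.2).trans hAL.2).trans (le_normalizer_commutator le_rfl le_rfl)
    · intro l
      have e : A.map (MulAut.conj (l : G)).toMonoidHom = A := cj_eq_self_iff.2 (hAL.2 l.2)
      have := cj_mono (l : G) (hc.trans (Subgroup.commutator_mono hIA le_rfl))
      rwa [cj_commutator, cj_commutator, e] at this
  have h2 : R ≤ Subgroup.centralizer (A : Set G) :=
    pRes_le_centralizer_of_commutator_le hAp (hYsL.trans hAL.2) h1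
  have h3 : R ≤ Md :=
    ((h2.trans (Subgroup.centralizer_le hIA)).trans (Subgroup.centralizer_le_normalizer _)).trans hdag
  have h4 : ⁅R, Y⁆ ≤ pCoreOf p Md :=
    (Subgroup.commutator_mono le_rfl hY).trans
      (Subgroup.le_normalizer_iff_commutator_le_right.1 (h3.trans (le_normalizer_pCoreOf p Md)))
  exact (pCoreOf_isPGroup p Md).to_le h4

end Cfsg.Agent.S2864
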