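import Cfsg.Statements.S2872
import Mathlib
import Cfsg.Agent.Lib.Helper54.PGroupAux

set_option autoImplicit false
open Cfsg

namespace Cfsg.Agent.S2872

/-- Transfer-type lemma: a central involution `z` of a Sylow 2-subgroup `S`, fixed by `N_G(S)` and lying outside
a subgroup `M` of index 2 of `S`, is mapped to `-1` by a homomorphism to `ℤˣ`. -/
theorem exists_hom_neg_one {G : Type*} [Group G] [Finite G] (S : Sylow 2 G) (M : Subgroup G)
    (hMS : M ≤ (S : Subgroup G)) (hidx : M.relIndex (S : Subgroup G) = 2) (z : G) (hz2 : z ^ 2 = 1)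
    (hzc : ∀ s ∈ (S : Subgroup G), s * z = z * s) (hzM : z ∉ M)
    (hN : ∀ g ∈ Subgroup.normalizer ((S : Subgroup G) : Set G), g * z * g⁻¹ = z) :
    ∃ φ : G →* ℤˣ, φ z = -1 := by
  classical
  have hMn : (M.subgroupOf (S : Subgroup G)).Normal := Subgroup.normal_of_index_eq_two hidx
  have hMconj : ∀ s ∈ (S : Subgroup G), ∀ x ∈ M, s⁻¹ * x * s ∈ M := by
    intro s hs x hx
    have h1 := hMn.conj_mem ⟨x, hMS hx⟩ (by rw [Subgroup.mem_subgroupOf]; exact hx) (⟨s, hs⟩ : (S : Subgroup G))⁻¹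
    rw [Subgroup.mem_subgroupOf] at h1
    simpa using h1
  have hcardS : Nat.card (S : Subgroup G) = 2 * Nat.card M := by
    have h1 := Subgroup.relIndex_mul_relIndex ⊥ M (S : Subgroup G) bot_le hMS
    rw [Subgroup.relIndex_bot_left, Subgroup.relIndex_bot_left, hidx] at h1
    omega
  -- the set of g with g⁻¹ z g ∈ M
  let Ft : Set G := {g : G | g⁻¹ * z * g ∈ M}
  let F : Set (G ⧸ M) := {q | z • q = q}
  let Y : Set (G ⧸ (S : Subgroup G)) := QuotientGroup.mk '' Ft
  have hF : (QuotientGroup.mk ⁻¹' F : Set G) = Ft := by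
    ext g
    show z • (g : G ⧸ M) = (g : G ⧸ M) ↔ g⁻¹ * z * g ∈ M
    rw [eq_comm]
    show (g : G ⧸ M) = ((z * g : G) : G ⧸ M) ↔ _
    rw [QuotientGroup.eq, mul_assoc]
  have hY : (QuotientGroup.mk ⁻¹' Y : Set G) = Ft := by
    ext g
    constructor
    · rintro ⟨g', hg', heq⟩
      rw [QuotientGroup.eq] at heq
      have h1 := hMconj _ heq _ hg'
      have h2 : (g'⁻¹ * g)⁻¹ * (g'⁻¹ * z * g') * (g'⁻¹ * g) = g⁻¹ * z * g := by group
      rw [h2] at h1
      exact h1
    · intro hg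
      exact ⟨g, hg, rfl⟩
  have hcF := QuotientGroup.card_preimage_mk M F
  have hcY := QuotientGroup.card_preimage_mk (S : Subgroup G) Y
  rw [hF] at hcF
  rw [hY] at hcY
  have hFY : Nat.card F = 2 * Nat.card Y := by
    have h1 : Nat.card M * Nat.card F = Nat.card M * (2 * Nat.card Y) := by
      rw [← hcF, hcY, hcardS]; ring
    exact Nat.eq_of_mul_eq_mul_left Nat.card_pos h1
  -- parity of Y
  let Y' : SubMulAction (S : Subgroup G) (G ⧸ (S : Subgroup G)) :=
    { carrier := Y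
      smul_mem' := by
        rintro s _ ⟨g, hg, rfl⟩
        refine ⟨(s : G) * g, ?_, rfl⟩
        show ((s : G) * g)⁻¹ * z * ((s : G) * g) ∈ M
        have h1 := hzc s s.2
        have h2 : ((s : G) * g)⁻¹ * z * ((s : G) * g) = g⁻¹ * ((s : G)⁻¹ * (z * (s : G))) * g := by group
        rw [h2, ← h1]
        have h3 : g⁻¹ * ((s : G)⁻¹ * ((s : G) * z)) * g = g⁻¹ * z * g := by group
        rw [h3]; exact hg }
  have hmod := S.2.card_modEq_card_fixedPoints Y'
  have hfix : Nat.card (MulAction.fixedPoints (S : Subgroup G) Y') = 0 := by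
    rw [Nat.card_eq_zero]
    left
    constructor
    rintro ⟨⟨y, g, hg, rfl⟩, hy⟩
    have h1 : (g : G ⧸ (S : Subgroup G)) ∈ MulAction.fixedPoints (S : Subgroup G) (G ⧸ (S : Subgroup G)) := by
      intro s
      exact congrArg Subtype.val (hy s)
    rw [Sylow.mem_fixedPoints_mul_left_cosets_iff_mem_normalizer] at h1
    have h2 := hN g⁻¹ (Subgroup.inv_mem _ h1)
    rw [inv_inv] at h2
    apply hzM
    rw [← h2]
    exact hg
  rw [hfix] at hmod
  have hYeven : 2 ∣ Nat.card Y := (Nat.modEq_zero_iff_dvd).mp hmod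
  have : Fintype (G ⧸ M) := Fintype.ofFinite _
  refine ⟨Equiv.Perm.sign.comp (MulAction.toPermHom G (G ⧸ M)), ?_⟩
  obtain ⟨y, hy⟩ := hYeven
  have hidxM : M.index = 2 * (S : Subgroup G).index := by
    rw [← Subgroup.relIndex_mul_index hMS, hidx]
  have hodd : Odd (S : Subgroup G).index := by
    rw [← Nat.not_even_iff_odd, even_iff_two_dvd]
    exact S.not_dvd_index
  have hσ2 : (MulAction.toPermHom G (G ⧸ M) z) ^ 2 = 1 := by rw [← map_pow, hz2, map_one]
  have hfixcard : (Finset.univ.filter (fun q : G ⧸ M => (MulAction.toPermHom G (G ⧸ M) z) q = q)).card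
      = Nat.card F := by
    rw [Nat.card_eq_fintype_card, ← Fintype.card_subtype]
    rfl
  have htot := Finset.card_filter_add_card_filter_not (s := (Finset.univ : Finset (G ⧸ M)))
    (fun q : G ⧸ M => (MulAction.toPermHom G (G ⧸ M) z) q = q)
  have hsupp : (MulAction.toPermHom G (G ⧸ M) z).support =
      Finset.univ.filter (fun q : G ⧸ M => ¬ (MulAction.toPermHom G (G ⧸ M) z) q = q) := by
    ext q; simp
  have hcardu : (Finset.univ : Finset (G ⧸ M)).card = M.index := by
    rw [Finset.card_univ, Subgroup.index, Nat.card_eq_fintype_card]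
  rw [hfixcard, hFY, hy, hcardu, hidxM, ← hsupp] at htot
  have hc : (MulAction.toPermHom G (G ⧸ M) z).support.card = 2 * ((S : Subgroup G).index - 2 * y) := by
    omega
  show Equiv.Perm.sign (MulAction.toPermHom G (G ⧸ M) z) = -1
  rw [Cfsg.Agent.Lib.Helper54.sign_eq_neg_one_pow_of_sq_eq_one _ hσ2 _ hc]
  apply Odd.neg_one_pow
  obtain ⟨k, hk⟩ := hodd
  exact ⟨k - y, by omega⟩


/-- Let S be a Sylow 2-subgroup of the finite group G. Then G has a proper normal subgroup of 2-power index (O²(G) ≠ G), or Ω₁(Z(S)) is contained in the Frattini subgroup of S, or N_G(S) acts nontrivially on Ω₁(Z(S)) by conjugation. -/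
theorem result {G : Type*} [Group G] [Finite G] (S : Sylow 2 G) : Cfsg.pResidual 2 G ≠ ⊤ ∨ Cfsg.omegaOne 2 ((S : Subgroup G) ⊓ Subgroup.centralizer ((S : Subgroup G) : Set G)) ≤ (frattini ↥(S : Subgroup G)).map (S : Subgroup G).subtype ∨ ∃ g ∈ Subgroup.normalizer ((S : Subgroup G) : Set G), ∃ z ∈ Cfsg.omegaOne 2 ((S : Subgroup G) ⊓ Subgroup.centralizer ((S : Subgroup G) : Set G)), g * z * g⁻¹ ≠ z := by
  by_contra hcon
  push Not at hcon
  obtain ⟨h1, h2, h3⟩ := hcon
  have h2' : ∃ z, z ∈ ((S : Subgroup G) ⊓ Subgroup.centralizer ((S : Subgroup G) : Set G)) ∧ z ^ 2 = 1 ∧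
      z ∉ (frattini ↥(S : Subgroup G)).map (S : Subgroup G).subtype := by
    by_contra hne
    push Not at hne
    apply h2
    unfold Cfsg.omegaOne
    rw [Subgroup.closure_le]
    rintro x ⟨hx1, hx2⟩
    exact hne x hx1 hx2
  obtain ⟨z, hzZ, hz2, hzF⟩ := h2'
  have hzΩ : z ∈ Cfsg.omegaOne 2 ((S : Subgroup G) ⊓ Subgroup.centralizer ((S : Subgroup G) : Set G)) :=
    Subgroup.subset_closure ⟨hzZ, hz2⟩
  have hzS : z ∈ (S : Subgroup G) := hzZ.1
  have hzF' : (⟨z, hzS⟩ : (S : Subgroup G)) ∉ frattini ↥(S : Subgroup G) := by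
    intro h
    exact hzF ⟨_, h, rfl⟩
  rw [Cfsg.Agent.Lib.Helper54.mem_frattini_iff_forall_coatom] at hzF'
  push Not at hzF'
  obtain ⟨M', hM', hzM'⟩ := hzF'
  have hidx' := Cfsg.Agent.Lib.Helper54.index_eq_of_isCoatom_of_isPGroup S.2 hM'
  have hMS : M'.map (S : Subgroup G).subtype ≤ (S : Subgroup G) := Subgroup.map_subtype_le _
  have hidx : (M'.map (S : Subgroup G).subtype).relIndex (S : Subgroup G) = 2 := by
    rw [Subgroup.relIndex, Subgroup.subgroupOf, Subgroup.comap_map_eq_self_of_injective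
      (Subgroup.subtype_injective _)]
    exact hidx'
  obtain ⟨φ, hφ⟩ := exists_hom_neg_one S (M'.map (S : Subgroup G).subtype) hMS hidx z hz2
    (fun s hs => ((Subgroup.mem_centralizer_iff.mp hzZ.2) s hs))
    (by
      rintro ⟨w, hw, hwz⟩
      apply hzM'
      have : w = ⟨z, hzS⟩ := Subtype.ext hwz
      rwa [← this])
    (fun g hg => h3 g hg z hzΩ)
  have hker : Cfsg.pResidual 2 G ≤ φ.ker := by
    unfold Cfsg.pResidual
    rw [Subgroup.closure_le]
    intro g hg
    have hodd : Odd (orderOf g) := Nat.coprime_two_right.mp hg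
    rw [SetLike.mem_coe, MonoidHom.mem_ker]
    rcases Int.units_eq_one_or (φ g) with h | h
    · exact h
    · have h4 : φ g ^ orderOf g = 1 := by rw [← map_pow, pow_orderOf_eq_one, map_one]
      rw [h, hodd.neg_one_pow] at h4
      exact absurd h4 (by decide)
  rw [h1] at hker
  have h5 : z ∈ φ.ker := hker (Subgroup.mem_top z)
  rw [MonoidHom.mem_ker, hφ] at h5
  exact absurd h5 (by decide)

end Cfsg.Agent.S2872
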