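import Cfsg.Statements.S2873
import Mathlib
-- import your own Cfsg.Agent.* helpers here

set_option autoImplicit false
open Cfsg

namespace Cfsg.Agent.S2873


open scoped Pointwise

theorem dih_rot_of_pow {r : ℕ} (hodd : Odd r) (d : DihedralGroup r) (h : d ^ r = 1) :
    ∃ t, d = DihedralGroup.r t := by
  cases d with
  | r t => exact ⟨t, rfl⟩
  | sr j =>
    exfalso
    have key : ∀ m : ℕ, (DihedralGroup.sr j : DihedralGroup r) ^ (2 * m + 1) = DihedralGroup.sr j :=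
      fun m => by rw [pow_succ, pow_mul, pow_two, DihedralGroup.sr_mul_self, one_pow, one_mul]
    obtain ⟨m, hm⟩ := hodd
    have h1 := key m
    rw [← hm, h, DihedralGroup.one_def] at h1
    cases h1

section
variable {G : Type*} [Group G] [Finite G] {r : ℕ} [Fact r.Prime] (hr : r ≠ 2)
  (Q : Subgroup G) [hQn : Q.Normal] (n : ℕ) (hQcard : Nat.card Q = 2 ^ n)
  (π : G →* DihedralGroup r) (hπ : Function.Surjective π) (hker : ∀ g, π g = 1 ↔ g ∈ Q)

include hr hQcard hπ hker in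
theorem card_sylow (S : Sylow r G) : Nat.card (S : Subgroup G) = r := by
  have hrp : r.Prime := Fact.out
  have hQk : Q = π.ker := by
    ext g; rw [MonoidHom.mem_ker, hker]
  have h1 : Q.index = 2 * r := by
    rw [hQk, Subgroup.index_ker, MonoidHom.range_eq_top.mpr hπ, Subgroup.card_top,
      DihedralGroup.nat_card]
  have h2 : Nat.card G = 2 ^ n * (2 * r) := by
    rw [← Q.card_mul_index, hQcard, h1]
  have h3 : (2 ^ n * (2 * r)).factorization r = 1 := by
    rw [Nat.factorization_mul (by positivity) (by have := hrp.pos; positivity),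
      Nat.factorization_mul (by norm_num) hrp.ne_zero]
    simp [Nat.Prime.factorization Nat.prime_two, hrp.factorization, hr]
  rw [S.card_eq_multiplicity, h2, h3, pow_one]

include hr hQcard in
theorem sylow_inter (S : Sylow r G) (u : G) (hu : u ∈ (S : Subgroup G)) (huQ : u ∈ Q) : u = 1 := by
  have h1 : Disjoint (S : Subgroup G) Q :=
    IsPGroup.disjoint_of_ne r 2 hr _ _ S.2 (IsPGroup.of_card hQcard)
  have h2 : u ∈ (S : Subgroup G) ⊓ Q := ⟨hu, huQ⟩
  rwa [h1.eq_bot, Subgroup.mem_bot] at h2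

include hr hQcard hπ hker in
/-- an element over a nontrivial rotation: a power generates a conjugate of `R` -/
theorem key_S (R : Sylow r G) (w : G) (t : ZMod r) (ht : t ≠ 0) (hw : π w = DihedralGroup.r t) :
    ∃ g : G, ∀ u, u ∈ Subgroup.zpowers (w ^ (2 ^ n)) ↔ g⁻¹ * u * g ∈ (R : Subgroup G) := by
  have hrp : r.Prime := Fact.out
  have h1 : (w ^ (2 ^ n)) ^ r = 1 := by
    have h2 : w ^ r ∈ Q := by
      rw [← hker, map_pow, hw, DihedralGroup.r_pow]
      simp
    have h3 : (⟨w ^ r, h2⟩ : Q) ^ (2 ^ n) = 1 := by rw [← hQcard]; exact pow_card_eq_one'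
    have h4 := congrArg Subtype.val h3
    rw [← pow_mul, mul_comm, pow_mul]
    simpa using h4
  have h5 : w ^ (2 ^ n) ≠ 1 := by
    intro h
    have h6 := congrArg π h
    rw [map_pow, hw, DihedralGroup.r_pow, map_one, DihedralGroup.one_def] at h6
    have h7 : t * ((2 ^ n : ℕ) : ZMod r) = 0 := by injection h6
    rcases mul_eq_zero.mp h7 with h8 | h8
    · exact ht h8
    · rw [ZMod.natCast_eq_zero_iff] at h8
      exact hr ((Nat.prime_dvd_prime_iff_eq hrp Nat.prime_two).mp (hrp.dvd_of_dvd_pow h8))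
  have h6 : orderOf (w ^ (2 ^ n)) = r := orderOf_eq_prime h1 h5
  have h7 : Nat.card (Subgroup.zpowers (w ^ (2 ^ n))) = r := by rw [Nat.card_zpowers, h6]
  have h8 : IsPGroup r (Subgroup.zpowers (w ^ (2 ^ n))) := IsPGroup.of_card (n := 1) (by rw [h7, pow_one])
  obtain ⟨S, hS⟩ := h8.exists_le_sylow
  have h9 : Subgroup.zpowers (w ^ (2 ^ n)) = (S : Subgroup G) :=
    Subgroup.eq_of_le_of_card_ge hS (by rw [h7]; exact (card_sylow hr Q n hQcard π hπ hker S).le)
  obtain ⟨g, hg⟩ := MulAction.exists_smul_eq G R S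
  refine ⟨g, fun u => ?_⟩
  rw [h9, ← hg, Sylow.smul_def]
  show u ∈ MulAut.conj g • (R : Subgroup G) ↔ _
  rw [Subgroup.mem_pointwise_smul_iff_inv_smul_mem]
  rfl

variable (R : Sylow r G) (hC : Q ⊓ Subgroup.centralizer ((R : Subgroup G) : Set G) = ⊥)

include hr hQcard hπ hker hC in
theorem key_S1 (w : G) (t : ZMod r) (ht : t ≠ 0) (hw : π w = DihedralGroup.r t)
    (z : G) (hz : z ∈ Q) (hzw : z * w = w * z) : z = 1 := by
  obtain ⟨g, hg⟩ := key_S hr Q n hQcard π hπ hker R w t ht hw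
  have h1 : g⁻¹ * z * g ∈ Q ⊓ Subgroup.centralizer ((R : Subgroup G) : Set G) := by
    refine Subgroup.mem_inf.mpr ⟨by simpa using hQn.conj_mem z hz g⁻¹, ?_⟩
    rw [Subgroup.mem_centralizer_iff]
    intro u hu
    have h2 : g * u * g⁻¹ ∈ Subgroup.zpowers (w ^ (2 ^ n)) := by
      rw [hg]
      have : g⁻¹ * (g * u * g⁻¹) * g = u := by group
      rw [this]; exact hu
    obtain ⟨k, hk⟩ := Subgroup.mem_zpowers_iff.mp h2
    have h3 : Commute z (g * u * g⁻¹) := by
      rw [← hk]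
      exact ((show Commute z w from hzw).pow_right _).zpow_right k
    have h4 : u * (g⁻¹ * z * g) = g⁻¹ * ((g * u * g⁻¹) * z) * g := by group
    rw [h4, ← h3.eq]
    group
  rw [hC, Subgroup.mem_bot] at h1
  have h2 : z = g * (g⁻¹ * z * g) * g⁻¹ := by group
  rw [h2, h1]
  group

include hr hQcard hπ hker in
theorem key_S2 (w : G) (t : ZMod r) (ht : t ≠ 0) (hw : π w = DihedralGroup.r t)
    (b : G) (hb : b * b = 1) (hbw : b * w * b⁻¹ = w⁻¹) :
    ∃ g : G, g⁻¹ * b * g ∈ Subgroup.normalizer ((R : Subgroup G) : Set G) := by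
  obtain ⟨g, hg⟩ := key_S hr Q n hQcard π hπ hker R w t ht hw
  refine ⟨g, ?_⟩
  have hbinv : b⁻¹ = b := inv_eq_of_mul_eq_one_left hb
  have h1 : ∀ v, v ∈ Subgroup.zpowers (w ^ (2 ^ n)) → b * v * b⁻¹ ∈ Subgroup.zpowers (w ^ (2 ^ n)) := by
    intro v hv
    obtain ⟨k, rfl⟩ := Subgroup.mem_zpowers_iff.mp hv
    rw [← conj_zpow, ← conj_pow, hbw, inv_pow]
    exact Subgroup.zpow_mem _ (Subgroup.inv_mem _ (Subgroup.mem_zpowers _)) k
  have h2 : ∀ u, u ∈ (R : Subgroup G) → (g⁻¹ * b * g) * u * (g⁻¹ * b * g)⁻¹ ∈ (R : Subgroup G) := by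
    intro u hu
    have h3 : g * u * g⁻¹ ∈ Subgroup.zpowers (w ^ (2 ^ n)) := by
      rw [hg]
      have : g⁻¹ * (g * u * g⁻¹) * g = u := by group
      rw [this]; exact hu
    have h4 := (hg _).mp (h1 _ h3)
    have h5 : g⁻¹ * (b * (g * u * g⁻¹) * b⁻¹) * g = (g⁻¹ * b * g) * u * (g⁻¹ * b * g)⁻¹ := by group
    rwa [h5] at h4
  rw [Subgroup.mem_normalizer_iff]
  intro u
  refine ⟨h2 u, fun h => ?_⟩
  have h3 := h2 _ h
  have h4 : (g⁻¹ * b * g) * ((g⁻¹ * b * g) * u * (g⁻¹ * b * g)⁻¹) * (g⁻¹ * b * g)⁻¹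
      = g⁻¹ * (b * b) * g * u * (g⁻¹ * (b * b) * g)⁻¹ := by group
  rw [h4, hb] at h3
  simpa using h3

include hr hQcard hC in
theorem norm_inter (q : G) (hqN : q ∈ Subgroup.normalizer ((R : Subgroup G) : Set G)) (hq : q ∈ Q) :
    q = 1 := by
  have h1 : q ∈ Q ⊓ Subgroup.centralizer ((R : Subgroup G) : Set G) := by
    refine Subgroup.mem_inf.mpr ⟨hq, ?_⟩
    rw [Subgroup.mem_centralizer_iff]
    intro u hu
    have h2 : q * u * q⁻¹ * u⁻¹ = 1 := by
      apply sylow_inter hr Q n hQcard R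
      · exact Subgroup.mul_mem _ ((Subgroup.mem_normalizer_iff.mp hqN u).mp hu) (Subgroup.inv_mem _ hu)
      · have : q * u * q⁻¹ * u⁻¹ = q * (u * q⁻¹ * u⁻¹) := by group
        rw [this]
        exact Q.mul_mem hq (hQn.conj_mem _ (Q.inv_mem hq) u)
    have h3 : q * u = u * q := by
      have := mul_inv_eq_one.mp h2
      exact mul_inv_eq_iff_eq_mul.mp this
    exact h3.symm
  rwa [hC, Subgroup.mem_bot] at h1

include hr hQcard hπ hker in
theorem norm_surj (d : DihedralGroup r) :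
    ∃ m ∈ Subgroup.normalizer ((R : Subgroup G) : Set G), π m = d := by
  have hrp : r.Prime := Fact.out
  have hodd : Odd r := hrp.odd_of_ne_two hr
  have hcR := card_sylow hr Q n hQcard π hπ hker R
  have hRrot : ∀ u ∈ (R : Subgroup G), ∃ t, π u = DihedralGroup.r t := by
    intro u hu
    apply dih_rot_of_pow hodd
    have h1 : (⟨u, hu⟩ : (R : Subgroup G)) ^ r = 1 := by
      have := pow_card_eq_one' (x := (⟨u, hu⟩ : (R : Subgroup G)))
      rwa [hcR] at this
    have h2 : u ^ r = 1 := by simpa using congrArg Subtype.val h1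
    rw [← map_pow, h2, map_one]
  -- all rotations come from R
  have hrot : ∀ t : ZMod r, ∃ u ∈ (R : Subgroup G), π u = DihedralGroup.r t := by
    have : Nontrivial (R : Subgroup G) := by
      rw [← Finite.one_lt_card_iff_nontrivial, hcR]; exact hrp.one_lt
    obtain ⟨u0, hu0⟩ := exists_ne (1 : (R : Subgroup G))
    obtain ⟨t0, ht0⟩ := hRrot u0 u0.2
    have ht00 : t0 ≠ 0 := by
      rintro rfl
      apply hu0
      have h1 : (u0 : G) ∈ Q := by rw [← hker, ht0]; rfl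
      exact Subtype.ext (sylow_inter hr Q n hQcard R u0 u0.2 h1)
    intro t
    refine ⟨(u0 : G) ^ (t0⁻¹ * t).val, Subgroup.pow_mem _ u0.2 _, ?_⟩
    rw [map_pow, ht0, DihedralGroup.r_pow, ZMod.natCast_zmod_val, ← mul_assoc,
      mul_inv_cancel₀ ht00, one_mul]
  let C : Subgroup (DihedralGroup r) := Subgroup.zpowers (DihedralGroup.r 1)
  have hCcard : Nat.card C = r := by
    rw [Nat.card_zpowers, DihedralGroup.orderOf_r_one]
  have hCn : C.Normal := by
    apply Subgroup.normal_of_index_eq_two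
    have h1 := C.card_mul_index
    rw [hCcard, DihedralGroup.nat_card, mul_comm 2 r] at h1
    exact Nat.eq_of_mul_eq_mul_left hrp.pos h1
  have hKn : (C.comap π).Normal := hCn.comap π
  have hRK : (R : Subgroup G) ≤ C.comap π := by
    intro u hu
    obtain ⟨t, ht⟩ := hRrot u hu
    rw [Subgroup.mem_comap, ht]
    refine Subgroup.mem_zpowers_iff.mpr ⟨(t.val : ℤ), ?_⟩
    rw [DihedralGroup.r_one_zpow]
    simp
  have hfr := Sylow.normalizer_sup_eq_top' R hRK
  obtain ⟨g, hg⟩ := hπ d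
  have hg' : g ∈ Subgroup.normalizer ((R : Subgroup G) : Set G) ⊔ C.comap π := by
    have h0 : g ∈ (⊤ : Subgroup G) := trivial
    rw [← hfr] at h0
    exact h0
  rw [Subgroup.mem_sup_of_normal_right] at hg'
  obtain ⟨m, hm, l, hl, hml⟩ := hg'
  obtain ⟨i, hi⟩ : ∃ i : ZMod r, π l = DihedralGroup.r i := by
    obtain ⟨z, hz⟩ := Subgroup.mem_zpowers_iff.mp (show π l ∈ C from hl)
    exact ⟨z, by rw [← hz, DihedralGroup.r_one_zpow]⟩
  obtain ⟨u, hu, hui⟩ := hrot i
  refine ⟨m * u, Subgroup.mul_mem _ hm (Subgroup.le_normalizer hu), ?_⟩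
  rw [map_mul, hui, ← hi, ← map_mul, hml, hg]

theorem refl_of_inv (hr : r ≠ 2) (d : DihedralGroup r) (h1 : d ≠ 1) (h2 : d * d = 1) :
    ∃ j, d = DihedralGroup.sr j := by
  have hrp : r.Prime := Fact.out
  cases d with
  | sr j => exact ⟨j, rfl⟩
  | r t =>
    exfalso
    rw [DihedralGroup.r_mul_r, DihedralGroup.one_def] at h2
    have h3 : t + t = 0 := by injection h2
    have h4 : (2 : ZMod r) * t = 0 := by rw [two_mul]; exact h3
    rcases mul_eq_zero.mp h4 with h5 | h5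
    · have h6 : ((2 : ℕ) : ZMod r) = 0 := by exact_mod_cast h5
      rw [ZMod.natCast_eq_zero_iff] at h6
      exact hr ((Nat.prime_dvd_prime_iff_eq hrp Nat.prime_two).mp h6)
    · apply h1
      rw [h5]; rfl

theorem two_ne_zero_zmod (hr : r ≠ 2) : (2 : ZMod r) ≠ 0 := by
  have hrp : r.Prime := Fact.out
  intro h5
  have h6 : ((2 : ℕ) : ZMod r) = 0 := by exact_mod_cast h5
  rw [ZMod.natCast_eq_zero_iff] at h6
  exact hr ((Nat.prime_dvd_prime_iff_eq hrp Nat.prime_two).mp h6)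

include hr hQcard hπ hker hC in
theorem conj_inv (a : G) (haN : a ∈ Subgroup.normalizer ((R : Subgroup G) : Set G))
    (ha : orderOf a = 2) (b : G) (hb : orderOf b = 2) (hbQ : b ∉ Q) : ∃ g, g * a * g⁻¹ = b := by
  have hbb : b * b = 1 := by rw [← pow_two, ← hb, pow_orderOf_eq_one]
  have haa : a * a = 1 := by rw [← pow_two, ← ha, pow_orderOf_eq_one]
  have ha1 : a ≠ 1 := by
    rintro rfl
    rw [orderOf_one] at ha
    norm_num at ha
  obtain ⟨j, hj⟩ := refl_of_inv hr (π b) (fun h => hbQ ((hker b).mp h))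
    (by rw [← map_mul, hbb, map_one])
  obtain ⟨i, hi⟩ := refl_of_inv hr (π a)
    (fun h => ha1 (norm_inter hr Q n hQcard R hC a haN ((hker a).mp h)))
    (by rw [← map_mul, haa, map_one])
  obtain ⟨a', ha'N, ha'⟩ := norm_surj hr Q n hQcard π hπ hker R (DihedralGroup.sr (j + 1))
  have ha'a' : a' * a' = 1 := by
    apply norm_inter hr Q n hQcard R hC _ (Subgroup.mul_mem _ ha'N ha'N)
    rw [← hker, map_mul, ha', DihedralGroup.sr_mul_self]
  have ha'inv : a'⁻¹ = a' := inv_eq_of_mul_eq_one_left ha'a'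
  have hw : π (b * a') = DihedralGroup.r 1 := by
    rw [map_mul, hj, ha', DihedralGroup.sr_mul_sr]
    congr 1
    ring
  have hbw : b * (b * a') * b⁻¹ = (b * a')⁻¹ := by
    rw [← mul_assoc, hbb, one_mul, mul_inv_rev, ha'inv]
  obtain ⟨g, hg⟩ := key_S2 hr Q n hQcard π hπ hker R (b * a') 1 one_ne_zero hw b hbb hbw
  have hb1b1 : (g⁻¹ * b * g) * (g⁻¹ * b * g) = 1 := by
    have : (g⁻¹ * b * g) * (g⁻¹ * b * g) = g⁻¹ * (b * b) * g := by group
    rw [this, hbb]; group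
  obtain ⟨j', hj'⟩ := refl_of_inv hr (π (g⁻¹ * b * g)) (by
      intro h
      apply hbQ
      have h1 := (hker _).mp h
      have h2 := hQn.conj_mem _ h1 g
      have h3 : g * (g⁻¹ * b * g) * g⁻¹ = b := by group
      rwa [h3] at h2)
    (by rw [← map_mul, hb1b1, map_one])
  obtain ⟨m, hmN, hm⟩ := norm_surj hr Q n hQcard π hπ hker R (DihedralGroup.r ((i - j') * 2⁻¹))
  have h2 := two_ne_zero_zmod (r := r) hr
  have heq : m * a * m⁻¹ = g⁻¹ * b * g := by
    have h3 : (m * a * m⁻¹) * (g⁻¹ * b * g)⁻¹ = 1 := by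
      apply norm_inter hr Q n hQcard R hC
      · exact Subgroup.mul_mem _ (Subgroup.mul_mem _ (Subgroup.mul_mem _ hmN haN)
          (Subgroup.inv_mem _ hmN)) (Subgroup.inv_mem _ hg)
      · rw [← hker, map_mul, map_inv, hj', map_mul, map_mul, map_inv, hm, hi,
          DihedralGroup.r_mul_sr, DihedralGroup.inv_r, DihedralGroup.sr_mul_r,
          DihedralGroup.inv_sr, DihedralGroup.sr_mul_sr, DihedralGroup.one_def]
        congr 1
        field_simp
        ring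
    exact mul_inv_eq_one.mp h3
  refine ⟨g * m, ?_⟩
  have : g * m * a * (g * m)⁻¹ = g * (m * a * m⁻¹) * g⁻¹ := by group
  rw [this, heq]
  group

theorem card_le_of_fibers {α β : Type*} [Finite α] [Finite β] (f : α → β) (k : ℕ)
    (h : ∀ a0 : α, Nat.card {a // f a = f a0} ≤ k) : Nat.card α ≤ k * Nat.card β := by
  classical
  have := Fintype.ofFinite β
  rw [← Nat.card_congr (Equiv.sigmaFiberEquiv f), Nat.card_sigma]
  calc ∑ y, Nat.card {x // f x = y} ≤ ∑ y : β, k := Finset.sum_le_sum (fun y _ => by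
        by_cases hy : ∃ a0, f a0 = y
        · obtain ⟨a0, rfl⟩ := hy; exact h a0
        · have : IsEmpty {x // f x = y} := ⟨fun x => hy ⟨x.1, x.2⟩⟩
          simp)
    _ = k * Nat.card β := by simp [mul_comm, Nat.card_eq_fintype_card]

theorem inv_conj_prod {G : Type*} [Group G] (s t : G) (hs : s * s = 1) (ht : t * t = 1) :
    s * (s * t) * s⁻¹ = (s * t)⁻¹ := by
  have h1 : s⁻¹ = s := inv_eq_of_mul_eq_one_left hs
  have h2 : t⁻¹ = t := inv_eq_of_mul_eq_one_left ht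
  rw [← mul_assoc, hs, one_mul, mul_inv_rev, h1, h2]

include hr hQcard hπ hker hC in
theorem fib (a a' : G) (haa : a * a = 1) (ha'a' : a' * a' = 1) (t : ZMod r) (ht : t ≠ 0)
    (hx : π (a * a') = DihedralGroup.r t) (m m0 k k0 : G) (hm : m ∈ Q) (hm0 : m0 ∈ Q)
    (hk : k ∈ Q) (hk0 : k0 ∈ Q)
    (h : (m * a * m⁻¹) * (k * a' * k⁻¹) = (m0 * a * m0⁻¹) * (k0 * a' * k0⁻¹)) :
    m0⁻¹ * m ∈ Subgroup.centralizer ({a} : Set G) ∧
      k0⁻¹ * k ∈ Subgroup.centralizer ({a'} : Set G) := by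
  have hsq : ∀ (c e : G), c * c = 1 → (e * c * e⁻¹) * (e * c * e⁻¹) = 1 := by
    intro c e hc
    have : (e * c * e⁻¹) * (e * c * e⁻¹) = e * (c * c) * e⁻¹ := by group
    rw [this, hc]; group
  have hπQ : ∀ q ∈ Q, π q = 1 := fun q hq => (hker q).mpr hq
  have e1 := inv_conj_prod _ _ (hsq a m haa) (hsq a' k ha'a')
  have e2 := inv_conj_prod _ _ (hsq a m0 haa) (hsq a' k0 ha'a')
  rw [← h] at e2
  obtain ⟨y, hy⟩ : ∃ y, y = (m * a * m⁻¹) * (k * a' * k⁻¹) := ⟨_, rfl⟩
  rw [← hy] at e1 e2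
  have hπy : π y = DihedralGroup.r t := by
    rw [hy, ← hx]
    simp only [map_mul, map_inv, hπQ m hm, hπQ k hk, one_mul, mul_one, inv_one]
  have hz : (m0 * a * m0⁻¹) * (m * a * m⁻¹) = 1 := by
    apply key_S1 hr Q n hQcard π hπ hker R hC y t ht hπy
    · rw [← hker]
      simp only [map_mul, map_inv, hπQ m hm, hπQ m0 hm0, one_mul, mul_one, inv_one]
      rw [← map_mul, haa, map_one]
    · have h3 : (m0 * a * m0⁻¹) * (m * a * m⁻¹) * y * ((m0 * a * m0⁻¹) * (m * a * m⁻¹))⁻¹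
          = (m0 * a * m0⁻¹) * ((m * a * m⁻¹) * y * (m * a * m⁻¹)⁻¹) * (m0 * a * m0⁻¹)⁻¹ := by
        group
      rw [e1] at h3
      have h4 : (m0 * a * m0⁻¹) * y⁻¹ * (m0 * a * m0⁻¹)⁻¹
          = ((m0 * a * m0⁻¹) * y * (m0 * a * m0⁻¹)⁻¹)⁻¹ := by group
      rw [h4, e2, inv_inv] at h3
      exact mul_inv_eq_iff_eq_mul.mp h3
  have hb1 : m * a * m⁻¹ = m0 * a * m0⁻¹ := by
    have h5 := hsq a m0 haa
    exact (mul_left_cancel (hz.trans h5.symm))
  have hb2 : k * a' * k⁻¹ = k0 * a' * k0⁻¹ := by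
    rw [hb1] at h
    exact mul_left_cancel h
  constructor
  · rw [Subgroup.mem_centralizer_singleton_iff]
    have : m0⁻¹ * m * a = m0⁻¹ * (m * a * m⁻¹) * m := by group
    rw [this, hb1]
    group
  · rw [Subgroup.mem_centralizer_singleton_iff]
    have : k0⁻¹ * k * a' = k0⁻¹ * (k * a' * k⁻¹) * k := by group
    rw [this, hb2]
    group

include hr hQcard hπ hker hC in
theorem card_cent (a : G) (haa : a * a = 1) (i : ZMod r) (hi : π a = DihedralGroup.sr i) :
    Nat.card ↥(Q ⊓ Subgroup.centralizer ({a} : Set G)) ^ 2 = Nat.card Q := by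
  have h2 := two_ne_zero_zmod (r := r) hr
  obtain ⟨g0, hg0⟩ := hπ (DihedralGroup.r 1)
  obtain ⟨a', ha'⟩ : ∃ a', a' = g0 * a * g0⁻¹ := ⟨_, rfl⟩
  have ha'a' : a' * a' = 1 := by
    have : a' * a' = g0 * (a * a) * g0⁻¹ := by rw [ha']; group
    rw [this, haa]; group
  have hx : π (a * a') = DihedralGroup.r (-2) := by
    rw [ha', map_mul, map_mul, map_mul, map_inv, hg0, hi, DihedralGroup.r_mul_sr,
      DihedralGroup.inv_r, DihedralGroup.sr_mul_r, DihedralGroup.sr_mul_sr]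
    congr 1
    ring
  have ht : (-2 : ZMod r) ≠ 0 := neg_ne_zero.mpr h2
  have hcard' : Nat.card ↥(Q ⊓ Subgroup.centralizer ({a'} : Set G))
      = Nat.card ↥(Q ⊓ Subgroup.centralizer ({a} : Set G)) := by
    symm
    refine Nat.card_congr (Equiv.subtypeEquiv (MulAut.conj g0).toEquiv ?_)
    intro z
    show z ∈ Q ⊓ Subgroup.centralizer ({a} : Set G)
      ↔ g0 * z * g0⁻¹ ∈ Q ⊓ Subgroup.centralizer ({a'} : Set G)
    rw [Subgroup.mem_inf, Subgroup.mem_inf, Subgroup.mem_centralizer_singleton_iff,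
      Subgroup.mem_centralizer_singleton_iff, ha']
    refine and_congr ⟨fun h => hQn.conj_mem z h g0, fun h => ?_⟩ ⟨fun h => ?_, fun h => ?_⟩
    · have h3 := hQn.conj_mem _ h g0⁻¹
      have h4 : g0⁻¹ * (g0 * z * g0⁻¹) * g0⁻¹⁻¹ = z := by group
      rwa [h4] at h3
    · have e1 : g0 * z * g0⁻¹ * (g0 * a * g0⁻¹) = g0 * (z * a) * g0⁻¹ := by group
      rw [e1, h]; group
    · have e1 : z * a = g0⁻¹ * (g0 * z * g0⁻¹ * (g0 * a * g0⁻¹)) * g0 := by group
      rw [e1, h]; group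
  have hdisj : Disjoint (Q ⊓ Subgroup.centralizer ({a} : Set G))
      (Q ⊓ Subgroup.centralizer ({a'} : Set G)) := by
    rw [Subgroup.disjoint_def]
    intro z hz hz'
    obtain ⟨hzQ, hza⟩ := Subgroup.mem_inf.mp hz
    obtain ⟨-, hza'⟩ := Subgroup.mem_inf.mp hz'
    rw [Subgroup.mem_centralizer_singleton_iff] at hza hza'
    apply key_S1 hr Q n hQcard π hπ hker R hC (a * a') (-2) ht hx z hzQ
    rw [← mul_assoc, hza, mul_assoc, hza', mul_assoc]
  have hle1 : Nat.card ↥(Q ⊓ Subgroup.centralizer ({a} : Set G))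
      * Nat.card ↥(Q ⊓ Subgroup.centralizer ({a'} : Set G)) ≤ Nat.card Q := by
    rw [← Nat.card_prod]
    refine Nat.card_le_card_of_injective
      (fun z => (⟨(z.1 : G) * (z.2 : G), Q.mul_mem (Subgroup.mem_inf.mp z.1.2).1
        (Subgroup.mem_inf.mp z.2.2).1⟩ : Q)) ?_
    intro z z' hzz
    exact Subgroup.mul_injective_of_disjoint hdisj (congrArg Subtype.val hzz)
  have hπQ : ∀ q ∈ Q, π q = 1 := fun q hq => (hker q).mpr hq
  have hmem : ∀ z : Q × Q, ((z.1 : G) * a * (z.1 : G)⁻¹) * ((z.2 : G) * a' * (z.2 : G)⁻¹)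
      * (a * a')⁻¹ ∈ Q := by
    intro z
    rw [← hker]
    simp only [map_mul, map_inv, hπQ _ z.1.2, hπQ _ z.2.2, one_mul, mul_one, inv_one]
    exact mul_inv_cancel _
  have hle2 : Nat.card (Q × Q) ≤ (Nat.card ↥(Q ⊓ Subgroup.centralizer ({a} : Set G))
      * Nat.card ↥(Q ⊓ Subgroup.centralizer ({a'} : Set G))) * Nat.card Q := by
    refine card_le_of_fibers (fun z : Q × Q => (⟨_, hmem z⟩ : Q)) _ ?_
    intro z0
    rw [← Nat.card_prod]
    have hf : ∀ z : {z : Q × Q // (⟨_, hmem z⟩ : Q) = ⟨_, hmem z0⟩},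
        (z0.1 : G)⁻¹ * (z.1.1 : G) ∈ Subgroup.centralizer ({a} : Set G) ∧
        (z0.2 : G)⁻¹ * (z.1.2 : G) ∈ Subgroup.centralizer ({a'} : Set G) := by
      intro z
      have h3 := congrArg Subtype.val z.2
      exact fib hr Q n hQcard π hπ hker R hC a a' haa ha'a' (-2) ht hx _ _ _ _ z.1.1.2 z0.1.2
        z.1.2.2 z0.2.2 (mul_right_cancel h3)
    refine Nat.card_le_card_of_injective
      (fun z => ((⟨(z0.1 : G)⁻¹ * (z.1.1 : G), Subgroup.mem_inf.mpr
        ⟨Q.mul_mem (Q.inv_mem z0.1.2) z.1.1.2, (hf z).1⟩⟩ :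
          ↥(Q ⊓ Subgroup.centralizer ({a} : Set G))),
        (⟨(z0.2 : G)⁻¹ * (z.1.2 : G), Subgroup.mem_inf.mpr
        ⟨Q.mul_mem (Q.inv_mem z0.2.2) z.1.2.2, (hf z).2⟩⟩ :
          ↥(Q ⊓ Subgroup.centralizer ({a'} : Set G))))) ?_
    intro z z' hzz
    have h3 := congrArg (fun w => ((w.1 : ↥(Q ⊓ Subgroup.centralizer ({a} : Set G))) : G)) hzz
    have h4 := congrArg (fun w => ((w.2 : ↥(Q ⊓ Subgroup.centralizer ({a'} : Set G))) : G)) hzz
    simp only at h3 h4
    exact Subtype.ext (Prod.ext (Subtype.ext (mul_left_cancel h3))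
      (Subtype.ext (mul_left_cancel h4)))
  rw [Nat.card_prod] at hle2
  have hQpos : 0 < Nat.card Q := Nat.card_pos
  have hle3 := Nat.le_of_mul_le_mul_right hle2 hQpos
  rw [hcard'] at hle1 hle3
  rw [pow_two]
  exact le_antisymm hle1 hle3

end

/-- Let G be a finite group and r an odd prime such that G ⧸ O₂(G) is dihedral of order 2r, and let R be a Sylow r-subgroup of G with C_{O₂(G)}(R) = 1. Then N_G(R) is dihedral of order 2r; for any involution a of N_G(R), every involution of G outside O₂(G) is conjugate to a; and |C_{O₂(G)}(a)|² = |O₂(G)|. -/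
theorem result {G : Type*} [Group G] [Finite G] {r : ℕ} [Fact r.Prime] (hr : r ≠ 2) [hN : (Cfsg.pCore 2 G).Normal] (hquot : Nonempty (G ⧸ Cfsg.pCore 2 G ≃* DihedralGroup r)) (R : Sylow r G) (hC : Cfsg.pCore 2 G ⊓ Subgroup.centralizer ((R : Subgroup G) : Set G) = ⊥) : Nonempty (↥(Subgroup.normalizer ((R : Subgroup G) : Set G)) ≃* DihedralGroup r) ∧ ∀ a : G, a ∈ Subgroup.normalizer ((R : Subgroup G) : Set G) → orderOf a = 2 → (∀ b : G, orderOf b = 2 → b ∉ Cfsg.pCore 2 G → ∃ g : G, g * a * g⁻¹ = b) ∧ Nat.card ↥(Cfsg.pCore 2 G ⊓ Subgroup.centralizer ({a} : Set G)) ^ 2 = Nat.card ↥(Cfsg.pCore 2 G) := by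
  have hQ2 : IsPGroup 2 (Cfsg.pCore 2 G) :=
    Sylow.sSup_of_normal _ (fun _ h => h.2) (fun _ h => h.1)
  obtain ⟨n, hn⟩ := IsPGroup.iff_card.mp hQ2
  obtain ⟨e⟩ := hquot
  obtain ⟨π, hπdef⟩ : ∃ π : G →* DihedralGroup r,
      π = e.toMonoidHom.comp (QuotientGroup.mk' (Cfsg.pCore 2 G)) := ⟨_, rfl⟩
  have hπ : Function.Surjective π := by
    rw [hπdef]; exact e.surjective.comp (QuotientGroup.mk'_surjective _)
  have hker : ∀ g, π g = 1 ↔ g ∈ Cfsg.pCore 2 G := by
    intro g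
    rw [hπdef]
    show e (QuotientGroup.mk' _ g) = 1 ↔ _
    rw [map_eq_one_iff e e.injective]
    exact QuotientGroup.eq_one_iff g
  refine ⟨?_, ?_⟩
  · refine ⟨MulEquiv.ofBijective (π.comp (Subgroup.subtype _)) ⟨?_, ?_⟩⟩
    · rw [injective_iff_map_eq_one]
      intro q hq
      exact Subtype.ext (norm_inter hr _ n hn R hC q q.2 ((hker q).mp hq))
    · intro d
      obtain ⟨m, hm, hmd⟩ := norm_surj hr _ n hn π hπ hker R d
      exact ⟨⟨m, hm⟩, hmd⟩
  · intro a haN ha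
    refine ⟨fun b hb hbQ => conj_inv hr _ n hn π hπ hker R hC a haN ha b hb hbQ, ?_⟩
    have haa : a * a = 1 := by rw [← pow_two, ← ha, pow_orderOf_eq_one]
    have ha1 : a ≠ 1 := by
      rintro rfl
      rw [orderOf_one] at ha
      norm_num at ha
    obtain ⟨i, hi⟩ := refl_of_inv hr (π a)
      (fun h => ha1 (norm_inter hr _ n hn R hC a haN ((hker a).mp h)))
      (by rw [← map_mul, haa, map_one])
    exact card_cent hr _ n hn π hπ hker R hC a haa i hi

end Cfsg.Agent.S2873
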