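import Cfsg.Statements.S2874
import Cfsg.Agent.Lib.Helper71.A4GL

set_option autoImplicit false
open Cfsg

namespace Cfsg.Agent.S2874

open Cfsg.Agent.Lib.Helper71.A4GL

/-- For k ≥ 2, any two subgroups of GL₂(ℤ/2ᵏℤ) (the automorphism group of the homocyclic group ℤ/2ᵏ × ℤ/2ᵏ) that are isomorphic to the alternating group of degree 4 are conjugate. -/
theorem result (k : ℕ) (hk : 2 ≤ k) (H₁ H₂ : Subgroup (GL (Fin 2) (ZMod (2 ^ k)))) (h₁ : Nonempty (↥H₁ ≃* ↥(alternatingGroup (Fin 4)))) (h₂ : Nonempty (↥H₂ ≃* ↥(alternatingGroup (Fin 4)))) : ∃ g : GL (Fin 2) (ZMod (2 ^ k)), H₂ = H₁.map (MulAut.conj g).toMonoidHom := by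
  have hk1 : 1 ≤ k := by omega
  obtain ⟨e₁⟩ := h₁
  obtain ⟨e₂⟩ := h₂
  let φ₁ : A4 →* GL (Fin 2) (ZMod (2 ^ k)) := H₁.subtype.comp e₁.symm.toMonoidHom
  let φ₂ : A4 →* GL (Fin 2) (ZMod (2 ^ k)) := H₂.subtype.comp e₂.symm.toMonoidHom
  have hφ₁ : Function.Injective φ₁ := Subtype.val_injective.comp e₁.symm.injective
  have hφ₂ : Function.Injective φ₂ := Subtype.val_injective.comp e₂.symm.injective
  have hr₁ : φ₁.range = H₁ := by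
    ext x
    constructor
    · rintro ⟨y, rfl⟩
      exact (e₁.symm y).2
    · intro hx
      exact ⟨e₁ ⟨x, hx⟩, by simp [φ₁]⟩
  have hr₂ : φ₂.range = H₂ := by
    ext x
    constructor
    · rintro ⟨y, rfl⟩
      exact (e₂.symm y).2
    · intro hx
      exact ⟨e₂ ⟨x, hx⟩, by simp [φ₂]⟩
  obtain ⟨g₁, t₁, ht₁⟩ := exists_conj_t0 k hk1 φ₁ hφ₁
  obtain ⟨g₂, t₂, ht₂⟩ := exists_conj_t0 k hk1 φ₂ hφ₂
  let ψ₁ : A4 →* GL (Fin 2) (ZMod (2 ^ k)) := (MulAut.conj g₁).toMonoidHom.comp φ₁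
  let ψ₂ : A4 →* GL (Fin 2) (ZMod (2 ^ k)) := (MulAut.conj g₂).toMonoidHom.comp φ₂
  have hψ₁ : Function.Injective ψ₁ := (MulAut.conj g₁).injective.comp hφ₁
  have hψ₂ : Function.Injective ψ₂ := (MulAut.conj g₂).injective.comp hφ₂
  have heq : ψ₁.range = ψ₂.range :=
    le_antisymm (range_le_range k hk1 ψ₁ ψ₂ hψ₁ hψ₂ t₁ t₂ ht₁ ht₂)
      (range_le_range k hk1 ψ₂ ψ₁ hψ₂ hψ₁ t₂ t₁ ht₂ ht₁)
  have hm₁ : ψ₁.range = H₁.map (MulAut.conj g₁).toMonoidHom := by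
    rw [← hr₁, MonoidHom.range_eq_map, MonoidHom.range_eq_map, Subgroup.map_map]
  have hm₂ : ψ₂.range = H₂.map (MulAut.conj g₂).toMonoidHom := by
    rw [← hr₂, MonoidHom.range_eq_map, MonoidHom.range_eq_map, Subgroup.map_map]
  refine ⟨g₂⁻¹ * g₁, ?_⟩
  have h3 : (H₂.map (MulAut.conj g₂).toMonoidHom).map (MulAut.conj g₂⁻¹).toMonoidHom = H₂ := by
    rw [Subgroup.map_map]
    have : (MulAut.conj g₂⁻¹).toMonoidHom.comp (MulAut.conj g₂).toMonoidHom = MonoidHom.id _ := by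
      apply MonoidHom.ext
      intro x
      show g₂⁻¹ * (g₂ * x * g₂⁻¹) * g₂⁻¹⁻¹ = x
      group
    rw [this, Subgroup.map_id]
  rw [← h3, ← hm₂, ← heq, hm₁, Subgroup.map_map]
  congr 1
  apply MonoidHom.ext
  intro x
  show g₂⁻¹ * (g₁ * x * g₁⁻¹) * g₂⁻¹⁻¹ = g₂⁻¹ * g₁ * x * (g₂⁻¹ * g₁)⁻¹
  group

end Cfsg.Agent.S2874
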