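import Cfsg.Statements.S2879
import Cfsg.Agent.Lib.Helper71.CycIdx
import Cfsg.Agent.Lib.Helper71.SL23b
import Cfsg.Agent.Lib.Helper71.DihData
import Cfsg.Agent.Lib.Helper71.QuatOdd
import Cfsg.Agent.Lib.Helper71.Q8Act
import Cfsg.Agent.Lib.Helper27.SolvBalance
import Cfsg.Agent.Lib.Helper51.PCore
import Cfsg.Agent.S3742

set_option autoImplicit false
open Cfsg

namespace Cfsg.Agent.S2879

open Cfsg.Agent.Lib.Helper71 Subgroup

theorem q8_center : ∀ u : QuaternionGroup 2, (∀ v, u * v = v * u) → u = 1 ∨ u = QuaternionGroup.a 2 := by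
  decide

/-- Let G be a finite solvable group with O(G) = 1 whose Sylow 2-subgroup T is dihedral of order at least 8 or semidihedral, with G ≠ T and Z(T) normal in G. Then G has a normal subgroup isomorphic to SL₂(3). -/
theorem result {G : Type*} [Group G] [Finite G] (hsol : IsSolvable G) (hO : Cfsg.oddCore G = ⊥) (T : Sylow 2 G) (hT : (∃ n : ℕ, 4 ≤ n ∧ Nonempty (↥(T : Subgroup G) ≃* DihedralGroup n)) ∨ Cfsg.IsQuasiDihedral ↥(T : Subgroup G)) (hne : (T : Subgroup G) ≠ ⊤) (hZ : ((T : Subgroup G) ⊓ Subgroup.centralizer ((T : Subgroup G) : Set G)).Normal) : ∃ U : Subgroup G, U.Normal ∧ Nonempty (↥U ≃* Matrix.SpecialLinearGroup (Fin 2) (ZMod 3)) := by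
  classical
  have : Fact (Nat.Prime 2) := ⟨Nat.prime_two⟩
  set Q : Subgroup G := Cfsg.pCore 2 G with hQdef
  have hQn : Q.Normal := Cfsg.Agent.Lib.Helper51.pCore_normal 2
  have hQT : Q ≤ T := Cfsg.Agent.Lib.Helper51.pCore_le_sylow 2 T
  have hQ2 : IsPGroup 2 Q := Cfsg.Agent.Lib.Helper51.pCore_isPGroup 2
  have hCQ : Subgroup.centralizer (Q : Set G) ≤ Q :=
    Cfsg.Agent.Lib.Helper27.centralizer_pCore_le_of_solvable 2 hsol hO
  -- data in T
  obtain ⟨c, y, hcard, hyc⟩ := exists_cyc_data hT
  set C : Subgroup G := Subgroup.zpowers (c : G) with hC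
  have hCT : C ≤ T := zpowers_le.2 c.2
  have hCcard : Nat.card C = orderOf c := by
    rw [hC, Nat.card_zpowers, Subgroup.orderOf_coe]
  have hCrel : C.relIndex T = 2 := by
    have h1 := Subgroup.relIndex_mul_relIndex ⊥ C T bot_le hCT
    rw [Subgroup.relIndex_bot_left, Subgroup.relIndex_bot_left, hCcard, hcard] at h1
    have h2 : 0 < orderOf c := orderOf_pos c
    nlinarith
  have hcomm : ∀ u ∈ C, u * (c : G) = c * u := by
    rintro _ ⟨k, rfl⟩
    exact ((Commute.refl (c : G)).zpow_left k).eq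
  have hyc' : (y : G) * c ≠ c * y := fun h => hyc (Subtype.ext h)
  have hE2 : ∀ u ∈ (T : Subgroup G), u * (c : G) = c * u → u ∈ C := by
    intro u huT huc
    by_contra huC
    have hyC : (y : G) ∉ C := fun h => hyc' (hcomm _ h)
    have h1 := Cfsg.Agent.Lib.Helper68.MT.rel_two hCrel.le huT y.2 huC hyC
    apply hyc'
    have h2 : Commute (u⁻¹ * (y : G)) (c : G) := hcomm _ h1
    have h3 : Commute u (c : G) := huc
    have h4 := h3.mul_left h2
    rw [mul_inv_cancel_left] at h4
    exact h4.eq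
  set Z : Subgroup G := (T : Subgroup G) ⊓ Subgroup.centralizer ((T : Subgroup G) : Set G) with hZdef
  have hZC : Z ≤ C := by
    intro u hu
    apply hE2 u hu.1
    exact (Subgroup.mem_centralizer_iff.1 hu.2 c c.2).symm
  have hZcyc : IsCyclic Z := Subgroup.isCyclic_of_le hZC
  have hZQ : Z ≤ Q := by
    intro u hu
    exact hCQ (Subgroup.centralizer_le hQT hu.2)
  -- a nontrivial central element
  obtain ⟨z, hzZ, hz1⟩ : ∃ z ∈ Z, z ≠ 1 := by
    have hnt : Nontrivial (T : Subgroup G) := ⟨⟨y * c, c * y, hyc⟩⟩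
    have := T.2.center_nontrivial
    obtain ⟨w, hw⟩ := exists_ne (1 : Subgroup.center (T : Subgroup G))
    refine ⟨((w : (T : Subgroup G)) : G), ⟨(w : (T : Subgroup G)).2, ?_⟩, ?_⟩
    · show ((w : (T : Subgroup G)) : G) ∈ Subgroup.centralizer ((T : Subgroup G) : Set G)
      rw [Subgroup.mem_centralizer_iff]
      intro h hh
      have := Subgroup.mem_center_iff.1 w.2 ⟨h, hh⟩
      exact congrArg Subtype.val this
    · intro h
      apply hw
      exact Subtype.ext (Subtype.ext h)
  -- an element of odd prime order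
  obtain ⟨r, hr, hr2, x, hx⟩ : ∃ r : ℕ, r.Prime ∧ r ≠ 2 ∧ ∃ x : G, orderOf x = r := by
    have h1 : (T : Subgroup G).index ≠ 1 := fun h => hne (Subgroup.index_eq_one.1 h)
    obtain ⟨r, hr, hrd⟩ := Nat.exists_prime_and_dvd h1
    have : Fact r.Prime := ⟨hr⟩
    refine ⟨r, hr, ?_, ?_⟩
    · rintro rfl
      exact T.not_dvd_index hrd
    · exact exists_prime_orderOf_dvd_card' r (hrd.trans (Subgroup.index_dvd_card _))
  have : Fact r.Prime := ⟨hr⟩
  have hcop : (orderOf x).Coprime 2 := by
    rw [hx]; exact (Nat.coprime_primes hr Nat.prime_two).2 hr2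
  have hxr : x ^ r = 1 := by rw [← hx]; exact pow_orderOf_eq_one x
  have hx1 : x ≠ 1 := by
    rintro rfl
    rw [orderOf_one] at hx
    exact hr.one_lt.ne hx
  have hxQ : x ∉ Q := by
    intro h
    obtain ⟨k, hk⟩ := (IsPGroup.iff_orderOf.1 hQ2) ⟨x, h⟩
    rw [Subgroup.orderOf_mk] at hk
    rw [hk] at hcop
    rcases Nat.eq_zero_or_pos k with rfl | hk0
    · rw [pow_zero] at hk
      exact hx1 (orderOf_eq_one_iff.1 hk)
    · have : (2 : ℕ) ∣ Nat.gcd (2 ^ k) 2 := Nat.dvd_gcd (dvd_pow_self 2 hk0.ne') dvd_rfl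
      rw [Nat.Coprime] at hcop
      rw [hcop] at this
      omega
  have hnc : ∃ q ∈ Q, x * q ≠ q * x := by
    by_contra hcon
    push Not at hcon
    apply hxQ
    apply hCQ
    rw [Subgroup.mem_centralizer_iff]
    intro q hq
    exact (hcon q hq).symm
  have hxz : x * z = z * x := by
    have hZ2 : IsPGroup 2 Z := hQ2.to_le hZQ
    exact odd_centralizes_cyclic Z hZ2 x (by rw [Subgroup.normalizer_eq_top]; trivial) hcop z hzZ
  -- the automorphism
  set δ : MulAut Q := MulAut.conjNormal x with hδdef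
  have hδapp : ∀ q : Q, ((δ q : Q) : G) = x * q * x⁻¹ := fun q => MulAut.conjNormal_apply x q
  have hδr : δ ^ r = 1 := by rw [hδdef, ← map_pow, hxr, map_one]
  have hδ1 : δ ≠ 1 := by
    intro h
    obtain ⟨q, hq, hxq⟩ := hnc
    apply hxq
    have h1 := hδapp ⟨q, hq⟩
    rw [h, MulAut.one_apply] at h1
    calc x * q = (x * q * x⁻¹) * x := by group
      _ = q * x := by rw [← h1]
  have hAcyc : IsCyclic (C.subgroupOf Q) := by
    let f : C.subgroupOf Q →* C :=
      { toFun := fun u => ⟨((u : Q) : G), Subgroup.mem_subgroupOf.1 u.2⟩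
        map_one' := rfl
        map_mul' := fun _ _ => rfl }
    apply isCyclic_of_injective f
    intro u v huv
    exact Subtype.ext (Subtype.ext (congrArg (fun t : C => (t : G)) huv))
  have hAidx : (C.subgroupOf Q).index ≤ 2 := by
    have := Subgroup.relIndex_le_of_le_right (H := C) hQT (by rw [hCrel]; norm_num)
    rw [hCrel] at this
    exact this
  have huniq := unique_invol_of_cyclic_index hQ2 (C.subgroupOf Q) hAidx δ hr2 hδr hδ1
    ⟨z, hZQ hzZ⟩ (fun h => hz1 (congrArg Subtype.val h)) (by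
      apply Subtype.ext
      rw [hδapp]
      show x * z * x⁻¹ = z
      rw [hxz]; group)
  obtain ⟨e⟩ := q8_of_odd_action Q hQ2 (by
    intro s hs t ht hs2 ht2
    have := huniq ⟨s, hs⟩ ⟨t, ht⟩ (by rw [Subgroup.orderOf_mk]; exact hs2)
      (by rw [Subgroup.orderOf_mk]; exact ht2)
    exact congrArg Subtype.val this) x (by rw [Subgroup.normalizer_eq_top]; trivial) hcop hnc
  -- order of the automorphism group
  have hAut : Nat.card (MulAut Q) = 24 := by
    obtain ⟨e4⟩ := Cfsg.Agent.S3742.result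
    rw [Nat.card_congr ((MulAut.congr e).trans e4).toEquiv, Nat.card_eq_fintype_card,
      Fintype.card_perm, Fintype.card_fin]
    rfl
  have hr3 : r = 3 := by
    have h1 : orderOf δ = r := orderOf_eq_prime hδr hδ1
    have h2 : r ∣ 24 := by rw [← h1, ← hAut]; exact orderOf_dvd_natCard δ
    have h3 : r ∣ 2 ^ 3 * 3 := by norm_num; exact h2
    rcases (Nat.Prime.dvd_mul hr).1 h3 with h | h
    · exact absurd ((Nat.prime_dvd_prime_iff_eq hr Nat.prime_two).1 (hr.dvd_of_dvd_pow h)) hr2
    · exact (Nat.prime_dvd_prime_iff_eq hr Nat.prime_three).1 h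
  subst hr3
  obtain ⟨i, j, hiQ, hjQ, hi4, hjj, hji, hjn, hxi, hxj, -, -⟩ := q8_action Q e x
    (fun u hu => hQn.conj_mem u hu x) 3 (by decide) hxr (by
      obtain ⟨q, hq, hxq⟩ := hnc
      refine ⟨q, hq, fun h => hxq ?_⟩
      calc x * q = (x * q * x⁻¹) * x := by group
        _ = q * x := by rw [h])
  obtain ⟨U, ⟨eU⟩⟩ := exists_subgroup_SL23 i j x hi4 hjj hji hjn hxi hxj hxr
  refine ⟨U, ?_, ⟨eU⟩⟩
  have hUcard : Nat.card U = 24 := by
    rw [Nat.card_congr eU.toEquiv, Nat.card_eq_fintype_card, card_sl23]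
  -- the order of G
  have hker : Nat.card (MulAut.conjNormal (H := Q)).ker ≤ 2 := by
    have hsub : ((MulAut.conjNormal (H := Q)).ker : Set G) ⊆ {1, ((e.symm (QuaternionGroup.a 2) : Q) : G)} := by
      intro g hg
      have hg1 : MulAut.conjNormal (H := Q) g = 1 := hg
      have hgc : ∀ q : Q, g * q = q * g := by
        intro q
        have h1 : ((MulAut.conjNormal g q : Q) : G) = g * q * g⁻¹ := MulAut.conjNormal_apply g q
        rw [hg1, MulAut.one_apply] at h1
        calc g * q = (g * q * g⁻¹) * g := by group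
          _ = q * g := by rw [← h1]
      have hgQ : g ∈ Q := by
        apply hCQ
        rw [Subgroup.mem_centralizer_iff]
        intro q hq
        exact (hgc ⟨q, hq⟩).symm
      rcases q8_center (e ⟨g, hgQ⟩) (by
        intro v
        obtain ⟨q, rfl⟩ := e.surjective v
        rw [← map_mul, ← map_mul]
        congr 1
        exact Subtype.ext (hgc q)) with h | h
      · left
        have : (⟨g, hgQ⟩ : Q) = 1 := e.injective (by rw [h, map_one])
        exact congrArg Subtype.val this
      · right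
        have : (⟨g, hgQ⟩ : Q) = e.symm (QuaternionGroup.a 2) := by
          rw [← h, MulEquiv.symm_apply_apply]
        exact congrArg Subtype.val this
    calc Nat.card (MulAut.conjNormal (H := Q)).ker
        = ((MulAut.conjNormal (H := Q)).ker : Set G).ncard := rfl
      _ ≤ ({1, ((e.symm (QuaternionGroup.a 2) : Q) : G)} : Set G).ncard :=
          Set.ncard_le_ncard hsub (Set.toFinite _)
      _ ≤ 2 := by
          refine (Set.ncard_insert_le _ _).trans ?_
          rw [Set.ncard_singleton]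
  have hG : Nat.card G ≤ 48 := by
    have h1 := Subgroup.card_mul_index (MulAut.conjNormal (H := Q)).ker
    rw [Subgroup.index_ker] at h1
    have h2 : Nat.card (MulAut.conjNormal (H := Q)).range ≤ 24 := by
      rw [← hAut]; exact Subgroup.card_le_card_group _
    nlinarith
  have hidx : U.index ≤ 2 := by
    have h1 := Subgroup.card_mul_index U
    rw [hUcard] at h1
    omega
  have h0 : U.index ≠ 0 := Subgroup.index_ne_zero_of_finite
  by_cases h1 : U.index = 1
  · rw [Subgroup.index_eq_one.1 h1]; infer_instance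
  · exact Subgroup.normal_of_index_eq_two (by omega)

end Cfsg.Agent.S2879
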