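import Cfsg.Statements.S2880
import Mathlib

set_option autoImplicit false
open Cfsg

namespace Cfsg.Agent.S2880

open scoped commutatorElement

open scoped Classical in
/-- the sign attached to an element: `1` for the identity, `-1` otherwise -/
noncomputable def sgn {E : Type*} [Group E] (w : E) : ℤ := if w = 1 then 1 else -1

theorem sgn_one {E : Type*} [Group E] : sgn (1 : E) = 1 := by simp [sgn]

theorem sgn_of_ne {E : Type*} [Group E] {w : E} (h : w ≠ 1) : sgn w = -1 := by simp [sgn, h]

theorem sum_eq_zero_of_mul {X : Type*} [Group X] [Fintype X] (f : X → ℤ)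
    (hmul : ∀ x y, f (x * y) = f x * f y) (x₀ : X) (hx₀ : f x₀ = -1) : ∑ x, f x = 0 := by
  have h1 : ∑ x, f x = ∑ x, f (x₀ * x) := (Fintype.sum_equiv (Equiv.mulLeft x₀) _ _ (fun _ => rfl)).symm
  have h2 : ∑ x, f (x₀ * x) = - ∑ x, f x := by
    simp_rw [hmul, hx₀]
    rw [← Finset.mul_sum]; ring
  linarith

section
variable {E : Type*} [Group E]

theorem comm_mul_right (hc : ∀ x y : E, ⁅x, y⁆ ∈ Subgroup.center E) (x a b : E) :
    ⁅x, a * b⁆ = ⁅x, a⁆ * ⁅x, b⁆ := by
  have h := (Subgroup.mem_center_iff.mp (hc x b)) a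
  have h1 : ⁅x, a * b⁆ = ⁅x, a⁆ * (a * ⁅x, b⁆) * a⁻¹ := by
    simp only [commutatorElement_def]; group
  rw [h1, h]; group

theorem comm_mul_left (hc : ∀ x y : E, ⁅x, y⁆ ∈ Subgroup.center E) (x y a : E) :
    ⁅x * y, a⁆ = ⁅x, a⁆ * ⁅y, a⁆ := by
  have h := (Subgroup.mem_center_iff.mp (hc y a)) x
  have h1 : ⁅x * y, a⁆ = (x * ⁅y, a⁆) * x⁻¹ * ⁅x, a⁆ := by
    simp only [commutatorElement_def]; group
  have h2 := (Subgroup.mem_center_iff.mp (hc y a)) ⁅x, a⁆
  rw [h1, h, mul_assoc, mul_assoc, ← mul_assoc x x⁻¹, mul_inv_cancel, one_mul, h2]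

/-- In a group whose centre has order two, the sign is multiplicative on the centre. -/
theorem sgn_mul (hZ : Nat.card (Subgroup.center E) = 2) {u v : E} (hu : u ∈ Subgroup.center E)
    (hv : v ∈ Subgroup.center E) : sgn (u * v) = sgn u * sgn v := by
  by_cases hu1 : u = 1
  · subst hu1; simp [sgn_one]
  by_cases hv1 : v = 1
  · subst hv1; simp [sgn_one]
  have huv : u * v = 1 := by
    by_contra hne
    obtain ⟨z, -, hz⟩ := (Nat.card_eq_two_iff' (1 : Subgroup.center E)).mp hZ
    have h1 : (⟨u, hu⟩ : Subgroup.center E) = z := hz _ (by simpa [Subtype.ext_iff] using hu1)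
    have h2 : (⟨u * v, Subgroup.mul_mem _ hu hv⟩ : Subgroup.center E) = z :=
      hz _ (by simpa [Subtype.ext_iff] using hne)
    have h3 : u * v = u := by
      have := h2.trans h1.symm
      simpa [Subtype.ext_iff] using this
    exact hv1 (by simpa using h3)
  rw [huv, sgn_one, sgn_of_ne hu1, sgn_of_ne hv1]; norm_num

end

open scoped Classical in
theorem sum_ite_mem {X : Type*} [Group X] [Fintype X] (C : Subgroup X) (c : ℤ) :
    ∑ x : X, (if x ∈ C then c else 0) = (Nat.card C : ℤ) * c := by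
  rw [← Finset.sum_filter, Finset.sum_const, nsmul_eq_mul]
  congr 2
  rw [Nat.card_eq_fintype_card, Fintype.card_subtype]


/-- Let E be an extraspecial 2-group of order 2^(2m+1) of plus type, that is, containing an elementary abelian subgroup of order 2^(m+1) (equivalently, a central product of m dihedral groups of order 8). Then E has exactly 2^(2m) − 2^m elements of order 4. -/
theorem result {E : Type*} [Group E] [Finite E] (m : ℕ) (hm : 1 ≤ m) (hE : Cfsg.IsExtraspecial 2 E) (hcard : Nat.card E = 2 ^ (2 * m + 1)) (hplus : ∃ A : Subgroup E, Cfsg.IsElementaryAbelian 2 A ∧ Nat.card A = 2 ^ (m + 1)) : Nat.card {x : E // orderOf x = 4} = 2 ^ (2 * m) - 2 ^ m := by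
  classical
  have : Fintype E := Fintype.ofFinite E
  obtain ⟨⟨hp2, hfr, hcomm⟩, hZ⟩ := hE
  obtain ⟨A, ⟨hAc, hA2⟩, hAcard⟩ := hplus
  have hc : ∀ x y : E, ⁅x, y⁆ ∈ Subgroup.center E := by
    intro x y
    rw [← hcomm]
    exact Subgroup.commutator_mem_commutator (Subgroup.mem_top x) (Subgroup.mem_top y)
  have hZ2 : ∀ w ∈ Subgroup.center E, w ^ 2 = 1 := by
    intro w hw
    have h1 : (⟨w, hw⟩ : Subgroup.center E) ^ Nat.card (Subgroup.center E) = 1 := pow_card_eq_one'
    rw [hZ] at h1
    simpa [Subtype.ext_iff] using h1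
  have hsq : ∀ x : E, x ^ 2 ∈ Subgroup.center E := by
    intro x
    rw [Subgroup.mem_center_iff]
    intro y
    have h1 : ⁅x * x, y⁆ = 1 := by rw [comm_mul_left hc, ← pow_two, hZ2 _ (hc x y)]
    have h2 := commutatorElement_eq_one_iff_mul_comm.mp h1
    rw [pow_two]; exact h2.symm
  -- the two character sums
  have hSA : ∀ x : E, ∑ a : A, sgn ⁅x, (a : E)⁆ =
      if x ∈ Subgroup.centralizer (A : Set E) then (Nat.card A : ℤ) else 0 := by
    intro x
    split_ifs with hx
    · have h1 : ∀ a : A, sgn ⁅x, (a : E)⁆ = 1 := by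
        intro a
        have h2 : ⁅x, (a : E)⁆ = 1 := by
          rw [commutatorElement_eq_one_iff_mul_comm]
          exact ((Subgroup.mem_centralizer_iff.mp hx) a a.2).symm
        rw [h2, sgn_one]
      simp only [h1, Finset.sum_const, Finset.card_univ, nsmul_eq_mul, mul_one]
      rw [Nat.card_eq_fintype_card]
    · rw [Subgroup.mem_centralizer_iff] at hx
      push Not at hx
      obtain ⟨a₀, ha₀, hne⟩ := hx
      apply sum_eq_zero_of_mul (fun a : A => sgn ⁅x, (a : E)⁆) _ ⟨a₀, ha₀⟩
      · apply sgn_of_ne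
        rw [Ne, commutatorElement_eq_one_iff_mul_comm]
        exact fun h => hne h.symm
      · intro a b
        simp only [Subgroup.coe_mul]
        rw [comm_mul_right hc, sgn_mul hZ (hc _ _) (hc _ _)]
  have hSE : ∀ a : E, ∑ x : E, sgn ⁅x, a⁆ =
      if a ∈ Subgroup.center E then (Nat.card E : ℤ) else 0 := by
    intro a
    split_ifs with ha
    · have h1 : ∀ x : E, sgn ⁅x, a⁆ = 1 := by
        intro x
        have h2 : ⁅x, a⁆ = 1 := by
          rw [commutatorElement_eq_one_iff_mul_comm]
          exact (Subgroup.mem_center_iff.mp ha) x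
        rw [h2, sgn_one]
      simp only [h1, Finset.sum_const, Finset.card_univ, nsmul_eq_mul, mul_one]
      rw [Nat.card_eq_fintype_card]
    · rw [Subgroup.mem_center_iff] at ha
      push Not at ha
      obtain ⟨x₀, hne⟩ := ha
      apply sum_eq_zero_of_mul (fun x : E => sgn ⁅x, a⁆) _ x₀
      · apply sgn_of_ne
        rw [Ne, commutatorElement_eq_one_iff_mul_comm]
        exact hne
      · intro x y
        show sgn ⁅x * y, a⁆ = sgn ⁅x, a⁆ * sgn ⁅y, a⁆
        rw [comm_mul_left hc, sgn_mul hZ (hc _ _) (hc _ _)]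
  -- Step 1 : the centralizer of A is A
  have hAC : A ≤ Subgroup.centralizer (A : Set E) := by
    intro a ha
    rw [Subgroup.mem_centralizer_iff]
    intro b hb
    exact setLike_mul_comm hb ha
  have hCA : A = Subgroup.centralizer (A : Set E) := by
    apply Subgroup.eq_of_le_of_card_ge hAC
    have h1 : ∑ x : E, ∑ a : A, sgn ⁅x, (a : E)⁆ = ∑ a : A, ∑ x : E, sgn ⁅x, (a : E)⁆ := Finset.sum_comm
    simp_rw [hSA, hSE] at h1
    rw [sum_ite_mem] at h1
    have h2 : ∑ a : A, (if (a : E) ∈ Subgroup.center E then (Nat.card E : ℤ) else 0) =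
        (Nat.card ((Subgroup.center E).subgroupOf A) : ℤ) * Nat.card E := by
      rw [← sum_ite_mem]
      apply Finset.sum_congr rfl
      intro a _
      by_cases ha : (a : E) ∈ Subgroup.center E
      · rw [if_pos ha, if_pos (by rw [Subgroup.mem_subgroupOf]; exact ha)]
      · rw [if_neg ha, if_neg (by rw [Subgroup.mem_subgroupOf]; exact ha)]
    rw [h2] at h1
    have h3 : Nat.card ((Subgroup.center E).subgroupOf A) ≤ 2 := by
      rw [← hZ]
      apply Nat.card_le_card_of_injective
        (fun a : (Subgroup.center E).subgroupOf A => (⟨(a : A), a.2⟩ : Subgroup.center E))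
      intro a b hab
      apply Subtype.ext
      apply Subtype.ext
      exact congrArg (fun w : Subgroup.center E => (w : E)) hab
    have h4 : Nat.card (Subgroup.centralizer (A : Set E)) * Nat.card A =
        Nat.card ((Subgroup.center E).subgroupOf A) * Nat.card E := by exact_mod_cast h1
    rw [hAcard, hcard] at h4
    rw [hAcard]
    have h5 : Nat.card (Subgroup.centralizer (A : Set E)) * 2 ^ (m + 1) ≤ 2 ^ (m + 1) * 2 ^ (m + 1) := by
      rw [h4]
      calc Nat.card ((Subgroup.center E).subgroupOf A) * 2 ^ (2 * m + 1) ≤ 2 * 2 ^ (2 * m + 1) :=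
            Nat.mul_le_mul_right _ h3
        _ = 2 ^ (m + 1) * 2 ^ (m + 1) := by ring
    exact Nat.le_of_mul_le_mul_right h5 (by positivity)
  -- Step 2
  have hkey : ∀ (x : E) (a : A), sgn ((x * (a : E)) ^ 2) = sgn (x ^ 2) * sgn ⁅x⁻¹, (a : E)⁆ := by
    intro x a
    have ha : (a : E)⁻¹ = a := by
      have := hA2 a a.2
      rw [pow_two] at this
      exact inv_eq_of_mul_eq_one_left this
    have h1 : (x * (a : E)) ^ 2 = x ^ 2 * ⁅x⁻¹, (a : E)⁆ := by
      rw [commutatorElement_def, ha, pow_two, pow_two]; group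
    rw [h1, sgn_mul hZ (hsq x) (hc _ _)]
  have hsum : ∑ x : E, sgn (x ^ 2) = (Nat.card A : ℤ) := by
    have h1 : ∑ a : A, ∑ x : E, sgn ((x * (a : E)) ^ 2) = (Nat.card A : ℤ) * ∑ x : E, sgn (x ^ 2) := by
      have : ∀ a : A, ∑ x : E, sgn ((x * (a : E)) ^ 2) = ∑ x : E, sgn (x ^ 2) := by
        intro a
        exact Fintype.sum_equiv (Equiv.mulRight (a : E)) _ _ (fun _ => rfl)
      simp only [this, Finset.sum_const, Finset.card_univ, nsmul_eq_mul]
      rw [Nat.card_eq_fintype_card]
    have h2 : ∑ a : A, ∑ x : E, sgn ((x * (a : E)) ^ 2) = (Nat.card A : ℤ) * (Nat.card A : ℤ) := by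
      rw [Finset.sum_comm]
      simp_rw [hkey, ← Finset.mul_sum, hSA]
      rw [← sum_ite_mem]
      apply Finset.sum_congr rfl
      intro x _
      rw [← hCA]
      by_cases hx : x ∈ A
      · have hx' : x⁻¹ ∈ A := A.inv_mem hx
        rw [if_pos hx, if_pos hx', hA2 x hx, sgn_one, one_mul]
      · have hx' : x⁻¹ ∉ A := fun h => hx (by simpa using A.inv_mem h)
        rw [if_neg hx, if_neg hx', mul_zero]
    have h3 : (Nat.card A : ℤ) ≠ 0 := by
      rw [hAcard]; positivity
    exact mul_left_cancel₀ h3 (h1.symm.trans h2)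
  -- Step 3
  have hcount : Nat.card {x : E // orderOf x = 4} = (Finset.univ.filter (fun x : E => ¬ x ^ 2 = 1)).card := by
    rw [Nat.card_eq_fintype_card, Fintype.card_subtype]
    congr 1
    ext x
    simp only [Finset.mem_filter, Finset.mem_univ, true_and]
    constructor
    · intro h4 h2
      have := orderOf_dvd_of_pow_eq_one h2
      rw [h4] at this
      omega
    · intro h2
      have h4 : x ^ 2 ^ (1 + 1) = 1 := by
        have := hZ2 _ (hsq x)
        rw [← pow_mul] at this
        simpa using this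
      have := orderOf_eq_prime_pow (p := 2) (n := 1) (by simpa using h2) h4
      simpa using this
  have hs : ∑ x : E, sgn (x ^ 2) = ((Finset.univ.filter (fun x : E => x ^ 2 = 1)).card : ℤ) -
      ((Finset.univ.filter (fun x : E => ¬ x ^ 2 = 1)).card : ℤ) := by
    simp only [sgn]
    rw [Finset.sum_ite, Finset.sum_const, Finset.sum_const]
    simp
    ring
  have htot := Finset.card_filter_add_card_filter_not (s := (Finset.univ : Finset E)) (fun x : E => x ^ 2 = 1)
  rw [Finset.card_univ, ← Nat.card_eq_fintype_card, hcard] at htot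
  rw [hsum, hAcard] at hs
  rw [hcount]
  have e1 : 2 ^ (2 * m + 1) = 2 * 2 ^ (2 * m) := by ring
  have e2 : 2 ^ (m + 1) = 2 * 2 ^ m := by ring
  rw [e1] at htot
  rw [e2] at hs
  push_cast at hs
  generalize (Finset.univ.filter (fun x : E => x ^ 2 = 1)).card = n1 at *
  generalize (Finset.univ.filter (fun x : E => ¬ x ^ 2 = 1)).card = n4 at *
  have hs' : (n1 : ℤ) - n4 = 2 * ((2 ^ m : ℕ) : ℤ) := by push_cast; linarith
  generalize 2 ^ (2 * m) = a at *
  generalize 2 ^ m = b at *
  omega

end Cfsg.Agent.S2880
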