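import Cfsg.Statements.S2881
import Mathlib
import Cfsg.Agent.S2880

set_option autoImplicit false
open Cfsg

namespace Cfsg.Agent.S2881

theorem orderOf_two_zmod_five : orderOf (2 : ZMod 5) = 4 := by
  have ha : ¬ (2 : ZMod 5) ^ 2 ^ 1 = 1 := by decide
  have hb : (2 : ZMod 5) ^ 2 ^ (1 + 1) = 1 := by decide
  have := orderOf_eq_prime_pow (x := (2 : ZMod 5)) (p := 2) (n := 1) ha hb
  simpa using this


/-- Let E be an extraspecial 2-group of order 2^(2m+1) of plus type (containing an elementary abelian subgroup of order 2^(m+1)), and let ω be an automorphism of E of order 5 whose fixed points are exactly the centre of E. Then m is divisible by 4. -/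
theorem result {E : Type*} [Group E] [Finite E] (m : ℕ) (hm : 1 ≤ m) (hE : Cfsg.IsExtraspecial 2 E) (hcard : Nat.card E = 2 ^ (2 * m + 1)) (hplus : ∃ A : Subgroup E, Cfsg.IsElementaryAbelian 2 A ∧ Nat.card A = 2 ^ (m + 1)) (ω : E ≃* E) (hω : orderOf ω = 5) (hfix : ∀ x : E, ω x = x ↔ x ∈ Subgroup.center E) : 4 ∣ m := by
  classical
  have hcount := Cfsg.Agent.S2880.result m hm hE hcard hplus
  have : Fintype E := Fintype.ofFinite E
  have hZ := hE.2
  have hZ2 : ∀ w ∈ Subgroup.center E, w ^ 2 = 1 := by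
    intro w hw
    have h1 : (⟨w, hw⟩ : Subgroup.center E) ^ Nat.card (Subgroup.center E) = 1 := pow_card_eq_one'
    rw [hZ] at h1
    simpa [Subtype.ext_iff] using h1
  let f : Function.End {x : E // orderOf x = 4} := fun x => ⟨ω x.1, by rw [MulEquiv.orderOf_eq]; exact x.2⟩
  have hfk : ∀ (k : ℕ) (x : {x : E // orderOf x = 4}), ((f ^ k) x).1 = (ω ^ k) x.1 := by
    intro k
    induction k with
    | zero => intro x; rfl
    | succ k ih =>
      intro x
      rw [pow_succ', pow_succ']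
      show ω ((f ^ k) x).1 = ω ((ω ^ k) x.1)
      rw [ih]
  have hf5 : f ^ 5 ^ 1 = 1 := by
    funext x
    apply Subtype.ext
    rw [pow_one, hfk, ← hω, pow_orderOf_eq_one]
    rfl
  haveI : Fact (Nat.Prime 5) := ⟨by norm_num⟩
  have hmod := Equiv.Perm.card_fixedPoints_modEq hf5
  have hfp : Fintype.card (Function.fixedPoints f) = 0 := by
    rw [Fintype.card_eq_zero_iff]
    constructor
    rintro ⟨x, hx⟩
    have h1 : ω x.1 = x.1 := congrArg Subtype.val hx
    have h2 := hZ2 _ ((hfix x.1).mp h1)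
    have h3 := orderOf_dvd_of_pow_eq_one h2
    rw [x.2] at h3
    omega
  rw [hfp, ← Nat.card_eq_fintype_card, hcount] at hmod
  have h5 : 5 ∣ 2 ^ (2 * m) - 2 ^ m := (Nat.modEq_zero_iff_dvd).mp hmod
  have e1 : 2 ^ (2 * m) - 2 ^ m = 2 ^ m * (2 ^ m - 1) := by
    rw [Nat.mul_sub, mul_one, two_mul, pow_add]
  rw [e1] at h5
  have h6 : 5 ∣ 2 ^ m - 1 := by
    apply Nat.Coprime.dvd_of_dvd_mul_left _ h5
    apply Nat.Coprime.pow_right
    norm_num
  have h7 : (2 : ZMod 5) ^ m = 1 := by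
    have h8 : ((2 ^ m - 1 : ℕ) : ZMod 5) = 0 := (ZMod.natCast_eq_zero_iff _ _).mpr h6
    rw [Nat.cast_sub Nat.one_le_two_pow] at h8
    push_cast at h8
    exact sub_eq_zero.mp h8
  rw [← orderOf_two_zmod_five]
  exact orderOf_dvd_of_pow_eq_one h7

end Cfsg.Agent.S2881
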