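import Cfsg.Statements.S2882
import Cfsg.Agent.Lib.Helper94.Syl2
import Cfsg.Agent.Lib.Helper94.ConjSub

set_option autoImplicit false
open Cfsg

namespace Cfsg.Agent.S2882

open Cfsg.Agent.Lib.Helper94

section
open scoped Pointwise

/-- the explicit subgroup of order 1024. -/
noncomputable def P0 : Subgroup ↥Cfsg.M24 := MulAction.stabilizer ↥Cfsg.M24 X7

theorem mem_P0 (n : ↥Cfsg.M24) : n ∈ P0 ↔ (n : Equiv.Perm Cfsg.GolayPt) • X7 = X7 := Iff.rfl

theorem card_P0 : Nat.card ↥P0 = 1024 := by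
  rw [← card_fixX]
  apply Nat.card_congr
  exact {
    toFun := fun x => ⟨x.1.1, x.1.2, (mem_P0 x.1).1 x.2⟩
    invFun := fun g => ⟨⟨g.1, g.2.1⟩, (mem_P0 _).2 g.2.2⟩
    left_inv := fun _ => rfl
    right_inv := fun _ => rfl }

theorem fact2 : (Nat.card ↥Cfsg.M24).factorization 2 = 10 := by
  rw [card_M24]
  have e : (244823040 : ℕ) = 2 ^ 10 * 239085 := by norm_num
  rw [e, Nat.factorization_mul (by norm_num) (by norm_num), Nat.Prime.factorization_pow (by norm_num)]
  simp only [Finsupp.coe_add, Pi.add_apply, Finsupp.single_eq_same]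
  rw [Nat.factorization_eq_zero_of_not_dvd (by norm_num)]

theorem normalizer_P0 : Subgroup.normalizer (P0 : Set ↥Cfsg.M24) = P0 := by
  apply le_antisymm _ Subgroup.le_normalizer
  intro n hn
  rw [mem_P0]
  apply norm_sub n.2
  intro p hp hpX
  exact (Subgroup.mem_normalizer_iff''.1 hn ⟨p, hp⟩).1 hpX

end

/-- In the Mathieu group of degree 24 (realised as the automorphism group of the extended binary Golay code) every Sylow 2-subgroup is self-normalizing. -/
theorem result (S : Sylow 2 ↥Cfsg.M24) : Subgroup.normalizer ((S : Subgroup ↥Cfsg.M24) : Set ↥Cfsg.M24) = (S : Subgroup ↥Cfsg.M24) := by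
  haveI : Fact (Nat.Prime 2) := ⟨by norm_num⟩
  obtain ⟨k, hk⟩ := exists_conj_of_card (S : Subgroup ↥Cfsg.M24) P0 S.card_eq_multiplicity
    (by rw [card_P0, fact2]; norm_num)
  rw [hk, normalizer_map_conj, normalizer_P0]

end Cfsg.Agent.S2882
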