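import Cfsg.Statements.S2911
import Mathlib
import Cfsg.Agent.S2872

set_option autoImplicit false
open Cfsg

namespace Cfsg.Agent.S2911

abbrev T := Multiplicative (ZMod 2) × DihedralGroup 4
def z₀ : T := (Multiplicative.ofAdd 1, 1)
def c₀ : T := (1, DihedralGroup.r 2)
def t₀ : T := (1, DihedralGroup.r 1)
theorem T1 : ∀ t : T, (∀ u : T, u * t = t * u) → t = 1 ∨ t = z₀ ∨ t = c₀ ∨ t = z₀ * c₀ := by decide
theorem T2 : ∀ t : T, t ^ 2 = 1 ∨ t ^ 2 = c₀ := by decide
theorem T3 : t₀ ^ 2 = c₀ ∧ c₀ ≠ 1 ∧ z₀ ≠ 1 ∧ z₀ ≠ c₀ ∧ z₀ ^ 2 = 1 ∧ c₀ ^ 2 = 1 ∧ (∀ u : T, u * z₀ = z₀ * u) := by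
  decide


/-- A finite group whose Sylow 2-subgroups are isomorphic to the direct product of a group of order 2 and a dihedral group of order 8 has a subgroup of index two. -/
theorem result {G : Type*} [Group G] [Finite G] (S : Sylow 2 G) (hS : Nonempty (↥(S : Subgroup G) ≃* Multiplicative (ZMod 2) × DihedralGroup 4)) : ∃ H : Subgroup G, H.index = 2 := by
  obtain ⟨e⟩ := hS
  obtain ⟨ht₀, hc1, hz1, hzc, hz2, hc2, hzcen⟩ := T3
  -- elements of G
  set z : G := ((e.symm z₀ : (S : Subgroup G)) : G) with hz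
  set c : G := ((e.symm c₀ : (S : Subgroup G)) : G) with hc
  have hzS : z ∈ (S : Subgroup G) := (e.symm z₀).2
  have hcS : c ∈ (S : Subgroup G) := (e.symm c₀).2
  have coe_inj : ∀ a b : T, ((e.symm a : (S : Subgroup G)) : G) = ((e.symm b : (S : Subgroup G)) : G) → a = b := by
    intro a b h
    exact e.symm.injective (Subtype.ext h)
  have hc_ne : c ≠ 1 := by
    intro h
    apply hc1
    apply coe_inj
    rw [map_one]; exact h
  have hz_sq : z ^ 2 = 1 := by
    rw [hz, ← Subgroup.coe_pow, ← map_pow, hz2, map_one]; rfl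
  have hc_sq : c ^ 2 = 1 := by
    rw [hc, ← Subgroup.coe_pow, ← map_pow, hc2, map_one]; rfl
  have hz_cen : ∀ s ∈ (S : Subgroup G), s * z = z * s := by
    intro s hs
    have h1 := hzcen (e ⟨s, hs⟩)
    have h2 := congrArg (fun t => ((e.symm t : (S : Subgroup G)) : G)) h1
    simpa using h2
  have hsq : ∀ s ∈ (S : Subgroup G), s ^ 2 = 1 ∨ s ^ 2 = c := by
    intro s hs
    rcases T2 (e ⟨s, hs⟩) with h | h
    · left
      have h2 := congrArg (fun t => ((e.symm t : (S : Subgroup G)) : G)) h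
      simpa using h2
    · right
      have h2 := congrArg (fun t => ((e.symm t : (S : Subgroup G)) : G)) h
      simpa using h2
  have hcen : ∀ t ∈ (S : Subgroup G), (∀ u ∈ (S : Subgroup G), u * t = t * u) →
      t = 1 ∨ t = z ∨ t = c ∨ t = z * c := by
    intro t ht hcomm
    have h1 : ∀ u : T, u * e ⟨t, ht⟩ = e ⟨t, ht⟩ * u := by
      intro u
      have h2 := hcomm (e.symm u) (e.symm u).2
      have h3 : e.symm u * ⟨t, ht⟩ = ⟨t, ht⟩ * e.symm u := Subtype.ext h2
      have h4 := congrArg e h3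
      simpa using h4
    rcases T1 _ h1 with h | h | h | h
    · left
      have h2 := congrArg (fun t => ((e.symm t : (S : Subgroup G)) : G)) h
      simpa using h2
    · right; left
      have h2 := congrArg (fun t => ((e.symm t : (S : Subgroup G)) : G)) h
      simpa using h2
    · right; right; left
      have h2 := congrArg (fun t => ((e.symm t : (S : Subgroup G)) : G)) h
      simpa using h2
    · right; right; right
      have h2 := congrArg (fun t => ((e.symm t : (S : Subgroup G)) : G)) h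
      simpa using h2
  have hc_eq : c = ((e.symm t₀ : (S : Subgroup G)) : G) ^ 2 := by
    rw [hc, ← ht₀, map_pow]; rfl
  have hconjS : ∀ g ∈ Subgroup.normalizer ((S : Subgroup G) : Set G), ∀ s ∈ (S : Subgroup G),
      g * s * g⁻¹ ∈ (S : Subgroup G) := by
    intro g hg s hs
    exact (Subgroup.mem_normalizer_iff.mp hg s).mp hs
  have hconj_c : ∀ g ∈ Subgroup.normalizer ((S : Subgroup G) : Set G), g * c * g⁻¹ = c := by
    intro g hg
    have h1 : g * c * g⁻¹ = (g * ((e.symm t₀ : (S : Subgroup G)) : G) * g⁻¹) ^ 2 := by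
      rw [hc_eq, conj_pow]
    rcases hsq _ (hconjS g hg _ (e.symm t₀).2) with h | h
    · exfalso
      rw [← h1] at h
      apply hc_ne
      have : c = g⁻¹ * (g * c * g⁻¹) * g := by group
      rw [this, h]; group
    · rw [h1, h]
  have hconj_z : ∀ g ∈ Subgroup.normalizer ((S : Subgroup G) : Set G), g * z * g⁻¹ = z ∨ g * z * g⁻¹ = z * c := by
    intro g hg
    have hginv : g⁻¹ ∈ Subgroup.normalizer ((S : Subgroup G) : Set G) := Subgroup.inv_mem _ hg
    have h1 : ∀ u ∈ (S : Subgroup G), u * (g * z * g⁻¹) = (g * z * g⁻¹) * u := by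
      intro u hu
      have h2 := hconjS g⁻¹ hginv u hu
      rw [inv_inv] at h2
      have h3 := hz_cen _ h2
      calc u * (g * z * g⁻¹) = g * ((g⁻¹ * u * g) * z) * g⁻¹ := by group
        _ = g * (z * (g⁻¹ * u * g)) * g⁻¹ := by rw [h3]
        _ = (g * z * g⁻¹) * u := by group
    rcases hcen _ (hconjS g hg z hzS) h1 with h | h | h | h
    · exfalso
      apply hz1
      apply coe_inj
      rw [map_one]
      show z = 1
      have : z = g⁻¹ * (g * z * g⁻¹) * g := by group
      rw [this, h]; group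
    · exact Or.inl h
    · exfalso
      apply hzc
      apply coe_inj
      show z = c
      have h2 := hconj_c g hg
      have h3 : g * z * g⁻¹ = g * c * g⁻¹ := h.trans h2.symm
      exact mul_left_cancel (mul_right_cancel h3)
    · exact Or.inr h
  have hN : ∀ g ∈ Subgroup.normalizer ((S : Subgroup G) : Set G), g * z * g⁻¹ = z := by
    intro g hg
    rcases hconj_z g hg with h | h
    · exact h
    exfalso
    have hpow : ∀ k : ℕ, g ^ k * z * (g ^ k)⁻¹ = z * c ^ k := by
      intro k
      induction k with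
      | zero => simp
      | succ k ih =>
        have h1 : g ^ (k + 1) * z * (g ^ (k + 1))⁻¹ = g * (g ^ k * z * (g ^ k)⁻¹) * g⁻¹ := by
          rw [pow_succ']; group
        have h2 : g * c ^ k * g⁻¹ = c ^ k := by
          rw [← conj_pow, hconj_c g hg]
        have h3 : g * (z * c ^ k) * g⁻¹ = (g * z * g⁻¹) * (g * c ^ k * g⁻¹) := by group
        rw [h1, ih, h3, h, h2, pow_succ', mul_assoc]
    obtain ⟨a, n, hn, hord⟩ := Nat.exists_eq_two_pow_mul_odd (orderOf_pos g).ne'
    have hgn : (g ^ n) ^ 2 ^ a = 1 := by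
      rw [← pow_mul, mul_comm, ← hord, pow_orderOf_eq_one]
    have hpg : IsPGroup 2 (Subgroup.zpowers (g ^ n)) := by
      have h1 : orderOf (g ^ n) ∣ 2 ^ a := orderOf_dvd_of_pow_eq_one hgn
      obtain ⟨b, -, hb⟩ := (Nat.dvd_prime_pow Nat.prime_two).mp h1
      apply IsPGroup.of_card (n := b)
      rw [Nat.card_zpowers, hb]
    have hmem : g ^ n ∈ Subgroup.zpowers (g ^ n) ⊓ Subgroup.normalizer ((S : Subgroup G) : Set G) :=
      ⟨Subgroup.mem_zpowers _, Subgroup.pow_mem _ hg n⟩
    have hmem' : g ^ n ∈ Subgroup.zpowers (g ^ n) ⊓ (S : Subgroup G) := (hpg.inf_normalizer_sylow S) ▸ hmem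
    have h1 := hz_cen _ hmem'.2
    have h2 := hpow n
    have h3 : g ^ n * z * (g ^ n)⁻¹ = z := by rw [h1]; group
    have h4 : c ^ n = c := by
      obtain ⟨k, rfl⟩ := hn
      rw [pow_succ, pow_mul, hc_sq, one_pow, one_mul]
    rw [h3, h4] at h2
    apply hc_ne
    exact (mul_eq_left.mp h2.symm)
  -- the subgroup of index two of S
  let f : (S : Subgroup G) →* Multiplicative (ZMod 2) := (MonoidHom.fst _ _).comp e.toMonoidHom
  have hfsurj : Function.Surjective f := by
    intro a
    exact ⟨e.symm (a, 1), by simp [f]⟩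
  have hidx' : f.ker.index = 2 := by
    rw [Subgroup.index_ker, MonoidHom.range_eq_top.mpr hfsurj, Subgroup.card_top]
    simp
  have hMS : f.ker.map (S : Subgroup G).subtype ≤ (S : Subgroup G) := Subgroup.map_subtype_le _
  have hidx : (f.ker.map (S : Subgroup G).subtype).relIndex (S : Subgroup G) = 2 := by
    rw [Subgroup.relIndex, Subgroup.subgroupOf, Subgroup.comap_map_eq_self_of_injective
      (Subgroup.subtype_injective _)]
    exact hidx'
  obtain ⟨φ, hφ⟩ := Cfsg.Agent.S2872.exists_hom_neg_one S _ hMS hidx z hz_sq hz_cen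
    (by
      rintro ⟨w, hw, hwz⟩
      have h1 : w = e.symm z₀ := Subtype.ext hwz
      rw [h1] at hw
      have h2 : f (e.symm z₀) = 1 := hw
      simp [f, z₀] at h2) hN
  refine ⟨φ.ker, ?_⟩
  rw [Subgroup.index_ker]
  have : φ.range = ⊤ := by
    rw [eq_top_iff]
    intro x _
    rcases Int.units_eq_one_or x with rfl | rfl
    · exact Subgroup.one_mem _
    · exact ⟨z, hφ⟩
  rw [this, Subgroup.card_top]
  simp

end Cfsg.Agent.S2911
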