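import Cfsg.Statements.S2934
import Cfsg.Agent.Lib.Helper70.Ex.Main
-- import your own Cfsg.Agent.* helpers here

set_option autoImplicit false
open Cfsg

namespace Cfsg.Agent.S2934

/-- Let p be an odd prime, W a finite 2-group and E a non-cyclic abelian p-subgroup of Aut(W) such that, for every nontrivial e ∈ E, the fixed points of e in W contain at most one involution. Then E has order 9, W is extraspecial of order 2⁵, 2⁷ or 2⁹, and the common fixed points of E in W form exactly the centre Z(W). -/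
theorem result {W : Type*} [Group W] [Finite W] (hW : IsPGroup 2 W) {p : ℕ} [Fact p.Prime] (hp : p ≠ 2) (E : Subgroup (MulAut W)) (hE : IsPGroup p ↥E) (hab : IsMulCommutative ↥E) (hnc : ¬ IsCyclic ↥E) (hfix : ∀ e ∈ E, e ≠ 1 → ∀ x y : W, orderOf x = 2 → orderOf y = 2 → e x = x → e y = y → x = y) : Nat.card ↥E = 9 ∧ Cfsg.IsExtraspecial 2 W ∧ (Nat.card W = 2 ^ 5 ∨ Nat.card W = 2 ^ 7 ∨ Nat.card W = 2 ^ 9) ∧ {x : W | ∀ e ∈ E, e x = x} = (Subgroup.center W : Set W) := by
  apply Cfsg.Agent.Lib.Helper70.Ex.Ctx.main (p := p)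
  refine ⟨hW, hp, hE, ?_, hnc, ?_⟩
  · intro e he f hf
    have := mul_comm' (⟨e, he⟩ : E) ⟨f, hf⟩
    exact congrArg Subtype.val this
  · intro e he he1 x y hx1 hxx hy1 hyy hex hey
    apply hfix e he he1 x y _ _ hex hey
    · exact orderOf_eq_prime (by rw [pow_two]; exact hxx) hx1
    · exact orderOf_eq_prime (by rw [pow_two]; exact hyy) hy1

end Cfsg.Agent.S2934
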