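import Cfsg.Statements.S2968
import Cfsg.Agent.Lib.Helper55.Isolated

set_option autoImplicit false
open Cfsg

namespace Cfsg.Agent.S2968

open Cfsg.Agent.Lib.Helper55

/-- Let G be a finite group, p a prime, P a Sylow p-subgroup of G and x ∈ P an element of p-power order which is isolated in G (the only conjugate of x commuting with x is x itself). Then x lies in the centre of P, and the subgroup generated by x is both strongly closed and weakly closed in P with respect to G. -/
theorem result {G : Type*} [Group G] [Finite G] {p : ℕ} [Fact p.Prime] (P : Sylow p G) (x : G) (hxP : x ∈ (P : Subgroup G)) (hx : ∃ k : ℕ, orderOf x = p ^ k) (hiso : Cfsg.IsIsolated x) : x ∈ (P : Subgroup G) ⊓ Subgroup.centralizer ((P : Subgroup G) : Set G) ∧ Cfsg.IsStronglyClosed (Subgroup.zpowers x) (P : Subgroup G) ∧ Cfsg.IsWeaklyClosed (Subgroup.zpowers x) (P : Subgroup G) := by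
  have hcomm := isolated_commute_of_mem_pgroup hiso P.2 hxP
  have hle : Subgroup.zpowers x ≤ (P : Subgroup G) := by
    rw [Subgroup.zpowers_le]; exact hxP
  refine ⟨⟨hxP, ?_⟩, ⟨hle, ?_⟩, ⟨hle, ?_⟩⟩
  · show x ∈ Subgroup.centralizer ((P : Subgroup G) : Set G)
    rw [Subgroup.mem_centralizer_iff]
    intro y hy
    exact (hcomm y hy).symm
  · intro a ha g hg
    obtain ⟨k, rfl⟩ := Subgroup.mem_zpowers_iff.1 ha
    -- y = g x g⁻¹, y^k ∈ P
    have hyk : g * x ^ k * g⁻¹ = (g * x * g⁻¹) ^ k := (conj_zpow).symm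
    have hxH : x ∈ Subgroup.centralizer ({g * x ^ k * g⁻¹} : Set G) := by
      rw [Subgroup.mem_centralizer_singleton_iff]
      exact (hcomm _ hg)
    have hyH : g * x * g⁻¹ ∈ Subgroup.centralizer ({g * x ^ k * g⁻¹} : Set G) := by
      rw [Subgroup.mem_centralizer_singleton_iff, hyk]
      exact ((Commute.refl (g * x * g⁻¹)).zpow_right k)
    obtain ⟨h, hh, hconj⟩ := isolated_exists_conj_eq hiso hx _ hxH hyH
    rw [Subgroup.mem_centralizer_singleton_iff] at hh
    have h1 : h * (g * x ^ k * g⁻¹) * h⁻¹ = g * x ^ k * g⁻¹ := by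
      rw [hh]; group
    have h2 : h * (g * x ^ k * g⁻¹) * h⁻¹ = x ^ k := by
      rw [hyk, ← conj_zpow, hconj]
    rw [← h1, h2]
    exact Subgroup.zpow_mem_zpowers x k
  · intro g hg
    have h1 : g * x * g⁻¹ ∈ (P : Subgroup G) :=
      hg ⟨x, Subgroup.mem_zpowers x, by simp⟩
    have h2 := isolated_conj_eq_of_mem_pgroup hiso P.2 hxP h1
    rw [MonoidHom.map_zpowers]
    congr 1

end Cfsg.Agent.S2968
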