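import Cfsg.Statements.S2972
import Cfsg.Agent.Lib.Helper55.ZStarMin

set_option autoImplicit false
open Cfsg

namespace Cfsg.Agent.S2972

open Cfsg.Agent.Lib.Helper55

universe u

theorem not_comm {G : Type u} [Group G] [Finite G] {p : ℕ} [Fact p.Prime] {x : G}
    (h : MinCE p x) : ¬ IsMulCommutative ↥(commutator G) := by
  intro hcomm
  have hGn : (commutator G).Normal := inferInstance
  have hp : IsPGroup p ↥(commutator G) := by
    apply isPGroup_of_forall_coprime_eq_one
    intro c hc hcop
    have h1 : Subgroup.zpowers c = ⊥ := by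
      apply h.eq_bot_of_normal_normal_coprime hGn (by rw [Subgroup.zpowers_le]; exact hc)
      · rw [Subgroup.le_normalizer_iff]
        intro g hg y hy
        have hy' : y ∈ commutator G := by
          obtain ⟨k, rfl⟩ := Subgroup.mem_zpowers_iff.1 hy
          exact Subgroup.zpow_mem _ hc k
        have h2 := mul_comm' (⟨g, hg⟩ : ↥(commutator G)) ⟨y, hy'⟩
        have h3 : g * y = y * g := congrArg Subtype.val h2
        rw [h3]; simpa using hy
      · rw [Nat.card_zpowers]; exact hcop
    exact Subgroup.zpowers_eq_bot.1 h1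
  have htop : IsPGroup p ↥(commutator G ⊔ Subgroup.zpowers x) :=
    hp.to_sup_of_normal_left (isPGroup_zpowers_of_orderOf h.hx')
  rw [h.sup_zpowers_eq_top hGn h.commutator_ne_bot] at htop
  apply h.not_central
  intro g
  exact isolated_conj_eq_of_mem_pgroup h.hiso htop (Subgroup.mem_top x) (Subgroup.mem_top _)

theorem key {G : Type u} [Group G] [Finite G] {p : ℕ} [Fact p.Prime] {x : G}
    (h : MinCE p x) : ∀ (n : ℕ) (M : Subgroup G), Nat.card ↥M = n → M ≤ commutator G →
      commutator G ≤ Subgroup.normalizer (M : Set G) → M ≠ ⊥ → M = commutator G := by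
  have hGn : (commutator G).Normal := inferInstance
  have hsup := h.sup_zpowers_eq_top hGn h.commutator_ne_bot
  intro n
  induction n using Nat.strong_induction_on with
  | _ n ih =>
    intro M hcard hMG hnorm hne
    -- p divides |M|
    have hpM : p ∣ Nat.card ↥M := by
      by_contra hnd
      exact hne (h.eq_bot_of_normal_normal_coprime hGn hMG hnorm
        ((Nat.Prime.coprime_iff_not_dvd Fact.out).2 hnd).symm)
    obtain ⟨y, hy⟩ := exists_prime_orderOf_dvd_card' p hpM
    have hyo : orderOf (y : G) = p := by rw [Subgroup.orderOf_coe]; exact hy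
    obtain ⟨g, -, R, hR, -, hxR, hyR⟩ := exists_conj_mem_common_pgroup (⊤ : Subgroup G)
      (Subgroup.mem_top x) (Subgroup.mem_top (y : G)) h.hx' ⟨1, by rw [hyo, pow_one]⟩
    have hcomm1 : Commute x (g * y * g⁻¹) := isolated_commute_of_mem_pgroup h.hiso hR hxR _ hyR
    have hg : g ∈ Subgroup.zpowers x ⊔ commutator G := by rw [sup_comm, hsup]; trivial
    obtain ⟨z, hz, g', hg', rfl⟩ := Subgroup.mem_sup_of_normal_right.1 hg
    have hzx : Commute x z := by
      obtain ⟨k, rfl⟩ := Subgroup.mem_zpowers_iff.1 hz
      exact (Commute.refl x).zpow_right k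
    set y' := g' * (y : G) * g'⁻¹ with hy'
    have hy'M : y' ∈ M := (Subgroup.le_normalizer_iff.1 hnorm) g' hg' y y.2
    have hy'1 : y' ≠ 1 := by
      intro h1
      have h2 : orderOf y' = p := by rw [hy', orderOf_conj', hyo]
      rw [h1, orderOf_one] at h2
      exact (Fact.out : p.Prime).one_lt.ne h2
    have hcomm2 : Commute x y' := by
      have h1 : z * g' * (y : G) * (z * g')⁻¹ = z * y' * z⁻¹ := by rw [hy']; group
      rw [h1] at hcomm1
      have h2 : y' = z⁻¹ * (z * y' * z⁻¹) * z := by group
      rw [h2]
      exact (hzx.inv_right.mul_right hcomm1).mul_right hzx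
    -- D = M ⊓ M^x
    set Mx := M.map (MulAut.conj x).toMonoidHom with hMx
    have hy'Mx : y' ∈ Mx := by
      rw [hMx, mem_map_conj]
      have : x⁻¹ * y' * x = y' := by
        calc x⁻¹ * y' * x = x⁻¹ * (y' * x) := by group
          _ = x⁻¹ * (x * y') := by rw [hcomm2.eq]
          _ = y' := by group
      rw [this]; exact hy'M
    have hDne : M ⊓ Mx ≠ ⊥ := by
      intro hb
      have : y' ∈ M ⊓ Mx := ⟨hy'M, hy'Mx⟩
      rw [hb, Subgroup.mem_bot] at this
      exact hy'1 this
    have hnormx : commutator G ≤ Subgroup.normalizer (Mx : Set G) := by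
      rw [Subgroup.le_normalizer_iff]
      intro c hc m hm
      rw [hMx, mem_map_conj] at hm ⊢
      have hc' : x⁻¹ * c * x ∈ commutator G := by
        have := hGn.conj_mem c hc x⁻¹
        simpa using this
      have := (Subgroup.le_normalizer_iff.1 hnorm) _ hc' _ hm
      have e : x⁻¹ * (c * m * c⁻¹) * x = x⁻¹ * c * x * (x⁻¹ * m * x) * (x⁻¹ * c * x)⁻¹ := by group
      rw [e]; exact this
    have hnormD : commutator G ≤ Subgroup.normalizer ((M ⊓ Mx : Subgroup G) : Set G) :=
      (le_inf hnorm hnormx).trans Subgroup.inf_normalizer_le_normalizer_inf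
    by_cases hD : M ⊓ Mx = M
    · -- x normalizes M
      have hle : M ≤ Mx := inf_eq_left.1 hD
      have hcardx : Nat.card ↥Mx = Nat.card ↥M :=
        Subgroup.card_map_of_injective (MulAut.conj x).injective
      have heq : M = Mx := Subgroup.eq_of_le_of_card_ge hle hcardx.le
      have hxn : x ∈ Subgroup.normalizer (M : Set G) := Subgroup.mem_normalizer_iff_map_conj_eq.2 heq.symm
      have hMn : M.Normal := by
        rw [← Subgroup.normalizer_eq_top_iff, eq_top_iff, ← hsup]
        exact sup_le hnorm (by rw [Subgroup.zpowers_le]; exact hxn)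
      exact le_antisymm hMG (h.commutator_le hMn hne)
    · have hlt : M ⊓ Mx < M := lt_of_le_of_ne inf_le_left hD
      have hcardlt : Nat.card ↥(M ⊓ Mx : Subgroup G) < n := by
        rw [← hcard]
        by_contra hge
        push Not at hge
        exact hlt.ne (Subgroup.eq_of_le_of_card_ge hlt.le hge)
      have := ih _ hcardlt (M ⊓ Mx) rfl (inf_le_left.trans hMG) hnormD hDne
      exact le_antisymm hMG (this ▸ inf_le_left)

/-- Let G be a finite group, p a prime and x ∈ G an isolated element of order p (the only conjugate of x commuting with x is x) which is not central modulo the largest normal subgroup of order prime to p, while x is central modulo the largest normal subgroup of order prime to p in every proper subgroup containing x, and the image of x is so in every quotient of G by a nontrivial normal subgroup (a minimal counterexample to the Z*_p statement). Then the derived subgroup G' is a non-abelian simple group and G = G'⟨x⟩. -/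
theorem result {G : Type*} [Group G] [Finite G] {p : ℕ} [Fact p.Prime] (x : G) (hx : orderOf x = p) (hiso : Cfsg.IsIsolated x) (hnz : ¬ Cfsg.InZStar p x) (hmin : ∀ (H : Subgroup G) (hxH : x ∈ H), H ≠ ⊤ → Cfsg.InZStar p (⟨x, hxH⟩ : ↥H)) (hquot : ∀ (N : Subgroup G) [N.Normal], N ≠ ⊥ → Cfsg.InZStar p (QuotientGroup.mk x : G ⧸ N)) : IsSimpleGroup ↥(commutator G) ∧ ¬ IsMulCommutative ↥(commutator G) ∧ commutator G ⊔ Subgroup.zpowers x = ⊤ := by
  have h : MinCE p x := ⟨hx, hiso, hnz, hmin, hquot⟩
  refine ⟨?_, not_comm h, h.sup_zpowers_eq_top inferInstance h.commutator_ne_bot⟩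
  have hnt : Nontrivial ↥(commutator G) := (Subgroup.nontrivial_iff_ne_bot _).2 h.commutator_ne_bot
  refine ⟨fun H hH => ?_⟩
  by_cases hb : H = ⊥
  · exact Or.inl hb
  right
  have hle : H.map (commutator G).subtype ≤ commutator G := Subgroup.map_subtype_le H
  have hsub : (H.map (commutator G).subtype).subgroupOf (commutator G) = H :=
    Subgroup.comap_map_eq_self_of_injective (commutator G).subtype_injective H
  have h1 := key h _ (H.map (commutator G).subtype) rfl hle
    ((Subgroup.normal_subgroupOf_iff_le_normalizer hle).1 (by rw [hsub]; exact hH))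
    (by
      intro hbot
      exact hb ((Subgroup.map_eq_bot_iff_of_injective H (commutator G).subtype_injective).1 hbot))
  rw [← hsub, h1]
  exact Subgroup.subgroupOf_self _

end Cfsg.Agent.S2972
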