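import Cfsg.Statements.S2975
import Cfsg.Agent.Lib.Helper55.ZStarMin
import Cfsg.Agent.Lib.Helper30.Coprime

set_option autoImplicit false
open Cfsg

namespace Cfsg.Agent.S2975

open Cfsg.Agent.Lib.Helper55
open Cfsg.Agent.Lib.Helper30 (IsSylowIn)

universe u

theorem partB {G : Type u} [Group G] [Finite G] {p : ℕ} [Fact p.Prime] {x : G}
    (h : MinCE p x) (q : ℕ) [Fact q.Prime] (S₁ S₂ : Sylow q G)
    (h1 : x ∈ Subgroup.normalizer ((S₁ : Subgroup G) : Set G))
    (h2 : x ∈ Subgroup.normalizer ((S₂ : Subgroup G) : Set G)) :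
    ∃ c ∈ Subgroup.centralizer ({x} : Set G),
      (S₁ : Subgroup G).map (MulAut.conj c).toMonoidHom = (S₂ : Subgroup G) := by
  obtain ⟨g, hg⟩ := MulAction.exists_smul_eq G S₁ S₂
  have hg' : (S₂ : Subgroup G) = (S₁ : Subgroup G).map (MulAut.conj g).toMonoidHom := by
    rw [← hg]; rfl
  have h3 : g * x * g⁻¹ ∈ Subgroup.normalizer ((S₂ : Subgroup G) : Set G) := by
    apply Subgroup.mem_normalizer_fintype
    intro n hn
    rw [SetLike.mem_coe, hg', mem_map_conj] at hn ⊢
    have := (h1 _).1 hn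
    have e : g⁻¹ * (g * x * g⁻¹ * n * (g * x * g⁻¹)⁻¹) * g = x * (g⁻¹ * n * g) * x⁻¹ := by group
    rw [e]; exact this
  obtain ⟨k, hk, hconj⟩ := isolated_exists_conj_eq h.hiso h.hx' _ h2 h3
  refine ⟨k * g, ?_, ?_⟩
  · rw [Subgroup.mem_centralizer_singleton_iff]
    calc k * g * x = (k * (g * x * g⁻¹) * k⁻¹) * (k * g) := by group
      _ = x * (k * g) := by rw [hconj]
  · have e : (S₁ : Subgroup G).map (MulAut.conj (k * g)).toMonoidHom =
        ((S₁ : Subgroup G).map (MulAut.conj g).toMonoidHom).map (MulAut.conj k).toMonoidHom := by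
      rw [Subgroup.map_map]
      congr 1
      ext y
      simp [mul_assoc]
    rw [e, ← hg']
    exact Subgroup.mem_normalizer_iff_map_conj_eq.1 hk

theorem partA {G : Type u} [Group G] [Finite G] {p : ℕ} [Fact p.Prime] {x : G}
    (h : MinCE p x) (q : ℕ) [Fact q.Prime] (Q : Subgroup G) (hQ : IsPGroup q ↥Q)
    (hxQ : x ∈ Subgroup.normalizer (Q : Set G))
    (hmax : ∀ R : Subgroup G, IsPGroup q ↥R → x ∈ Subgroup.normalizer (R : Set G) → Q ≤ R → R = Q) :
    Q = ⊥ ∨ ∃ S : Sylow q G, (S : Subgroup G) = Q := by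
  by_cases hqp : q = p
  · subst hqp
    right
    have hzQ : Subgroup.zpowers x ≤ Subgroup.normalizer (Q : Set G) := by
      rw [Subgroup.zpowers_le]; exact hxQ
    have h1 : IsPGroup q ↥(Q ⊔ Subgroup.zpowers x) :=
      hQ.to_sup_of_normal_left' (isPGroup_zpowers_of_orderOf h.hx') hzQ
    have h2 : x ∈ Subgroup.normalizer ((Q ⊔ Subgroup.zpowers x : Subgroup G) : Set G) :=
      Subgroup.le_normalizer (le_sup_right (a := Q) (Subgroup.mem_zpowers x))
    have h3 := hmax _ h1 h2 le_sup_left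
    have hxQ' : x ∈ Q := by
      rw [← h3]; exact le_sup_right (a := Q) (Subgroup.mem_zpowers x)
    obtain ⟨S, hS⟩ := hQ.exists_le_sylow
    exact ⟨S, hmax _ S.2 (Subgroup.le_normalizer (hS hxQ')) hS⟩
  by_cases hQb : Q = ⊥
  · exact Or.inl hQb
  right
  have hqp' : q.Coprime p := (Nat.coprime_primes Fact.out Fact.out).2 hqp
  have hcopq : ∀ R : Subgroup G, IsPGroup q ↥R → (Nat.card ↥R).Coprime p := by
    intro R hR
    obtain ⟨n, hn⟩ := hR.exists_card_eq
    rw [hn]; exact Nat.Coprime.pow_left n hqp'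
  set H := Subgroup.normalizer (Q : Set G) with hH
  have hHtop : H ≠ ⊤ := by
    intro htop
    apply hQb
    exact h.eq_bot_of_subnormal_coprime (Subgroup.normalizer_eq_top_iff.1 htop).isSubnormal (hcopq Q hQ)
  have hZ := h.hmin H hxQ hHtop
  set O := Cfsg.pPrimeCore p ↥H with hO
  have hOn : O.Normal := Cfsg.pPrimeCore_normal p ↥H
  set Y := O.map H.subtype with hY
  have hYH : Y ≤ H := Subgroup.map_subtype_le _
  have hHY : H ≤ Subgroup.normalizer (Y : Set G) := by
    rw [Subgroup.le_normalizer_iff]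
    rintro m hm y ⟨y', hy', rfl⟩
    exact ⟨⟨m, hm⟩ * y' * ⟨m, hm⟩⁻¹, hOn.conj_mem y' hy' _, rfl⟩
  have hYc : (Nat.card ↥Y).Coprime p := by
    rw [hY, Subgroup.card_map_of_injective H.subtype_injective]
    exact Cfsg.Agent.Lib.Helper28.pPrimeCore_coprime p
  obtain ⟨SH, hSH, hQSH⟩ := Cfsg.Agent.Lib.Helper30.exists_isSylowIn_ge (p := q) (Subgroup.le_normalizer : Q ≤ H) hQ
  set W := SH ⊔ Y with hW
  have hWH : W ≤ H := sup_le hSH.le hYH
  have hWc : (Nat.card ↥W).Coprime p := by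
    apply Nat.Coprime.coprime_dvd_left (Cfsg.Agent.Lib.Helper80.card_sup_dvd' SH Y (hSH.le.trans hHY))
    exact Nat.Coprime.mul_left (hcopq SH hSH.isPGroup) hYc
  have hxW : x ∈ Subgroup.normalizer (W : Set G) := by
    apply Subgroup.mem_normalizer_fintype
    have hle : W ≤ W.comap (MulAut.conj x).toMonoidHom := by
      rw [hW]
      apply sup_le
      · intro s hs
        show x * s * x⁻¹ ∈ SH ⊔ Y
        have h1 := hZ ⟨s, hSH.le hs⟩
        have h2 : s * x * s⁻¹ * x⁻¹ ∈ Y := ⟨_, h1, rfl⟩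
        have h3 : x * s * x⁻¹ = (s * x * s⁻¹ * x⁻¹)⁻¹ * s := by group
        rw [h3, sup_comm]
        exact Subgroup.mul_mem_sup (Y.inv_mem h2) hs
      · intro y hy
        show x * y * x⁻¹ ∈ SH ⊔ Y
        exact Subgroup.mem_sup_right ((Subgroup.le_normalizer_iff.1 hHY) x hxQ y hy)
    intro n hn
    exact hle hn
  have hzW : Subgroup.zpowers x ≤ Subgroup.normalizer (W : Set G) := by
    rw [Subgroup.zpowers_le]; exact hxW
  have hzQ : Subgroup.zpowers x ≤ Subgroup.normalizer (Q : Set G) := by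
    rw [Subgroup.zpowers_le]; exact hxQ
  have hcop : (Nat.card ↥(Subgroup.zpowers x)).Coprime (Nat.card ↥W) := by
    rw [Nat.card_zpowers, h.hx]; exact hWc.symm
  obtain ⟨P, hP, hQP, hzP⟩ := Cfsg.Agent.Lib.Helper30.exists_invariant_isSylowIn_ge hzW hcop
    (Or.inl inferInstance) q (hQSH.trans le_sup_left) hQ hzQ
  have hPQ : P = Q := hmax P hP.isPGroup (hzP (Subgroup.mem_zpowers x)) hQP
  rw [hPQ] at hP
  have hSHQ : SH = Q := hP.eq_of_le le_sup_left hSH.isPGroup hQSH
  rw [hSHQ] at hSH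
  obtain ⟨S, hS⟩ := hQ.exists_le_sylow
  refine ⟨S, ?_⟩
  by_contra hne
  have hlt : Q < (S : Subgroup G) := lt_of_le_of_ne hS (Ne.symm hne)
  obtain ⟨t, htS, htN, htQ⟩ := Cfsg.Agent.Lib.Helper30.exists_mem_normalizer_not_mem S.2 hlt
  have htz : Subgroup.zpowers t ≤ Subgroup.normalizer (Q : Set G) := by
    rw [Subgroup.zpowers_le]; exact htN
  have h1 : IsPGroup q ↥(Q ⊔ Subgroup.zpowers t) :=
    S.2.to_le (sup_le hS (by rw [Subgroup.zpowers_le]; exact htS))
  have h2 := hSH.eq_of_le (sup_le Subgroup.le_normalizer htz) h1 le_sup_left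
  apply htQ
  rw [← h2]
  exact le_sup_right (a := Q) (Subgroup.mem_zpowers t)

/-- Let G be a finite group, p a prime and x ∈ G an isolated element of order p (the only conjugate of x commuting with x is x) which is not central modulo the largest normal subgroup of order prime to p, while x is central modulo the largest normal subgroup of order prime to p in every proper subgroup containing x, and the image of x is so in every quotient of G by a nontrivial normal subgroup (a minimal counterexample to the Z*_p statement). Then for every prime q, every q-subgroup of G that is normalized by x and maximal among the q-subgroups normalized by x is either trivial or a Sylow q-subgroup of G; and C_G(x) permutes the x-invariant Sylow q-subgroups of G transitively by conjugation. -/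
theorem result {G : Type*} [Group G] [Finite G] {p : ℕ} [Fact p.Prime] (x : G) (hx : orderOf x = p) (hiso : Cfsg.IsIsolated x) (hnz : ¬ Cfsg.InZStar p x) (hmin : ∀ (H : Subgroup G) (hxH : x ∈ H), H ≠ ⊤ → Cfsg.InZStar p (⟨x, hxH⟩ : ↥H)) (hquot : ∀ (N : Subgroup G) [N.Normal], N ≠ ⊥ → Cfsg.InZStar p (QuotientGroup.mk x : G ⧸ N)) (q : ℕ) [Fact q.Prime] : (∀ Q : Subgroup G, IsPGroup q ↥Q → x ∈ Subgroup.normalizer (Q : Set G) → (∀ R : Subgroup G, IsPGroup q ↥R → x ∈ Subgroup.normalizer (R : Set G) → Q ≤ R → R = Q) → Q = ⊥ ∨ ∃ S : Sylow q G, (S : Subgroup G) = Q) ∧ (∀ S₁ S₂ : Sylow q G, x ∈ Subgroup.normalizer ((S₁ : Subgroup G) : Set G) → x ∈ Subgroup.normalizer ((S₂ : Subgroup G) : Set G) → ∃ c ∈ Subgroup.centralizer ({x} : Set G), (S₁ : Subgroup G).map (MulAut.conj c).toMonoidHom = (S₂ : Subgroup G)) := by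
  have h : MinCE p x := ⟨hx, hiso, hnz, hmin, hquot⟩
  exact ⟨partA h q, partB h q⟩

end Cfsg.Agent.S2975
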