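import Cfsg.Statements.S3011
import Cfsg.Agent.S0200
import Cfsg.Agent.Lib.Helper60.Cores

set_option autoImplicit false
open Cfsg

namespace Cfsg.Agent.S3011

theorem eq_one_of_odd_of_eq_inv {G : Type*} [Group G] (h : G) (ho : Odd (orderOf h))
    (hh : h = h⁻¹) : h = 1 := by
  have h2 : h ^ 2 = 1 := by
    rw [pow_two]
    nth_rewrite 2 [hh]
    exact mul_inv_cancel h
  have h3 : orderOf h ∣ 2 := orderOf_dvd_of_pow_eq_one h2
  have h4 : Nat.Coprime (orderOf h) 2 := Nat.coprime_two_right.mpr ho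
  have h5 : orderOf h = 1 := Nat.Coprime.eq_one_of_dvd h4 h3
  exact orderOf_eq_one_iff.mp h5

theorem exists_sqrt_of_odd {G : Type*} [Group G] (k : G) (ho : Odd (orderOf k)) :
    ∃ j : ℕ, k ^ j * k ^ j = k := by
  obtain ⟨j, hj⟩ := ho
  refine ⟨j + 1, ?_⟩
  rw [← pow_add]
  have : j + 1 + (j + 1) = orderOf k + 1 := by omega
  rw [this, pow_succ, pow_orderOf_eq_one, one_mul]

theorem commute_of_sq_commute_of_odd {G : Type*} [Group G] (k h : G) (ho : Odd (orderOf k))
    (hc : Commute (k * k) h) : Commute k h := by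
  obtain ⟨j, hj⟩ := exists_sqrt_of_odd k ho
  have h1 : k = (k * k) ^ j := by
    rw [(Commute.refl k).mul_pow, hj]
  rw [h1]
  exact hc.pow_left j

/-- The heart of the four-group case. -/
theorem key {G : Type*} [Group G] (V : Subgroup G) (hS : Cfsg.IsSidkiPair V) (a b : G)
    (ha : a ∈ V) (hab : a * b = b * a)
    (hV : ∀ y ∈ V, y = 1 ∨ y = a ∨ y = b ∨ y = a * b) (a2 : a * a = 1) (b2 : b * b = 1)
    (h k : G) (hh1 : h ≠ 1) (hk1 : k ≠ 1) (hho : Odd (orderOf h)) (hko : Odd (orderOf k))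
    (hah : a * h * a⁻¹ = h⁻¹) (hbh : b * h = h * b) (hbk : b * k * b⁻¹ = k⁻¹)
    (hak : a * k = k * a) : False := by
  have ainv : a⁻¹ = a := inv_eq_of_mul_eq_one_left a2
  have binv : b⁻¹ = b := inv_eq_of_mul_eq_one_left b2
  have hbV : a * b ∈ V → b ∈ V := fun h1 => by
    have := V.mul_mem (V.inv_mem ha) h1
    simpa using this
  -- Step 3: `h` and `k` commute
  have hcomm : Commute k h := by
    obtain ⟨j, hj⟩ := exists_sqrt_of_odd k hko
    set w := k ^ j with hw
    have haw : a * w = w * a := (Commute.pow_right (show Commute a k from hak) j)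
    have hbw : b * w * b⁻¹ = w⁻¹ := by
      rw [hw, ← conj_pow, hbk, inv_pow]
    have hbw' : b * w = w⁻¹ * b := by
      calc b * w = (b * w * b⁻¹) * b := by group
        _ = w⁻¹ * b := by rw [hbw]
    have hbw'' : b * w⁻¹ = w * b := by
      calc b * w⁻¹ = w * (w⁻¹ * b) * w⁻¹ := by group
        _ = w * (b * w) * w⁻¹ := by rw [hbw']
        _ = w * b := by group
    have ho0 : Odd (orderOf (w * h * w⁻¹)) := by
      have : orderOf (w * h * w⁻¹) = orderOf h := by
        have := (MulAut.conj w).orderOf_eq h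
        rwa [MulAut.conj_apply] at this
      rw [this]; exact hho
    have hinv0 : a * (w * h * w⁻¹) * a⁻¹ = (w * h * w⁻¹)⁻¹ := by
      have haw' : a * w⁻¹ = w⁻¹ * a := ((show Commute a w from haw).inv_right)
      calc a * (w * h * w⁻¹) * a⁻¹ = (a * w) * h * w⁻¹ * a⁻¹ := by group
        _ = w * (a * h * a⁻¹) * (a * w⁻¹) * a⁻¹ := by rw [haw]; group
        _ = w * h⁻¹ * (w⁻¹ * a) * a⁻¹ := by rw [hah, haw']
        _ = (w * h * w⁻¹)⁻¹ := by group
    have hbconj : b * (w * h * w⁻¹) * b⁻¹ = w⁻¹ * h * w := by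
      calc b * (w * h * w⁻¹) * b⁻¹ = (b * w) * h * w⁻¹ * b⁻¹ := by group
        _ = w⁻¹ * (b * h) * w⁻¹ * b⁻¹ := by rw [hbw']; group
        _ = w⁻¹ * h * (b * w⁻¹) * b⁻¹ := by rw [hbh]; group
        _ = w⁻¹ * h * w := by rw [hbw'']; group
    obtain ⟨x, hxV, hx1, hx⟩ := hS (w * h * w⁻¹) a ha ho0 hinv0
    rcases hV x hxV with rfl | rfl | rfl | rfl
    · exact absurd rfl hx1
    · exfalso
      have h1 : x * (w * h * w⁻¹) * x⁻¹ = w * h * w⁻¹ := by rw [hx]; group
      rw [hinv0] at h1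
      have h2 := eq_one_of_odd_of_eq_inv _ ho0 h1.symm
      apply hh1
      calc h = w⁻¹ * (w * h * w⁻¹) * w := by group
        _ = 1 := by rw [h2]; group
    · have h1 : x * (w * h * w⁻¹) * x⁻¹ = w * h * w⁻¹ := by rw [hx]; group
      rw [hbconj] at h1
      have h2 : (w * w) * h = h * (w * w) := by
        calc (w * w) * h = w * (w * h * w⁻¹) * w := by group
          _ = w * (w⁻¹ * h * w) * w := by rw [h1]
          _ = h * (w * w) := by group
      rw [hj] at h2
      exact h2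
    · exfalso
      have h1 : (a * b) * (w * h * w⁻¹) * (a * b)⁻¹ = w * h * w⁻¹ := by rw [hx]; group
      have h2 : a * (b * (w * h * w⁻¹) * b⁻¹) * a⁻¹ = w * h * w⁻¹ := by
        calc a * (b * (w * h * w⁻¹) * b⁻¹) * a⁻¹ = (a * b) * (w * h * w⁻¹) * (a * b)⁻¹ := by group
          _ = w * h * w⁻¹ := h1
      rw [hbconj] at h2
      have h3 : w⁻¹ * h * w = a⁻¹ * (w * h * w⁻¹) * a := by rw [← h2]; group
      have h4 : a⁻¹ * (w * h * w⁻¹) * a = (w * h * w⁻¹)⁻¹ := by
        rw [← hinv0, ainv]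
      rw [h4] at h3
      -- `k⁻¹ h k = h⁻¹`
      have h5 : k⁻¹ * h * k = h⁻¹ := by
        calc k⁻¹ * h * k = (w * w)⁻¹ * h * (w * w) := by rw [hj]
          _ = w⁻¹ * (w⁻¹ * h * w) * w := by group
          _ = w⁻¹ * (w * h * w⁻¹)⁻¹ * w := by rw [h3]
          _ = h⁻¹ := by group
      have h6 : Commute (k * k) h := by
        have h7 : k⁻¹ * h⁻¹ * k = h := by
          calc k⁻¹ * h⁻¹ * k = (k⁻¹ * h * k)⁻¹ := by group
            _ = h := by rw [h5, inv_inv]
        have h8 : (k * k)⁻¹ * h * (k * k) = h := by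
          calc (k * k)⁻¹ * h * (k * k) = k⁻¹ * (k⁻¹ * h * k) * k := by group
            _ = h := by rw [h5, h7]
        show (k * k) * h = h * (k * k)
        calc (k * k) * h = (k * k) * ((k * k)⁻¹ * h * (k * k)) := by rw [h8]
          _ = h * (k * k) := by group
      have h9 : Commute k h := commute_of_sq_commute_of_odd k h hko h6
      have h10 : k⁻¹ * h * k = h := by
        have : h * k = k * h := h9.eq.symm
        calc k⁻¹ * h * k = k⁻¹ * (h * k) := by group
          _ = h := by rw [this]; group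
      rw [h10] at h5
      exact hh1 (eq_one_of_odd_of_eq_inv h hho h5)
  -- Step 4
  have hkh : k * h = h * k := hcomm
  have hodd : Odd (orderOf (h * k)) := by
    have hd : orderOf (h * k) ∣ orderOf h * orderOf k := hcomm.symm.orderOf_mul_dvd_mul_orderOf
    exact Odd.of_dvd_nat (hho.mul hko) hd
  have hak' : a * k * a⁻¹ = k := by rw [hak]; group
  have hbh' : b * h * b⁻¹ = h := by rw [hbh]; group
  have hcinv : (a * b) * (h * k) * (a * b)⁻¹ = (h * k)⁻¹ := by
    calc (a * b) * (h * k) * (a * b)⁻¹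
        = a * ((b * h * b⁻¹) * (b * k * b⁻¹)) * a⁻¹ := by group
      _ = (a * h * a⁻¹) * (a * k * a⁻¹)⁻¹ := by rw [hbh', hbk]; group
      _ = h⁻¹ * k⁻¹ := by rw [hah, hak']
      _ = (h * k)⁻¹ := by rw [← hkh]; group
  have habV : a * b ∈ V ∨ True := Or.inr trivial
  by_cases hc : a * b ∈ V
  · obtain ⟨x, hxV, hx1, hx⟩ := hS (h * k) (a * b) hc hodd hcinv
    rcases hV x hxV with rfl | rfl | rfl | rfl
    · exact hx1 rfl
    · -- `a` centralizes `h k`
      have h1 : x * (h * k) * x⁻¹ = h * k := by rw [hx]; group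
      have h2 : x * (h * k) * x⁻¹ = h⁻¹ * k := by
        calc x * (h * k) * x⁻¹ = (x * h * x⁻¹) * (x * k * x⁻¹) := by group
          _ = h⁻¹ * k := by rw [hah, hak']
      rw [h2] at h1
      exact hh1 (eq_one_of_odd_of_eq_inv h hho (mul_right_cancel h1).symm)
    · have h1 : x * (h * k) * x⁻¹ = h * k := by rw [hx]; group
      have h2 : x * (h * k) * x⁻¹ = h * k⁻¹ := by
        calc x * (h * k) * x⁻¹ = (x * h * x⁻¹) * (x * k * x⁻¹) := by group
          _ = h * k⁻¹ := by rw [hbh', hbk]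
      rw [h2] at h1
      exact hk1 (eq_one_of_odd_of_eq_inv k hko (mul_left_cancel h1).symm)
    · have h1 : (a * b) * (h * k) * (a * b)⁻¹ = h * k := by rw [hx]; group
      rw [hcinv] at h1
      have h2 := eq_one_of_odd_of_eq_inv _ hodd h1.symm
      -- `k = h⁻¹`
      have h3 : k = h⁻¹ := eq_inv_of_mul_eq_one_right h2
      have h4 : b * k * b⁻¹ = k := by
        rw [h3]
        calc b * h⁻¹ * b⁻¹ = (b * h * b⁻¹)⁻¹ := by group
          _ = h⁻¹ := by rw [hbh']
      rw [hbk] at h4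
      exact hk1 (eq_one_of_odd_of_eq_inv k hko h4.symm)
  · -- `b ∉ V` is impossible only if `a * b ∉ V`; this case is excluded by the caller
    exact hc (by
      -- use the Sidki condition for `a` inverting `h`
      obtain ⟨x, hxV, hx1, hx⟩ := hS h a ha hho hah
      rcases hV x hxV with rfl | rfl | rfl | rfl
      · exact absurd rfl hx1
      · exfalso
        have h1 : x * h * x⁻¹ = h := by rw [hx]; group
        rw [hah] at h1
        exact hh1 (eq_one_of_odd_of_eq_inv h hho h1.symm)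
      · exact V.mul_mem ha hxV
      · exact hxV)

/-- Let G be a finite group and V a nontrivial elementary abelian 2-subgroup of G of order at most 4 such that, whenever an element of V inverts an element h of G of odd order, some nontrivial element of V commutes with h. Then V meets O₂(G) nontrivially. (The case of order at most 4 has a short argument from the Baer–Suzuki theorem.) -/
theorem result {G : Type*} [Group G] [Finite G] (V : Subgroup G) (hV : Cfsg.IsElementaryAbelian 2 V) (hV1 : V ≠ ⊥) (hS : Cfsg.IsSidkiPair V) (h4 : Nat.card V ≤ 4) : V ⊓ Cfsg.pCore 2 G ≠ ⊥ := by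
  classical
  by_contra hcon
  have hmemO : ∀ v ∈ V, v ≠ 1 → v ∉ Cfsg.pCore 2 G := by
    intro v hv hv1 hvO
    have : v ∈ V ⊓ Cfsg.pCore 2 G := ⟨hv, hvO⟩
    rw [hcon] at this
    exact hv1 (Subgroup.mem_bot.mp this)
  have hsq : ∀ v ∈ V, v * v = 1 := fun v hv => by rw [← pow_two]; exact hV.2 v hv
  have hcommV : ∀ v ∈ V, ∀ w ∈ V, v * w = w * v := by
    intro v hv w hw
    have := hV.1.is_comm.comm ⟨v, hv⟩ ⟨w, hw⟩
    exact congrArg (fun x : ↥V => (x : G)) this
  -- every nontrivial `v ∈ V` gives an arrow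
  have arrow : ∀ v ∈ V, v ≠ 1 → ∃ w ∈ V, w ≠ 1 ∧ w ≠ v ∧ ∃ h : G, h ≠ 1 ∧ Odd (orderOf h) ∧
      v * h * v⁻¹ = h⁻¹ ∧ w * h = h * w := by
    intro v hv hv1
    have ho : orderOf v = 2 := orderOf_eq_prime (by rw [pow_two]; exact hsq v hv) hv1
    obtain ⟨h, hh1, hho, hinv⟩ := Cfsg.Agent.S0200.result v ho (by
      intro N hN hN2 hvN
      have : N.Normal := hN
      exact hmemO v hv hv1 (Cfsg.Agent.Lib.Helper60.le_pCore N hN2 hvN))
    obtain ⟨w, hw, hw1, hwc⟩ := hS h v hv hho hinv
    refine ⟨w, hw, hw1, ?_, h, hh1, hho, hinv, hwc⟩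
    rintro rfl
    have h1 : w * h * w⁻¹ = h := by rw [hwc]; group
    rw [hinv] at h1
    exact hh1 (eq_one_of_odd_of_eq_inv h hho h1.symm)
  obtain ⟨v₀, hv₀, hv₀1⟩ : ∃ v ∈ V, v ≠ 1 := by
    by_contra hc
    push Not at hc
    exact hV1 ((Subgroup.eq_bot_iff_forall V).mpr hc)
  obtain ⟨b, hb, hb1, hbv, h, hh1, hho, hvh, hbh⟩ := arrow v₀ hv₀ hv₀1
  obtain ⟨a, ha, ha1, hab, k, hk1, hko, hbk, hak⟩ := arrow b hb hb1
  -- the four elements of `V`
  have hVall : ∀ y ∈ V, y = 1 ∨ y = a ∨ y = b ∨ y = a * b := by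
    have hfin : Finite ↥V := inferInstance
    have : Fintype ↥V := Fintype.ofFinite _
    let s : Finset ↥V := {1, ⟨a, ha⟩, ⟨b, hb⟩, ⟨a * b, V.mul_mem ha hb⟩}
    have hab1 : a * b ≠ 1 := by
      intro h0
      apply hab
      calc a = a * (b * b) := by rw [hsq b hb, mul_one]
        _ = (a * b) * b := by group
        _ = b := by rw [h0, one_mul]
    have hs : s.card = 4 := by
      have n1 : (1 : ↥V) ∉ ({⟨a, ha⟩, ⟨b, hb⟩, ⟨a * b, V.mul_mem ha hb⟩} : Finset ↥V) := by
        simp only [Finset.mem_insert, Finset.mem_singleton, not_or]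
        refine ⟨fun h0 => ha1 (congrArg Subtype.val h0).symm,
          fun h0 => hb1 (congrArg Subtype.val h0).symm,
          fun h0 => hab1 (congrArg Subtype.val h0).symm⟩
      have n2 : (⟨a, ha⟩ : ↥V) ∉ ({⟨b, hb⟩, ⟨a * b, V.mul_mem ha hb⟩} : Finset ↥V) := by
        simp only [Finset.mem_insert, Finset.mem_singleton, not_or]
        refine ⟨fun h0 => hab (congrArg Subtype.val h0), fun h0 => hb1 ?_⟩
        have h1 : a = a * b := congrArg Subtype.val h0
        exact (mul_eq_left.mp h1.symm)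
      have n3 : (⟨b, hb⟩ : ↥V) ∉ ({⟨a * b, V.mul_mem ha hb⟩} : Finset ↥V) := by
        simp only [Finset.mem_singleton]
        intro h0
        have h1 : b = a * b := congrArg Subtype.val h0
        exact ha1 (mul_eq_right.mp h1.symm)
      rw [Finset.card_insert_of_notMem n1, Finset.card_insert_of_notMem n2,
        Finset.card_insert_of_notMem n3, Finset.card_singleton]
    have huniv : s = Finset.univ := by
      apply Finset.eq_univ_of_card
      rw [hs]
      have h5 : Fintype.card ↥V ≤ 4 := by rw [← Nat.card_eq_fintype_card]; exact h4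
      have h6 : s.card ≤ Fintype.card ↥V := Finset.card_le_univ s
      omega
    intro y hy
    have hys : (⟨y, hy⟩ : ↥V) ∈ s := by rw [huniv]; exact Finset.mem_univ _
    simp only [s, Finset.mem_insert, Finset.mem_singleton] at hys
    rcases hys with h0 | h0 | h0 | h0
    · exact Or.inl (congrArg Subtype.val h0)
    · exact Or.inr (Or.inl (congrArg Subtype.val h0))
    · exact Or.inr (Or.inr (Or.inl (congrArg Subtype.val h0)))
    · exact Or.inr (Or.inr (Or.inr (congrArg Subtype.val h0)))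
  -- `a` inverts `h`
  have hah : a * h * a⁻¹ = h⁻¹ := by
    have hbh' : b * h * b⁻¹ = h := by rw [hbh]; group
    rcases hVall v₀ hv₀ with h0 | h0 | h0 | h0
    · exact absurd h0 hv₀1
    · rw [← h0]; exact hvh
    · exact absurd h0.symm hbv
    · rw [h0] at hvh
      calc a * h * a⁻¹ = a * (b * h * b⁻¹) * a⁻¹ := by rw [hbh']
        _ = (a * b) * h * (a * b)⁻¹ := by group
        _ = h⁻¹ := hvh
  exact key V hS a b ha (hcommV a ha b hb) hVall (hsq a ha) (hsq b hb) h k hh1 hk1 hho hko hah hbh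
    hbk hak

end Cfsg.Agent.S3011
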