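import Cfsg.Statements.S3035
import Cfsg.Agent.Lib.Helper37.D8Main
import Cfsg.Agent.S0497

set_option autoImplicit false
open Cfsg

namespace Cfsg.Agent.S3035

/-- Let G be a finite group with an involution z whose centralizer is dihedral of order 8. Then G = C_G(z) O(G) with O(G) the largest normal subgroup of odd order, or G is isomorphic to the symmetric group of degree 4, the symmetric group of degree 5, the group SL₃(2), or the alternating group of degree 6. -/
theorem result {G : Type*} [Group G] [Finite G] (z : G) (hz : orderOf z = 2)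
    (hC : Nonempty (↥(Subgroup.centralizer ({z} : Set G)) ≃* DihedralGroup 4)) :
    Subgroup.centralizer ({z} : Set G) ⊔ Cfsg.oddCore G = ⊤ ∨ Nonempty (G ≃* Equiv.Perm (Fin 4)) ∨ Nonempty (G ≃* Equiv.Perm (Fin 5)) ∨
      Nonempty (G ≃* Matrix.SpecialLinearGroup (Fin 3) (ZMod 2)) ∨ Nonempty (G ≃* ↥(alternatingGroup (Fin 6))) := by
  obtain ⟨e⟩ := hC
  obtain ⟨σ, τ, D⟩ := Cfsg.Agent.Lib.Helper37.exists_D8C hz e
  rcases D.main_cases with h | h | h | h
  · exact Or.inl h
  · exact Or.inr (Or.inl h)
  · exact Or.inr (Or.inr (Or.inl h))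
  · obtain ⟨hs, h | h⟩ := h.cases e
    · right; right; right; left
      have : Fact (Nat.Prime 7) := ⟨by norm_num⟩
      obtain ⟨e1⟩ := h
      obtain ⟨e2⟩ := Cfsg.Agent.S0255.result (F := ZMod 7) (K := ZMod 2) (ZMod.card 7) (ZMod.card 2)
      obtain ⟨e3⟩ := Cfsg.Agent.Lib.Helper37.psl3_two_iso
      exact ⟨(e1.trans e2).trans e3⟩
    · right; right; right; right
      exact Cfsg.Agent.S0497.result h

end Cfsg.Agent.S3035
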