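import Cfsg.Statements.S3049
import Cfsg.Agent.Lib.Helper55.IsoRank2

set_option autoImplicit false
open Cfsg

namespace Cfsg.Agent.S3049

/-- Let G be a finite group and p an odd prime with O_{p'}(G) = 1. Suppose that G has p-rank at most 2 (no elementary abelian subgroup of order p³) and that some element x of order p is isolated in G (no G-conjugate of x other than x commutes with x) and not central. Then the generalized Fitting subgroup F*(G) is a non-abelian simple group. Since O_{p'}(G) = 1, such an x is not central modulo O_{p'}(G): the hypotheses describe a counterexample to the Z*_p statement in p-rank at most 2. -/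
theorem result {G : Type*} [Group G] [Finite G] {p : ℕ} [Fact p.Prime] (hp : p ≠ 2) (hcore : Cfsg.pPrimeCore p G = ⊥)
    (hrank : Cfsg.PRankLE p 2 G) (x : G) (hx : orderOf x = p) (hiso : Cfsg.IsIsolated x) (hnc : x ∉ Subgroup.center G) :
    IsSimpleGroup ↥(Cfsg.generalizedFittingSubgroup G) ∧ ¬ IsMulCommutative ↥(Cfsg.generalizedFittingSubgroup G) := by
  open Cfsg.Agent.Lib Cfsg.Agent.Lib.Helper55 in
  obtain ⟨K, hF, hK, hZ⟩ := isolated_rank_two hp hcore hrank hx hiso hnc
  rw [hF]
  constructor
  · apply Helper91.isSimpleGroup_of_isQuasisimple hK.2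
    have h1 := Helper27.map_center_subtype K
    rw [hZ] at h1
    exact (Subgroup.map_eq_bot_iff_of_injective _ K.subtype_injective).1 h1
  · intro hc
    apply Helper27.qs_ne_bot hK.2
    rw [← hZ]
    refine (inf_eq_left.2 ?_).symm
    intro a ha
    rw [Subgroup.mem_centralizer_iff]
    intro b hb
    exact congrArg Subtype.val (hc.is_comm.comm ⟨b, hb⟩ ⟨a, ha⟩)

end Cfsg.Agent.S3049
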