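import Cfsg.Statements.S3103
import Cfsg.Agent.Lib.Helper65.GL42
import Cfsg.Agent.Lib.Helper55.CycNormal2
import Cfsg.Agent.Lib.Helper37.PConstr
import Cfsg.Agent.Lib.Helper77.SectRank

set_option autoImplicit false
open Cfsg

namespace Cfsg.Agent.S3103

open Cfsg.Agent.Lib Subgroup

/-- variant of `Helper55.centralizer_frQ_le` with hypothesis `C(O_p) ≤ O_p`. -/
theorem centralizer_frQ_le' {Y : Type*} [Group Y] [Finite Y] {p : ℕ} [hp : Fact p.Prime]
    (hchar : centralizer (pCore p Y : Set Y) ≤ pCore p Y) :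
    centralizer (((pCore p Y).map (QuotientGroup.mk' (Helper55.frO p Y)) :
      Subgroup (Y ⧸ Helper55.frO p Y)) : Set (Y ⧸ Helper55.frO p Y)) ≤
      (pCore p Y).map (QuotientGroup.mk' (Helper55.frO p Y)) := by
  set Q := pCore p Y with hQ
  set π := QuotientGroup.mk' (Helper55.frO p Y) with hπ
  have hQn : Q.Normal := Helper53.pCore_normal p Y
  have hVn : (Q.map π).Normal := hQn.map π (QuotientGroup.mk'_surjective _)
  set C := (centralizer ((Q.map π : Subgroup (Y ⧸ Helper55.frO p Y)) :
    Set (Y ⧸ Helper55.frO p Y))).comap π with hC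
  have hCn : C.Normal := by
    rw [hC]
    exact Subgroup.Normal.comap Subgroup.normal_centralizer π
  have hCp : IsPGroup p ↥C := by
    intro c
    obtain ⟨k, hk⟩ := Helper53.exists_pow_coprime (p := p) (c : Y)
    refine ⟨k, ?_⟩
    apply Subtype.ext
    rw [Subgroup.coe_pow, Subgroup.coe_one]
    set c' := (c : Y) ^ p ^ k with hc'
    have hc'C : c' ∈ C := pow_mem c.2 _
    have h1 : zpowers c' ≤ centralizer (Q : Set Y) := by
      apply Helper1.coprime_trivial_on_frattini_quotient
      · rw [normalizer_eq_top]; exact le_top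
      · rw [Nat.card_zpowers]
        obtain ⟨n, hn⟩ := ((Helper53.pCore_isPGroup p Y).to_subgroup (frattini ↥Q)).exists_card_eq
        rw [hn]
        exact Nat.Coprime.pow_right n hk
      · intro r hr q hq
        have hrC : r ∈ C := (zpowers_le.2 hc'C) hr
        have h2 : π q * π r = π r * π q := (mem_centralizer_iff.1 hrC) (π q) ⟨q, hq, rfl⟩
        have h3 : π (r * q * r⁻¹ * q⁻¹) = 1 := by
          rw [map_mul, map_mul, map_mul, map_inv, map_inv, ← h2]; group
        exact (QuotientGroup.eq_one_iff _).1 h3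
    have h2 : c' ∈ Q := hchar (h1 (mem_zpowers c'))
    obtain ⟨j, hj⟩ := (Helper53.pCore_isPGroup p Y) ⟨c', h2⟩
    have hj' : c' ^ p ^ j = 1 := congrArg Subtype.val hj
    have h3 : orderOf c' ∣ p ^ j := orderOf_dvd_of_pow_eq_one hj'
    have h4 : orderOf c' = 1 := Nat.Coprime.eq_one_of_dvd (Nat.Coprime.pow_right j hk) h3
    exact orderOf_eq_one_iff.1 h4
  have hCQ : C ≤ Q := Helper53.le_pCore hCn hCp
  intro x hx
  obtain ⟨y, rfl⟩ := QuotientGroup.mk'_surjective (Helper55.frO p Y) x
  exact ⟨y, hCQ hx, rfl⟩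

/-- Let X be a finite 2-constrained group with no nontrivial normal subgroup of odd order such that O₂(X) has sectional 2-rank at most 4. Then X/O₂(X) is isomorphic to a subgroup of the alternating group of degree 8. -/
theorem result {X : Type*} [Group X] [Finite X] (hc : Cfsg.IsPConstrained 2 X) (hO : Cfsg.oddCore X = ⊥)
    (h4 : Cfsg.SectionalPRankLE 2 4 ↥(Cfsg.pCore 2 X)) :
    ∃ f : X ⧸ Cfsg.pCore 2 X →* ↥(alternatingGroup (Fin 8)), Function.Injective f := by
  have : Fact (Nat.Prime 2) := ⟨Nat.prime_two⟩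
  have hchar : centralizer (pCore 2 X : Set X) ≤ pCore 2 X :=
    Helper37.charP_of_isPConstrained hc hO
  set Q := pCore 2 X with hQ
  set Φ := Helper55.frO 2 X with hΦ
  set π := QuotientGroup.mk' Φ with hπ
  have hQn : Q.Normal := Helper53.pCore_normal 2 X
  have hQp : IsPGroup 2 ↥Q := Helper53.pCore_isPGroup 2 X
  set V := Q.map π with hV
  have hVn : V.Normal := hQn.map π (QuotientGroup.mk'_surjective _)
  have hVe : IsElementaryAbelian 2 V := Helper55.elemAb_frQ
  have hCV : centralizer (V : Set (X ⧸ Φ)) ≤ V := centralizer_frQ_le' hchar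
  have hcardV : Nat.card V ≤ 2 ^ 4 := by
    have h1 : Nat.card (⊤ : Subgroup ↥Q) ≤ 2 ^ 4 * Nat.card (frattini ↥Q) :=
      Helper77.card_le_of_sectionalRank h4 ⊤ (frattini ↥Q) le_top
        (fun h _ => Helper3.pow_p_mem_frattini hQp h)
    rw [Subgroup.card_top] at h1
    set g : ↥Q →* X ⧸ Φ := π.comp Q.subtype with hg
    have hker : g.ker = frattini ↥Q := by
      rw [hg, ← MonoidHom.comap_ker, hπ, QuotientGroup.ker_mk', hΦ]
      exact Subgroup.comap_map_eq_self_of_injective Q.subtype_injective _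
    have hrange : g.range = V := by
      rw [hg, ← MonoidHom.map_range, Subgroup.range_subtype]
    have h3 : Nat.card (frattini ↥Q) * Nat.card V = Nat.card ↥Q := by
      rw [← hrange, ← Subgroup.index_ker, hker]
      exact Subgroup.card_mul_index _
    rw [← h3, mul_comm] at h1
    exact Nat.le_of_mul_le_mul_right h1 Nat.card_pos
  have hcomm : ∀ a ∈ V, ∀ b ∈ V, a * b = b * a := by
    intro a ha b hb
    have := hVe.1.is_comm.comm (⟨a, ha⟩ : V) ⟨b, hb⟩
    exact congrArg Subtype.val this
  let _ : CommGroup V := { (inferInstance : Group V) with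
    mul_comm := fun a b => Subtype.ext (hcomm a.1 a.2 b.1 b.2) }
  obtain ⟨φ, hφ⟩ := Helper65.exists_hom_alt8_of_mulAut (V := V)
    (fun x => Subtype.ext (hVe.2 x.1 x.2)) hcardV (MulAut.conjNormal (H := V))
  have hker : ∀ x : X, φ (π x) = 1 ↔ x ∈ Q := by
    intro x
    rw [hφ]
    constructor
    · intro h1
      have h2 : π x ∈ centralizer (V : Set (X ⧸ Φ)) := by
        rw [mem_centralizer_iff]
        intro v hv
        have h3 : MulAut.conjNormal (π x) (⟨v, hv⟩ : V) = ⟨v, hv⟩ := by rw [h1]; rfl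
        have h4 := congrArg Subtype.val h3
        rw [MulAut.conjNormal_apply, mul_inv_eq_iff_eq_mul] at h4
        exact h4.symm
      obtain ⟨q, hq, hqx⟩ := hCV h2
      have h5 : q⁻¹ * x ∈ Φ := QuotientGroup.eq.1 hqx
      have h6 : x = q * (q⁻¹ * x) := by group
      rw [h6]
      exact Q.mul_mem hq (Helper55.frO_le h5)
    · intro hx
      ext v
      rw [MulAut.conjNormal_apply, hcomm (π x) ⟨x, hx, rfl⟩ v.1 v.2, mul_inv_cancel_right]
      rfl
  refine ⟨QuotientGroup.lift Q (φ.comp π) (fun x hx => (hker x).2 hx), ?_⟩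
  rw [injective_iff_map_eq_one]
  intro y hy
  induction y using QuotientGroup.induction_on with
  | H x =>
    exact (QuotientGroup.eq_one_iff x).2 ((hker x).1 hy)

end Cfsg.Agent.S3103
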