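import Cfsg.Statements.S3195
import Cfsg.Agent.S3011

set_option autoImplicit false
open Cfsg

namespace Cfsg.Agent.S3195

/-- Let A be a Klein four-subgroup of a finite group G. If every G-conjugate of every involution of A commutes with some involution of A (its centralizer meets A nontrivially), then A meets the largest normal 2-subgroup O₂(G) nontrivially. -/
theorem result {G : Type*} [Group G] [Finite G]
    (A : Subgroup G) (hA : IsKleinFour ↥A)
    (h : ∀ a ∈ A, a ≠ 1 → ∀ g : G, A ⊓ Subgroup.centralizer ({g * a * g⁻¹} : Set G) ≠ ⊥) :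
    A ⊓ Cfsg.pCore 2 G ≠ ⊥ := by
  have hcard : Nat.card ↥A = 4 := hA.card_four
  have hexp : ∀ a ∈ A, a ^ 2 = 1 := by
    intro a ha
    have h1 : (⟨a, ha⟩ : ↥A) ^ 2 = 1 := by
      rw [← hA.exponent_two]
      exact Monoid.pow_exponent_eq_one _
    exact congrArg Subtype.val h1
  have hcomm : ∀ a ∈ A, ∀ b ∈ A, a * b = b * a := by
    intro a ha b hb
    have h1 := hexp a ha
    have h2 := hexp b hb
    have h3 := hexp (a * b) (A.mul_mem ha hb)
    rw [pow_two] at h1 h2 h3
    calc a * b = (b * b) * (a * b) * (a * a) := by rw [h1, h2]; group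
      _ = b * ((b * a) * (b * a)) * a := by group
      _ = b * (b * (a * b * (a * b)) * b⁻¹) * a := by group
      _ = b * a := by rw [h3]; group
  have hEA : Cfsg.IsElementaryAbelian 2 A := by
    refine ⟨⟨⟨?_⟩⟩, hexp⟩
    rintro ⟨a, ha⟩ ⟨b, hb⟩
    exact Subtype.ext (hcomm a ha b hb)
  have hne : A ≠ ⊥ := by
    intro h0
    rw [h0] at hcard
    simp at hcard
  obtain ⟨a₀, ha₀, ha₀1⟩ : ∃ v ∈ A, v ≠ 1 := by
    by_contra hc
    push Not at hc
    exact hne ((Subgroup.eq_bot_iff_forall A).mpr hc)
  have hS : Cfsg.IsSidkiPair A := by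
    intro x v hv hxo hinv
    by_cases hv1 : v = 1
    · subst hv1
      have h1 : x = x⁻¹ := by simpa using hinv
      have h2 := Cfsg.Agent.S3011.eq_one_of_odd_of_eq_inv x hxo h1
      exact ⟨a₀, ha₀, ha₀1, by rw [h2]; simp⟩
    · obtain ⟨j, hj⟩ := Cfsg.Agent.S3011.exists_sqrt_of_odd x hxo
      set u := x ^ j with hu
      have hvu : v * u * v⁻¹ = u⁻¹ := by
        rw [hu, ← conj_pow, hinv, inv_pow]
      have hconj : u * v * u⁻¹ = x * v := by
        calc u * v * u⁻¹ = u * (v * u * v⁻¹)⁻¹ * v := by group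
          _ = (u * u) * v := by rw [hvu]; group
          _ = x * v := by rw [hj]
      have h1 := h v hv hv1 u
      obtain ⟨w, hw, hw1⟩ : ∃ w ∈ A ⊓ Subgroup.centralizer ({u * v * u⁻¹} : Set G), w ≠ 1 := by
        by_contra hc
        push Not at hc
        exact h1 ((Subgroup.eq_bot_iff_forall _).mpr hc)
      refine ⟨w, hw.1, hw1, ?_⟩
      have h2 : w * (x * v) = (x * v) * w := by
        have := Subgroup.mem_centralizer_singleton_iff.mp hw.2
        rw [hconj] at this
        exact this
      have h3 : w * v = v * w := hcomm w hw.1 v hv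
      calc w * x = (w * (x * v)) * v⁻¹ := by group
        _ = x * (v * w) * v⁻¹ := by rw [h2]; group
        _ = x * (w * v) * v⁻¹ := by rw [h3]
        _ = x * w := by group
  exact Cfsg.Agent.S3011.result A hEA hne hS (by rw [hcard])

end Cfsg.Agent.S3195
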