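import Cfsg.Statements.S3206
import Cfsg.Agent.Lib.Helper9.JRMain
-- import your own Cfsg.Agent.* helpers here

set_option autoImplicit false
open Cfsg

namespace Cfsg.Agent.S3206

/-- Let G be a non-abelian finite simple group with abelian Sylow 2-subgroups, and let t be an involution of G whose centralizer is a maximal subgroup of G and is the direct product of the subgroup generated by t with a subgroup E having a normal subgroup isomorphic to PSL(2, q), q odd and greater than 3, with trivial centralizer in E. Then every finite perfect group having a central 2-subgroup with quotient isomorphic to G has that central subgroup trivial (G has no nontrivial perfect central extension by a 2-group), and every automorphism of G of 2-power order that fixes every element of some Sylow 2-subgroup of G is inner. -/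
theorem result {G : Type*} [Group G] [Finite G] [IsSimpleGroup G]
    (hG : ¬ IsMulCommutative G) (hab : ∀ S : Sylow 2 G, IsMulCommutative ↥(S : Subgroup G))
    (t : G) (ht : orderOf t = 2) (hmax : IsCoatom (Subgroup.centralizer ({t} : Set G)))
    (E : Subgroup G) (hE : Cfsg.IsInternalDirectProduct (Subgroup.zpowers t) E (Subgroup.centralizer ({t} : Set G)))
    {F : Type*} [Field F] [Fintype F] (hFo : Odd (Fintype.card F)) (hF3 : 3 < Fintype.card F)
    (N : Subgroup ↥E) [N.Normal] (hN : Nonempty (↥N ≃* Matrix.ProjectiveSpecialLinearGroup (Fin 2) F))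
    (hNc : Subgroup.centralizer (N : Set ↥E) = ⊥) :
    (∀ (L : Type) (_ : Group L) (_ : Finite L) (Z : Subgroup L) (_ : Z.Normal), commutator L = ⊤ → Z ≤ Subgroup.center L →
        IsPGroup 2 ↥Z → Nonempty (L ⧸ Z ≃* G) → Z = ⊥) ∧
    (∀ (φ : G ≃* G) (k : ℕ), φ ^ (2 ^ k) = 1 → (∃ S : Sylow 2 G, ∀ s ∈ (S : Subgroup G), φ s = s) →
        ∃ g : G, ∀ x : G, φ x = g * x * g⁻¹) := by
  classical
  obtain ⟨e⟩ := hN
  have hsP : IsSimpleGroup (Matrix.ProjectiveSpecialLinearGroup (Fin 2) F) :=
    Matrix.ProjectiveSpecialLinearGroup.rank_two_simple (by rw [Nat.card_eq_fintype_card]; omega)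
  have hsN : IsSimpleGroup ↥N := e.isSimpleGroup
  have htt : t * t = 1 := by
    rw [← pow_two, ← ht]; exact pow_orderOf_eq_one t
  have h2G : 2 ∣ Nat.card G := by
    rw [← ht]; exact orderOf_dvd_natCard t
  constructor
  · obtain ⟨v, w, hconj, hodd⟩ := Cfsg.Agent.Lib.Helper9.JR.main_abs hab t ht E hE N
      (fun P => Cfsg.Agent.Lib.Helper9.JR.kleinFour_of_psl hab hFo e (E.subtype.comp N.subtype)
        (fun a b h => Subtype.ext (Subtype.ext h)) P) hNc
    intro L _ _ Z _ hL hZ hZ2 ⟨f⟩
    exact Cfsg.Agent.Lib.Helper9.JR.no_cover t v w htt hconj hodd L Z hL hZ hZ2 f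
  · intro φ k hφ ⟨S, hS⟩
    have hZ : Subgroup.center G = ⊥ := by
      rcases (inferInstance : (Subgroup.center G).Normal).eq_bot_or_eq_top with h | h
      · exact h
      · exfalso
        apply hG
        refine ⟨⟨fun a b => ?_⟩⟩
        have : b ∈ Subgroup.center G := by rw [h]; trivial
        exact (Subgroup.mem_center_iff.1 this a)
    obtain ⟨j, -, hj⟩ := (Nat.dvd_prime_pow Nat.prime_two).1 (orderOf_dvd_of_pow_eq_one hφ)
    exact Cfsg.Agent.S4593.result hZ (Cfsg.Agent.Lib.Helper9.JR.pPrimeCore_eq_bot h2G) S (hab S) φ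
      ⟨j, hj⟩ hS

end Cfsg.Agent.S3206
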