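import Cfsg.Statements.S3266
-- import your own Cfsg.Agent.* helpers here
import Cfsg.Agent.Lib.Helper47.SL2Four
import Cfsg.Agent.Lib.Helper47.QuadPairs
import Cfsg.Agent.Lib.Helper47.DiamTwo

set_option autoImplicit false
open Cfsg

namespace Cfsg.Agent.S3266

set_option linter.unusedSimpArgs false
open Matrix Cfsg.Agent.Lib.Helper47 Cfsg.Agent.Lib.Helper46

section
variable {F : Type*} [Field F]

/-- the combination `u A + v B + s (A B - B A)` of two trace zero matrices -/
theorem exists_comb (A B : SpecialLinearGroup (Fin 2) F) (hA : tr A = 0) (hB : tr B = 0)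
    (u v s : F) (h : u ^ 2 + v ^ 2 - u * v * tr (A * B) + s ^ 2 * (4 - tr (A * B) ^ 2) = 1) :
    ∃ C : SpecialLinearGroup (Fin 2) F, tr C = 0 ∧ tr (A * C) = -2 * u + v * tr (A * B) ∧
      tr (C * B) = u * tr (A * B) - 2 * v := by
  have hdA := det2 A
  have hdB := det2 B
  rw [tr_mul] at h
  simp only [tr] at hA hB
  set a := (A : Matrix (Fin 2) (Fin 2) F) 0 0
  set b := (A : Matrix (Fin 2) (Fin 2) F) 0 1
  set c := (A : Matrix (Fin 2) (Fin 2) F) 1 0
  set d := (A : Matrix (Fin 2) (Fin 2) F) 1 1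
  set e := (B : Matrix (Fin 2) (Fin 2) F) 0 0
  set f := (B : Matrix (Fin 2) (Fin 2) F) 0 1
  set g := (B : Matrix (Fin 2) (Fin 2) F) 1 0
  set k := (B : Matrix (Fin 2) (Fin 2) F) 1 1
  have hd : d = -a := by linear_combination hA
  have hk : k = -e := by linear_combination hB
  rw [hd] at hdA h
  rw [hk] at hdB h
  refine ⟨mk2 (u * a + v * e + s * (b * g - c * f)) (u * b + v * f + 2 * s * (a * f - b * e))
    (u * c + v * g + 2 * s * (c * e - a * g)) (-(u * a + v * e + s * (b * g - c * f))) ?_, ?_, ?_, ?_⟩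
  · linear_combination h + u ^ 2 * hdA + v ^ 2 * hdB +
      4 * s ^ 2 * ((e * (-e) - f * g) * hdA + hdB)
  · simp [tr]
  · rw [tr_mul, tr_mul]
    simp only [mk2_00, mk2_01, mk2_10, mk2_11]
    change a * _ + b * _ + (c * _ + d * _) = -2 * u + v * (a * e + b * g + (c * f + d * k))
    rw [hd, hk]
    linear_combination (-2 * u) * hdA
  · rw [tr_mul, tr_mul]
    simp only [mk2_00, mk2_01, mk2_10, mk2_11]
    change _ * e + _ * g + (_ * f + _ * k) = u * (a * e + b * g + (c * f + d * k)) - 2 * v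
    rw [hd, hk]
    linear_combination (-2 * v) * hdB

theorem odd_orderOf_of_pow {G : Type*} [Group G] (g : G) (n : ℕ) (hn : n % 2 = 1) (h : g ^ n = 1) :
    Odd (orderOf g) :=
  Odd.of_dvd_nat (Nat.odd_iff.mpr hn) (orderOf_dvd_of_pow_eq_one h)

theorem pmk_pow (X : SpecialLinearGroup (Fin 2) F) (n : ℕ) : pmk X ^ n = pmk (X ^ n) := rfl

theorem odd_of_unip (p : ℕ) [Fact p.Prime] [CharP F p] (hp : p % 2 = 1)
    (X : SpecialLinearGroup (Fin 2) F) (h : tr X ^ 2 = 4) : Odd (orderOf (pmk X)) := by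
  apply odd_orderOf_of_pow _ p hp
  rw [pmk_pow]
  exact (QuotientGroup.eq_one_iff _).mpr (pow_char_mem_center p X h)

theorem pow_of_root [Fintype F] (X : SpecialLinearGroup (Fin 2) F) (a : F)
    (ha : a ^ 2 - tr X * a + 1 = 0) (ha2 : a ^ 2 ≠ 1) : X ^ (Fintype.card F - 1) = 1 := by
  obtain ⟨u, P, -, hP⟩ := conj_dd_of_root X a ha ha2
  have hu : u ^ (Fintype.card F - 1) = 1 :=
    Units.ext (by simpa using FiniteField.pow_card_sub_one_eq_one (u : F) u.ne_zero)
  rw [← hP, conj_pow', dd_pow, hu, dd_one]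
  group

theorem odd_of_root [Fintype F] (hq : Fintype.card F % 4 = 3)
    (X : SpecialLinearGroup (Fin 2) F) (a : F)
    (ha : a ^ 2 - tr X * a + 1 = 0) (ha2 : a ^ 2 ≠ 1) : Odd (orderOf (pmk X)) := by
  have h2 : (2 : F) ≠ 0 := by
    rcases parity_cases (F := F) with ⟨h, -⟩ | ⟨-, h⟩
    · exact h
    · omega
  apply odd_orderOf_of_pow _ ((Fintype.card F - 1) / 2) (by omega)
  rw [pmk_pow]
  apply (QuotientGroup.eq_one_iff _).mpr
  apply mem_center_of_sq_eq_one h2
  rw [← pow_add, ← two_mul, Nat.mul_div_cancel' (by omega)]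
  exact pow_of_root X a ha ha2

theorem odd_of_char_two [Fintype F] (h2 : (2 : F) = 0) (hq : Fintype.card F % 2 = 0)
    (X : SpecialLinearGroup (Fin 2) F) (h : tr X ≠ 0) : Odd (orderOf (pmk X)) := by
  have hq2 : 2 ≤ Fintype.card F := Fintype.one_lt_card
  by_cases hroot : ∃ a : F, a ^ 2 - tr X * a + 1 = 0
  · obtain ⟨a, ha⟩ := hroot
    have ha2 : a ^ 2 ≠ 1 := by
      intro h1
      apply h
      have h3 : tr X * a = 0 := by linear_combination -ha + h1 + h2
      have ha0 : a ≠ 0 := by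
        rintro rfl
        simp at h1
      exact (mul_eq_zero.mp h3).resolve_right ha0
    apply odd_orderOf_of_pow _ (Fintype.card F - 1) (by omega)
    rw [pmk_pow, pow_of_root X a ha ha2]; rfl
  · push Not at hroot
    apply odd_orderOf_of_pow _ (Fintype.card F + 1) (by omega)
    rw [pmk_pow, pow_card_add_one_of_nonsplit X hroot]; rfl

theorem repAll_zero [Fintype F] : RepAll (0 : F) := by
  rcases parity_cases (F := F) with ⟨h2, hodd⟩ | ⟨h2, -⟩
  · exact repAll_of_odd hodd 0 (Cfsg.Agent.S0809.four_ne h2)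
  · intro c _
    have hch : ringChar F = 2 := by
      have : ringChar F ∣ 2 := by
        apply ringChar.dvd
        exact_mod_cast h2
      rcases (Nat.dvd_prime Nat.prime_two).1 this with h1 | h1
      · exact absurd h1 (CharP.ringChar_ne_one)
      · exact h1
    obtain ⟨x, hx⟩ := FiniteField.isSquare_of_char_two hch c
    exact ⟨x, 0, by rw [hx]; ring⟩

/-- involutions lift to noncentral matrices of trace zero, in any characteristic -/
theorem lift_inv (z : ProjectiveSpecialLinearGroup (Fin 2) F) (hz : orderOf z = 2) :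
    ∃ Z : SpecialLinearGroup (Fin 2) F, pmk Z = z ∧ tr Z = 0 ∧
      Z ∉ Subgroup.center (SpecialLinearGroup (Fin 2) F) := by
  obtain ⟨Z, rfl⟩ := QuotientGroup.mk_surjective z
  have h1 : pmk Z ≠ 1 := by
    intro h
    have h7 : orderOf (pmk Z) = 2 := hz
    rw [h, orderOf_one] at h7
    omega
  have hnc : Z ∉ Subgroup.center (SpecialLinearGroup (Fin 2) F) := fun h =>
    h1 ((QuotientGroup.eq_one_iff _).mpr h)
  have hsq : pmk Z ^ 2 = 1 := by
    have := pow_orderOf_eq_one (pmk Z)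
    rwa [show orderOf (pmk Z) = 2 from hz] at this
  have h3 : Z * Z ∈ Subgroup.center (SpecialLinearGroup (Fin 2) F) := by
    rw [← QuotientGroup.eq_one_iff, ← hsq, pow_two]; rfl
  refine ⟨Z, rfl, ?_, hnc⟩
  rcases eq_one_or_negOne_of_mem_center _ h3 with h4 | h4
  · by_cases h2 : (2 : F) = 0
    · rw [← negOne_eq_one h2] at h4
      exact Cfsg.Agent.S0809.tr_eq_zero_of_sq Z h4
    · exact absurd (mem_center_of_sq_eq_one h2 Z h4) hnc
  · exact Cfsg.Agent.S0809.tr_eq_zero_of_sq Z h4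

theorem orderOf_pmk_of_tr_zero (Z : SpecialLinearGroup (Fin 2) F) (ht : tr Z = 0)
    (hnc : Z ∉ Subgroup.center (SpecialLinearGroup (Fin 2) F)) : orderOf (pmk Z) = 2 := by
  apply orderOf_eq_prime (pmk_sq_of_tr Z ht)
  exact pmk_ne_one_of_not_mem Z hnc

theorem isConj_of_tr_zero [Fintype F] (X Z : SpecialLinearGroup (Fin 2) F) (hX : tr X = 0)
    (hXc : X ∉ Subgroup.center (SpecialLinearGroup (Fin 2) F)) (ht : tr Z = 0)
    (hnc : Z ∉ Subgroup.center (SpecialLinearGroup (Fin 2) F)) : IsConj (pmk X) (pmk Z) := by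
  obtain ⟨P, hP⟩ := conj_of_tr_eq repAll_zero X Z hXc hnc hX ht
  rw [isConj_iff]
  refine ⟨pmk P, ?_⟩
  rw [← hP]
  rfl


theorem common_one [Fintype F] (hq : Fintype.card F % 4 = 1)
    (A B : SpecialLinearGroup (Fin 2) F) (hA : tr A = 0) (hB : tr B = 0) (hτ : tr (A * B) ≠ 2) :
    ∃ C : SpecialLinearGroup (Fin 2) F, tr C = 0 ∧ tr (A * C) ^ 2 = 4 ∧ tr (C * B) ^ 2 = 4 := by
  obtain ⟨i, hi⟩ : IsSquare (-1 : F) := FiniteField.isSquare_neg_one_iff.mpr (by omega)
  have hne : 2 - tr (A * B) ≠ 0 := fun h => hτ (by linear_combination -h)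
  obtain ⟨C, h1, h2, h3⟩ := exists_comb A B hA hB (2 / (2 - tr (A * B))) (2 / (2 - tr (A * B)))
    (i / (2 - tr (A * B))) (by
      field_simp
      linear_combination (-(4 - tr (A * B) ^ 2)) * hi)
  refine ⟨C, h1, ?_, ?_⟩
  · have : tr (A * C) = -2 := by
      rw [h2]; field_simp; ring
    rw [this]; norm_num
  · have : tr (C * B) = -2 := by
      rw [h3]; field_simp; ring
    rw [this]; norm_num

theorem alg_three [Fintype F] (hq : Fintype.card F % 4 = 3) (hq3 : 3 < Fintype.card F)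
    (τ : F) (hτ : ¬ IsSquare (τ ^ 2 - 4)) :
    ∃ u v s l m : F, u ^ 2 + v ^ 2 - u * v * τ + s ^ 2 * (4 - τ ^ 2) = 1 ∧
      l ^ 2 - (-2 * u + v * τ) * l + 1 = 0 ∧ l ^ 2 ≠ 1 ∧
      m ^ 2 - (u * τ - 2 * v) * m + 1 = 0 ∧ m ^ 2 ≠ 1 := by
  classical
  obtain ⟨ρ, σ, hρ, hσ, ⟨l, hl⟩, hns⟩ := exists_pair_nonsquare hq hq3 τ hτ
  have hl0 : l ≠ 0 := by
    rintro rfl
    simp at hl
    rcases hl with h | h
    · exact hρ h
    · exact hσ h
  have hN : 4 - τ ^ 2 ≠ 0 := by
    intro h
    apply hτ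
    have : τ ^ 2 - 4 = 0 := by linear_combination -h
    rw [this]
    exact IsSquare.zero
  -- `-h(ρ) h(σ)` is a square
  obtain ⟨k, hk⟩ : IsSquare (-((ρ ^ 2 + τ * ρ + 1) * (σ ^ 2 + τ * σ + 1))) := by
    have hne : (ρ ^ 2 + τ * ρ + 1) * (σ ^ 2 + τ * σ + 1) ≠ 0 := by
      intro h
      apply hns
      rw [h]
      exact IsSquare.zero
    rw [← quadraticChar_one_iff_isSquare (neg_ne_zero.mpr hne), neg_eq_neg_one_mul, map_mul,
      quadraticChar_neg_one_iff_not_isSquare.mpr hns,
      quadraticChar_neg_one_iff_not_isSquare.mpr (by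
        rw [FiniteField.isSquare_neg_one_iff]; omega)]
    norm_num
  obtain ⟨m, hm⟩ : ∃ m : F, m = ρ / l := ⟨_, rfl⟩
  have hm0 : m ≠ 0 := by rw [hm]; exact div_ne_zero hρ hl0
  have hρ' : ρ = l * m := by rw [hm]; field_simp
  have hσ' : σ = l / m := by
    rw [hm]
    field_simp
    linear_combination hl
  have hl2 : l ^ 2 ≠ 1 := by
    intro h
    apply hns
    have hσ2 : σ = 1 / ρ := by
      field_simp
      linear_combination hl + h
    refine ⟨(ρ ^ 2 + τ * ρ + 1) / ρ, ?_⟩
    rw [hσ2]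
    field_simp
    ring
  have hm2 : m ^ 2 ≠ 1 := by
    intro h
    apply hns
    have : σ = ρ := by
      rw [hσ', hρ']
      field_simp
      linear_combination -h
    rw [this]
    exact ⟨_, rfl⟩
  subst hρ' hσ'
  refine ⟨-(2 * (l + 1 / l) + τ * (m + 1 / m)) / (4 - τ ^ 2),
    -(τ * (l + 1 / l) + 2 * (m + 1 / m)) / (4 - τ ^ 2), k / l / (4 - τ ^ 2), l, m,
    ?_, ?_, hl2, ?_, hm2⟩
  · have hk' : k ^ 2 / l ^ 2 = 4 - τ ^ 2 - (l + 1 / l) ^ 2 - (m + 1 / m) ^ 2
        - τ * (l + 1 / l) * (m + 1 / m) := by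
      rw [pow_two k, ← hk]
      field_simp
      ring
    have e : (k / l / (4 - τ ^ 2)) ^ 2 * (4 - τ ^ 2) = (k ^ 2 / l ^ 2) / (4 - τ ^ 2) := by
      field_simp
    rw [e, hk']
    field_simp
    ring
  · field_simp
    ring
  · field_simp
    ring

theorem common_three [Fintype F] (hq : Fintype.card F % 4 = 3) (hq3 : 3 < Fintype.card F)
    (A B : SpecialLinearGroup (Fin 2) F) (hA : tr A = 0) (hB : tr B = 0)
    (hτ : ¬ IsSquare (tr (A * B) ^ 2 - 4)) :
    ∃ C : SpecialLinearGroup (Fin 2) F, tr C = 0 ∧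
      (∃ a : F, a ^ 2 - tr (A * C) * a + 1 = 0 ∧ a ^ 2 ≠ 1) ∧
      (∃ a : F, a ^ 2 - tr (C * B) * a + 1 = 0 ∧ a ^ 2 ≠ 1) := by
  obtain ⟨u, v, s, l, m, h0, hl, hl2, hm, hm2⟩ := alg_three hq hq3 _ hτ
  obtain ⟨C, h1, h2, h3⟩ := exists_comb A B hA hB u v s h0
  exact ⟨C, h1, ⟨l, by rw [h2]; exact hl, hl2⟩, ⟨m, by rw [h3]; exact hm, hm2⟩⟩

theorem offdiag_ne (h2 : (2 : F) = 0) (A : SpecialLinearGroup (Fin 2) F) (hA : tr A = 0)
    (hAc : A ∉ Subgroup.center (SpecialLinearGroup (Fin 2) F))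
    (h01 : (A : Matrix (Fin 2) (Fin 2) F) 0 1 = 0) (h10 : (A : Matrix (Fin 2) (Fin 2) F) 1 0 = 0) :
    False := by
  apply hAc
  rw [mem_center_iff2]
  refine ⟨h01, h10, ?_⟩
  simp only [tr] at hA
  linear_combination hA - (A : Matrix (Fin 2) (Fin 2) F) 1 1 * h2

theorem common_even (h2 : (2 : F) = 0) (A B : SpecialLinearGroup (Fin 2) F)
    (hA : tr A = 0) (hB : tr B = 0)
    (hAc : A ∉ Subgroup.center (SpecialLinearGroup (Fin 2) F))
    (hBc : B ∉ Subgroup.center (SpecialLinearGroup (Fin 2) F)) :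
    ∃ C : SpecialLinearGroup (Fin 2) F, tr C = 0 ∧
      C ∉ Subgroup.center (SpecialLinearGroup (Fin 2) F) ∧ tr (A * C) ≠ 0 ∧ tr (C * B) ≠ 0 := by
  have tA := hA
  have tB := hB
  simp only [tr] at tA tB
  by_cases c1 : (A : Matrix (Fin 2) (Fin 2) F) 1 0 ≠ 0 ∧ (B : Matrix (Fin 2) (Fin 2) F) 1 0 ≠ 0
  · refine ⟨uu 1, by rw [tr_uu, h2], uu_not_mem_center, ?_, ?_⟩
    · rw [tr_mul]
      simp only [uu, mk2_00, mk2_01, mk2_10, mk2_11]
      intro h
      apply c1.1
      linear_combination h - tA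
    · rw [tr_mul]
      simp only [uu, mk2_00, mk2_01, mk2_10, mk2_11]
      intro h
      apply c1.2
      linear_combination h - tB
  by_cases c2 : (A : Matrix (Fin 2) (Fin 2) F) 0 1 ≠ 0 ∧ (B : Matrix (Fin 2) (Fin 2) F) 0 1 ≠ 0
  · refine ⟨ll 1, by simp only [tr, ll, mk2_00, mk2_11]; linear_combination h2, ?_, ?_, ?_⟩
    · rw [mem_center_iff2]
      simp [ll]
    · rw [tr_mul]
      simp only [ll, mk2_00, mk2_01, mk2_10, mk2_11]
      intro h
      apply c2.1
      linear_combination h - tA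
    · rw [tr_mul]
      simp only [ll, mk2_00, mk2_01, mk2_10, mk2_11]
      intro h
      apply c2.2
      linear_combination h - tB
  have key : (A : Matrix (Fin 2) (Fin 2) F) 1 0 - (A : Matrix (Fin 2) (Fin 2) F) 0 1 ≠ 0 ∧
      (B : Matrix (Fin 2) (Fin 2) F) 1 0 - (B : Matrix (Fin 2) (Fin 2) F) 0 1 ≠ 0 := by
    by_cases a10 : (A : Matrix (Fin 2) (Fin 2) F) 1 0 = 0
    · have a01 : (A : Matrix (Fin 2) (Fin 2) F) 0 1 ≠ 0 := fun h => offdiag_ne h2 A hA hAc h a10
      have b01 : (B : Matrix (Fin 2) (Fin 2) F) 0 1 = 0 := by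
        by_contra h
        exact c2 ⟨a01, h⟩
      have b10 : (B : Matrix (Fin 2) (Fin 2) F) 1 0 ≠ 0 := fun h => offdiag_ne h2 B hB hBc b01 h
      rw [a10, b01]
      simp [a01, b10]
    · have b10 : (B : Matrix (Fin 2) (Fin 2) F) 1 0 = 0 := by
        by_contra h
        exact c1 ⟨a10, h⟩
      have b01 : (B : Matrix (Fin 2) (Fin 2) F) 0 1 ≠ 0 := fun h => offdiag_ne h2 B hB hBc h b10
      have a01 : (A : Matrix (Fin 2) (Fin 2) F) 0 1 = 0 := by
        by_contra h
        exact c2 ⟨h, b01⟩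
      rw [a01, b10]
      simp [a10, b01]
  refine ⟨ww, tr_ww, ?_, ?_, ?_⟩
  · rw [mem_center_iff2]
    simp [ww]
  · rw [tr_mul]
    simp only [ww, mk2_00, mk2_01, mk2_10, mk2_11]
    intro h
    apply key.1
    linear_combination h
  · rw [tr_mul]
    simp only [ww, mk2_00, mk2_01, mk2_10, mk2_11]
    intro h
    apply key.2
    linear_combination h

/-- any two involutions whose product has even order have a common neighbour -/
theorem common_neighbour [Fintype F] (hF : 4 ≤ Fintype.card F)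
    (A B : SpecialLinearGroup (Fin 2) F) (hA : tr A = 0) (hB : tr B = 0)
    (hAc : A ∉ Subgroup.center (SpecialLinearGroup (Fin 2) F))
    (hBc : B ∉ Subgroup.center (SpecialLinearGroup (Fin 2) F))
    (hna : ¬ Odd (orderOf (pmk (A * B)))) :
    ∃ C : SpecialLinearGroup (Fin 2) F, tr C = 0 ∧
      C ∉ Subgroup.center (SpecialLinearGroup (Fin 2) F) ∧ Odd (orderOf (pmk (A * C))) ∧
      Odd (orderOf (pmk (C * B))) := by
  obtain ⟨p, hchar⟩ := CharP.exists F
  have hp : Fact p.Prime := ⟨CharP.char_is_prime F p⟩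
  rcases parity_cases (F := F) with ⟨h2, hodd⟩ | ⟨h2, heven⟩
  · have hp2 : p % 2 = 1 := by
      rcases hp.out.eq_two_or_odd with h | h
      · exfalso
        subst h
        exact h2 (CharTwo.two_eq_zero)
      · exact h
    have hτ4 : tr (A * B) ^ 2 ≠ 4 := fun h => hna (odd_of_unip p hp2 _ h)
    have h4 : Fintype.card F % 4 = 1 ∨ Fintype.card F % 4 = 3 := by omega
    rcases h4 with h4 | h4
    · obtain ⟨C, h1, h3, h5⟩ := common_one h4 A B hA hB (by
        intro h
        apply hτ4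
        rw [h]; norm_num)
      exact ⟨C, h1, not_mem_center_of_tr_zero h2 C h1, odd_of_unip p hp2 _ h3,
        odd_of_unip p hp2 _ h5⟩
    · obtain ⟨C, h1, ⟨a, ha, ha2⟩, ⟨b, hb, hb2⟩⟩ := common_three h4 (by omega) A B hA hB (by
        rintro ⟨δ, hδ⟩
        apply hna
        apply odd_of_root h4 _ ((tr (A * B) + δ) / 2)
        · field_simp
          linear_combination -hδ
        · intro h
          have hδ0 : δ ≠ 0 := by
            rintro rfl
            apply hτ4
            linear_combination hδ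
          have e1 : (tr (A * B) + δ) ^ 2 = 4 := by
            field_simp at h
            linear_combination h
          have e2 : 2 * δ * (tr (A * B) + δ) = 0 := by linear_combination e1 - hδ
          have e3 : tr (A * B) + δ = 0 :=
            (mul_eq_zero.mp e2).resolve_left (mul_ne_zero h2 hδ0)
          rw [e3] at e1
          apply h2
          have : (2 : F) * 2 = 0 := by linear_combination -e1
          exact (mul_eq_zero.mp this).elim id id)
      exact ⟨C, h1, not_mem_center_of_tr_zero h2 C h1, odd_of_root h4 _ a ha ha2,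
        odd_of_root h4 _ b hb hb2⟩
  · obtain ⟨C, h1, h3, h5, h6⟩ := common_even h2 A B hA hB hAc hBc
    exact ⟨C, h1, h3, odd_of_char_two h2 heven _ h5, odd_of_char_two h2 heven _ h6⟩

end

/-- Let F be a finite field with at least 4 elements and let X be a conjugacy class of involutions of PSL(2, F). The graph on X joining two distinct involutions whose product has odd order is connected and has diameter exactly 2. -/
theorem result {F : Type*} [Field F] [Fintype F] (hF : 4 ≤ Fintype.card F)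
    (t : Matrix.ProjectiveSpecialLinearGroup (Fin 2) F) (ht : orderOf t = 2) :
    (SimpleGraph.fromRel fun x y : {x : Matrix.ProjectiveSpecialLinearGroup (Fin 2) F // IsConj t x} =>
        Odd (orderOf (x.1 * y.1))).Connected ∧
      (SimpleGraph.fromRel fun x y : {x : Matrix.ProjectiveSpecialLinearGroup (Fin 2) F // IsConj t x} =>
        Odd (orderOf (x.1 * y.1))).diam = 2 := by
  classical
  have := finite_SL2 (F := F)
  have hfinG : Finite (ProjectiveSpecialLinearGroup (Fin 2) F) := Quotient.finite _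
  obtain ⟨T, rfl, hT, hTc⟩ := lift_inv t ht
  have hord : ∀ x : ProjectiveSpecialLinearGroup (Fin 2) F, IsConj (pmk T) x → orderOf x = 2 := by
    intro x hx
    obtain ⟨c, hc⟩ := isConj_iff.mp hx
    rw [← hc]
    exact ((MulAut.conj c).orderOf_eq (pmk T)).trans ht
  -- a pair of distinct commuting involutions
  obtain ⟨X, Y, hX, hXc, hY, hYc, hXY, hXYc, hne, hcomm⟩ : ∃ X Y : SpecialLinearGroup (Fin 2) F,
      tr X = 0 ∧ X ∉ Subgroup.center (SpecialLinearGroup (Fin 2) F) ∧
      tr Y = 0 ∧ Y ∉ Subgroup.center (SpecialLinearGroup (Fin 2) F) ∧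
      tr (X * Y) = 0 ∧ X * Y ∉ Subgroup.center (SpecialLinearGroup (Fin 2) F) ∧
      pmk X ≠ pmk Y ∧ pmk X * pmk Y = pmk Y * pmk X := by
    rcases parity_cases (F := F) with ⟨h2, hodd⟩ | ⟨h2, heven⟩
    · obtain ⟨B₀, hB₀⟩ : ∃ B₀ : SpecialLinearGroup (Fin 2) F, B₀ * T = negOne * (T * B₀) := by
        by_contra hcon
        push Not at hcon
        have hle : Cstar T ≤ Subgroup.centralizer ({T} : Set (SpecialLinearGroup (Fin 2) F)) := by
          intro X hX
          rw [Subgroup.mem_centralizer_singleton_iff]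
          rcases (mem_Cstar T X).mp hX with h | h
          · exact h
          · exact absurd h (hcon X)
        have h3 := Subgroup.card_le_of_le hle
        rw [Cfsg.Agent.S0809.card_Cstar hodd T hT] at h3
        have : 0 < Nat.card (Subgroup.centralizer ({T} : Set (SpecialLinearGroup (Fin 2) F))) :=
          Nat.card_pos
        omega
      have hB₀t := tr_eq_zero_of_anti h2 T B₀ hB₀
      have hTB : (T * B₀) * T = negOne * (T * (T * B₀)) := by
        rw [mul_assoc, hB₀, ← mul_assoc, ← negOne_central, mul_assoc]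
      have hTBt := tr_eq_zero_of_anti h2 T (T * B₀) hTB
      obtain ⟨-, h5, -, h6⟩ := (anti_iff h2 T hT (pmk B₀)).mp ⟨B₀, rfl, hB₀⟩
      exact ⟨T, B₀, hT, hTc, hB₀t, not_mem_center_of_tr_zero h2 _ hB₀t, hTBt,
        not_mem_center_of_tr_zero h2 _ hTBt, fun h => h5 h.symm, h6⟩
    · obtain ⟨b, hb0, hb1⟩ : ∃ b : F, b ≠ 0 ∧ b ≠ 1 := by
        obtain ⟨x, y, z, hxy, hxz, hyz⟩ := Fintype.two_lt_card_iff.mp (by omega : 2 < Fintype.card F)
        by_cases hx : x ≠ 0 ∧ x ≠ 1
        · exact ⟨x, hx⟩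
        by_cases hy : y ≠ 0 ∧ y ≠ 1
        · exact ⟨y, hy⟩
        refine ⟨z, ?_, ?_⟩
        · rintro rfl
          push Not at hx hy
          by_cases hx0 : x = 0
          · exact hxz hx0
          · by_cases hy0 : y = 0
            · exact hyz hy0
            · exact hxy ((hx hx0).trans (hy hy0).symm)
        · rintro rfl
          push Not at hx hy
          by_cases hx0 : x = 0
          · by_cases hy0 : y = 0
            · exact hxy (hx0.trans hy0.symm)
            · exact hyz (hy hy0)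
          · exact hxz (hx hx0)
      have hnc : ∀ c : F, c ≠ 0 → uu c ∉ Subgroup.center (SpecialLinearGroup (Fin 2) F) := by
        intro c hc
        rw [mem_center_iff2]
        simp [uu, hc]
      have hmul : ∀ c d : F, uu c * uu d = uu (c + d) := by
        intro c d
        apply ext2 <;> simp [uu, mul_00, mul_01, mul_10, mul_11, add_comm]
      have h1b : (1 : F) + b ≠ 0 := by
        intro h
        apply hb1
        linear_combination h - h2
      refine ⟨uu 1, uu b, by rw [tr_uu, h2], hnc 1 one_ne_zero, by rw [tr_uu, h2], hnc b hb0,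
        by rw [hmul, tr_uu, h2], by rw [hmul]; exact hnc _ h1b, ?_, ?_⟩
      · intro h
        rcases (pmk_eq_iff _ _).mp h with h' | h'
        · have := congrArg (fun Z : SpecialLinearGroup (Fin 2) F =>
            (Z : Matrix (Fin 2) (Fin 2) F) 0 1) h'
          simp [uu] at this
          exact hb1 this
        · rw [negOne_eq_one h2, one_mul] at h'
          have := congrArg (fun Z : SpecialLinearGroup (Fin 2) F =>
            (Z : Matrix (Fin 2) (Fin 2) F) 0 1) h'
          simp [uu] at this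
          exact hb1 this
      · rw [← pmk_mul, ← pmk_mul, hmul, hmul, add_comm]
  apply connected_and_diam_eq_two _ _
    (⟨pmk X, isConj_of_tr_zero T X hT hTc hX hXc⟩ :
      {x : ProjectiveSpecialLinearGroup (Fin 2) F // IsConj (pmk T) x})
    ⟨pmk Y, isConj_of_tr_zero T Y hT hTc hY hYc⟩
  · intro h
    exact hne (congrArg Subtype.val h)
  · rw [SimpleGraph.fromRel_adj]
    rintro ⟨-, h | h⟩
    · simp only at h
      rw [← pmk_mul, orderOf_pmk_of_tr_zero _ hXY hXYc] at h
      exact absurd h (by decide)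
    · simp only at h
      rw [← hcomm, ← pmk_mul, orderOf_pmk_of_tr_zero _ hXY hXYc] at h
      exact absurd h (by decide)
  · rintro ⟨x, hx⟩ ⟨y, hy⟩ hxy hna
    rw [SimpleGraph.fromRel_adj] at hna
    push Not at hna
    obtain ⟨hna1, hna2⟩ := hna hxy
    simp only at hna1 hna2
    obtain ⟨A, rfl, hA, hAc⟩ := lift_inv x (hord x hx)
    obtain ⟨B, rfl, hB, hBc⟩ := lift_inv y (hord y hy)
    obtain ⟨C, hC, hCc, h1, h2⟩ := common_neighbour hF A B hA hB hAc hBc hna1
    refine ⟨⟨pmk C, isConj_of_tr_zero T C hT hTc hC hCc⟩, ?_, ?_⟩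
    · rw [SimpleGraph.fromRel_adj]
      refine ⟨?_, Or.inl h1⟩
      intro h
      have h' : pmk A = pmk C := congrArg Subtype.val h
      apply hna1
      rw [h']
      exact h2
    · rw [SimpleGraph.fromRel_adj]
      refine ⟨?_, Or.inl h2⟩
      intro h
      have h' : pmk C = pmk B := congrArg Subtype.val h
      apply hna1
      rw [← h']
      exact h1

end Cfsg.Agent.S3266
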