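import Cfsg.Statements.S3309
import Cfsg.Agent.S2872

set_option autoImplicit false
open Cfsg

namespace Cfsg.Agent.S3309

abbrev W := Multiplicative (ZMod 2) × DihedralGroup 4

def cW : W := (Multiplicative.ofAdd 1, 1)
def zW : W := (1, DihedralGroup.r 2)
def rW : W := (1, DihedralGroup.r 1)

theorem W_sq : ∀ w : W, w ^ 2 = 1 ∨ w ^ 2 = zW := by decide

theorem W_central : ∀ w : W, (∀ v : W, v * w = w * v) → w = 1 ∨ w = cW ∨ w = zW ∨ w = cW * zW := by
  decide

theorem cW_central : ∀ v : W, v * cW = cW * v := by decide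

theorem W_facts : cW ^ 2 = 1 ∧ zW ^ 2 = 1 ∧ rW ^ 2 = zW ∧ cW ≠ 1 ∧ zW ≠ 1 ∧ cW ≠ zW ∧ cW.1 ≠ 1 := by decide

/-- A `p`-element of the normalizer of a Sylow `p`-subgroup lies in it. -/
theorem mem_sylow_of_pow {G : Type*} [Group G] (p : ℕ) [Fact p.Prime] (S : Sylow p G) (x : G)
    (hx : x ∈ Subgroup.normalizer ((S : Subgroup G) : Set G)) (k : ℕ) (hk : x ^ p ^ k = 1) :
    x ∈ (S : Subgroup G) := by
  have h1 : IsPGroup p (Subgroup.zpowers x) := by
    rintro ⟨y, hy⟩
    obtain ⟨n, rfl⟩ := Subgroup.mem_zpowers_iff.mp hy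
    refine ⟨k, ?_⟩
    apply Subtype.ext
    simp only [Subgroup.coe_pow, Subgroup.coe_one]
    rw [← zpow_natCast, ← zpow_mul, mul_comm, zpow_mul, zpow_natCast, hk, one_zpow]
  have h2 : IsPGroup p (Subgroup.zpowers x ⊔ (S : Subgroup G) : Subgroup G) :=
    h1.to_sup_of_normal_right' S.2 (by rw [Subgroup.zpowers_le]; exact hx)
  have h3 := S.is_maximal' h2 le_sup_right
  rw [← h3]
  exact Subgroup.mem_sup_left (Subgroup.mem_zpowers x)

/-- A finite group whose Sylow 2-subgroups are isomorphic to the direct product of a group of order 2 and the dihedral group of order 8 is not a non-abelian simple group. -/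
theorem result {G : Type*} [Group G] [Finite G] (S : Sylow 2 G) (hS : Nonempty (↥(S : Subgroup G) ≃* Multiplicative (ZMod 2) × DihedralGroup 4))
    [IsSimpleGroup G] (hG : ¬ IsMulCommutative G) : False := by
  classical
  obtain ⟨e⟩ := hS
  let f : W →* G := (S : Subgroup G).subtype.comp e.symm.toMonoidHom
  have hfinj : Function.Injective f := by
    intro a b hab
    exact e.symm.injective (Subtype.ext hab)
  have hfmem : ∀ w, f w ∈ (S : Subgroup G) := fun w => (e.symm w).2
  have hfsurj : ∀ s ∈ (S : Subgroup G), ∃ w, f w = s := by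
    intro s hs
    exact ⟨e ⟨s, hs⟩, by simp [f]⟩
  have hrange : (⊤ : Subgroup W).map f = (S : Subgroup G) := by
    ext s
    constructor
    · rintro ⟨w, -, rfl⟩
      exact hfmem w
    · intro hs
      obtain ⟨w, rfl⟩ := hfsurj s hs
      exact ⟨w, trivial, rfl⟩
  let K : Subgroup W := (MonoidHom.fst (Multiplicative (ZMod 2)) (DihedralGroup 4)).ker
  have hKidx : K.index = 2 := by
    rw [Subgroup.index_ker, MonoidHom.range_eq_top_of_surjective _ Prod.fst_surjective]
    simp
  obtain ⟨hc2, hz2, hrz, hc1, hz1, hcz, hcK⟩ := W_facts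
  -- the normalizer fixes `f zW`
  have hNz : ∀ g ∈ Subgroup.normalizer ((S : Subgroup G) : Set G), g * f zW * g⁻¹ = f zW := by
    intro g hg
    have h1 : g * f rW * g⁻¹ ∈ (S : Subgroup G) :=
      (Subgroup.mem_normalizer_iff.mp hg (f rW)).mp (hfmem rW)
    obtain ⟨w, hw⟩ := hfsurj _ h1
    have h2 : g * f zW * g⁻¹ = f (w ^ 2) := by
      rw [map_pow, hw, ← hrz, map_pow, pow_two, pow_two]
      group
    rcases W_sq w with h | h
    · exfalso
      rw [h, map_one] at h2
      have : f zW = 1 := by
        have h3 : f zW = g⁻¹ * (g * f zW * g⁻¹) * g := by group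
        rw [h3, h2]; group
      exact hz1 (hfinj (by rw [this, map_one]))
    · rw [h2, h]
  have hN : ∀ g ∈ Subgroup.normalizer ((S : Subgroup G) : Set G), g * f cW * g⁻¹ = f cW := by
    intro g hg
    have h1 : g * f cW * g⁻¹ ∈ (S : Subgroup G) :=
      (Subgroup.mem_normalizer_iff.mp hg (f cW)).mp (hfmem cW)
    obtain ⟨w, hw⟩ := hfsurj _ h1
    have hwc : ∀ v : W, v * w = w * v := by
      intro v
      apply hfinj
      rw [map_mul, map_mul, hw]
      have h2 : g⁻¹ * f v * g ∈ (S : Subgroup G) := by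
        have := (Subgroup.mem_normalizer_iff.mp (Subgroup.inv_mem _ hg) (f v)).mp (hfmem v)
        simpa using this
      obtain ⟨v', hv'⟩ := hfsurj _ h2
      have h3 : f v = g * f v' * g⁻¹ := by rw [hv']; group
      have h4 : f v' * f cW = f cW * f v' := by
        rw [← map_mul, ← map_mul, cW_central]
      rw [h3]
      calc g * f v' * g⁻¹ * (g * f cW * g⁻¹) = g * (f v' * f cW) * g⁻¹ := by group
        _ = g * (f cW * f v') * g⁻¹ := by rw [h4]
        _ = _ := by group
    rcases W_central w hwc with h | h | h | h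
    · exfalso
      rw [h, map_one] at hw
      have : f cW = 1 := by
        have h3 : f cW = g⁻¹ * (g * f cW * g⁻¹) * g := by group
        rw [h3, ← hw]; group
      exact hc1 (hfinj (by rw [this, map_one]))
    · rw [← hw, h]
    · exfalso
      rw [h, ← hNz g hg] at hw
      have : f zW = f cW := by
        have h3 : f zW = g⁻¹ * (g * f zW * g⁻¹) * g := by group
        rw [h3, hw]; group
      exact hcz (hfinj this).symm
    · -- the swapping case
      have hg2 : g ^ 2 * f cW = f cW * g ^ 2 := by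
        have h5 : g * (g * f cW * g⁻¹) * g⁻¹ = f cW := by
          rw [← hw, h, map_mul]
          calc g * (f cW * f zW) * g⁻¹ = (g * f cW * g⁻¹) * (g * f zW * g⁻¹) := by group
            _ = f (cW * zW) * f zW := by rw [← hw, h, hNz g hg]
            _ = f cW := by
              rw [map_mul, mul_assoc, ← map_mul, ← pow_two, hz2, map_one, mul_one]
        calc g ^ 2 * f cW = (g * (g * f cW * g⁻¹) * g⁻¹) * g ^ 2 := by rw [pow_two]; group
          _ = _ := by rw [h5]
      obtain ⟨k, m, hm, hkm⟩ := Nat.exists_eq_two_pow_mul_odd (orderOf_pos g).ne'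
      have hgm : g ^ m ∈ (S : Subgroup G) := by
        apply mem_sylow_of_pow 2 S _ (Subgroup.pow_mem _ hg m) k
        rw [← pow_mul, mul_comm, ← hkm, pow_orderOf_eq_one]
      have hgmc : g ^ m * f cW = f cW * g ^ m := by
        obtain ⟨v, hv⟩ := hfsurj _ hgm
        rw [← hv, ← map_mul, ← map_mul, cW_central]
      obtain ⟨j, rfl⟩ := hm
      have hgc : g * f cW = f cW * g := by
        have c1 : Commute (g ^ 2) (f cW) := hg2
        have c2 : Commute (g ^ (2 * j + 1)) (f cW) := hgmc
        have c3 : Commute ((g ^ 2) ^ j)⁻¹ (f cW) := (c1.pow_left j).inv_left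
        have c4 := c3.mul_left c2
        have h6 : ((g ^ 2) ^ j)⁻¹ * g ^ (2 * j + 1) = g := by
          rw [← pow_mul, pow_succ, inv_mul_cancel_left]
        rw [h6] at c4
        exact c4
      rw [hgc]; group
  obtain ⟨φ, hφ⟩ := Cfsg.Agent.S2872.exists_hom_neg_one S (K.map f)
    (by rw [← hrange]; exact Subgroup.map_mono le_top)
    (by rw [← hrange, Subgroup.relIndex_map_map_of_injective _ _ hfinj, Subgroup.relIndex_top_right, hKidx])
    (f cW) (by rw [← map_pow, hc2, map_one])
    (by
      intro s hs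
      obtain ⟨v, rfl⟩ := hfsurj s hs
      rw [← map_mul, ← map_mul, cW_central])
    (by
      rintro ⟨w, hw, hwc⟩
      have := hfinj hwc
      rw [this] at hw
      exact hcK hw)
    hN
  rcases (MonoidHom.normal_ker φ).eq_bot_or_eq_top with h | h
  · apply hG
    have hinj : Function.Injective φ := (MonoidHom.ker_eq_bot_iff φ).mp h
    exact ⟨⟨fun a b => hinj (by rw [map_mul, map_mul, mul_comm])⟩⟩
  · have : f cW ∈ φ.ker := by rw [h]; trivial
    rw [MonoidHom.mem_ker, hφ] at this
    exact absurd this (by decide)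

end Cfsg.Agent.S3309
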