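import Cfsg.Statements.S3361
import Cfsg.Agent.Lib.Helper61.SemiA
import Cfsg.Agent.Lib.Helper61.SemiB
import Cfsg.Agent.Lib.Helper61.SemiC
import Cfsg.Agent.Lib.Helper1.Frobenius
import Cfsg.Agent.Lib.Helper24.Q8Cases
import Cfsg.Agent.S0688

set_option autoImplicit false
open Cfsg

namespace Cfsg.Agent.S3361

/-- Let q be a prime and V a non-trivial finite vector space over the field with q elements, and let G be a finite solvable group acting faithfully and linearly on V and regularly on the non-zero vectors (transitively, with only the identity fixing a non-zero vector). Then either V can be identified with the additive group of a finite field F so that every element of G acts as x ↦ a·σ(x) (a ∈ F, σ a field automorphism), or V has 5^2, 7^2, 11^2 or 23^2 elements. Moreover, if q ≠ 2 then G has a normal subgroup of index 2, except that when V has 25 elements G may be isomorphic to SL(2,3) and when V has 121 elements G may be isomorphic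 to SL(2,3) × C₅. -/
theorem result
    (q : ℕ) [Fact q.Prime] {V : Type*} [AddCommGroup V] [Module (ZMod q) V] [Finite V] [Nontrivial V]
    {G : Type*} [Group G] [Finite G] (hsol : Group.IsSolvable G)
    (ρ : G →* (V ≃ₗ[ZMod q] V)) (hρ : Function.Injective ρ)
    (htrans : ∀ v w : V, v ≠ 0 → w ≠ 0 → ∃ g : G, ρ g v = w)
    (hreg : ∀ v : V, v ≠ 0 → ∀ g : G, ρ g v = v → g = 1) :
    ((∃ (F : Type) (_ : Field F) (_ : Fintype F) (e : V ≃+ F),
        ∀ g : G, ∃ (a : F) (σ : F ≃+* F), ∀ v : V, e (ρ g v) = a * σ (e v)) ∨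
      Nat.card V ∈ ({25, 49, 121, 529} : Set ℕ)) ∧
    (q ≠ 2 → (∃ N : Subgroup G, N.Normal ∧ N.index = 2) ∨
      (Nat.card V = 25 ∧ Nonempty (G ≃* Matrix.SpecialLinearGroup (Fin 2) (ZMod 3))) ∨
      (Nat.card V = 121 ∧ Nonempty (G ≃* Matrix.SpecialLinearGroup (Fin 2) (ZMod 3) × Multiplicative (ZMod 5)))) := by
  classical
  obtain ⟨H, hH⟩ : ∃ H : Subgroup (V ≃ₗ[ZMod q] V), H = ρ.range := ⟨_, rfl⟩
  have hmemH : ∀ g : G, ρ g ∈ H := fun g => hH ▸ ⟨g, rfl⟩
  obtain ⟨ι⟩ : Nonempty (G ≃* H) := by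
    rw [hH]; exact ⟨MonoidHom.ofInjective hρ⟩
  have huniq : ∀ (v : V), v ≠ 0 → ∀ g g' : G, ρ g v = ρ g' v → g = g' := by
    intro v hv g g' h
    have h1 : ρ (g'⁻¹ * g) v = v := by
      rw [map_mul, LinearEquiv.mul_apply, h, ← LinearEquiv.mul_apply, ← map_mul, inv_mul_cancel,
        map_one]
      rfl
    have := hreg v hv _ h1
    exact (inv_mul_eq_one.1 this).symm
  have hregH : ∀ v w : V, v ≠ 0 → w ≠ 0 → ∃! h : H, (h : V ≃ₗ[ZMod q] V) v = w := by
    intro v w hv hw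
    obtain ⟨g, hg⟩ := htrans v w hv hw
    refine ⟨⟨ρ g, hmemH g⟩, hg, ?_⟩
    rintro ⟨h, hh⟩ hhw
    rw [hH] at hh
    obtain ⟨g', rfl⟩ := hh
    have : g' = g := huniq v hv g' g (by rw [hg]; exact hhw)
    subst this
    rfl
  by_cases hI : ∀ A : Subgroup H, A.Normal → IsCyclic A → ∃ W : Submodule (ZMod q) V,
      W ≠ ⊥ ∧ W ≠ ⊤ ∧ ∀ a ∈ A, ∀ v ∈ W, ((a : H) : V ≃ₗ[ZMod q] V) v ∈ W
  · have hsolH : Group.IsSolvable H := Group.isSolvable_of_surjective (f := ι.toMonoidHom) ι.surjective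
    have hfinH : Finite H := Finite.of_equiv G ι.toEquiv
    have hcardV := Cfsg.Agent.S0688.result H hregH hI hsolH
    obtain ⟨N, hN, hQ⟩ := Cfsg.Agent.Lib.Helper61.Semi.exists_normal_q8 H hregH hI hsolH
    obtain ⟨v0, hv0⟩ := exists_ne (0 : V)
    have hcardH : Nat.card H + 1 = Nat.card V := by
      rw [← Cfsg.Agent.Lib.Helper1.card_subtype_ne_add_one (0 : V)]
      congr 1
      apply Nat.card_congr
      refine Equiv.ofBijective (fun h : H => ⟨(h : V ≃ₗ[ZMod q] V) v0, fun h0 => hv0 (by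
        have := (h : V ≃ₗ[ZMod q] V).injective (h0.trans (map_zero _).symm)
        exact this)⟩) ⟨?_, ?_⟩
      · intro h h' hh
        have h1 : (h : V ≃ₗ[ZMod q] V) v0 = (h' : V ≃ₗ[ZMod q] V) v0 := congrArg Subtype.val hh
        have hne : (h' : V ≃ₗ[ZMod q] V) v0 ≠ 0 := fun h0 => hv0 (by
          have := (h' : V ≃ₗ[ZMod q] V).injective (h0.trans (map_zero _).symm)
          exact this)
        exact (hregH v0 _ hv0 hne).unique h1 rfl
      · rintro ⟨w, hw⟩
        obtain ⟨h, hh, -⟩ := hregH v0 w hv0 hw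
        exact ⟨h, Subtype.ext hh⟩
    refine ⟨Or.inr ?_, fun _ => ?_⟩
    · simp only [Set.mem_insert_iff, Set.mem_singleton_iff]
      exact hcardV
    · rcases Cfsg.Agent.Lib.Helper24.Q8Cases.q8_normal_cases N hN hQ (by omega) with ⟨M, hM, hMi⟩ | ⟨h24, ⟨e⟩⟩ | ⟨h120, ⟨e⟩⟩
      · left
        refine ⟨M.comap ι.toMonoidHom, inferInstance, ?_⟩
        rw [Subgroup.index_comap_of_surjective M ι.surjective, hMi]
      · right; left
        exact ⟨by omega, ⟨ι.trans e⟩⟩
      · right; right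
        exact ⟨by omega, ⟨ι.trans e⟩⟩
  · push Not at hI
    obtain ⟨A, hAn, hAc, hA⟩ := hI
    have hirr : ∀ W : Submodule (ZMod q) V,
        (∀ a ∈ A, ∀ v ∈ W, ((a : H) : V ≃ₗ[ZMod q] V) v ∈ W) → W = ⊥ ∨ W = ⊤ := by
      intro W hW
      by_contra hcon
      push Not at hcon
      obtain ⟨a, ha, v, hv, hnot⟩ := hA W hcon.1 hcon.2
      exact hnot (hW a ha v hv)
    obtain ⟨F, iF, iFF, e, he⟩ :=
      Cfsg.Agent.Lib.Helper61.Semi.semilinear_of_irreducible_cyclic q H A hAn hAc hirr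
    have hsl : ∀ g : G, ∃ (a : F) (σ : F ≃+* F), ∀ v : V, e (ρ g v) = a * σ (e v) :=
      fun g => he ⟨ρ g, hmemH g⟩
    exact ⟨Or.inl ⟨F, iF, iFF, e, hsl⟩, fun hq =>
      Or.inl (Cfsg.Agent.Lib.Helper61.Semi.index_two_of_semilinear q hq ρ htrans e hsl)⟩

end Cfsg.Agent.S3361
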