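import Cfsg.Statements.S3421
import Cfsg.Agent.Lib.Helper73.SPO.Main
import Cfsg.Agent.Lib.Helper73.SPO.EVQ
import Cfsg.Agent.S2475
import Cfsg.Agent.Lib.Helper7.SL2Center
import Cfsg.Agent.Lib.Helper6.SLEquiv

set_option autoImplicit false
open Cfsg

namespace Cfsg.Agent.S3421

open Cfsg.Agent.Lib.Helper73.SPO

theorem sq_sub_one_aux (q : ℕ) (hq : 1 ≤ q) : q ^ 2 - 1 = (q - 1) * (q + 1) := by
  obtain ⟨k, rfl⟩ : ∃ k, q = k + 1 := ⟨q - 1, by omega⟩
  have : (k + 1) ^ 2 = (k + 1 - 1) * (k + 1 + 1) + 1 := by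
    simp only [Nat.add_sub_cancel]
    ring
  omega

theorem card_psl2_char_two {F : Type*} [Field F] [Fintype F] [CharP F 2] :
    Nat.card (Matrix.ProjectiveSpecialLinearGroup (Fin 2) F) =
      Fintype.card F * (Fintype.card F ^ 2 - 1) := by
  have hcen : Nat.card (Subgroup.center (Matrix.SpecialLinearGroup (Fin 2) F)) = 1 := by
    rw [Subgroup.card_eq_one, Subgroup.eq_bot_iff_forall]
    intro g hg
    rcases Cfsg.Agent.Lib.Helper7.eq_one_or_negOne_of_mem_center hg with h | h
    · exact h
    · rw [h]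
      ext i j
      fin_cases i <;> fin_cases j <;>
        simp [Cfsg.Agent.Lib.Helper7.negOneSL_val, CharTwo.neg_eq]
  have h := Subgroup.card_eq_card_quotient_mul_card_subgroup
    (Subgroup.center (Matrix.SpecialLinearGroup (Fin 2) F))
  rw [hcen, Cfsg.Agent.Lib.Helper7.card_SL2, mul_one] at h
  exact h.symm

theorem key {G : Type*} [Group G] [Finite G] {F : Type*} [Field F] [Fintype F]
    (hF : 3 < Fintype.card F)
    (hspec : Set.range (orderOf : G → ℕ) =
      Set.range (orderOf : Matrix.ProjectiveSpecialLinearGroup (Fin 2) F → ℕ))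
    (hcard : Nat.card G = Nat.card (Matrix.ProjectiveSpecialLinearGroup (Fin 2) F)) :
    ∃ (K : Type) (_ : Field K) (_ : Fintype K), Fintype.card K = Fintype.card F ∧
      Nonempty (G ≃* Matrix.ProjectiveSpecialLinearGroup (Fin 2) K) := by
  classical
  obtain ⟨p, hchar⟩ := CharP.exists F
  have hpp : p.Prime := by
    rcases CharP.char_is_prime_or_zero F p with h | h
    · exact h
    · subst h
      haveI : CharZero F := CharP.charP_to_charZero F
      exact absurd (inferInstance : Finite F) (not_finite_iff_infinite.mpr inferInstance)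
  haveI : Fact p.Prime := ⟨hpp⟩
  obtain ⟨n, -, hq⟩ := FiniteField.card F p
  have hS := Cfsg.Agent.S2475.result (F := F) p (by omega)
  rw [hS] at hspec
  have hmem : ∀ x : G, orderOf x ∣ p ∨
      orderOf x ∣ (Fintype.card F - 1) / Nat.gcd 2 (Fintype.card F - 1) ∨
      orderOf x ∣ (Fintype.card F + 1) / Nat.gcd 2 (Fintype.card F - 1) := by
    intro x
    have : orderOf x ∈ Set.range (orderOf : G → ℕ) := ⟨x, rfl⟩
    rw [hspec] at this
    exact this
  by_cases hp2 : p = 2
  · subst hp2
    have hn2 : 2 ≤ (n : ℕ) := by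
      by_contra hcon
      have h1 : (n : ℕ) = 1 := by have := n.pos; omega
      rw [h1] at hq
      omega
    have heven : Even (Fintype.card F) := by
      rw [hq]; exact (Nat.even_pow.mpr ⟨even_two, n.ne_zero⟩)
    have hg : Nat.gcd 2 (Fintype.card F - 1) = 1 := by
      obtain ⟨k, hk⟩ := heven
      have h1 : Fintype.card F - 1 = 2 * (k - 1) + 1 := by omega
      rw [h1]
      simp
    rw [hg, Nat.div_one, Nat.div_one] at hmem
    have hc : Nat.card G = 2 ^ (n : ℕ) * (2 ^ (n : ℕ) - 1) * (2 ^ (n : ℕ) + 1) := by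
      rw [hcard, card_psl2_char_two, sq_sub_one_aux _ (by omega), hq, mul_assoc]
    have hord : ∀ x : G, Even (orderOf x) → orderOf x = 2 := by
      intro x hx
      obtain ⟨k, hk⟩ := heven
      rcases hmem x with h | h | h
      · rcases (Nat.dvd_prime Nat.prime_two).mp h with h1 | h1
        · rw [h1] at hx; exact absurd hx (by decide)
        · exact h1
      · exfalso
        have h2 : 2 ∣ Fintype.card F - 1 := (even_iff_two_dvd.mp hx).trans h
        omega
      · exfalso
        have h2 : 2 ∣ Fintype.card F + 1 := (even_iff_two_dvd.mp hx).trans h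
        omega
    obtain ⟨K, iK, iF, hK, hiso⟩ := even_main (n : ℕ) hn2 hc hord
    exact ⟨K, iK, iF, by rw [hK, hq], hiso⟩
  · have hoddp : Odd p := hpp.odd_of_ne_two hp2
    have hodd : Odd (Fintype.card F) := by rw [hq]; exact hoddp.pow
    have hg : Nat.gcd 2 (Fintype.card F - 1) = 2 := by
      obtain ⟨k, hk⟩ := hodd
      have h1 : Fintype.card F - 1 = 2 * k := by omega
      rw [h1]
      simp
    rw [hg] at hmem hspec
    have h2F : (2 : F) ≠ 0 := by
      intro h
      have h1 : ((2 : ℕ) : F) = 0 := by exact_mod_cast h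
      rw [CharP.cast_eq_zero_iff F p 2] at h1
      exact hp2 ((Nat.prime_dvd_prime_iff_eq hpp Nat.prime_two).mp h1)
    have H : Hyp G p (Fintype.card F) :=
      { hp := hpp
        hp2 := hp2
        hq := ⟨n, n.ne_zero, hq⟩
        hq5 := by obtain ⟨k, hk⟩ := hodd; omega
        card := by
          have h1 := Cfsg.Agent.Lib.Helper7.card_PSL2 h2F
          rw [hcard, mul_comm, h1, sq_sub_one_aux _ (by omega), mul_assoc]
        ord := hmem
        ex1 := by
          have : (Fintype.card F - 1) / 2 ∈ Set.range (orderOf : G → ℕ) := by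
            rw [hspec]; exact Or.inr (Or.inl dvd_rfl)
          exact this
        ex2 := by
          have : (Fintype.card F + 1) / 2 ∈ Set.range (orderOf : G → ℕ) := by
            rw [hspec]; exact Or.inr (Or.inr dvd_rfl)
          exact this }
    obtain ⟨K, iK, iF, hK, -, hiso⟩ := odd_main H
    exact ⟨K, iK, iF, hK, hiso⟩

/-- Let F be a finite field with more than 3 elements. A finite group G is isomorphic to PSL(2, F) if and only if G has the same set of element orders and the same order as PSL(2, F). -/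
theorem result {G : Type*} [Group G] [Finite G] {F : Type*} [Field F] [Fintype F] (hF : 3 < Fintype.card F) :
    Nonempty (G ≃* Matrix.ProjectiveSpecialLinearGroup (Fin 2) F) ↔
      (Set.range (orderOf : G → ℕ) = Set.range (orderOf : Matrix.ProjectiveSpecialLinearGroup (Fin 2) F → ℕ) ∧
        Nat.card G = Nat.card (Matrix.ProjectiveSpecialLinearGroup (Fin 2) F)) := by
  constructor
  · rintro ⟨e⟩
    refine ⟨?_, Nat.card_congr e.toEquiv⟩
    ext n
    constructor
    · rintro ⟨g, rfl⟩
      exact ⟨e g, e.orderOf_eq g⟩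
    · rintro ⟨g, rfl⟩
      exact ⟨e.symm g, e.symm.orderOf_eq g⟩
  · rintro ⟨hspec, hcard⟩
    obtain ⟨K, iK, iF, hK, ⟨e⟩⟩ := key hF hspec hcard
    exact ⟨e.trans (Cfsg.Agent.Lib.Helper6.pslEquiv (FiniteField.ringEquivOfCardEq hK))⟩

end Cfsg.Agent.S3421
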