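import Cfsg.Statements.S3493
import Cfsg.Agent.Lib.Helper62.EPSocle

set_option autoImplicit false
open Cfsg

namespace Cfsg.Agent.S3493

open MulAction Subgroup Cfsg.Agent.Lib.Helper62 Cfsg.Agent.Lib.Helper40

/-- An extremely primitive permutation group is of affine type or almost simple. Let a finite group G act faithfully and primitively on a finite set Ω with at least two points, in such a way that every point stabilizer acts primitively on each of its own orbits in Ω (an orbit of size one counts as primitive). Then either G has a non-trivial abelian normal subgroup whose elements other than the identity fix no point (affine type), or G has a non-abelian simple normal subgroup with trivial centralizer (almost simple). -/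
theorem result {G : Type*} [Group G] [Finite G] {Ω : Type*} [Fintype Ω] [MulAction G Ω] [FaithfulSMul G Ω] (hΩ : 2 ≤ Fintype.card Ω) (hprim : MulAction.IsPreprimitive G Ω) (hep : ∀ (α : Ω) (ω : Ω), MulAction.IsPreprimitive (MulAction.stabilizer G α) (MulAction.orbit (MulAction.stabilizer G α) ω)) :
    (∃ N : Subgroup G, N.Normal ∧ N ≠ ⊥ ∧ IsMulCommutative N ∧ ∀ ω : Ω, MulAction.stabilizer N ω = ⊥) ∨ (∃ T : Subgroup G, T.Normal ∧ IsSimpleGroup T ∧ ¬ IsMulCommutative T ∧ Subgroup.centralizer (T : Set G) = ⊥) := by
  have hnt : Nontrivial Ω := Fintype.one_lt_card_iff_nontrivial.1 (by omega)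
  obtain ⟨α⟩ : Nonempty Ω := inferInstance
  have hG : ∃ g : G, g ≠ 1 := by
    obtain ⟨x, y, hxy⟩ := hnt
    obtain ⟨g, hg⟩ := exists_smul_eq G x y
    refine ⟨g, ?_⟩
    rintro rfl
    rw [one_smul] at hg
    exact hxy hg
  obtain ⟨N, hN⟩ := Cfsg.Agent.S3680.exists_MN hG
  have htrN := Cfsg.Agent.S3680.trans_of_normal hprim N hN.1 hN.2.1
  by_cases hc : ∀ a ∈ N, ∀ b ∈ N, a * b = b * a
  · left
    refine ⟨N, hN.1, hN.2.1, ⟨⟨fun a b => Subtype.ext (hc a a.2 b b.2)⟩⟩, fun ω => ?_⟩
    rw [eq_bot_iff_forall]
    intro n hn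
    apply Subtype.ext
    exact Cfsg.Agent.S3680.eq_one_of_commute N htrN n (fun v hv => hc v hv n n.2) ω hn
  · by_cases hH : ∀ α : Ω, stabilizer G α ≠ ⊥
    · right
      obtain ⟨T, hT⟩ := exists_MNin hN.2.1
      by_cases hnorm : ∀ g, cj g T = T
      · have hTn : T.Normal := by
          rw [← normalizer_eq_top_iff, eq_top_iff]
          intro g _
          exact mem_normalizer_of_cj_eq (hnorm g)
        obtain ⟨a, ha, b, hb, hab⟩ := hT.noncomm hN hc
        by_cases hC : centralizer (T : Set G) = ⊥
        · refine ⟨T, hTn, hT.simple hN, ?_, hC⟩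
          intro hcomm
          apply hab
          exact congrArg Subtype.val (hcomm.is_comm.comm ⟨a, ha⟩ ⟨b, hb⟩)
        · exfalso
          have hCn : (centralizer (T : Set G)).Normal := inferInstance
          apply no_two_regular hprim hH hep α T (centralizer (T : Set G))
            (fun x hx y hy => mem_centralizer_iff.1 hy x hx)
            (Cfsg.Agent.S3680.trans_of_normal hprim T hTn hT.2.1)
            (Cfsg.Agent.S3680.trans_of_normal hprim _ hCn hC) (hT.simple hN) ⟨a, ha, b, hb, hab⟩
          intro h _
          exact Or.inl ⟨fun t ht => hTn.conj_mem t ht h, fun t ht => hCn.conj_mem t ht h⟩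
      · exfalso
        push Not at hnorm
        by_cases hK : N ⊓ stabilizer G α = ⊥
        · exact caseB2 hprim hH hep α hN hT hc hK hnorm
        · exact caseB1 hprim hH hep α hN hT hc hK hnorm
    · exfalso
      push Not at hH
      obtain ⟨α₀, hα₀⟩ := hH
      have hco : IsCoatom (stabilizer G α₀) := IsPreprimitive.isCoatom_stabilizer_of_isPreprimitive G α₀
      rw [hα₀] at hco
      obtain ⟨g, hg⟩ := hG
      have hz : zpowers g = ⊤ := hco.2 _ (bot_lt_iff_ne_bot.2 (by rwa [Ne, zpowers_eq_bot]))
      apply hc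
      intro a _ b _
      have ha : a ∈ zpowers g := hz ▸ mem_top a
      have hb : b ∈ zpowers g := hz ▸ mem_top b
      obtain ⟨i, rfl⟩ := mem_zpowers_iff.1 ha
      obtain ⟨j, rfl⟩ := mem_zpowers_iff.1 hb
      rw [← zpow_add, ← zpow_add, add_comm]

end Cfsg.Agent.S3493
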