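import Cfsg.Statements.S3495
import Cfsg.Agent.S3494
import Mathlib

set_option autoImplicit false
open Cfsg

namespace Cfsg.Agent.S3495

open MulAction Subgroup

/-- Let a finite group G act faithfully and primitively on a finite set Ω with non-trivial point stabilizers, each acting primitively on every one of its orbits (an extremely primitive group), and suppose G has an elementary abelian normal p-subgroup N acting regularly on Ω (affine type). Then every non-trivial subgroup M of a point stabilizer G_α that is normal in G_α has the same orbits on Ω as G_α, and normalizes no subgroup of N other than 1 and N. -/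
theorem result {G : Type*} [Group G] [Finite G] {Ω : Type*} [Fintype Ω] [MulAction G Ω] [FaithfulSMul G Ω] (hprim : MulAction.IsPreprimitive G Ω) (hH : ∀ α : Ω, MulAction.stabilizer G α ≠ ⊥) (hep : ∀ (α : Ω) (ω : Ω), MulAction.IsPreprimitive (MulAction.stabilizer G α) (MulAction.orbit (MulAction.stabilizer G α) ω))
    (N : Subgroup G) [N.Normal] (hNc : IsMulCommutative N) (p : ℕ) (hp : p.Prime) (hNp : ∀ n ∈ N, n ^ p = 1)
    (hNtr : MulAction.IsPretransitive N Ω) (hNreg : ∀ ω : Ω, MulAction.stabilizer N ω = ⊥) (α : Ω) (M : Subgroup G) (hM : M ≠ ⊥) (hMle : M ≤ MulAction.stabilizer G α)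
    (hMn : MulAction.stabilizer G α ≤ Subgroup.normalizer (M : Set G)) :
    (∀ ω : Ω, MulAction.orbit M ω = MulAction.orbit (MulAction.stabilizer G α) ω) ∧
    (∀ L : Subgroup G, L ≤ N → M ≤ Subgroup.normalizer (L : Set G) → L = ⊥ ∨ L = N) := by
  have htrans : IsPretransitive G Ω := hprim.toIsPretransitive
  have part1 : ∀ ω : Ω, ∀ s ∈ stabilizer G α, ∃ m ∈ M, m • ω = s • ω := by
    intro ω s hs
    by_cases hω : α = ω
    · subst hω
      exact ⟨1, one_mem _, by rw [one_smul, mem_stabilizer_iff.mp hs]⟩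
    · rcases S3494.dichotomy hep α ω M hMle hMn with h | h
      · exfalso
        apply hM
        have := S3494.le_pker hMle hMn h
        rwa [S3494.pker_eq_bot hprim hH hep hω, le_bot_iff] at this
      · exact h s hs
  have hreg : ∀ n₁ ∈ N, ∀ n₂ ∈ N, ∀ ω : Ω, n₁ • ω = n₂ • ω → n₁ = n₂ := by
    intro n₁ h₁ n₂ h₂ ω h
    have h3 : (⟨n₂⁻¹ * n₁, N.mul_mem (N.inv_mem h₂) h₁⟩ : N) ∈ stabilizer N ω := by
      rw [mem_stabilizer_iff]
      show (n₂⁻¹ * n₁) • ω = ω
      rw [mul_smul, h, inv_smul_smul]
    rw [hNreg ω, mem_bot] at h3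
    have h4 : n₂⁻¹ * n₁ = 1 := congrArg Subtype.val h3
    exact (inv_mul_eq_one.mp h4).symm
  refine ⟨fun ω => ?_, fun L hLN hML => ?_⟩
  · ext x
    constructor
    · rintro ⟨m, rfl⟩
      exact ⟨⟨m.1, hMle m.2⟩, rfl⟩
    · rintro ⟨s, rfl⟩
      obtain ⟨m, hm, hms⟩ := part1 ω s.1 s.2
      exact ⟨⟨m, hm⟩, hms⟩
  · have hS : stabilizer G α ≤ normalizer (L : Set G) := by
      apply S3494.normalizer_of_conj
      intro s hs l hl
      obtain ⟨m, hm, hms⟩ := part1 (l • α) s hs
      have hmα : m⁻¹ • α = α := by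
        rw [inv_smul_eq_iff]; exact (hMle hm).symm
      have hsα : s⁻¹ • α = α := by
        rw [inv_smul_eq_iff]; exact (mem_stabilizer_iff.mp hs).symm
      have h1 : (s * l * s⁻¹) • α = (m * l * m⁻¹) • α := by
        rw [mul_smul, mul_smul, mul_smul, mul_smul, hmα, hsα, hms]
      have hN1 : s * l * s⁻¹ ∈ N := ‹N.Normal›.conj_mem l (hLN hl) s
      have hN2 : m * l * m⁻¹ ∈ N := ‹N.Normal›.conj_mem l (hLN hl) m
      rw [hreg _ hN1 _ hN2 α h1]
      exact (mem_normalizer_iff.mp (hML hm) l).mp hl
    have hNn : N ≤ normalizer (L : Set G) := by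
      apply S3494.normalizer_of_conj
      intro n hn l hl
      have := hNc.is_comm.comm (⟨n, hn⟩ : N) ⟨l, hLN hl⟩
      have h2 : n * l = l * n := congrArg Subtype.val this
      rw [h2, mul_inv_cancel_right]
      exact hl
    have hLnormal : L.Normal := by
      rw [← normalizer_eq_top_iff, eq_top_iff]
      intro g _
      obtain ⟨n, hn⟩ := hNtr.exists_smul_eq α (g • α)
      have h1 : (n : G)⁻¹ * g ∈ stabilizer G α := by
        rw [mem_stabilizer_iff, mul_smul, inv_smul_eq_iff]
        exact hn.symm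
      have := mul_mem (hNn n.2) (hS h1)
      simpa using this
    by_cases hfix : fixedPoints L Ω = Set.univ
    · left
      rw [eq_bot_iff_forall]
      intro l hl
      apply FaithfulSMul.eq_of_smul_eq_smul (α := Ω)
      intro x
      have : x ∈ fixedPoints L Ω := hfix ▸ Set.mem_univ x
      rw [one_smul]
      exact this ⟨l, hl⟩
    · right
      have htr := IsQuasiPreprimitive.isPretransitive_of_normal (G := G) (X := Ω) hfix
      apply le_antisymm hLN
      intro n hn
      obtain ⟨l, hl⟩ := htr.exists_smul_eq α (n • α)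
      have : (l : G) = n := hreg _ (hLN l.2) _ hn α hl
      exact this ▸ l.2

end Cfsg.Agent.S3495
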