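import Cfsg.Statements.S3497
import Cfsg.Agent.S3494
import Cfsg.Agent.Lib.Helper62.PrimFitting
import Cfsg.Agent.Lib.Helper62.GLRep

set_option autoImplicit false
open Cfsg

namespace Cfsg.Agent.S3497

open MulAction Subgroup Cfsg.Agent.Lib.Helper62

/-- Restrictions on the point stabilizer of an extremely primitive group. Let a finite group G act faithfully and primitively on a finite set Ω with point stabilizers H = G_α whose order is neither 1 nor a prime, each acting primitively on every one of its orbits. Then H has trivial center, the Fitting subgroup F(H) is an elementary abelian p-group for some prime p, and if F(H) ≠ 1 has order p ^ e then p ^ e divides the number of points minus one and H / F(H) embeds in GL_e(p) (there is a homomorphism from H to GL_e(p) with kernel exactly F(H)). -/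
theorem result {G : Type*} [Group G] [Finite G] {Ω : Type*} [Fintype Ω] [MulAction G Ω] [FaithfulSMul G Ω] (hprim : MulAction.IsPreprimitive G Ω) (hep : ∀ (α : Ω) (ω : Ω), MulAction.IsPreprimitive (MulAction.stabilizer G α) (MulAction.orbit (MulAction.stabilizer G α) ω)) (α : Ω)
    (hH1 : MulAction.stabilizer G α ≠ ⊥) (hHp : ¬ (Nat.card (MulAction.stabilizer G α)).Prime) :
    Subgroup.center (MulAction.stabilizer G α) = ⊥ ∧
    IsMulCommutative (Cfsg.fittingSubgroup (MulAction.stabilizer G α)) ∧
    ∃ p e : ℕ, p.Prime ∧ Nat.card (Cfsg.fittingSubgroup (MulAction.stabilizer G α)) = p ^ e ∧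
      (∀ x ∈ Cfsg.fittingSubgroup (MulAction.stabilizer G α), x ^ p = 1) ∧
      (Cfsg.fittingSubgroup (MulAction.stabilizer G α) ≠ ⊥ →
        p ^ e ∣ Fintype.card Ω - 1 ∧
        ∃ φ : MulAction.stabilizer G α →* GL (Fin e) (ZMod p), φ.ker = Cfsg.fittingSubgroup (MulAction.stabilizer G α)) := by
  have htr : IsPretransitive G Ω := hprim.toIsPretransitive
  have hH : ∀ β : Ω, stabilizer G β ≠ ⊥ := by
    intro β hβ
    obtain ⟨g, rfl⟩ := exists_smul_eq G α β
    rw [stabilizer_smul_eq_stabilizer_map_conj,
      map_eq_bot_iff_of_injective _ (MulAut.conj g).injective] at hβ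
    exact hH1 hβ
  have hαfix : α ∈ fixedPoints (stabilizer G α) Ω := fun h => h.2
  have hE : EP (stabilizer G α) Ω :=
    { prim := hep α
      faith := by
        intro x hx h hh
        have hxα : x ≠ α := fun e => hx (e ▸ hαfix)
        apply S3494.result hprim hH hep α x hxα h
        rintro _ ⟨g, rfl⟩
        exact hh g }
  have hnf : ∀ x : Ω, x ≠ α → x ∉ fixedPoints (stabilizer G α) Ω := by
    intro x hx hfx
    have h1 : stabilizer G α ≤ stabilizer G x := fun h hh => hfx ⟨h, hh⟩
    have h2 := S3494.sup_stabilizer_eq_top hprim hH hx.symm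
    rw [sup_eq_right.mpr h1] at h2
    obtain ⟨g, hg⟩ := exists_smul_eq G x α
    have h3 : g ∈ stabilizer G x := h2 ▸ mem_top g
    exact hx (h3.symm.trans hg)
  obtain ⟨x, hxα⟩ : ∃ x : Ω, x ≠ α := by
    by_contra hcon
    push Not at hcon
    apply hH1
    rw [eq_bot_iff_forall]
    intro g _
    apply FaithfulSMul.eq_of_smul_eq_smul (α := Ω)
    intro y
    rw [hcon y, hcon (g • α), one_smul]
  have hx := hnf x hxα
  obtain ⟨hFc, hFn, p, e, hp, hcard, hexp⟩ := hE.fitting hx
  refine ⟨hE.center_eq_bot hx hHp, ⟨⟨fun a b => Subtype.ext (hFc a.1 a.2 b.1 b.2)⟩⟩, p, e, hp, hcard,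
    hexp, fun hne => ⟨?_, ?_⟩⟩
  · rw [← hcard]
    apply card_dvd_card_sub_one α
    · intro f
      exact f.1.2
    · intro f y hy hfy
      exact Subtype.ext (hE.semireg _ hne hFc (hnf y hy) f.2 hfy)
  · obtain ⟨φ, hφ⟩ := exists_GL_rep (fittingSubgroup (stabilizer G α)) hFc hp hcard hexp
    refine ⟨φ, ?_⟩
    rw [hφ]
    apply le_antisymm (hE.selfcent _ hne hFc hx)
    intro a ha
    rw [mem_centralizer_iff]
    intro b hb
    exact hFc b hb a ha

end Cfsg.Agent.S3497
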