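import Cfsg.Statements.S3501
import Cfsg.Agent.Lib.Helper65.DerClass2
import Cfsg.Agent.Lib.Helper15.Sharp2

set_option autoImplicit false
open Cfsg

namespace Cfsg.Agent.S3501

open Cfsg.Agent.Lib.Helper65 Cfsg.Agent.Lib.Helper15

/-- Let a finite group G act faithfully and primitively on a finite set Ω with at least two points, and suppose G is not almost simple (it has no non-abelian simple normal subgroup with trivial centralizer). Then the derangements of G form a single conjugacy class if and only if G is sharply 2-transitive (2-transitive, and no non-identity element fixes two points). -/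
theorem result {G : Type*} [Group G] [Finite G] {Ω : Type*} [Fintype Ω] [MulAction G Ω] [FaithfulSMul G Ω] (hΩ : 2 ≤ Fintype.card Ω) (hprim : MulAction.IsPreprimitive G Ω) (hnas : ¬ ∃ T : Subgroup G, T.Normal ∧ IsSimpleGroup T ∧ ¬ IsMulCommutative T ∧ Subgroup.centralizer (T : Set G) = ⊥) :
    Nat.card {c : ConjClasses G // ∃ g : G, ConjClasses.mk g = c ∧ ∀ ω : Ω, g • ω ≠ ω} = 1 ↔ (MulAction.IsMultiplyPretransitive G Ω 2 ∧ ∀ g : G, g ≠ 1 → ∀ a b : Ω, a ≠ b → g • a = a → g • b ≠ b) := by
  constructor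
  · intro h
    rw [Nat.card_eq_one_iff_unique] at h
    obtain ⟨hss, ⟨⟨_, d0, rfl, hd0⟩⟩⟩ := h
    have hU : ∀ g g' : G, (∀ ω : Ω, g • ω ≠ ω) → (∀ ω : Ω, g' • ω ≠ ω) → IsConj g g' := by
      intro g g' hg hg'
      have := hss.elim ⟨ConjClasses.mk g, g, rfl, hg⟩ ⟨ConjClasses.mk g', g', rfl, hg'⟩
      exact ConjClasses.mk_eq_mk_iff_isConj.mp (congrArg Subtype.val this)
    obtain ⟨h1, h2⟩ := DerClass.forward hΩ hprim hnas d0 hd0 hU
    refine ⟨?_, h2⟩
    rw [MulAction.is_two_pretransitive_iff]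
    intro a b c d hab hcd
    exact h1 a b c d hab hcd
  · rintro ⟨h1, h2⟩
    have hS : Sharp2 G Ω :=
      { trans2 := fun hab hcd => (MulAction.is_two_pretransitive_iff.mp h1) hab hcd
        sharp := by
          intro g a b hab ha hb
          by_contra hg
          exact h2 g hg a b hab ha hb }
    have hn : 2 ≤ Nat.card Ω := by rw [Nat.card_eq_fintype_card]; exact hΩ
    have hne : Nonempty Ω := by
      apply Fintype.card_pos_iff.mp
      omega
    rw [Nat.card_eq_one_iff_unique]
    constructor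
    · constructor
      rintro ⟨_, g, rfl, hg⟩ ⟨_, g', rfl, hg'⟩
      apply Subtype.ext
      rw [ConjClasses.mk_eq_mk_iff_isConj, isConj_iff]
      exact hS.kernel_conj hn (Or.inr hg) (Sharp2.fpf_ne_one hg) (Or.inr hg') (Sharp2.fpf_ne_one hg')
    · obtain ⟨g, hg⟩ := hS.exists_fpf hn
      exact ⟨⟨ConjClasses.mk g, g, rfl, hg⟩⟩

end Cfsg.Agent.S3501
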