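import Cfsg.Statements.S3532
-- import your own Cfsg.Agent.* helpers here
import Cfsg.Agent.S2475

set_option autoImplicit false
open Cfsg

namespace Cfsg.Agent.S3532

/-- the group of affine maps `x ↦ u x + v`, `u ∈ U` -/
@[ext] structure Aff (E : Type) [Field E] (U : Subgroup Eˣ) where
  v : E
  u : U

namespace Aff

variable {E : Type} [Field E] {U : Subgroup Eˣ}

instance instMulAff : Mul (Aff E U) := ⟨fun a b => ⟨a.v + ((a.u : Eˣ) : E) * b.v, a.u * b.u⟩⟩
instance instOneAff : One (Aff E U) := ⟨⟨0, 1⟩⟩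
instance instInvAff : Inv (Aff E U) := ⟨fun a => ⟨-(((a.u⁻¹ : U) : Eˣ) : E) * a.v, a.u⁻¹⟩⟩

theorem mul_v (a b : Aff E U) : (a * b).v = a.v + ((a.u : Eˣ) : E) * b.v := rfl
theorem mul_u (a b : Aff E U) : (a * b).u = a.u * b.u := rfl
theorem one_v : (1 : Aff E U).v = 0 := rfl
theorem one_u : (1 : Aff E U).u = 1 := rfl
theorem inv_v (a : Aff E U) : (a⁻¹).v = -(((a.u⁻¹ : U) : Eˣ) : E) * a.v := rfl
theorem inv_u (a : Aff E U) : (a⁻¹).u = a.u⁻¹ := rfl

instance instGroupAff : Group (Aff E U) :=
  Group.ofLeftAxioms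
    (by
      intro a b c
      ext
      · simp only [mul_v, mul_u, Subgroup.coe_mul, Units.val_mul]; ring
      · simp only [mul_u, mul_assoc])
    (by
      intro a
      ext
      · simp [mul_v, one_v, one_u]
      · simp [mul_u, one_u])
    (by
      intro a
      ext
      · simp [mul_v, inv_v, inv_u, one_v]
      · simp [mul_u, inv_u, one_u])

/-- translations -/
def inl : Multiplicative E →* Aff E U where
  toFun x := ⟨Multiplicative.toAdd x, 1⟩
  map_one' := rfl
  map_mul' x y := by
    ext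
    · simp [mul_v]
    · simp [mul_u]

/-- homotheties -/
def inr : U →* Aff E U where
  toFun x := ⟨0, x⟩
  map_one' := rfl
  map_mul' x y := by
    ext
    · simp [mul_v]
    · simp [mul_u]

/-- linear part -/
def right : Aff E U →* U where
  toFun a := a.u
  map_one' := rfl
  map_mul' _ _ := rfl

theorem inr_injective : Function.Injective (inr : U →* Aff E U) := by
  intro x y h
  exact congrArg Aff.u h

theorem inl_injective : Function.Injective (inl : Multiplicative E →* Aff E U) := by
  intro x y h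
  exact congrArg Aff.v h

theorem isSolvable : Group.IsSolvable (Aff E U) := by
  apply Group.isSolvable_of_ker_le_range (inl : Multiplicative E →* Aff E U) right
  intro a ha
  refine ⟨Multiplicative.ofAdd a.v, ?_⟩
  ext
  · rfl
  · have : a.u = 1 := ha
    rw [this]; rfl

theorem finite [Finite E] : Finite (Aff E U) := by
  apply Finite.of_injective (fun a : Aff E U => (a.v, a.u))
  intro a b h
  ext
  · exact congrArg Prod.fst h
  · exact congrArg (fun z : E × U => ((z.2 : Eˣ) : E)) h

/-- an element with nontrivial linear part is conjugate to a homothety -/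
theorem conj_inr (a : Aff E U) (h : a.u ≠ 1) :
    ∃ w : Aff E U, w * inr a.u * w⁻¹ = a := by
  have hne : (1 : E) - ((a.u : Eˣ) : E) ≠ 0 := by
    intro h0
    apply h
    ext
    simp only [Subgroup.coe_one, Units.val_one]
    linear_combination -h0
  refine ⟨⟨a.v / (1 - ((a.u : Eˣ) : E)), 1⟩, ?_⟩
  ext
  · simp only [mul_v, mul_u, inv_v, inr, MonoidHom.coe_mk, OneHom.coe_mk, Subgroup.coe_one,
      Units.val_one, inv_one, one_mul, mul_zero, add_zero]
    field_simp
    ring
  · simp [mul_u, inv_u, inr]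

theorem orderOf_of_ne (a : Aff E U) (h : a.u ≠ 1) : orderOf a = orderOf a.u := by
  obtain ⟨w, hw⟩ := conj_inr a h
  conv_lhs => rw [← hw]
  have := (MulAut.conj w).orderOf_eq (inr a.u)
  rw [MulAut.conj_apply] at this
  rw [this, orderOf_injective _ inr_injective]

theorem orderOf_of_eq (p : ℕ) [Fact p.Prime] [CharP E p] (a : Aff E U) (h : a.u = 1) :
    orderOf a ∣ p := by
  apply orderOf_dvd_of_pow_eq_one
  have : a = inl (Multiplicative.ofAdd a.v) := by
    ext
    · rfl
    · rw [h]; rfl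
  rw [this, ← map_pow, ← ofAdd_nsmul]
  simp

end Aff

/-- a finite solvable group whose element orders are the divisors of `p` and of `n` -/
theorem exists_solvable_spectrum (p n : ℕ) [Fact p.Prime] (hn : p.Coprime n) (hn0 : 0 < n) :
    ∃ (X : Type) (_ : Group X) (_ : Finite X), Group.IsSolvable X ∧
      Set.range (orderOf : X → ℕ) = {m : ℕ | m ∣ p ∨ m ∣ n} := by
  have hp : p.Prime := Fact.out
  have hk : n.totient ≠ 0 := (Nat.totient_pos.mpr hn0).ne'
  let E := GaloisField p n.totient
  have hcard : Nat.card E = p ^ n.totient := GaloisField.card p _ hk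
  have hfin : Finite E := Nat.finite_of_card_ne_zero (by rw [hcard]; exact pow_ne_zero _ hp.ne_zero)
  have hdvd : n ∣ Nat.card Eˣ := by
    rw [Nat.card_units, hcard]
    exact (Nat.modEq_iff_dvd' (Nat.one_le_pow _ _ hp.pos)).mp (Nat.ModEq.pow_totient hn).symm
  obtain ⟨g, hg⟩ := IsCyclic.exists_ofOrder_eq_natCard (α := Eˣ)
  obtain ⟨c, hc⟩ := hdvd
  have hc0 : c ≠ 0 := by
    rintro rfl
    have : 0 < Nat.card Eˣ := Nat.card_pos
    omega
  have hζ : orderOf (g ^ c) = n := by
    rw [orderOf_pow_of_dvd hc0 (by rw [hg, hc]; exact dvd_mul_left _ _), hg, hc,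
      Nat.mul_div_cancel _ (Nat.pos_of_ne_zero hc0)]
  set ζ := g ^ c with hζdef
  refine ⟨Aff E (Subgroup.zpowers ζ), inferInstance, Aff.finite, Aff.isSolvable, ?_⟩
  ext m
  simp only [Set.mem_range, Set.mem_ofPred_eq]
  constructor
  · rintro ⟨a, rfl⟩
    by_cases h : a.u = 1
    · exact Or.inl (Aff.orderOf_of_eq p a h)
    · right
      rw [Aff.orderOf_of_ne a h]
      have h1 := orderOf_dvd_natCard a.u
      rw [Nat.card_zpowers, hζ] at h1
      exact h1
  · rintro (h | h)
    · rcases (Nat.dvd_prime hp).mp h with rfl | rfl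
      · exact ⟨1, orderOf_one⟩
      · refine ⟨Aff.inl (Multiplicative.ofAdd 1), ?_⟩
        rw [orderOf_injective _ Aff.inl_injective]
        apply orderOf_eq_prime
        · rw [← ofAdd_nsmul]; simp
        · intro h1
          have : (1 : E) = 0 := h1
          exact one_ne_zero this
    · obtain ⟨d, hd⟩ := h
      have hd0 : d ≠ 0 := by
        rintro rfl
        omega
      have hm0 : 0 < m := by
        rcases Nat.eq_zero_or_pos m with h | h
        · subst h; omega
        · exact h
      refine ⟨Aff.inr ⟨ζ ^ d, Subgroup.pow_mem _ (Subgroup.mem_zpowers ζ) d⟩, ?_⟩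
      rw [orderOf_injective _ Aff.inr_injective, Subgroup.orderOf_mk,
        orderOf_pow_of_dvd hd0 (by rw [hζ, hd]; exact dvd_mul_left _ _), hζ, hd,
        Nat.mul_div_cancel _ (Nat.pos_of_ne_zero hd0)]

/-- Let q ≥ 4 be a prime power and L = PSL(2,q). There is a finite solvable group with the same set of element orders as L × L (so L × L is not determined by its spectrum). -/
theorem result {F : Type*} [Field F] [Fintype F] (hF : 4 ≤ Fintype.card F) :
    ∃ (H : Type) (_ : Group H) (_ : Finite H), Group.IsSolvable H ∧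
      Set.range (orderOf : H → ℕ) = Set.range (orderOf : Matrix.ProjectiveSpecialLinearGroup (Fin 2) F × Matrix.ProjectiveSpecialLinearGroup (Fin 2) F → ℕ) := by
  obtain ⟨p, hchar⟩ := CharP.exists F
  have hp : Fact p.Prime := ⟨CharP.char_is_prime F p⟩
  have hspec := Cfsg.Agent.S2475.result (F := F) p hF
  obtain ⟨n, hn⟩ := FiniteField.card F p
  set b := (Fintype.card F - 1) / Nat.gcd 2 (Fintype.card F - 1) with hb
  set c := (Fintype.card F + 1) / Nat.gcd 2 (Fintype.card F - 1) with hc
  have hpq : p ∣ Fintype.card F := by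
    rw [hn.2]
    exact dvd_pow_self p n.ne_zero
  have hg : Nat.gcd 2 (Fintype.card F - 1) = 1 ∨ Nat.gcd 2 (Fintype.card F - 1) = 2 :=
    (Nat.dvd_prime Nat.prime_two).mp (Nat.gcd_dvd_left _ _)
  have hgd : Nat.gcd 2 (Fintype.card F - 1) ∣ Fintype.card F - 1 := Nat.gcd_dvd_right _ _
  have hgd' : Nat.gcd 2 (Fintype.card F - 1) ∣ Fintype.card F + 1 := by
    rcases hg with h | h
    · rw [h]; exact one_dvd _
    · rw [h] at hgd ⊢
      omega
  have hbd : b ∣ Fintype.card F - 1 := Nat.div_dvd_of_dvd hgd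
  have hcd : c ∣ Fintype.card F + 1 := Nat.div_dvd_of_dvd hgd'
  have hb0 : 0 < b := Nat.div_pos (Nat.le_of_dvd (by omega) hgd) (by rcases hg with h | h <;> omega)
  have hc0 : 0 < c := Nat.div_pos (Nat.le_of_dvd (by omega) hgd') (by rcases hg with h | h <;> omega)
  have hcop1 : p.Coprime (Fintype.card F - 1) := by
    rw [Nat.Prime.coprime_iff_not_dvd hp.out]
    intro h
    have := (Nat.dvd_sub hpq h)
    rw [Nat.sub_sub_self (by omega)] at this
    exact hp.out.one_lt.ne' (Nat.dvd_one.mp this)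
  have hcop2 : p.Coprime (Fintype.card F + 1) := by
    rw [Nat.Prime.coprime_iff_not_dvd hp.out]
    intro h
    have := (Nat.dvd_sub h hpq)
    rw [Nat.add_sub_cancel_left] at this
    exact hp.out.one_lt.ne' (Nat.dvd_one.mp this)
  obtain ⟨X, iX, fX, sX, hX⟩ := exists_solvable_spectrum p b (hcop1.coprime_dvd_right hbd) hb0
  obtain ⟨Y, iY, fY, sY, hY⟩ := exists_solvable_spectrum p c (hcop2.coprime_dvd_right hcd) hc0
  refine ⟨X × Y, inferInstance, inferInstance, inferInstance, ?_⟩
  have memX : ∀ m, (∃ x : X, orderOf x = m) ↔ (m ∣ p ∨ m ∣ b) := by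
    intro m
    have := Set.ext_iff.mp hX m
    simpa using this
  have memY : ∀ m, (∃ x : Y, orderOf x = m) ↔ (m ∣ p ∨ m ∣ c) := by
    intro m
    have := Set.ext_iff.mp hY m
    simpa using this
  have memL : ∀ m, (∃ x : Matrix.ProjectiveSpecialLinearGroup (Fin 2) F, orderOf x = m) ↔
      (m ∣ p ∨ m ∣ b ∨ m ∣ c) := by
    intro m
    have := Set.ext_iff.mp hspec m
    simpa using this
  ext m
  simp only [Set.mem_range, Prod.exists, Prod.orderOf]
  constructor
  · rintro ⟨x, y, rfl⟩
    obtain ⟨x', hx'⟩ := (memL (orderOf x)).mpr (by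
      rcases (memX _).mp ⟨x, rfl⟩ with h | h
      · exact Or.inl h
      · exact Or.inr (Or.inl h))
    obtain ⟨y', hy'⟩ := (memL (orderOf y)).mpr (by
      rcases (memY _).mp ⟨y, rfl⟩ with h | h
      · exact Or.inl h
      · exact Or.inr (Or.inr h))
    exact ⟨x', y', by rw [hx', hy']⟩
  · rintro ⟨x, y, rfl⟩
    have key : ∀ r s : ℕ, (r ∣ p ∨ r ∣ b) → (s ∣ p ∨ s ∣ c) →
        ∃ (x' : X) (y' : Y), (orderOf x').lcm (orderOf y') = r.lcm s := by
      intro r s hr hs
      obtain ⟨x', hx'⟩ := (memX r).mpr hr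
      obtain ⟨y', hy'⟩ := (memY s).mpr hs
      exact ⟨x', y', by rw [hx', hy']⟩
    rcases (memL _).mp ⟨x, rfl⟩ with h1 | h1 | h1 <;> rcases (memL _).mp ⟨y, rfl⟩ with h2 | h2 | h2
    · have := key ((orderOf x).lcm (orderOf y)) 1 (Or.inl (Nat.lcm_dvd h1 h2)) (Or.inl (one_dvd _))
      simpa using this
    · rw [Nat.lcm_comm]
      exact key _ _ (Or.inr h2) (Or.inl h1)
    · exact key _ _ (Or.inl h1) (Or.inr h2)
    · exact key _ _ (Or.inr h1) (Or.inl h2)
    · have := key ((orderOf x).lcm (orderOf y)) 1 (Or.inr (Nat.lcm_dvd h1 h2)) (Or.inl (one_dvd _))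
      simpa using this
    · exact key _ _ (Or.inr h1) (Or.inr h2)
    · rw [Nat.lcm_comm]
      exact key _ _ (Or.inl h2) (Or.inr h1)
    · rw [Nat.lcm_comm]
      exact key _ _ (Or.inr h2) (Or.inr h1)
    · have := key 1 ((orderOf x).lcm (orderOf y)) (Or.inl (one_dvd _)) (Or.inr (Nat.lcm_dvd h1 h2))
      simpa using this

end Cfsg.Agent.S3532
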