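import Cfsg.Statements.S3554
-- import your own Cfsg.Agent.* helpers here

set_option autoImplicit false
open Cfsg

namespace Cfsg.Agent.S3554

/-- Let G act faithfully and transitively on a finite set and suppose G has a non-trivial cyclic normal subgroup. Then some element of G of prime order fixes no point. -/
theorem result {G Ω : Type*} [Group G] [Finite G] [MulAction G Ω] [FaithfulSMul G Ω] [Finite Ω]
    (htrans : MulAction.IsPretransitive G Ω) (C : Subgroup G) (hC : C.Normal) (hC1 : C ≠ ⊥) (hcyc : IsCyclic ↥C) :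
    ∃ g : G, (orderOf g).Prime ∧ ∀ ω : Ω, g • ω ≠ ω := by
  classical
  obtain ⟨⟨c, hcC⟩, hc⟩ := hcyc.exists_generator
  have hc1 : c ≠ 1 := by
    rintro rfl
    apply hC1
    rw [Subgroup.eq_bot_iff_forall]
    intro x hx
    have := hc ⟨x, hx⟩
    rw [Subgroup.mem_zpowers_iff] at this
    obtain ⟨k, hk⟩ := this
    have h2 := congrArg Subtype.val hk
    simpa using h2.symm
  have hn1 : orderOf c ≠ 1 := by
    rw [Ne, orderOf_eq_one_iff]; exact hc1
  obtain ⟨p, hp, hpn⟩ := Nat.exists_prime_and_dvd hn1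
  have hg : orderOf (c ^ (orderOf c / p)) = p :=
    orderOf_pow_orderOf_div (orderOf_pos c).ne' hpn
  refine ⟨c ^ (orderOf c / p), by rw [hg]; exact hp, ?_⟩
  intro ω hω
  have hall : ∀ ω' : Ω, (c ^ (orderOf c / p)) • ω' = ω' := by
    intro ω'
    obtain ⟨x, rfl⟩ := MulAction.exists_smul_eq G ω ω'
    have hmem : x⁻¹ * c * x ∈ C := by simpa using hC.conj_mem c hcC x⁻¹
    have := hc ⟨_, hmem⟩
    rw [Subgroup.mem_zpowers_iff] at this
    obtain ⟨k, hk⟩ := this
    have hk' : c ^ k = x⁻¹ * c * x := by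
      have h2 := congrArg Subtype.val hk
      simpa using h2
    have hconj : x⁻¹ * (c ^ (orderOf c / p)) * x = (c ^ (orderOf c / p)) ^ k := by
      have h3 : x⁻¹ * (c ^ (orderOf c / p)) * x = (x⁻¹ * c * x) ^ (orderOf c / p) := by
        have := conj_pow (a := x⁻¹) (b := c) (i := orderOf c / p)
        simpa using this.symm
      rw [h3, ← hk', ← zpow_natCast, ← zpow_natCast, ← zpow_mul, ← zpow_mul, mul_comm]
    have hfix : ((c ^ (orderOf c / p)) ^ k) • ω = ω := by
      have : (c ^ (orderOf c / p)) ∈ MulAction.stabilizer G ω := hω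
      exact (MulAction.stabilizer G ω).zpow_mem this k
    calc (c ^ (orderOf c / p)) • x • ω = x • ((x⁻¹ * (c ^ (orderOf c / p)) * x) • ω) := by
          simp [mul_smul]
      _ = x • ω := by rw [hconj, hfix]
  have h1 : c ^ (orderOf c / p) = 1 := by
    apply FaithfulSMul.eq_of_smul_eq_smul (α := Ω)
    intro a
    rw [hall a, one_smul]
  rw [h1, orderOf_one] at hg
  exact hp.one_lt.ne hg

end Cfsg.Agent.S3554
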