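import Cfsg.Statements.S3555
-- import your own Cfsg.Agent.* helpers here
import Cfsg.Agent.Lib.Helper63.Derangement

set_option autoImplicit false
open Cfsg

namespace Cfsg.Agent.S3555

open MulAction

/-- Counting core: if all derangements are involutions, every non-identity element
fixes at most one point. -/
theorem fix_le_one {G Ω : Type*} [Group G] [Finite G] [MulAction G Ω] [FaithfulSMul G Ω]
    [Finite Ω] [Nonempty Ω]
    (htrans : MulAction.IsPretransitive G Ω)
    (hinv : ∀ g : G, (∀ ω : Ω, g • ω ≠ ω) → orderOf g = 2) :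
    ∀ g : G, ∀ γ δ : Ω, g • γ = γ → g • δ = δ → γ ≠ δ → g = 1 := by
  classical
  have := Fintype.ofFinite G
  have := Fintype.ofFinite Ω
  let Fix : G → Finset Ω := fun g => Finset.univ.filter (fun ω => g • ω = ω)
  let Δ : Finset G := Finset.univ.filter (fun g => ∀ ω : Ω, g • ω ≠ ω)
  have hsq : ∀ t ∈ Δ, t * t = 1 := by
    intro t ht
    have h2 := hinv t (Finset.mem_filter.mp ht).2
    have := pow_orderOf_eq_one t
    rw [h2, sq] at this
    exact this
  have hFixcard : ∀ g : G, Nat.card (fixedBy Ω g) = (Fix g).card := by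
    intro g
    rw [Nat.card_eq_fintype_card, Fintype.card_subtype]
    rfl
  have hB : ∑ g : G, (Fix g).card = Fintype.card G := by
    have h1 := Cfsg.Agent.Lib.Helper63.burnside_card (G := G) (Ω := Ω)
    have hq : Nat.card (orbitRel.Quotient G Ω) = 1 := by
      have h1 : Subsingleton (orbitRel.Quotient G Ω) :=
        (pretransitive_iff_subsingleton_quotient G Ω).mp inferInstance
      have h2 : Nonempty (orbitRel.Quotient G Ω) := ⟨Quotient.mk'' (Classical.arbitrary Ω)⟩
      exact Nat.card_eq_one_iff_unique.mpr ⟨h1, h2⟩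
    rw [hq, one_mul, Nat.card_eq_fintype_card] at h1
    rw [← h1]
    exact Finset.sum_congr rfl (fun g _ => (hFixcard g).symm)
  -- the injection
  let t0 : Ω → Ω → G := fun γ δ =>
    if h : ∃ s : G, s ∈ Δ ∧ s • γ = δ then h.choose else 1
  have ht0 : ∀ γ δ : Ω, (∃ s : G, s ∈ Δ ∧ s • γ = δ) → t0 γ δ ∈ Δ ∧ t0 γ δ • γ = δ := by
    intro γ δ h
    simp only [t0, dif_pos h]
    exact h.choose_spec
  have hP : Δ.card * Fintype.card Ω ≤ ∑ g : G, (Fix g).offDiag.card := by
    rw [← Finset.card_univ (α := Ω), ← Finset.card_product, ← Finset.card_sigma]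
    apply Finset.card_le_card_of_injOn
      (fun p : G × Ω => (⟨(t0 p.2 (p.1 • p.2))⁻¹ * p.1, (p.2, p.1 • p.2)⟩ : Σ _ : G, Ω × Ω))
    · rintro ⟨t, γ⟩ htγ
      have ht : t ∈ Δ := (Finset.mem_product.mp htγ).1
      obtain ⟨hs, hsγ⟩ := ht0 γ (t • γ) ⟨t, ht, rfl⟩
      simp only []
      generalize t0 γ (t • γ) = s at hs hsγ ⊢
      simp only [Finset.coe_sigma, Finset.coe_univ, Set.mem_sigma_iff, Set.mem_univ, true_and,
        Finset.mem_coe, Finset.mem_offDiag, Fix, Finset.mem_filter, Finset.mem_univ]
      refine ⟨?_, ?_, ?_⟩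
      · rw [mul_smul, inv_smul_eq_iff, hsγ]
      · rw [mul_smul, inv_smul_eq_iff, ← mul_smul, hsq t ht, one_smul, ← hsγ, ← mul_smul,
          hsq _ hs, one_smul]
      · exact fun h => (Finset.mem_filter.mp ht).2 γ h.symm
    · rintro ⟨t, γ⟩ _ ⟨t', γ'⟩ _ heq
      simp only [Sigma.mk.injEq, heq_eq_eq, Prod.mk.injEq] at heq
      obtain ⟨h1, h2, h3⟩ := heq
      subst h2
      rw [h3] at h1
      have := mul_left_cancel h1
      rw [this]
  -- integer computation
  let n : ℤ := Fintype.card Ω
  let φ : G → ℤ := fun g => (((Fix g).card : ℤ) - 1) * (n - (Fix g).card)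
  have hFle : ∀ g : G, (Fix g).card ≤ Fintype.card Ω := fun g => Finset.card_le_univ _
  have hoff : ∀ g : G, ((Fix g).offDiag.card : ℤ) = (Fix g).card * (Fix g).card - (Fix g).card := by
    intro g
    rw [Finset.offDiag_card, Nat.cast_sub (Nat.le_mul_self _)]
    push_cast
    ring
  have hsum : ∑ g : G, φ g = - ∑ g : G, ((Fix g).offDiag.card : ℤ) := by
    have e1 : ∀ g : G, φ g = - ((Fix g).offDiag.card : ℤ) + n * (Fix g).card - n := by
      intro g
      rw [hoff g]
      simp only [φ]
      ring
    rw [Finset.sum_congr rfl (fun g _ => e1 g), Finset.sum_sub_distrib, Finset.sum_add_distrib,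
      Finset.sum_neg_distrib, ← Finset.mul_sum]
    have hB' : ∑ g : G, ((Fix g).card : ℤ) = Fintype.card G := by exact_mod_cast hB
    rw [hB']
    simp only [Finset.sum_const, Finset.card_univ, nsmul_eq_mul]
    ring
  have hsplit := Finset.sum_filter_add_sum_filter_not Finset.univ
    (fun g : G => ∀ ω : Ω, g • ω ≠ ω) φ
  have hΔ : ∑ g ∈ Finset.univ.filter (fun g : G => ∀ ω : Ω, g • ω ≠ ω), φ g = - (Δ.card * n) := by
    have : ∀ g ∈ Finset.univ.filter (fun g : G => ∀ ω : Ω, g • ω ≠ ω), φ g = - n := by
      intro g hg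
      have h0 : (Fix g).card = 0 := by
        rw [Finset.card_eq_zero, Finset.filter_eq_empty_iff]
        intro ω _
        exact (Finset.mem_filter.mp hg).2 ω
      simp only [φ, h0]
      simp
    rw [Finset.sum_congr rfl this, Finset.sum_const, nsmul_eq_mul]
    ring
  have hnonneg : ∀ g ∈ Finset.univ.filter (fun g : G => ¬ ∀ ω : Ω, g • ω ≠ ω), 0 ≤ φ g := by
    intro g hg
    have h1 : 1 ≤ (Fix g).card := by
      have := (Finset.mem_filter.mp hg).2
      push Not at this
      obtain ⟨ω, hω⟩ := this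
      exact Finset.card_pos.mpr ⟨ω, Finset.mem_filter.mpr ⟨Finset.mem_univ _, hω⟩⟩
    have h2 := hFle g
    apply mul_nonneg
    · have : (1 : ℤ) ≤ (Fix g).card := by exact_mod_cast h1
      linarith
    · have : ((Fix g).card : ℤ) ≤ n := by
        show ((Fix g).card : ℤ) ≤ (Fintype.card Ω : ℤ)
        exact_mod_cast h2
      linarith
  have hzero : ∑ g ∈ Finset.univ.filter (fun g : G => ¬ ∀ ω : Ω, g • ω ≠ ω), φ g = 0 := by
    apply le_antisymm _ (Finset.sum_nonneg hnonneg)
    have hP' : (Δ.card : ℤ) * n ≤ ∑ g : G, ((Fix g).offDiag.card : ℤ) := by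
      show (Δ.card : ℤ) * (Fintype.card Ω : ℤ) ≤ ∑ g : G, ((Fix g).offDiag.card : ℤ)
      exact_mod_cast hP
    rw [hΔ, hsum] at hsplit
    linarith
  have hall := (Finset.sum_eq_zero_iff_of_nonneg hnonneg).mp hzero
  intro g γ δ hγ hδ hne
  have hgmem : g ∈ Finset.univ.filter (fun g : G => ¬ ∀ ω : Ω, g • ω ≠ ω) := by
    rw [Finset.mem_filter]
    refine ⟨Finset.mem_univ _, ?_⟩
    push Not
    exact ⟨γ, hγ⟩
  have hφ := hall g hgmem
  have h2 : 2 ≤ (Fix g).card := by
    have : ({γ, δ} : Finset Ω) ⊆ Fix g := by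
      intro x hx
      simp only [Finset.mem_insert, Finset.mem_singleton] at hx
      rcases hx with rfl | rfl
      · exact Finset.mem_filter.mpr ⟨Finset.mem_univ _, hγ⟩
      · exact Finset.mem_filter.mpr ⟨Finset.mem_univ _, hδ⟩
    have h3 := Finset.card_le_card this
    rw [Finset.card_pair hne] at h3
    exact h3
  rcases mul_eq_zero.mp hφ with h | h
  · exfalso
    have : (2 : ℤ) ≤ (Fix g).card := by exact_mod_cast h2
    linarith
  · have hfull : (Fix g).card = Fintype.card Ω := by
      have : ((Fix g).card : ℤ) = Fintype.card Ω := by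
        simp only [n] at h
        linarith
      exact_mod_cast this
    have huniv : Fix g = Finset.univ := (Finset.card_eq_iff_eq_univ _).mp hfull
    apply FaithfulSMul.eq_of_smul_eq_smul (α := Ω)
    intro ω
    rw [one_smul]
    have : ω ∈ Fix g := by rw [huniv]; exact Finset.mem_univ _
    exact (Finset.mem_filter.mp this).2

open scoped Pointwise in
theorem mem_conj_smul_stabilizer {G Ω : Type*} [Group G] [MulAction G Ω] (g x : G) (α : Ω) :
    x ∈ MulAut.conj g • stabilizer G α ↔ x • (g • α) = g • α := by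
  rw [Subgroup.mem_pointwise_smul_iff_inv_smul_mem, MulAut.smul_def, MulAut.conj_inv_apply,
    mem_stabilizer_iff, mul_smul, mul_smul, inv_smul_eq_iff]

/-- Let G act faithfully and transitively on a finite set and suppose every element of G fixing no point is an involution. Then either G is an elementary abelian 2-group, or G is a Frobenius group whose Frobenius kernel is an elementary abelian 2-group: G has a Frobenius complement H, and the elements lying in no conjugate of H, together with the identity, pairwise commute and square to the identity. -/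
theorem result {G Ω : Type*} [Group G] [Finite G] [MulAction G Ω] [FaithfulSMul G Ω] [Finite Ω]
    (htrans : MulAction.IsPretransitive G Ω) (hinv : ∀ g : G, (∀ ω : Ω, g • ω ≠ ω) → orderOf g = 2) :
    (IsMulCommutative G ∧ ∀ g : G, g ^ 2 = 1) ∨
    (∃ H : Subgroup G, Cfsg.IsFrobeniusComplement H ∧
      (∀ x ∈ Cfsg.frobeniusKernel H, x ^ 2 = 1) ∧
      ∀ x ∈ Cfsg.frobeniusKernel H, ∀ y ∈ Cfsg.frobeniusKernel H, x * y = y * x) := by
  classical
  rcases isEmpty_or_nonempty Ω with hE | hN
  · exfalso
    have := hinv 1 (fun ω => isEmptyElim ω)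
    rw [orderOf_one] at this
    omega
  have hfix := fix_le_one htrans hinv
  obtain ⟨α⟩ := hN
  have hder_sq : ∀ g : G, (∀ ω : Ω, g • ω ≠ ω) → g ^ 2 = 1 := fun g hg => by
    have := pow_orderOf_eq_one g
    rwa [hinv g hg] at this
  by_cases hH : stabilizer G α = ⊥
  · left
    have hall : ∀ g : G, g ^ 2 = 1 := by
      intro g
      by_cases hg : ∀ ω : Ω, g • ω ≠ ω
      · exact hder_sq g hg
      · push Not at hg
        obtain ⟨ω, hω⟩ := hg
        obtain ⟨x, rfl⟩ := exists_smul_eq G α ω
        have h1 : x⁻¹ * g * x ∈ stabilizer G α := by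
          rw [mem_stabilizer_iff, mul_smul, mul_smul, hω, inv_smul_smul]
        rw [hH, Subgroup.mem_bot] at h1
        have h3 : g = 1 := by
          have h2 := congrArg (fun y => x * y * x⁻¹) h1
          simpa [mul_assoc] using h2
        rw [h3, one_pow]
    have hself : ∀ g : G, g⁻¹ = g := fun g =>
      inv_eq_of_mul_eq_one_left (by rw [← sq]; exact hall g)
    refine ⟨⟨⟨fun a b => ?_⟩⟩, hall⟩
    calc a * b = (a * b)⁻¹ := (hself _).symm
      _ = b⁻¹ * a⁻¹ := mul_inv_rev _ _
      _ = b * a := by rw [hself, hself]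
  · right
    have hker : ∀ x ∈ Cfsg.frobeniusKernel (stabilizer G α), x ≠ 1 → ∀ ω : Ω, x • ω ≠ ω := by
      intro x hx hx1 ω hω
      rcases hx with h | h
      · exact hx1 h
      · obtain ⟨g, rfl⟩ := exists_smul_eq G α ω
        exact h g ((mem_conj_smul_stabilizer g x α).mpr hω)
    refine ⟨stabilizer G α, ⟨hH, ?_, ?_⟩, ?_, ?_⟩
    · intro htop
      apply hH
      rw [Subgroup.eq_bot_iff_forall]
      intro x _
      apply FaithfulSMul.eq_of_smul_eq_smul (α := Ω)
      intro ω
      rw [one_smul]
      obtain ⟨g, rfl⟩ := exists_smul_eq G α ω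
      have h1 : g ∈ stabilizer G α := by rw [htop]; trivial
      have h2 : x ∈ stabilizer G α := by rw [htop]; trivial
      rw [mem_stabilizer_iff] at h1 h2
      rw [h1, h2]
    · intro g hg
      rw [Subgroup.eq_bot_iff_forall]
      intro x hx
      obtain ⟨hx1, hx2⟩ := Subgroup.mem_inf.mp hx
      rw [mem_conj_smul_stabilizer] at hx2
      exact hfix x α (g • α) hx1 hx2 (fun h => hg h.symm)
    · intro x hx
      by_cases hx1 : x = 1
      · rw [hx1, one_pow]
      · exact hder_sq x (hker x hx hx1)
    · intro x hx y hy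
      by_cases hx1 : x = 1
      · rw [hx1, one_mul, mul_one]
      by_cases hy1 : y = 1
      · rw [hy1, one_mul, mul_one]
      by_cases hxy : x = y
      · rw [hxy]
      have hxd := hker x hx hx1
      have hyd := hker y hy hy1
      have hx2 : x * x = 1 := by rw [← sq]; exact hder_sq x hxd
      have hy2 : y * y = 1 := by rw [← sq]; exact hder_sq y hyd
      have hxyd : ∀ ω : Ω, (x * y) • ω ≠ ω := by
        intro γ hγ
        apply hxy
        have e1 : y • γ = x • γ := by
          have := congrArg (fun z => x • z) hγ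
          simp only [← mul_smul, ← mul_assoc, hx2, one_mul] at this
          exact this
        have h1 : (x⁻¹ * y) • γ = γ := by
          rw [mul_smul, e1, inv_smul_smul]
        have h2 : (x⁻¹ * y) • (x • γ) = x • γ := by
          rw [mul_smul, ← e1, ← mul_smul y y, hy2, one_smul, inv_smul_eq_iff, e1, ← mul_smul, hx2,
            one_smul]
        have h3 := hfix _ γ (x • γ) h1 h2 (fun h => hxd γ h.symm)
        have := congrArg (fun z => x * z) h3
        simpa using this.symm
      have h4 : (x * y) * (x * y) = 1 := by rw [← sq]; exact hder_sq _ hxyd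
      calc x * y = x * ((x * y) * (x * y)) * y := by rw [h4, mul_one]
        _ = (x * x) * (y * x) * (y * y) := by group
        _ = y * x := by rw [hx2, hy2, one_mul, mul_one]

end Cfsg.Agent.S3555
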