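import Cfsg.Statements.S3589
import Cfsg.Agent.Lib.Helper99.SP8.Main
import Cfsg.Agent.Lib.Helper48.SpSpec
import Cfsg.Agent.Lib.Helper18.SP8PFWD
import Cfsg.Agent.Lib.Helper18.SP8PBACK
import Cfsg.Agent.Lib.Helper18.SP8STD
import Cfsg.Agent.Lib.Helper41.SP8OAR

set_option autoImplicit false
open Cfsg

namespace Cfsg.Agent.S3589

open Cfsg.Agent.Lib.Helper99.SP8 Cfsg.Agent.Lib.Helper18.SP8 Cfsg.Agent.Lib.Helper41.SP8 Cfsg.Agent.Lib.Helper17
  Cfsg.Agent.Lib.Helper48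

/-- Let F be a finite field of characteristic 2 and let a, b ∈ F make the binary form z₁² + a z₁z₂ + b z₂² anisotropic. Then the symplectic group PSp(8,F) (= Sp(8,F)) and the full isometry group of the non-singular quadratic form x₁y₁ + x₂y₂ + x₃y₃ + (z₁² + a z₁z₂ + b z₂²) of minus type in dimension 8 have the same set of element orders. -/
theorem result {F : Type*} [Field F] [Fintype F]
    [CharP F 2] (a b : F) (han : ∀ z₁ z₂ : F, z₁ ^ 2 + a * z₁ * z₂ + b * z₂ ^ 2 = 0 → z₁ = 0 ∧ z₂ = 0) :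
    Set.range (orderOf : Cfsg.PSp 4 F → ℕ) = Set.range (orderOf : ↥(Cfsg.isometryGroup F (Cfsg.quadFormMinus 3 F a b)) → ℕ) := by
  apply Set.eq_of_subset_of_subset
  · rintro _ ⟨y, rfl⟩
    obtain ⟨T, hT, hord⟩ := psp_fwd y
    have hK : 0 < orderOf y := orderOf_pos y
    obtain ⟨K', h1, h2, h3⟩ := main_abs (sympB 4 F) (sympB_isAlt (F := F) 4)
      (sympB_nondegenerate (F := F) 4).1 (finrank_symp_space (F := F) 4) T hT hK hord
    obtain ⟨g, hg⟩ := std_minus a b han h2 h3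
    obtain ⟨r, hr⟩ := h1
    refine ⟨g ^ r, ?_⟩
    have hr0 : r ≠ 0 := by
      rintro rfl
      omega
    rw [orderOf_pow_of_dvd hr0 (by rw [hg, hr]; exact dvd_mul_left _ _), hg, hr,
      Nat.mul_div_cancel _ (Nat.pos_of_ne_zero hr0)]
  · rintro _ ⟨g, rfl⟩
    exact psp_back (n := 4) (iso_to_AR a b han g)

end Cfsg.Agent.S3589
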