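import Cfsg.Statements.S3626
import Cfsg.Agent.S1159
import Cfsg.Agent.Lib.Helper8.Cube.SPEC
import Cfsg.Agent.Lib.Helper8.Cube.FINC
import Cfsg.Agent.Lib.Helper8.Cube.LCM

set_option autoImplicit false
open Cfsg

namespace Cfsg.Agent.S3626

/-- Let R be the small Ree group over the field with q = 3^(2m+1) ≥ 27 elements. Then there are finite groups of arbitrarily large order with exactly the same set of element orders as R × R × R. -/
theorem result {K : Type*} [Field K] [Fintype K] {m : ℕ} (hm : 1 ≤ m) (hK : Fintype.card K = 3 ^ (2 * m + 1)) (N : ℕ) :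
    ∃ (H : Type) (_ : Group H) (_ : Fintype H), N < Fintype.card H ∧
      Set.range (orderOf : H → ℕ) = Set.range (orderOf : ↥(Cfsg.Lie.twistedG2 K (3 ^ m)) × ↥(Cfsg.Lie.twistedG2 K (3 ^ m)) × ↥(Cfsg.Lie.twistedG2 K (3 ^ m)) → ℕ) := by
  classical
  have : Fact (Nat.Prime 3) := ⟨Nat.prime_three⟩
  let K₀ := GaloisField 3 (2 * m + 1)
  letI : Fintype K₀ := Fintype.ofFinite K₀
  have hK₀ : Fintype.card K₀ = 3 ^ (2 * m + 1) := by
    rw [← Nat.card_eq_fintype_card]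
    exact GaloisField.card 3 (2 * m + 1) (by omega)
  let θ : K₀ →+* K₀ := iterateFrobenius K₀ 3 (m + 1)
  have hθ : ∀ x, θ (θ x) = x ^ 3 := by
    intro x
    show iterateFrobenius K₀ 3 (m + 1) (iterateFrobenius K₀ 3 (m + 1) x) = x ^ 3
    rw [iterateFrobenius_def, iterateFrobenius_def, ← pow_mul, ← pow_add]
    have h1 : m + 1 + (m + 1) = (2 * m + 1) + 1 := by ring
    rw [h1, pow_succ, pow_mul, ← hK₀, FiniteField.pow_card]
  have hfin : Finite (Cfsg.Agent.Lib.Helper8.Cube.XG θ (N + 1)) :=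
    Cfsg.Agent.Lib.Helper8.Cube.finite_XG θ (N + 1)
  refine ⟨↥(Cfsg.Lie.twistedG2 K₀ (3 ^ m)) × ↥(Cfsg.Lie.twistedG2 K₀ (3 ^ m)) ×
    ↥(Cfsg.Agent.Lib.Helper8.Cube.XG θ (N + 1)), inferInstance, Fintype.ofFinite _, ?_, ?_⟩
  · rw [Fintype.card_eq_nat_card, Nat.card_prod, Nat.card_prod]
    have h1 := Cfsg.Agent.Lib.Helper8.Cube.card_XG_ge θ (N + 1)
    have h2 : N < 3 ^ (N + 1) := lt_trans (Nat.lt_succ_self N) (Nat.lt_pow_self (by norm_num))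
    have h3 : 0 < Nat.card ↥(Cfsg.Lie.twistedG2 K₀ (3 ^ m)) := Nat.card_pos
    calc N < 3 ^ (N + 1) := h2
      _ ≤ Nat.card ↥(Cfsg.Agent.Lib.Helper8.Cube.XG θ (N + 1)) := h1
      _ ≤ Nat.card ↥(Cfsg.Lie.twistedG2 K₀ (3 ^ m)) * (Nat.card ↥(Cfsg.Lie.twistedG2 K₀ (3 ^ m)) *
          Nat.card ↥(Cfsg.Agent.Lib.Helper8.Cube.XG θ (N + 1))) := by
        calc _ ≤ Nat.card ↥(Cfsg.Lie.twistedG2 K₀ (3 ^ m)) *
              Nat.card ↥(Cfsg.Agent.Lib.Helper8.Cube.XG θ (N + 1)) := Nat.le_mul_of_pos_left _ h3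
          _ ≤ _ := Nat.le_mul_of_pos_left _ h3
  · exact Cfsg.Agent.Lib.Helper8.Cube.range_eq 6 9 (3 ^ (2 * m + 1) - 1) ((3 ^ (2 * m + 1) + 1) / 2)
      (3 ^ (2 * m + 1) - 3 ^ (m + 1) + 1) (3 ^ (2 * m + 1) + 3 ^ (m + 1) + 1)
      (fun d => Cfsg.Agent.S1159.result hm hK₀ d) (fun d => Cfsg.Agent.S1159.result hm hK d)
      (fun d => Cfsg.Agent.Lib.Helper8.Cube.spec_XG θ (N + 1) hK₀ hθ (by omega) d)

end Cfsg.Agent.S3626
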