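import Cfsg.Statements.S4345
-- import your own Cfsg.Agent.* helpers here
import Cfsg.Agent.Lib.Helper76.SylowNumber

set_option autoImplicit false
open Cfsg

namespace Cfsg.Agent.S4345

/-- a nontrivial finite solvable group has a nontrivial normal subgroup of prime power order. -/
theorem exists_normal_pgroup {G : Type*} [Group G] [Finite G] (hG : Group.IsSolvable G) [Nontrivial G] :
    ∃ (q : ℕ) (K : Subgroup G), q.Prime ∧ K.Normal ∧ K ≠ ⊥ ∧ IsPGroup q K := by
  classical
  have hex : ∃ n, derivedSeries G n = ⊥ := (Group.isSolvable_def G).1 hG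
  set n := Nat.find hex with hn
  have hn1 : derivedSeries G n = ⊥ := Nat.find_spec hex
  have hn0 : n ≠ 0 := by
    intro h0
    rw [h0, derivedSeries_zero] at hn1
    exact top_ne_bot hn1
  obtain ⟨m, hm⟩ := Nat.exists_eq_succ_of_ne_zero hn0
  set D := derivedSeries G m with hD
  have hDne : D ≠ ⊥ := by
    intro h
    have := Nat.find_min hex (m := m) (by omega)
    exact this h
  have hDn : D.Normal := derivedSeries_normal G m
  have hDc : ⁅D, D⁆ = ⊥ := by
    rw [hm] at hn1
    exact hn1
  have hcomm : ∀ a b : D, a * b = b * a := by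
    intro a b
    have h1 := Subgroup.commutator_mem_commutator a.2 b.2
    rw [hDc, Subgroup.mem_bot, commutatorElement_eq_one_iff_mul_comm] at h1
    exact Subtype.ext h1
  have hcard : Nat.card D ≠ 1 := by
    intro h
    exact hDne ((Subgroup.card_eq_one).1 h)
  obtain ⟨q, hq, hqd⟩ := Nat.exists_prime_and_dvd hcard
  have : Fact q.Prime := ⟨hq⟩
  obtain ⟨Q⟩ : Nonempty (Sylow q D) := inferInstance
  have hQn : (Q : Subgroup D).Normal := by
    constructor
    intro x hx g
    have : g * x * g⁻¹ = x := by rw [hcomm g x]; group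
    rwa [this]
  have hQc : (Q : Subgroup D).Characteristic := Sylow.characteristic_of_normal Q hQn
  refine ⟨q, (Q : Subgroup D).map D.subtype, hq, ConjAct.normal_of_characteristic_of_normal, ?_, ?_⟩
  · intro h
    rw [Subgroup.map_eq_bot_iff_of_injective _ D.subtype_injective] at h
    exact Q.ne_bot_of_dvd_card hqd h
  · exact Q.isPGroup'.map _

theorem aux (p : ℕ) [Fact p.Prime] (ℓ : ℕ) (hℓ : ℓ.Prime) : ∀ (n : ℕ) (G : Type*) [Group G] [Finite G],
    Group.IsSolvable G → Nat.card G = n →
    ℓ ^ (Nat.card (Sylow p G)).factorization ℓ ≡ 1 [MOD p] := by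
  intro n
  induction n using Nat.strong_induction_on with
  | _ n ih =>
    intro G _ _ hG hn
    rcases subsingleton_or_nontrivial G with hs | hnt
    · have : Nat.card (Sylow p G) = 1 := by
        have : Subsingleton (Sylow p G) := ⟨fun A B => Sylow.ext (Subsingleton.elim _ _)⟩
        exact Nat.card_unique
      rw [this]
      simp [Nat.ModEq]
    · obtain ⟨q, K, hq, hKn, hKne, hKp⟩ := exists_normal_pgroup hG
      obtain ⟨P⟩ : Nonempty (Sylow p G) := inferInstance
      have e1 := Lib.Helper76.card_sylow_eq_quotient_mul p P K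
      set m := Nat.card (Sylow p ((P : Subgroup G) ⊔ K : Subgroup G)) with hm
      have hm1 : m ≡ 1 [MOD p] := card_sylow_modEq_one p _
      have hm2 : m ∣ Nat.card K := by
        rw [hm, Lib.Helper76.card_sylow_subgroup' p P le_sup_left]
        refine dvd_trans (Subgroup.relIndex_dvd_of_le_left _ (Subgroup.le_normalizer (H := (P : Subgroup G)))) ?_
        rw [Lib.Helper76.relIndex_sup_normal]
        exact Subgroup.relIndex_dvd_card _ _
      have : Fact q.Prime := ⟨hq⟩
      obtain ⟨b, hb⟩ := IsPGroup.iff_card.1 hKp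
      rw [hb] at hm2
      obtain ⟨j, -, hj⟩ := (Nat.dvd_prime_pow hq).1 hm2
      have hlt : Nat.card (G ⧸ K) < n := by
        rw [← hn, ← Subgroup.index_eq_card, ← Subgroup.card_mul_index K]
        have h1 : 1 < Nat.card K := by
          rw [Subgroup.one_lt_card_iff_ne_bot]; exact hKne
        have h2 : 0 < K.index := Nat.pos_of_ne_zero Subgroup.index_ne_zero_of_finite
        nlinarith
      have hsolv : Group.IsSolvable (G ⧸ K) := inferInstance
      have ih' := ih _ hlt (G ⧸ K) hsolv rfl
      have hne1 : Nat.card (Sylow p (G ⧸ K)) ≠ 0 := Nat.card_pos.ne'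
      have hne2 : m ≠ 0 := by rw [hj]; exact pow_ne_zero _ hq.ne_zero
      rw [e1, Nat.factorization_mul hne1 hne2, Finsupp.add_apply, pow_add]
      have h3 : ℓ ^ m.factorization ℓ ≡ 1 [MOD p] := by
        rw [hj, hq.factorization_pow, Finsupp.single_apply]
        split_ifs with h
        · rw [← h, ← hj]; exact hm1
        · simp [Nat.ModEq]
      simpa using ih'.mul h3

/-- Let G be a finite solvable group and p, ℓ primes. Then the largest power of ℓ dividing the number of Sylow p-subgroups of G is congruent to 1 modulo p. -/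
theorem result {G : Type*} [Group G] [Finite G]
    (hG : Group.IsSolvable G) (p ℓ : ℕ) [Fact p.Prime] (hℓ : ℓ.Prime) :
    ℓ ^ (Nat.card (Sylow p G)).factorization ℓ ≡ 1 [MOD p] := by
  exact aux p ℓ hℓ _ G hG rfl

end Cfsg.Agent.S4345
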