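import Cfsg.Statements.S3669
-- import your own Cfsg.Agent.* helpers here
import Cfsg.Agent.Lib.Helper47.PSL2Degrees
import Cfsg.Agent.S0253
import Cfsg.Agent.S0494
import Cfsg.Agent.S3378
import Cfsg.Agent.S4345
import Cfsg.Agent.S4493

set_option autoImplicit false
open Cfsg

namespace Cfsg.Agent.S3669

open Cfsg.Agent.Lib.Helper47

theorem pow_eq_one_of {ℓ k : ℕ} (hℓ : ℓ = 2 ∨ ℓ = 3) (h12 : ℓ ^ k ∣ 12) (h5 : ℓ ^ k ≡ 1 [MOD 5]) :
    k = 0 := by
  by_contra hk
  have hle : ℓ ^ k ≤ 12 := Nat.le_of_dvd (by norm_num) h12
  have hk4 : k < 4 := by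
    by_contra hcon
    push Not at hcon
    have h1 : 2 ^ 4 ≤ ℓ ^ k :=
      (Nat.pow_le_pow_right (by norm_num) hcon).trans (Nat.pow_le_pow_left (by omega) k)
    omega
  unfold Nat.ModEq at h5
  rcases hℓ with rfl | rfl <;> interval_cases k <;> simp_all

/-- The character degree graph of a finite group has as vertices the primes dividing some irreducible complex character degree, two distinct primes being joined when their product divides some irreducible character degree; two groups have the same character degree graph when they have the same vertices and the same joined pairs. A finite group of order 60 with the same character degree graph as the alternating group A₅ (whose character degrees are 1, 3, 4, 5, so the graph has vertices 2, 3, 5 and no edges) is isomorphic to A₅. -/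
theorem result {G : Type*} [Group G] [Finite G] (hcard : Nat.card G = 60)
    (hΓ : Cfsg.degreePrimes G = Cfsg.degreePrimes (alternatingGroup (Fin 5)) ∧ Cfsg.degreeGraph G = Cfsg.degreeGraph (alternatingGroup (Fin 5))) : Nonempty (G ≃* alternatingGroup (Fin 5)) := by
  classical
  have : Fact (Nat.Prime 5) := ⟨by norm_num⟩
  -- some degree of `G` is divisible by `5`
  obtain ⟨χ, hχ⟩ : ∃ χ : Cfsg.IrrCharacter G, 5 ∣ Cfsg.charDegree (χ : G → ℂ) := by
    obtain ⟨e⟩ := Cfsg.Agent.S0253.result (F := ZMod 5) (by simp [ZMod.card])
    have h1 : 5 ∈ charDegrees (alternatingGroup (Fin 5)) := by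
      rw [← charDegrees_congr e]
      have := card_mem_cd_PSL2 (F := ZMod 5)
      rwa [ZMod.card] at this
    have h2 : 5 ∈ degreePrimes G := by
      rw [hΓ.1]
      exact ⟨by norm_num, 5, h1, dvd_rfl⟩
    obtain ⟨-, d, ⟨χ, rfl⟩, hd⟩ := h2
    exact ⟨χ, hd⟩
  by_cases hsol : Group.IsSolvable G
  · exfalso
    obtain ⟨P⟩ : Nonempty (Sylow 5 G) := inferInstance
    have hPcard : Nat.card P = 5 := by
      have := Cfsg.Agent.S3378.sylow_card (G := G) 5 1 12 (by rw [hcard]; norm_num) (by norm_num) P
      simpa using this
    have hidx : (P : Subgroup G).index = 12 := by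
      have := (P : Subgroup G).card_mul_index
      rw [hPcard, hcard] at this
      omega
    have hn12 : Nat.card (Sylow 5 G) ∣ 12 := by
      rw [← hidx]; exact P.card_dvd_index
    have hn0 : Nat.card (Sylow 5 G) ≠ 0 := Nat.card_pos.ne'
    have h2 := Cfsg.Agent.S4345.result hsol 5 2 Nat.prime_two
    have h3 := Cfsg.Agent.S4345.result hsol 5 3 Nat.prime_three
    have k2 := pow_eq_one_of (Or.inl rfl) ((Nat.ordProj_dvd _ 2).trans hn12) h2
    have k3 := pow_eq_one_of (Or.inr rfl) ((Nat.ordProj_dvd _ 3).trans hn12) h3
    have d2 : ¬ 2 ∣ Nat.card (Sylow 5 G) := by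
      rcases (Nat.factorization_eq_zero_iff _ _).1 k2 with h | h | h
      · exact absurd Nat.prime_two h
      · exact h
      · exact absurd h hn0
    have d3 : ¬ 3 ∣ Nat.card (Sylow 5 G) := by
      rcases (Nat.factorization_eq_zero_iff _ _).1 k3 with h | h | h
      · exact absurd Nat.prime_three h
      · exact h
      · exact absurd h hn0
    have hn1 : Nat.card (Sylow 5 G) = 1 := by
      have hle := Nat.le_of_dvd (by norm_num) hn12
      generalize Nat.card (Sylow 5 G) = n at *
      interval_cases n <;> omega
    have hss : Subsingleton (Sylow 5 G) := (Nat.card_eq_one_iff_unique.1 hn1).1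
    have hnorm : (P : Subgroup G).Normal := Sylow.normal_of_subsingleton P
    have hcyc : IsCyclic (P : Subgroup G) := isCyclic_of_prime_card hPcard
    have hab : ∀ x ∈ (P : Subgroup G), ∀ y ∈ (P : Subgroup G), x * y = y * x := by
      intro x hx y hy
      let _ : CommGroup (P : Subgroup G) := IsCyclic.commGroup
      have := mul_comm (⟨x, hx⟩ : (P : Subgroup G)) ⟨y, hy⟩
      exact congrArg Subtype.val this
    exact (Cfsg.Agent.S4493.result hsol 5 (by norm_num)).1
      ⟨P, hnorm, hab, P.2, by rw [hidx]; norm_num⟩ χ hχ
  · have hnt : Nontrivial G := by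
      rw [← Finite.one_lt_card_iff_nontrivial, hcard]; norm_num
    have hsimple : IsSimpleGroup G := by
      refine ⟨fun N hN => ?_⟩
      rcases Cfsg.Agent.S3378.normal_dichotomy hsol N hN with h | h
      · right
        apply Subgroup.eq_top_of_le_card
        rw [hcard]; exact h
      · left
        have := N.card_mul_index
        rw [hcard] at this
        have h1 : Nat.card N = 1 := by
          have hpos : 0 < Nat.card N := Nat.card_pos
          nlinarith
        exact Subgroup.card_eq_one.1 h1
    exact Cfsg.Agent.S0494.result hcard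

end Cfsg.Agent.S3669
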