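import Cfsg.Statements.S3703
-- import your own Cfsg.Agent.* helpers here
import Cfsg.Agent.Lib.Helper98.FW.Norm
import Cfsg.Agent.S0042
import Cfsg.Agent.S0038

set_option autoImplicit false
open Cfsg

namespace Cfsg.Agent.S3703

open Subgroup in
/-- ambient Schur--Zassenhaus existence -/
theorem exists_compl {G : Type*} [Group G] [Finite G] (N : Subgroup G) [N.Normal]
    (Fb : Subgroup (G ⧸ N)) (hcop : (Nat.card Fb).Coprime (Nat.card N)) :
    ∃ F₀ : Subgroup G, F₀ ⊓ N = ⊥ ∧ F₀.map (QuotientGroup.mk' N) = Fb := by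
  set Ft := Fb.comap (QuotientGroup.mk' N) with hFt
  have hNF : N ≤ Ft := by
    intro n hn
    rw [hFt, mem_comap, QuotientGroup.mk'_apply, (QuotientGroup.eq_one_iff n).2 hn]
    exact Fb.one_mem
  have hmap : Ft.map (QuotientGroup.mk' N) = Fb :=
    map_comap_eq_self_of_surjective (QuotientGroup.mk'_surjective N) Fb
  have hidx : (N.subgroupOf Ft).index = Nat.card Fb := by
    change N.relIndex Ft = _
    have h1 : N = (⊥ : Subgroup (G ⧸ N)).comap (QuotientGroup.mk' N) := by
      rw [MonoidHom.comap_bot, QuotientGroup.ker_mk']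
    conv_lhs => rw [h1]
    rw [relIndex_comap, hmap, relIndex_bot_left]
  obtain ⟨K, hK⟩ := exists_right_complement'_of_coprime (N := N.subgroupOf Ft) (by
    rw [hidx, Nat.card_congr (subgroupOfEquivOfLe hNF).toEquiv]
    exact hcop.symm)
  refine ⟨K.map Ft.subtype, ?_, ?_⟩
  · rw [eq_bot_iff]
    rintro x ⟨⟨y, hy, rfl⟩, hxN⟩
    have h1 : y ∈ N.subgroupOf Ft ⊓ K := ⟨mem_subgroupOf.2 hxN, hy⟩
    rw [hK.disjoint.eq_bot, mem_bot] at h1
    rw [h1]
    exact (⊥ : Subgroup G).one_mem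
  · apply le_antisymm
    · rw [← hmap]
      exact map_mono (map_subtype_le K)
    · intro f hf
      rw [← hmap] at hf
      obtain ⟨g, hg, rfl⟩ := hf
      have h1 : (⟨g, hg⟩ : Ft) ∈ N.subgroupOf Ft ⊔ K := by
        rw [hK.sup_eq_top]; exact mem_top _
      obtain ⟨a, ha, b, hb, hab⟩ := mem_sup_of_normal_left.1 h1
      refine ⟨b, ⟨b, hb, rfl⟩, ?_⟩
      have h2 : g = (a : G) * b := by
        have := congrArg Subtype.val hab
        exact this.symm
      rw [h2, map_mul, QuotientGroup.mk'_apply, QuotientGroup.mk'_apply,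
        (QuotientGroup.eq_one_iff (a : G)).2 (mem_subgroupOf.1 ha), one_mul]

/-- Let N be a normal subgroup of the finite group G such that G/N is a Frobenius group with kernel F and cyclic complement H, where the order of F is coprime to that of N and F is not contained in the image of C_G(N) in G/N. Then G has an element of order p·#H for some prime p dividing the order of N. (A standard tool in recognising groups by their element orders.) -/
theorem result {G : Type*} [Group G] [Finite G] (N : Subgroup G) [N.Normal]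
    (Fb Hb : Subgroup (G ⧸ N)) [Fb.Normal] (hHb : Cfsg.IsFrobeniusComplement Hb) (hker : Cfsg.frobeniusKernel Hb = (Fb : Set (G ⧸ N)))
    (hcyc : IsCyclic Hb) (hcop : (Nat.card Fb).Coprime (Nat.card N))
    (hnot : ¬ Fb ≤ (Subgroup.centralizer (N : Set G)).map (QuotientGroup.mk' N)) :
    ∃ p : ℕ, p.Prime ∧ p ∣ Nat.card N ∧ ∃ g : G, orderOf g = p * Nat.card Hb := by
  classical
  by_contra hgoal
  push Not at hgoal
  set π := QuotientGroup.mk' N with hπ
  have hπN : ∀ g : G, π g = 1 ↔ g ∈ N := fun g => QuotientGroup.eq_one_iff g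
  set n := Nat.card Hb with hn
  have hn0 : n ≠ 0 := Nat.card_pos.ne'
  -- (A) elements over an element of order `n` have order `n`
  have hA : ∀ g : G, orderOf (π g) = n → g ^ n = 1 := by
    intro g hg
    by_contra hne
    have hgN : g ^ n ∈ N := by
      rw [← hπN, map_pow, ← hg, pow_orderOf_eq_one]
    have hdvd : n ∣ orderOf g := hg ▸ orderOf_map_dvd π g
    have hm : orderOf (g ^ n) = orderOf g / n := orderOf_pow_of_dvd hn0 hdvd
    have hm1 : orderOf (g ^ n) ≠ 1 := by
      rw [Ne, orderOf_eq_one_iff]; exact hne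
    obtain ⟨p, hp, hpd⟩ := Nat.exists_prime_and_dvd hm1
    have hpN : p ∣ Nat.card N := by
      have h1 : orderOf (⟨g ^ n, hgN⟩ : N) ∣ Nat.card N := orderOf_dvd_natCard _
      rw [← Subgroup.orderOf_coe] at h1
      exact hpd.trans h1
    obtain ⟨m', hm'⟩ := hpd
    have hog : orderOf g = n * (p * m') := by
      rw [← hm', hm, Nat.mul_div_cancel' hdvd]
    have hm'0 : m' ≠ 0 := by
      intro h
      rw [h, mul_zero, mul_zero] at hog
      exact (orderOf_pos g).ne' hog
    apply hgoal p hp hpN (g ^ m')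
    rw [orderOf_pow_of_dvd hm'0 (by rw [hog]; exact ⟨n * p, by ring⟩), hog]
    apply Nat.div_eq_of_eq_mul_left (Nat.pos_of_ne_zero hm'0)
    ring
  -- the complement of `N` in the preimage of the kernel
  obtain ⟨F₀, hF₀N, hF₀map⟩ := exists_compl N Fb hcop
  have hcard : Nat.card F₀ = Nat.card Fb := by
    rw [← hF₀map]
    exact (Cfsg.Agent.Lib.Helper30.card_map_of_inf_ker_eq_bot π F₀
      (by rw [hπ, QuotientGroup.ker_mk', inf_comm]; exact hF₀N)).symm
  have hcop' : (Nat.card F₀).Coprime (Nat.card N) := hcard ▸ hcop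
  have hFbnil : Group.IsNilpotent Fb := by
    obtain ⟨K, hK, _, hKn⟩ := Cfsg.Agent.S0042.result Hb hHb
    have : K = Fb := SetLike.coe_injective (hK.trans hker)
    rwa [← this]
  have hF₀solv : Group.IsSolvable F₀ := by
    have hFs : Group.IsSolvable Fb := inferInstance
    let f : F₀ →* Fb := (π.domRestrict F₀).codRestrict Fb (by
      intro u
      rw [← hF₀map]
      exact ⟨u, u.2, rfl⟩)
    apply Group.isSolvable_of_isSolvable_injective (f := f)
    rw [injective_iff_map_eq_one]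
    intro u hu
    have h1 : π (u : G) = 1 := congrArg Subtype.val hu
    have h2 : (u : G) ∈ F₀ ⊓ N := ⟨u.2, (hπN _).1 h1⟩
    rw [hF₀N, Subgroup.mem_bot] at h2
    exact Subtype.ext h2
  have hF₀nN : F₀ ≤ Subgroup.normalizer (N : Set G) := by
    rw [Subgroup.normalizer_eq_top]; exact le_top
  -- Frattini
  have hfrat : ∀ g : G, ∃ m ∈ N, m⁻¹ * g ∈ Subgroup.normalizer (F₀ : Set G) := by
    intro g
    obtain ⟨m, hm, hmg⟩ := Cfsg.Agent.Lib.Helper30.sz_conj_normal N F₀
      (Cfsg.Agent.Lib.Helper30.cj g F₀) (Or.inr hF₀solv) hcop'.symm (by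
        intro y hy
        rw [Cfsg.Agent.Lib.Helper30.mem_cj] at hy
        -- `π y ∈ Fb`
        have h1 : π (g⁻¹ * y * g) ∈ Fb := by
          rw [← hF₀map]; exact ⟨_, hy, rfl⟩
        have h2 : π y ∈ Fb := by
          have h3 := (inferInstance : Fb.Normal).conj_mem _ h1 (π g)
          have h4 : π g * π (g⁻¹ * y * g) * (π g)⁻¹ = π y := by
            rw [← map_inv, ← map_mul, ← map_mul]
            congr 1
            group
          rwa [h4] at h3
        rw [← hF₀map] at h2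
        obtain ⟨u, hu, huy⟩ := h2
        have h5 : y * u⁻¹ ∈ N := by
          rw [← hπN, map_mul, map_inv, huy, mul_inv_cancel]
        have h6 : y = (y * u⁻¹) * u := by group
        rw [h6]
        exact Subgroup.mul_mem_sup h5 hu)
      (Cfsg.Agent.Lib.Helper30.card_cj g F₀)
    refine ⟨m, hm, ?_⟩
    apply Cfsg.Agent.Lib.Helper30.mem_normalizer_of_cj_eq
    rw [Cfsg.Agent.Lib.Helper30.cj_mul, hmg, Cfsg.Agent.Lib.Helper30.cj_inv_cj]
  -- a Sylow subgroup of `N` on which `F₀` acts nontrivially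
  obtain ⟨p, hp, P, hP, hPF, hPnc⟩ : ∃ p : ℕ, p.Prime ∧ ∃ P : Subgroup G,
      Cfsg.Agent.Lib.Helper30.IsSylowIn p P N ∧ F₀ ≤ Subgroup.normalizer (P : Set G) ∧
      ¬ F₀ ≤ Subgroup.centralizer (P : Set G) := by
    by_contra hcon
    push Not at hcon
    apply hnot
    have h1 : (N ⊓ Subgroup.centralizer (F₀ : Set G)).relIndex N = 1 := by
      rw [Nat.eq_one_iff_not_exists_prime_dvd]
      intro p hp hpd
      have := Fact.mk hp
      obtain ⟨P, hP, hPF⟩ := Cfsg.Agent.Lib.Helper30.exists_invariant_isSylowIn hF₀nN hcop'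
        (Or.inl hF₀solv) p
      have h2 := hcon p hp P hP hPF
      have h3 : P ≤ N ⊓ Subgroup.centralizer (F₀ : Set G) :=
        le_inf hP.le (Subgroup.le_centralizer_iff.1 h2)
      exact hP.not_dvd (hpd.trans (Subgroup.relIndex_dvd_of_le_left N h3))
    rw [Subgroup.relIndex_eq_one] at h1
    have h4 : F₀ ≤ Subgroup.centralizer (N : Set G) :=
      Subgroup.le_centralizer_iff.1 (h1.trans inf_le_right)
    rw [← hF₀map]
    exact Subgroup.map_mono h4
  have := Fact.mk hp
  -- the generator of the complement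
  obtain ⟨c, hc⟩ := hcyc.exists_generator
  have hcn : orderOf (c : G ⧸ N) = n := by
    rw [Subgroup.orderOf_coe, orderOf_eq_card_of_forall_mem_zpowers hc]
  obtain ⟨g₀, hg₀⟩ := QuotientGroup.mk'_surjective N (c : G ⧸ N)
  obtain ⟨m, hm, hx₁⟩ := hfrat g₀
  set x₁ := m⁻¹ * g₀ with hx₁def
  have hπx₁ : π x₁ = c := by
    rw [hx₁def, map_mul, map_inv, (hπN m).2 hm, inv_one, one_mul]
    exact hg₀
  have hQ : Cfsg.Agent.Lib.Helper30.IsSylowIn p (Cfsg.Agent.Lib.Helper30.cj x₁ P) N := by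
    have := hP.cj x₁
    rwa [Cfsg.Agent.Lib.Helper30.cj_normal x₁ N] at this
  have hQF : F₀ ≤ Subgroup.normalizer ((Cfsg.Agent.Lib.Helper30.cj x₁ P : Subgroup G) : Set G) := by
    intro a ha
    apply Cfsg.Agent.Lib.Helper30.mem_normalizer_of_cj_eq
    have h1 : x₁⁻¹ * a * x₁ ∈ F₀ := by
      have := (Subgroup.mem_normalizer_iff.1 (Subgroup.inv_mem _ hx₁) a).1 ha
      rwa [inv_inv] at this
    have h2 : a * x₁ = x₁ * (x₁⁻¹ * a * x₁) := by group
    rw [← Cfsg.Agent.Lib.Helper30.cj_mul, h2, Cfsg.Agent.Lib.Helper30.cj_mul,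
      Cfsg.Agent.Lib.Helper30.cj_eq_of_mem_normalizer (hPF h1)]
  obtain ⟨d, hd, hdP⟩ := Cfsg.Agent.Lib.Helper30.invariant_isSylowIn_conj hF₀nN hcop'
    (Or.inl hF₀solv) p hP hQ hPF hQF
  set x := d⁻¹ * x₁ with hxdef
  have hπx : π x = c := by
    rw [hxdef, map_mul, map_inv, (hπN d).2 hd.1, inv_one, one_mul, hπx₁]
  have hxP : x ∈ Subgroup.normalizer (P : Set G) := by
    apply Cfsg.Agent.Lib.Helper30.mem_normalizer_of_cj_eq
    rw [hxdef, Cfsg.Agent.Lib.Helper30.cj_mul, hdP, Cfsg.Agent.Lib.Helper30.cj_inv_cj]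
  have hxF : x ∈ Subgroup.normalizer (F₀ : Set G) := by
    apply Subgroup.mul_mem _ _ hx₁
    apply Subgroup.inv_mem
    exact Subgroup.centralizer_le_normalizer _ hd.2
  have hxn : x ^ n = 1 := hA x (by rw [hπx, hcn])
  have hox : orderOf x = n := by
    apply Nat.dvd_antisymm (orderOf_dvd_of_pow_eq_one hxn)
    rw [← hcn, ← hπx]
    exact orderOf_map_dvd π x
  have hfpf : ∀ e ∈ Subgroup.zpowers x, e ≠ 1 → ∀ u ∈ F₀, e * u = u * e → u = 1 := by
    intro e he he1 u hu heu
    obtain ⟨k, rfl⟩ := Subgroup.mem_zpowers_iff.1 he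
    have h1 : π (x ^ k) ∈ Hb := by
      rw [map_zpow, hπx]
      exact Hb.zpow_mem c.2 k
    have h2 : π (x ^ k) ≠ 1 := by
      intro h
      apply he1
      rw [map_zpow, hπx, ← orderOf_dvd_iff_zpow_eq_one, hcn, ← hox] at h
      exact orderOf_dvd_iff_zpow_eq_one.1 h
    have h3 := Cfsg.Agent.S0038.frob_fpf hHb hker.symm (π (x ^ k)) h1 h2
    have h4 : π u ∈ Fb ⊓ Subgroup.centralizer {π (x ^ k)} := by
      refine ⟨by rw [← hF₀map]; exact ⟨u, hu, rfl⟩, ?_⟩
      change π u ∈ Subgroup.centralizer {π (x ^ k)}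
      rw [Subgroup.mem_centralizer_singleton_iff, ← map_mul, ← map_mul, heu]
    rw [h3, Subgroup.mem_bot] at h4
    have h5 : u ∈ F₀ ⊓ N := ⟨hu, (hπN u).1 h4⟩
    rw [hF₀N, Subgroup.mem_bot] at h5
    exact h5
  have hx1 : x ≠ 1 := by
    intro h
    rw [h, orderOf_one] at hox
    exact hHb.1 (Subgroup.card_eq_one.mp hox.symm)
  have hnil : Group.IsNilpotent F₀ :=
    Cfsg.Agent.Lib.Helper98.FW.isNilpotent_of_fpf F₀ (Subgroup.zpowers x)
      (by rw [Ne, Subgroup.zpowers_eq_bot]; exact hx1)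
      (by rw [Subgroup.zpowers_le]; exact hxF) hfpf
  have hPsolv : Group.IsSolvable P := by
    have : Group.IsNilpotent P := hP.isPGroup.isNilpotent
    infer_instance
  obtain ⟨h, hh, hne⟩ := Cfsg.Agent.Lib.Helper98.FW.exists_mul_pow_ne_one F₀ P x hxF hnil hfpf hPF
    hxP hPsolv (Nat.Coprime.coprime_dvd_left (Subgroup.card_dvd_of_le hP.le) hcop'.symm) hPnc
  apply hne
  rw [hox]
  apply hA
  rw [map_mul, (hπN h).2 (hP.le hh), one_mul, hπx, hcn]

end Cfsg.Agent.S3703
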