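import Cfsg.Statements.S3740
import Cfsg.Agent.Lib.Helper7.SL2PAct2
import Cfsg.Agent.Lib.Helper71.SL23
import Cfsg.Agent.Lib.Helper59.TwoGroupRecog
import Cfsg.Agent.Lib.Helper6.SLEquiv
-- import your own Cfsg.Agent.* helpers here

set_option autoImplicit false
open Cfsg

namespace Cfsg.Agent.S3740

open Matrix MatrixGroups Subgroup Cfsg.Agent.Lib.Helper46 Cfsg.Agent.Lib.Helper18.SL2
open Cfsg.Agent.Lib.Helper7 Cfsg.Agent.Lib.Helper7.PMax Cfsg.Agent.Lib.Helper71

def L3 : SpecialLinearGroup (Fin 2) (ZMod 3) := ⟨!![1, 0; 1, 1], by decide⟩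
def L3' : SpecialLinearGroup (Fin 2) (ZMod 3) := ⟨!![1, 0; -1, 1], by decide⟩

set_option maxRecDepth 100000 in
theorem comm_rel : I3 = W3 * L3 * W3⁻¹ * L3⁻¹ ∧ J3 = W3 * L3' * W3⁻¹ * L3'⁻¹ := by
  decide +kernel

variable {F : Type*} [Field F] [Fintype F]

/-- a `p`-element of `SL₂(q)` is a transvection -/
theorem pelement (p : ℕ) [Fact p.Prime] [CharP F p] (a : SpecialLinearGroup (Fin 2) F)
    (ha : IsPGroup p ↥(Subgroup.zpowers a)) : tr a = 2 ∧ a ^ p = 1 := by
  obtain ⟨P, hP⟩ := ha.exists_le_sylow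
  obtain ⟨PU, hPU⟩ := exists_sylow_eq_USL (F := F) p
  obtain ⟨g, hg⟩ := MulAction.exists_smul_eq (SpecialLinearGroup (Fin 2) F) P PU
  have h1 : g * a * g⁻¹ ∈ USL F := by
    rw [← hPU, ← hg, Sylow.coe_subgroup_smul]
    have := Subgroup.smul_mem_pointwise_smul a (MulAut.conj g) (P : Subgroup _)
      (hP (Subgroup.mem_zpowers a))
    simpa [MulAut.smul_def] using this
  obtain ⟨b, hb⟩ := mem_USL.1 h1
  have hb' : g * a * g⁻¹ = uu b := by rw [← hb]; rfl
  constructor
  · rw [← tr_conj g a, hb', Cfsg.Agent.Lib.Helper7.tr_uu]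
  · have h2 : (g * a * g⁻¹) ^ p = 1 := by rw [hb', uu_pow_char]
    rw [conj_pow] at h2
    have := congrArg (fun w => g⁻¹ * w * g) h2
    simpa [mul_assoc] using this

theorem mem_sup_center {R : Subgroup (SpecialLinearGroup (Fin 2) F)}
    {n : SpecialLinearGroup (Fin 2) F}
    (hn : n ∈ R ⊔ center (SpecialLinearGroup (Fin 2) F)) :
    ∃ r ∈ R, ∃ z ∈ center (SpecialLinearGroup (Fin 2) F), n = r * z := by
  rw [← SetLike.mem_coe, Subgroup.mul_normal] at hn
  obtain ⟨r, hr, z, hz, rfl⟩ := hn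
  exact ⟨r, hr, z, hz, rfl⟩

theorem pact_of (p : ℕ) [Fact p.Prime] [CharP F p] (hp : p ≠ 2) (h2 : (2 : F) ≠ 0)
    (a : SpecialLinearGroup (Fin 2) F)
    (ha : IsPGroup p ↥(Subgroup.zpowers a)) (R : Subgroup (SpecialLinearGroup (Fin 2) F))
    (hR : (Nat.card R).Coprime p)
    (haR : a ∈ Subgroup.normalizer (R : Set (SpecialLinearGroup (Fin 2) F))) (hne : a ≠ 1) :
    PAct p (R ⊔ center (SpecialLinearGroup (Fin 2) F)) a := by
  have hpp : p.Prime := Fact.out
  obtain ⟨k, hk⟩ := hpp.odd_of_ne_two hp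
  obtain ⟨htr, hpow⟩ := pelement p a ha
  have hodd : ∀ z : SpecialLinearGroup (Fin 2) F, z * z = 1 → z ^ p = z := by
    intro z hz
    rw [hk, pow_succ, pow_mul, pow_two, hz, one_pow, one_mul]
  refine ⟨le_sup_right, ?_, ?_, hpow, htr, hne⟩
  · intro i n hn
    obtain ⟨r, hr, z, hz, rfl⟩ := mem_sup_center hn
    have h1 : a ^ i * r * (a ^ i)⁻¹ ∈ R :=
      (mem_normalizer_iff.1 (Subgroup.zpow_mem _ haR i) r).1 hr
    have e : a ^ i * (r * z) * (a ^ i)⁻¹ = (a ^ i * r * (a ^ i)⁻¹) * z := by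
      have hzc : z * (a ^ i)⁻¹ = (a ^ i)⁻¹ * z := (mem_center_iff.1 hz (a ^ i)⁻¹).symm
      calc a ^ i * (r * z) * (a ^ i)⁻¹ = a ^ i * r * (z * (a ^ i)⁻¹) := by group
        _ = (a ^ i * r * (a ^ i)⁻¹) * z := by rw [hzc]; group
    rw [e]
    exact mul_mem (le_sup_left (a := R) h1) (le_sup_right (a := R) hz)
  · intro u hu hup
    obtain ⟨r, hr, z, hz, rfl⟩ := mem_sup_center hu
    have hzz := sq_eq_one_of_mem_center z hz
    have hcomm : Commute r z := mem_center_iff.1 hz r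
    rw [hcomm.mul_pow, hodd z hzz] at hup
    have hrp : r ^ p = z⁻¹ := eq_inv_of_mul_eq_one_left hup
    have hr2p : r ^ (p * 2) = 1 := by
      rw [pow_mul, hrp, pow_two, ← _root_.mul_inv_rev, hzz, inv_one]
    have ho1 : orderOf r ∣ p * 2 := orderOf_dvd_of_pow_eq_one hr2p
    have ho2 : orderOf r ∣ Nat.card R := Subgroup.orderOf_dvd_natCard R hr
    have hcop : Nat.Coprime (orderOf r) p := Nat.Coprime.coprime_dvd_left ho2 hR
    have ho3 : orderOf r ∣ 2 := hcop.dvd_of_dvd_mul_left ho1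
    have hrr : r * r = 1 := by
      rw [← pow_two]; exact orderOf_dvd_iff_pow_eq_one.1 ho3
    have hrc := mem_center_of_sq_eq_one h2 r hrr
    rw [hodd r hrr] at hup
    exact hup


/-- Let F be a finite field of odd characteristic p and let a be a p-element of SL₂(F) normalizing a subgroup R of order prime to p with [R, a] ≠ 1. Then p = 3, R is a quaternion group of order 8, and R⟨a⟩ is isomorphic to SL₂(3). -/
theorem result (F : Type) [Field F] [Fintype F] {p : ℕ} [Fact p.Prime] [CharP F p] (hp : p ≠ 2) (a : Matrix.SpecialLinearGroup (Fin 2) F) (ha : IsPGroup p ↥(Subgroup.zpowers a)) (R : Subgroup (Matrix.SpecialLinearGroup (Fin 2) F)) (hR : (Nat.card R).Coprime p) (haR : a ∈ Subgroup.normalizer (R : Set (Matrix.SpecialLinearGroup (Fin 2) F))) (hnt : ⁅R, Subgroup.zpowers a⁆ ≠ ⊥) : p = 3 ∧ Nonempty (↥R ≃* QuaternionGroup 2) ∧ Nonempty (↥(R ⊔ Subgroup.zpowers a) ≃* Matrix.SpecialLinearGroup (Fin 2) (ZMod 3)) := by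
  classical
  have hpp : p.Prime := Fact.out
  have h2 : (2 : F) ≠ 0 := by
    intro h
    have h' : ((2 : ℕ) : F) = 0 := by exact_mod_cast h
    rw [CharP.cast_eq_zero_iff F p] at h'
    exact hp ((Nat.prime_dvd_prime_iff_eq hpp Nat.prime_two).1 h')
  have hne : a ≠ 1 := by
    rintro rfl
    apply hnt
    rw [Subgroup.zpowers_one_eq_bot, Subgroup.commutator_bot_right]
  have hP := pact_of p hp h2 a ha R hR haR hne
  set N := R ⊔ center (SpecialLinearGroup (Fin 2) F) with hN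
  set G := PG N a hP.norm with hG
  -- some element of `R` does not commute with `a`
  obtain ⟨r₀, hr₀, hr₀a⟩ : ∃ r ∈ R, r * a ≠ a * r := by
    by_contra hcon
    push Not at hcon
    apply hnt
    rw [Subgroup.commutator_eq_bot_iff_le_centralizer]
    intro r hr
    rw [Subgroup.mem_centralizer_iff]
    rintro _ ⟨k, rfl⟩
    have : Commute (a ^ k) r := Commute.zpow_left (hcon r hr).symm k
    exact this.eq
  have hRN : R ≤ N := le_sup_left
  have hZG : center (SpecialLinearGroup (Fin 2) F) ≤ G := hP.hZ.trans hP.le_PG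
  obtain ⟨K, D, hIn⟩ : ∃ (K : Subfield F) (D : GL (Fin 2) F), InSub K D G := by
    rcases dickson_unip p G hZG hP.a_mem hP.a_not_center hP.tra with h | h | ⟨-, h⟩ | h
    · exact absurd (hP.bor h r₀ (hRN hr₀)) hr₀a
    · exact absurd h (hP.not_tor (hpp.odd_of_ne_two hp))
    · rcases h a hP.a_mem hP.a_not_center with h | h | h
      · exact absurd h (hP.not_CD (by norm_num))
      · exact absurd h (hP.not_CD (by norm_num))
      · exact absurd h (hP.not_CD (by norm_num))
    · exact h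
  obtain ⟨hK3, hGr⟩ := hP.insub h2 hIn
  have := Fintype.ofFinite K
  have hK3' : Fintype.card K = 3 := by rw [← Nat.card_eq_fintype_card]; exact hK3
  have hp3 : p = 3 := by
    have h1 : ((Fintype.card K : ℕ) : K) = 0 := Nat.cast_card_eq_zero K
    rw [hK3'] at h1
    have h3 : ((3 : ℕ) : F) = 0 := by
      have h4 : (((3 : ℕ) : K) : F) = ((0 : K) : F) := congrArg Subtype.val h1
      rw [ZeroMemClass.coe_zero] at h4
      rw [← h4]
      exact (map_natCast K.subtype 3).symm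
    rw [CharP.cast_eq_zero_iff F p] at h3
    exact (Nat.prime_dvd_prime_iff_eq hpp Nat.prime_three).1 h3
  subst hp3
  let e : ZMod 3 ≃+* K := ZMod.ringEquivOfPrime K Nat.prime_three hK3'
  let θ : SpecialLinearGroup (Fin 2) (ZMod 3) →* SpecialLinearGroup (Fin 2) F :=
    (embK K D).comp (Cfsg.Agent.Lib.Helper6.slEquiv e).toMonoidHom
  have hθinj : Function.Injective θ :=
    (embK_injective K D).comp (Cfsg.Agent.Lib.Helper6.slEquiv e).injective
  have hθr : θ.range = G := by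
    rw [hG, hGr]
    apply le_antisymm
    · rintro _ ⟨s, rfl⟩
      exact ⟨_, rfl⟩
    · rintro _ ⟨s, rfl⟩
      exact ⟨(Cfsg.Agent.Lib.Helper6.slEquiv e).symm s, by simp [θ]⟩
  have hθG : ∀ s, θ s ∈ G := fun s => hθr ▸ ⟨s, rfl⟩
  have hcG : Nat.card G = 24 := by
    rw [← hθr, ← Nat.card_congr (MonoidHom.ofInjective hθinj).toEquiv, Nat.card_eq_fintype_card,
      card_sl23]
  obtain ⟨r1, r2, r3, r4, r5, -, -, -, -⟩ := sl23_rel
  obtain ⟨c1, c2⟩ := comm_rel
  have hiN : θ I3 ∈ N := by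
    rw [c1, map_mul, map_mul, map_mul, map_inv, map_inv]
    exact hP.comm_mem (hθG _) (hθG _)
  have hjN : θ J3 ∈ N := by
    rw [c2, map_mul, map_mul, map_mul, map_inv, map_inv]
    exact hP.comm_mem (hθG _) (hθG _)
  haveI : Fact (Nat.Prime 2) := ⟨Nat.prime_two⟩
  have hI : orderOf I3 = 4 := by
    have := orderOf_eq_prime_pow r1 r2
    simpa using this
  have hoi : orderOf (θ I3) = 4 := by rw [orderOf_injective θ hθinj, hI]
  have hjz : θ J3 ∉ Subgroup.zpowers (θ I3) := by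
    rintro ⟨k, hk⟩
    apply r5
    apply hθinj
    rw [map_mul, map_mul, ← hk]
    have : Commute (θ I3) (θ I3 ^ k) := (Commute.refl _).zpow_right k
    exact this.eq
  -- the order of `N`
  have hcN : Nat.card N = 8 := by
    have h1 : Nat.card N ∣ 24 := hcG ▸ Subgroup.card_dvd_of_le hP.le_PG
    have h3 : ¬ 3 ∣ Nat.card N := by
      intro h3
      obtain ⟨u, hu⟩ := exists_prime_orderOf_dvd_card' 3 h3
      have h4 : (u : SpecialLinearGroup (Fin 2) F) ^ 3 = 1 := by
        have := pow_orderOf_eq_one u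
        rw [hu] at this
        exact congrArg Subtype.val this
      have h5 := hP.tors _ u.2 h4
      have h6 : u = 1 := Subtype.ext h5
      rw [h6, orderOf_one] at hu
      omega
    have h4 : 4 ∣ Nat.card N := hoi ▸ Subgroup.orderOf_dvd_natCard N hiN
    have h5 : Nat.card N ≠ 4 := by
      intro h5
      apply hjz
      have h6 : Subgroup.zpowers (θ I3) = N := by
        apply Subgroup.eq_of_le_of_card_ge (Subgroup.zpowers_le.2 hiN)
        rw [Nat.card_zpowers, hoi, h5]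
      rw [h6]; exact hjN
    have hle : Nat.card N ≤ 24 := Nat.le_of_dvd (by norm_num) h1
    generalize Nat.card N = m at *
    interval_cases m <;> omega
  -- `-1 ∈ R`
  have hr₀c : r₀ ∉ center (SpecialLinearGroup (Fin 2) F) := by
    intro h
    exact hr₀a (mem_center_iff.1 h a).symm
  have hneg : (negOne : SpecialLinearGroup (Fin 2) F) ∈ R := by
    have h8 : r₀ ^ 8 = 1 :=
      orderOf_dvd_iff_pow_eq_one.1 (hcN ▸ Subgroup.orderOf_dvd_natCard N (hRN hr₀))
    have key : ∀ s : SpecialLinearGroup (Fin 2) F, s * s = 1 → s = 1 ∨ s = negOne := fun s hs =>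
      Cfsg.Agent.Lib.Helper46.eq_one_or_negOne_of_mem_center s (mem_center_of_sq_eq_one h2 s hs)
    rcases key (r₀ ^ 4) (by rw [← pow_add]; exact h8) with h4 | h4
    · rcases key (r₀ ^ 2) (by rw [← pow_add]; exact h4) with h5 | h5
      · exact absurd (mem_center_of_sq_eq_one h2 r₀ (by rw [← pow_two]; exact h5)) hr₀c
      · rw [← h5]; exact R.pow_mem hr₀ 2
    · rw [← h4]; exact R.pow_mem hr₀ 4
  have hNR : N = R := by
    apply sup_eq_left.2
    intro z hz
    rcases Cfsg.Agent.Lib.Helper46.eq_one_or_negOne_of_mem_center z hz with rfl | rfl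
    · exact R.one_mem
    · exact hneg
  have hsup : R ⊔ Subgroup.zpowers a = G := by
    apply le_antisymm
    · exact sup_le (hRN.trans hP.le_PG) (Subgroup.zpowers_le.2 hP.a_mem)
    · rintro _ ⟨n, hn, i, rfl⟩
      have hn' : n ∈ R := hNR ▸ hn
      exact mul_mem (le_sup_left (a := R) hn')
        (le_sup_right (a := R) (Subgroup.zpow_mem _ (Subgroup.mem_zpowers a) i))
  have hiR : θ I3 ∈ R := hNR ▸ hiN
  have hjR : θ J3 ∈ R := hNR ▸ hjN
  refine ⟨rfl, ?_, ?_⟩
  · apply Cfsg.Agent.Lib.Helper59.quaternion_recog 2 (by norm_num) (⟨θ I3, hiR⟩ : R) ⟨θ J3, hjR⟩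
    · rw [Subgroup.orderOf_mk, hoi]
    · apply Subtype.ext
      show θ J3 * θ J3 = (θ I3) ^ 2
      rw [← map_mul, r3, map_pow]
    · apply Subtype.ext
      show θ J3 * θ I3 * (θ J3)⁻¹ = (θ I3)⁻¹
      rw [← map_inv, ← map_mul, ← map_mul, r4, map_inv]
    · rintro ⟨k, hk⟩
      apply hjz
      refine ⟨k, ?_⟩
      have := congrArg Subtype.val hk
      simpa using this
    · rw [← hNR, hcN]
  · exact ⟨(MulEquiv.subgroupCongr (hsup.trans hθr.symm)).trans
      (MonoidHom.ofInjective hθinj).symm⟩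

end Cfsg.Agent.S3740
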