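import Cfsg.Statements.S3770
import Cfsg.Agent.Lib.Helper79.HAutV
import Cfsg.Agent.Lib.Helper79.HAmb
import Cfsg.Agent.Lib.Helper79.HFrob
import Cfsg.Agent.Lib.Helper79.HFixLine
import Cfsg.Agent.Lib.Helper75.FrobTheory
import Cfsg.Agent.S0042

set_option autoImplicit false
open Cfsg

namespace Cfsg.Agent.S3770

/-- Let G and V be subgroups of a finite group with G a Frobenius group with complement R of prime order and kernel K, G normalizing V, and V an elementary abelian ℓ-group for a prime ℓ not dividing the order of G. If C_V(R) has order ℓ, then the derived subgroup of K centralizes V. -/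
theorem result {X : Type*} [Group X] [Finite X] (G : Subgroup X) (V : Subgroup X) {ℓ : ℕ} (hℓ : ℓ.Prime) (hV : Cfsg.IsElementaryAbelian ℓ V) (hℓG : ¬ ℓ ∣ Nat.card G) (hGV : G ≤ Subgroup.normalizer (V : Set X)) (R : Subgroup ↥G) (hR : Cfsg.IsFrobeniusComplement R) (hRp : (Nat.card R).Prime) (hCV : Nat.card ↥(V ⊓ Subgroup.centralizer ((R.map G.subtype : Subgroup X) : Set X)) = ℓ) : ⁅Subgroup.closure (Subtype.val '' Cfsg.frobeniusKernel R), Subgroup.closure (Subtype.val '' Cfsg.frobeniusKernel R)⁆ ≤ Subgroup.centralizer (V : Set X) := by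
  classical
  open Cfsg.Agent.Lib.Helper79.HW in
  obtain ⟨K₀, hK₀, hK₀n, -, -, -, hfpf⟩ := Cfsg.Agent.Lib.Helper75.frobenius_kernel_data R hR
  obtain ⟨N, hN, -, hNnil⟩ := Cfsg.Agent.S0042.result R hR
  have hNK : N = K₀ := SetLike.coe_injective (hN.trans hK₀.symm)
  rw [hNK] at hNnil
  have hcl : Subgroup.closure (Subtype.val '' Cfsg.frobeniusKernel R) = K₀.map G.subtype := by
    rw [← hK₀]
    have : (Subtype.val '' (K₀ : Set G)) = ((K₀.map G.subtype : Subgroup X) : Set X) := by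
      rw [Subgroup.coe_map]; rfl
    rw [this, Subgroup.closure_eq]
  rw [hcl]
  set r := Nat.card R with hr
  haveI : Fact r.Prime := ⟨hRp⟩
  haveI : Fact ℓ.Prime := ⟨hℓ⟩
  haveI : Nontrivial R := by
    rw [← Finite.one_lt_card_iff_nontrivial]; exact hRp.one_lt
  obtain ⟨⟨a, haR⟩, ha1⟩ := exists_ne (1 : R)
  have ha1' : a ≠ 1 := fun h => ha1 (Subtype.ext h)
  have har : a ^ r = 1 := by
    have := pow_card_eq_one' (G := R) (x := ⟨a, haR⟩)
    exact congrArg Subtype.val this
  have hgen : ∀ x ∈ R, x ∈ Subgroup.zpowers a := by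
    intro x hx
    have := mem_zpowers_of_prime_card (G := R) hr.symm (g := ⟨a, haR⟩) (g' := ⟨x, hx⟩) ha1
    obtain ⟨k, hk⟩ := this
    exact ⟨k, by simpa using congrArg Subtype.val hk⟩
  have hcommV : ∀ u v : V, u * v = v * u := fun u v => hV.1.is_comm.comm u v
  have hexpV : ∀ u : V, u ^ ℓ = 1 := fun u => Subtype.ext (by simpa using hV.2 u u.2)
  have haV : (a : X) ∈ Subgroup.normalizer (V : Set X) := hGV a.2
  have hK' := conj_mem_iff a K₀ (fun x hx => hK₀n.conj_mem x hx a)
  set σ := conjOn a K₀ hK' with hσ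
  have hσr : σ ^ r = 1 := by
    ext1 x
    apply Subtype.ext
    rw [conjOn_pow_apply, har]; simp
  have hσfpf : ∀ g, σ g = g → g = 1 := by
    intro g hg
    have h1 := congrArg Subtype.val hg
    rw [conjOn_apply] at h1
    have h2 : a * (g : G) = g * a := by
      calc a * (g : G) = (a * g * a⁻¹) * a := by group
        _ = g * a := by rw [h1]
    exact Subtype.ext (hfpf a haR ha1' g g.2 h2)
  let K := AlgebraicClosure (ZMod ℓ)
  let R' := homRep K (MonoidHom.id (MulAut V))
  let ψ : K₀ →* MulAut V := V.normalizerMonoidHom.comp ((Subgroup.inclusion hGV).comp K₀.subtype)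
  have hψ : ∀ k : K₀, ψ k = act V ((k : G) : X) (hGV (k : G).2) := fun k => rfl
  set t := act V (a : X) haV with ht
  have htr : t ^ r = 1 := by
    rw [ht, ← act_pow, act_eq_one_iff]
    have : (a : X) ^ r = 1 := by
      have := congrArg Subtype.val har
      simpa using this
    rw [this]; exact one_mem _
  have hcardK : (Nat.card K₀ : K) ≠ 0 := by
    intro h0
    rw [CharP.cast_eq_zero_iff K ℓ] at h0
    exact hℓG (h0.trans (Subgroup.card_subgroup_dvd_card K₀))
  have hrK : (r : K) ≠ 0 := by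
    intro h0
    rw [CharP.cast_eq_zero_iff K ℓ] at h0
    exact hℓG (h0.trans (Subgroup.card_subgroup_dvd_card R))
  -- the fixed points of `t`
  set C := V ⊓ Subgroup.centralizer ((R.map G.subtype : Subgroup X) : Set X) with hC
  haveI : Nontrivial C := by
    rw [← Finite.one_lt_card_iff_nontrivial, hCV]; exact hℓ.one_lt
  obtain ⟨c₀, hc₀⟩ := exists_ne (1 : C)
  have hc₀V : (c₀ : X) ∈ V := (Subgroup.mem_inf.mp c₀.2).1
  have hv₀ : ∀ v : V, t v = v → ∃ k : ℕ, v = (⟨c₀, hc₀V⟩ : V) ^ k := by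
    intro v hv
    have hvC : (v : X) ∈ C := by
      refine Subgroup.mem_inf.mpr ⟨v.2, ?_⟩
      rw [Subgroup.mem_centralizer_iff]
      rintro _ ⟨x, hx, rfl⟩
      have h1 := congrArg Subtype.val hv
      rw [act_apply] at h1
      have h2 : (a : X) * (v : X) = v * a := by
        calc (a : X) * (v : X) = (a * v * (a : X)⁻¹) * a := by group
          _ = v * a := by rw [h1]
      obtain ⟨k, rfl⟩ := hgen x hx
      have := ((Commute.zpow_left (show Commute (a : X) (v : X) from h2) k)).eq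
      simpa using this
    have h3 := mem_zpowers_of_prime_card (G := C) hCV (g := c₀) (g' := ⟨v, hvC⟩) hc₀
    rw [← mem_powers_iff_mem_zpowers] at h3
    obtain ⟨k, hk⟩ := h3
    refine ⟨k, Subtype.ext ?_⟩
    have := congrArg Subtype.val hk
    simpa using this.symm
  have key := comm_trivial_of_fix (K := K) r hRp _ K₀ (HomSp K V) rfl hNnil hcardK σ (R'.comp ψ) (R' t) hσr
    hσfpf (by rw [← map_pow, htr, map_one])
    (by
      intro x
      simp only [MonoidHom.comp_apply]
      rw [← map_mul, ← map_mul]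
      congr 1
      rw [hψ, hψ, ht, ← act_mul, ← act_mul]
      apply act_congr
      rw [conjOn_apply]
      simp)
    (fun f f' hf hf' hf0 => homRep_fix_line hcommV t r htr hrK _ hv₀ f f' hf hf' hf0)
  rw [Subgroup.commutator_le]
  rintro _ ⟨g₁, hg₁, rfl⟩ _ ⟨g₂, hg₂, rfl⟩
  have h1 := key ⟨g₁, hg₁⟩ ⟨g₂, hg₂⟩
  have h2 : ψ (⟨g₁, hg₁⟩ * ⟨g₂, hg₂⟩ * ⟨g₁, hg₁⟩⁻¹ * ⟨g₂, hg₂⟩⁻¹) = 1 :=
    (homRep_eq_one_iff ℓ hcommV hexpV _ _).mp h1
  rw [hψ, act_eq_one_iff] at h2
  rw [commutatorElement_def]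
  simpa using h2

end Cfsg.Agent.S3770
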