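import Cfsg.Statements.S3772
import Cfsg.Agent.Lib.Helper3.PGroup
import Cfsg.Agent.Lib.Helper36.PGroupAux
import Cfsg.Agent.Lib.Helper92.ESSub
import Cfsg.Agent.S2880

set_option autoImplicit false
set_option linter.style.haveILetI false
open Cfsg

namespace Cfsg.Agent.S3772

open Subgroup Cfsg.Agent.S2880
open scoped commutatorElement

/-- an integer whose square is a power of two is, up to sign, a power of two. -/
theorem sq_eq_two_pow {u : ℤ} {m : ℕ} (h : u ^ 2 = 2 ^ m) :
    ∃ e : ℕ, m = 2 * e ∧ (u = 2 ^ e ∨ u = -2 ^ e) := by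
  have h1 : u.natAbs ^ 2 = 2 ^ m := by
    have : ((u.natAbs ^ 2 : ℕ) : ℤ) = ((2 ^ m : ℕ) : ℤ) := by
      push_cast
      rw [sq_abs, h]
    exact_mod_cast this
  have h2 : u.natAbs ∣ 2 ^ m := by rw [← h1]; exact dvd_pow_self _ (by norm_num)
  obtain ⟨e, -, he⟩ := (Nat.dvd_prime_pow Nat.prime_two).1 h2
  refine ⟨e, ?_, ?_⟩
  · rw [he, ← pow_mul] at h1
    have := Nat.pow_right_injective (le_refl 2) h1
    omega
  · rcases Int.natAbs_eq u with h3 | h3
    · left; rw [h3, he]; push_cast; rfl
    · right; rw [h3, he]; push_cast; rfl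

/-- The structural dichotomy behind the count. -/
theorem key {G : Type*} [Group G] [Finite G] (hG : IsPGroup 2 G)
    (hΦ : Nat.card (frattini G) = 2) (d : ℕ) (hd : (frattini G).index = 2 ^ d) :
    ((Nat.card {x : G // x ^ 2 = 1} : ℤ) = 2 ^ d) ∨
    ∃ c : ℕ, Nat.card (center G) = 2 ^ c ∧ 1 ≤ c ∧ c + 1 ≤ d ∧ frattini G ≤ center G ∧
      ((Nat.card {x : G // x ^ 2 = 1} : ℤ) - 2 ^ d) ^ 2 = 2 ^ (d + c - 1) := by
  classical
  haveI : Fintype G := Fintype.ofFinite G
  haveI : Fact (Nat.Prime 2) := ⟨Nat.prime_two⟩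
  set Φ := frattini G with hΦdef
  haveI hΦn : Φ.Normal := inferInstance
  -- the nontrivial element of Φ
  obtain ⟨z, hzΦ, hz1, hzall⟩ : ∃ z ∈ Φ, z ≠ 1 ∧ ∀ w ∈ Φ, w = 1 ∨ w = z := by
    obtain ⟨a, b, hab, huniv⟩ := Nat.card_eq_two_iff.1 hΦ
    have hmem : ∀ w : Φ, w = a ∨ w = b := by
      intro w
      have : w ∈ ({a, b} : Set Φ) := by rw [huniv]; trivial
      simpa using this
    rcases hmem 1 with h1 | h1
    · refine ⟨b, b.2, ?_, ?_⟩
      · intro h; apply hab; rw [← h1]; exact (Subtype.ext h).symm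
      · intro w hw
        rcases hmem ⟨w, hw⟩ with h | h
        · left; rw [← h1] at h; exact congrArg Subtype.val h
        · right; exact congrArg Subtype.val h
    · refine ⟨a, a.2, ?_, ?_⟩
      · intro h; apply hab; rw [← h1]; exact Subtype.ext h
      · intro w hw
        rcases hmem ⟨w, hw⟩ with h | h
        · right; exact congrArg Subtype.val h
        · left; rw [← h1] at h; exact congrArg Subtype.val h
  have hzz : z * z = 1 := by
    rcases hzall _ (Φ.mul_mem hzΦ hzΦ) with h | h
    · exact h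
    · exfalso; apply hz1
      calc z = z⁻¹ * (z * z) := by group
        _ = 1 := by rw [h]; group
  have hΦc : Φ ≤ center G := by
    intro w hw
    rw [mem_center_iff]
    intro g
    rcases hzall w hw with rfl | rfl
    · simp
    · rcases hzall _ (hΦn.conj_mem w hw g) with h | h
      · exfalso; apply hz1
        calc w = g⁻¹ * (g * w * g⁻¹) * g := by group
          _ = 1 := by rw [h]; group
      · calc g * w = (g * w * g⁻¹) * g := by group
          _ = w * g := by rw [h]
  have hsq : ∀ x : G, x ^ 2 ∈ Φ := fun x => Cfsg.Agent.Lib.Helper3.pow_p_mem_frattini hG x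
  have hcomΦ : ∀ x y : G, ⁅x, y⁆ ∈ Φ := fun x y =>
    Cfsg.Agent.Lib.Helper3.commutator_le_frattini hG (commutator_mem_commutator (mem_top x) (mem_top y))
  have hc : ∀ x y : G, ⁅x, y⁆ ∈ center G := fun x y => hΦc (hcomΦ x y)
  have hsgn : ∀ u ∈ Φ, ∀ v ∈ Φ, sgn (u * v) = sgn u * sgn v := by
    intro u hu v hv
    rcases hzall u hu with rfl | rfl <;> rcases hzall v hv with rfl | rfl
    · simp [sgn_one]
    · simp [sgn_one]
    · simp [sgn_one]
    · rw [hzz, sgn_one, sgn_of_ne hz1]; norm_num
  have hsgnsq : ∀ u : G, sgn u * sgn u = 1 := by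
    intro u
    by_cases h : u = 1
    · rw [h, sgn_one]; norm_num
    · rw [sgn_of_ne h]; norm_num
  set q : G → ℤ := fun x => sgn (x ^ 2) with hq
  set b : G → G → ℤ := fun w x => sgn ⁅w⁻¹, x⁻¹⁆ with hb
  have hqmul : ∀ x w : G, q (x * w) = q x * q w * b w x := by
    intro x w
    have h1 : (x * w) ^ 2 = x ^ 2 * w ^ 2 * ⁅w⁻¹, x⁻¹⁆ := by
      have hcc := (mem_center_iff.1 (hc w⁻¹ x⁻¹)) w
      calc (x * w) ^ 2 = x * x * (w * ⁅w⁻¹, x⁻¹⁆) * w := by
            rw [commutatorElement_def, pow_two]; group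
        _ = x * x * (⁅w⁻¹, x⁻¹⁆ * w) * w := by rw [hcc]
        _ = x * x * ⁅w⁻¹, x⁻¹⁆ * (w * w) := by group
        _ = x * x * (⁅w⁻¹, x⁻¹⁆ * (w * w)) := by group
        _ = x * x * ((w * w) * ⁅w⁻¹, x⁻¹⁆) := by rw [(mem_center_iff.1 (hc w⁻¹ x⁻¹)) (w * w)]
        _ = x ^ 2 * w ^ 2 * ⁅w⁻¹, x⁻¹⁆ := by rw [pow_two, pow_two]; group
    simp only [hq, hb]
    rw [h1, hsgn _ (Φ.mul_mem (hsq x) (hsq w)) _ (hcomΦ _ _), hsgn _ (hsq x) _ (hsq w)]
  have hbmul : ∀ w x y : G, b w (x * y) = b w x * b w y := by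
    intro w x y
    simp only [hb]
    rw [mul_inv_rev, comm_mul_right hc, hsgn _ (hcomΦ _ _) _ (hcomΦ _ _), mul_comm]
  have hbsum : ∀ w : G, ∑ x, b w x = if w ∈ center G then (Nat.card G : ℤ) else 0 := by
    intro w
    split_ifs with hw
    · have : ∀ x, b w x = 1 := by
        intro x
        simp only [hb]
        have : ⁅w⁻¹, x⁻¹⁆ = 1 := by
          rw [commutatorElement_eq_one_iff_mul_comm]
          exact ((mem_center_iff.1 ((center G).inv_mem hw)) x⁻¹).symm
        rw [this, sgn_one]
      rw [Finset.sum_congr rfl (fun x _ => this x)]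
      simp [Nat.card_eq_fintype_card]
    · have : ∃ x₀, b w x₀ = -1 := by
        by_contra hcon
        push Not at hcon
        apply hw
        rw [mem_center_iff]
        intro g
        have h1 : ⁅w⁻¹, (g⁻¹)⁻¹⁆ = 1 := by
          by_contra hne
          exact hcon g⁻¹ (sgn_of_ne hne)
        rw [inv_inv, commutatorElement_eq_one_iff_mul_comm] at h1
        calc g * w = w * (w⁻¹ * g) * w := by group
          _ = w * (g * w⁻¹) * w := by rw [h1]
          _ = w * g := by group
      obtain ⟨x₀, hx₀⟩ := this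
      exact sum_eq_zero_of_mul (b w) (hbmul w) x₀ hx₀
  set S : ℤ := ∑ x, q x with hS
  have hS2 : S ^ 2 = (Nat.card G : ℤ) * ∑ w : G, (if w ∈ center G then q w else 0) := by
    have h1 : S ^ 2 = ∑ x, ∑ w, q x * q (x * w) := by
      rw [pow_two, hS, Finset.sum_mul_sum]
      apply Finset.sum_congr rfl
      intro x _
      exact (Fintype.sum_equiv (Equiv.mulLeft x) _ _ (fun _ => rfl)).symm
    rw [h1, Finset.sum_comm, Finset.mul_sum]
    apply Finset.sum_congr rfl
    intro w _
    have h2 : ∀ x, q x * q (x * w) = q w * b w x := by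
      intro x
      rw [hqmul]
      have := hsgnsq (x ^ 2)
      calc q x * (q x * q w * b w x) = (q x * q x) * (q w * b w x) := by ring
        _ = q w * b w x := by rw [show q x * q x = 1 from this, one_mul]
    rw [Finset.sum_congr rfl (fun x _ => h2 x), ← Finset.mul_sum, hbsum]
    split_ifs <;> ring
  have hSj : S = 2 * (Nat.card {x : G // x ^ 2 = 1} : ℤ) - (Nat.card G : ℤ) := by
    have h1 : ∀ x : G, q x = 2 * (if x ^ 2 = 1 then (1 : ℤ) else 0) - 1 := by
      intro x
      simp only [hq, sgn]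
      split_ifs <;> norm_num
    rw [hS, Finset.sum_congr rfl (fun x _ => h1 x), Finset.sum_sub_distrib, ← Finset.mul_sum,
      Finset.sum_boole]
    simp only [Finset.sum_const, Finset.card_univ, nsmul_eq_mul, mul_one]
    rw [Nat.card_eq_fintype_card, Nat.card_eq_fintype_card, Fintype.card_subtype]
  have hcardG : (Nat.card G : ℤ) = 2 * 2 ^ d := by
    have := Φ.card_mul_index
    rw [hΦ, hd] at this
    exact_mod_cast this.symm
  -- the sum over the centre
  have hsumZ : ∑ w : G, (if w ∈ center G then q w else 0) = ∑ w : center G, q (w : G) := by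
    rw [← Finset.sum_filter]
    exact Finset.sum_subtype _ (by simp) _
  have hqZ : ∀ u v : center G, q ((u * v : center G) : G) = q (u : G) * q (v : G) := by
    intro u v
    simp only [hq]
    have : (((u * v : center G) : G)) ^ 2 = (u : G) ^ 2 * (v : G) ^ 2 := by
      have hcomm : Commute (u : G) (v : G) := (mem_center_iff.1 v.2 u)
      rw [coe_mul, hcomm.mul_pow]
    rw [this, hsgn _ (hsq _) _ (hsq _)]
  by_cases hT : ∃ w₀ : center G, q (w₀ : G) = -1
  · left
    obtain ⟨w₀, hw₀⟩ := hT
    have h0 := sum_eq_zero_of_mul (fun w : center G => q (w : G)) hqZ w₀ hw₀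
    rw [hsumZ, h0, mul_zero] at hS2
    have hS0 : S = 0 := by
      exact pow_eq_zero_iff (two_ne_zero) |>.1 hS2
    rw [hSj, hcardG] at hS0
    linarith
  · right
    push Not at hT
    have hq1 : ∀ w : center G, q (w : G) = 1 := by
      intro w
      by_cases h : (w : G) ^ 2 = 1
      · simp only [hq]; rw [h, sgn_one]
      · exact absurd (sgn_of_ne h) (hT w)
    have hZsq : ∀ w ∈ center G, w ^ 2 = 1 := by
      intro w hw
      by_contra h
      exact hT ⟨w, hw⟩ (sgn_of_ne h)
    obtain ⟨c, hcZ⟩ := IsPGroup.iff_card.1 (hG.to_subgroup (center G))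
    have hsum1 : ∑ w : center G, q (w : G) = (2 : ℤ) ^ c := by
      rw [Finset.sum_congr rfl (fun w _ => hq1 w)]
      simp only [Finset.sum_const, Finset.card_univ, nsmul_eq_mul, mul_one]
      rw [← Nat.card_eq_fintype_card, hcZ]
      push_cast; rfl
    rw [hsumZ, hsum1, hcardG, hSj, hcardG] at hS2
    have hc1 : 1 ≤ c := by
      have h1 : Nat.card Φ ∣ Nat.card (center G) := card_dvd_of_le hΦc
      rw [hΦ, hcZ] at h1
      by_contra h
      have : c = 0 := by omega
      rw [this] at h1
      norm_num at h1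
    -- the centre has index at least 4
    have hidx := (center G).card_mul_index
    have hcardG' : Nat.card G = 2 ^ (d + 1) := by
      have := Φ.card_mul_index
      rw [hΦ, hd] at this
      rw [← this]; ring
    have hZtop : center G ≠ ⊤ := by
      intro h
      have : ∀ x : G, x ^ 2 = 1 := fun x => hZsq x (by rw [h]; trivial)
      have h2 := Cfsg.Agent.Lib.Helper36.frattini_eq_bot_of_sq_eq_one this
      rw [← hΦdef] at h2
      rw [h2, card_bot] at hΦ
      norm_num at hΦ
    have hcd : c + 1 ≤ d := by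
      by_contra hcon
      have hcle : c ≤ d + 1 := by
        have h1 : Nat.card (center G) ∣ Nat.card G := card_subgroup_dvd_card _
        rw [hcZ, hcardG'] at h1
        exact (Nat.pow_dvd_pow_iff_le_right (by norm_num)).1 h1
      have hcases : c = d + 1 ∨ c = d := by omega
      rcases hcases with h | h
      · apply hZtop
        apply eq_top_of_card_eq
        rw [hcZ, hcardG', h]
      · have hi2 : (center G).index = 2 := by
          rw [hcZ, hcardG', h, pow_succ] at hidx
          exact Nat.eq_of_mul_eq_mul_left (by positivity) hidx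
        have hcyc : IsCyclic (G ⧸ center G) := by
          apply isCyclic_of_prime_card (p := 2)
          exact hi2
        apply hZtop
        rw [eq_top_iff]
        intro x _
        rw [mem_center_iff]
        intro g
        have := MonoidHom.isMulCommutative_of_isCyclic_of_ker_le_center
          (QuotientGroup.mk' (center G)) (by rw [QuotientGroup.ker_mk'])
        exact this.is_comm.comm g x
    refine ⟨c, hcZ, hc1, hcd, hΦc, ?_⟩
    have e1 : (2 : ℤ) ^ (d + c - 1) * 2 = 2 ^ d * 2 ^ c := by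
      rw [← pow_succ, ← pow_add]
      congr 1
      omega
    nlinarith [hS2, e1]

/-- Let G be a finite 2-group whose Frattini subgroup Φ(G) has order 2, with |G : Φ(G)| = 2^d, and let j be the number of elements x of G with x² = 1. Then j = 2^d, or j = 2^d + 2^(d−r) or j = 2^d − 2^(d−r) for some positive integer r with 2r ≤ d. Moreover if d = 2r and j is 2^d + 2^r or 2^d − 2^r, then G is extraspecial. -/
theorem result {G : Type*} [Group G] [Finite G] (hG : IsPGroup 2 G) (hΦ : Nat.card (frattini G) = 2) (d : ℕ) (hd : (frattini G).index = 2 ^ d) : (Nat.card {x : G // x ^ 2 = 1} = 2 ^ d ∨ ∃ r : ℕ, 1 ≤ r ∧ 2 * r ≤ d ∧ (Nat.card {x : G // x ^ 2 = 1} = 2 ^ d + 2 ^ (d - r) ∨ Nat.card {x : G // x ^ 2 = 1} + 2 ^ (d - r) = 2 ^ d)) ∧ (∀ r : ℕ, d = 2 * r → (Nat.card {x : G // x ^ 2 = 1} = 2 ^ d + 2 ^ r ∨ Nat.card {x : G // x ^ 2 = 1} + 2 ^ r = 2 ^ d) → Cfsg.IsExtraspecial 2 G) := by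
  haveI : Fact (Nat.Prime 2) := ⟨Nat.prime_two⟩
  set j := Nat.card {x : G // x ^ 2 = 1} with hj
  have hkey := key hG hΦ d hd
  rw [← hj] at hkey
  constructor
  · rcases hkey with h | ⟨c, hcZ, hc1, hcd, -, hu⟩
    · left; exact_mod_cast h
    · right
      obtain ⟨e, he, hue⟩ := sq_eq_two_pow hu
      refine ⟨d - e, by omega, by omega, ?_⟩
      have hde : d - (d - e) = e := by omega
      rw [hde]
      rcases hue with h | h
      · left
        have : (j : ℤ) = 2 ^ d + 2 ^ e := by linarith
        exact_mod_cast this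
      · right
        have : (j : ℤ) + 2 ^ e = 2 ^ d := by linarith
        exact_mod_cast this
  · intro r hdr hjr
    have hr0 : (0 : ℤ) < 2 ^ r := by positivity
    have hu2 : ((j : ℤ) - 2 ^ d) ^ 2 = 2 ^ d := by
      have e1 : (2 : ℤ) ^ d = 2 ^ r * 2 ^ r := by rw [hdr, two_mul, pow_add]
      rcases hjr with h | h
      · have : (j : ℤ) = 2 ^ d + 2 ^ r := by exact_mod_cast h
        rw [this]; ring_nf; rw [e1]; ring
      · have : (j : ℤ) + 2 ^ r = 2 ^ d := by exact_mod_cast h
        have h2 : (j : ℤ) - 2 ^ d = - 2 ^ r := by linarith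
        rw [h2, e1]; ring
    rcases hkey with h | ⟨c, hcZ, hc1, hcd, hle, hu⟩
    · exfalso
      rw [h, sub_self] at hu2
      have : (0 : ℤ) < 2 ^ d := by positivity
      rw [← hu2] at this
      norm_num at this
    · rw [hu2] at hu
      have hc : c = 1 := by
        have := Int.pow_right_injective (le_refl 2) hu
        omega
      subst hc
      rw [pow_one] at hcZ
      have hΦZ : frattini G = center G := eq_of_le_of_card_ge hle (by rw [hcZ, hΦ])
      refine ⟨⟨hG, hΦZ, ?_⟩, hcZ⟩
      have hcle : commutator G ≤ center G := by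
        rw [← hΦZ]; exact Cfsg.Agent.Lib.Helper3.commutator_le_frattini hG
      have hdvd : Nat.card (commutator G) ∣ 2 := by
        rw [← hcZ]; exact card_dvd_of_le hcle
      rcases (Nat.dvd_prime Nat.prime_two).1 hdvd with h1 | h2
      · exfalso
        rw [card_eq_one, commutator_eq_bot_iff_center_eq_top] at h1
        have hcardG := (frattini G).card_mul_index
        rw [hΦ, hd] at hcardG
        rw [h1, card_top, ← hcardG] at hcZ
        have : 2 ^ 1 ≤ 2 ^ d := Nat.pow_le_pow_right (by norm_num) (by omega)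
        omega
      · exact eq_of_le_of_card_ge hcle (by rw [hcZ, h2])

end Cfsg.Agent.S3772
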