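import Cfsg.Statements.S3782
import Cfsg.Agent.Lib.Lead.HKK.Fpf
import Cfsg.Agent.Lib.Helper77.AlpA4
import Cfsg.Agent.Lib.Helper71.AlpA5
import Cfsg.Agent.Lib.Helper91.AlpA5b

set_option autoImplicit false
open Cfsg

namespace Cfsg.Agent.S3782
open Cfsg.Agent.Lib.Lead.HKK

/-- Alperin's Theorem: for each prime p and each n ≥ 0 there is an integer l such that every finite solvable group admitting an automorphism of order p with exactly p^n fixed points has derived length at most l. -/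
theorem result (p : ℕ) (hp : p.Prime) (n : ℕ) : ∃ l : ℕ, ∀ (G : Type) [Group G] [Finite G], Group.IsSolvable G → ∀ α : MulAut G, orderOf α = p → Nat.card {g : G // α g = g} = p ^ n → derivedSeries G l = ⊥ := by
  have : Fact p.Prime := ⟨hp⟩
  have hc1 : 1 ≤ xi p (2 ^ (p - 1) - 1) := by
    have h2 : 2 ≤ 2 ^ (p - 1) := by
      calc 2 = 2 ^ 1 := (pow_one 2).symm
        _ ≤ 2 ^ (p - 1) := Nat.pow_le_pow_right (by norm_num) (by have := hp.two_le; omega)
    obtain ⟨s, hs⟩ : ∃ s, 2 ^ (p - 1) - 1 = s + 1 := ⟨2 ^ (p - 1) - 2, by omega⟩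
    rw [hs, xi_succ]; omega
  refine ⟨_, fun G _ _ hG α hα hfix =>
    Cfsg.Agent.Lib.Helper71.Alp.alperin_solvable_of_a5b p n (xi p (2 ^ (p - 1) - 1)) _
      (fun Q _ _ hQ hO α hα hfix => Cfsg.Agent.Lib.Helper91.Alp.index_pCore_le p n Q hQ hO α hα hfix)
      (fun K _ _ β hβ hf => Γ_eq_bot_of_nilBound hp β hβ hf _ (nilBound_xi p))
      (fun P _ _ hP β hβ hf => Cfsg.Agent.Lib.Helper77.Alp.alperin_pgroup_of p n (xi p (2 ^ (p - 1) - 1)) hc1
        (fun K _ _ α hα N hN => pow_mem_lcs_succ p α hα N hN _ (nilBound_xi p)) P hP β hβ hf)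
      G hG α hα hfix⟩

end Cfsg.Agent.S3782
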