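import Cfsg.Statements.S3788
import Cfsg.Agent.Lib.Helper55.CycNormal2
import Cfsg.Agent.Lib.Helper14.PConstrained

set_option autoImplicit false
open Cfsg

namespace Cfsg.Agent.S3788

/-- Let G be a finite p-soluble group, P a Sylow p-subgroup of G and A a cyclic normal subgroup of P. If p is odd, or if no section of G is isomorphic to the symmetric group of degree 4, then A ≤ O_{p',p}(G). -/
theorem result {G : Type*} [Group G] [Finite G] {p : ℕ} [Fact p.Prime] (hG : Cfsg.IsPSolvable p G) (P : Sylow p G) (A : Subgroup G) (hAP : A ≤ (P : Subgroup G)) (hAn : (P : Subgroup G) ≤ Subgroup.normalizer (A : Set G)) (hA : IsCyclic A) (h : p ≠ 2 ∨ ¬ Cfsg.Involves (Equiv.Perm (Fin 4)) G) : A ≤ Cfsg.pPrimePCore p G := by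
  open Cfsg.Agent.Lib Cfsg.Agent.Lib.Helper55 in
  have hsurj := QuotientGroup.mk'_surjective (Cfsg.pPrimeCore p G)
  have key := cyclic_normal_le_pCore (Y := G ⧸ Cfsg.pPrimeCore p G) (p := p)
    (Helper14.IsPSolvable.quotient hG _) Helper14.pPrimeCore_quotient_pPrimeCore
    (h.imp id (fun h1 h2 => h1 (Helper14.involves_of_quotient _ h2)))
    (P := (P : Subgroup G).map (QuotientGroup.mk' (Cfsg.pPrimeCore p G)))
    (A := A.map (QuotientGroup.mk' (Cfsg.pPrimeCore p G)))
    (P.2.map _) (Helper53.pCore_le_sylow (P.mapSurjective hsurj))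
    (Subgroup.map_mono hAP)
    ((Subgroup.map_mono hAn).trans (Subgroup.le_normalizer_map _))
    (isCyclic_of_surjective ((QuotientGroup.mk' (Cfsg.pPrimeCore p G)).subgroupMap A)
      (MonoidHom.subgroupMap_surjective _ _))
  exact Subgroup.map_le_iff_le_comap.1 key

end Cfsg.Agent.S3788
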