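import Cfsg.Statements.S3807
-- import your own Cfsg.Agent.* helpers here
import Cfsg.Agent.Lib.Helper67.ExtraSub

set_option autoImplicit false
open Cfsg

namespace Cfsg.Agent.S3807

open Cfsg.Agent.Lib.Helper67
open scoped commutatorElement

variable {S : Type*} [Group S]

theorem comm_sup_center {B : Subgroup S} (hB : ∀ a ∈ B, ∀ b ∈ B, a * b = b * a) :
    ∀ a ∈ B ⊔ Subgroup.center S, ∀ b ∈ B ⊔ Subgroup.center S, a * b = b * a := by
  intro a ha b hb
  obtain ⟨a1, ha1, z1, hz1, rfl⟩ := Subgroup.mem_sup_of_normal_right.1 ha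
  obtain ⟨b1, hb1, z2, hz2, rfl⟩ := Subgroup.mem_sup_of_normal_right.1 hb
  have h1 := Subgroup.mem_center_iff.1 hz1
  have h2 := Subgroup.mem_center_iff.1 hz2
  calc a1 * z1 * (b1 * z2) = a1 * (z1 * b1) * z2 := by simp only [mul_assoc]
    _ = a1 * (b1 * z1) * z2 := by rw [h1 b1]
    _ = (a1 * b1) * (z1 * z2) := by simp only [mul_assoc]
    _ = (b1 * a1) * (z2 * z1) := by rw [hB a1 ha1 b1 hb1, h1 z2]
    _ = b1 * (a1 * z2) * z1 := by simp only [mul_assoc]
    _ = b1 * (z2 * a1) * z1 := by rw [h2 a1]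
    _ = b1 * z2 * (a1 * z1) := by simp only [mul_assoc]

theorem center_le {p : ℕ} [Fact p.Prime] (hna : ¬ IsMulCommutative S) {B : Subgroup S}
    (hB : ∀ a ∈ B, ∀ b ∈ B, a * b = b * a) (hBi : B.index = p) : Subgroup.center S ≤ B := by
  by_contra hcon
  have htop : B ⊔ Subgroup.center S = ⊤ := sup_eq_top_of_index_prime hBi hcon
  apply hna
  refine ⟨⟨fun s t => ?_⟩⟩
  exact comm_sup_center hB s (htop ▸ Subgroup.mem_top s) t (htop ▸ Subgroup.mem_top t)

theorem eq_of_le_of_index_eq {p : ℕ} [Fact p.Prime] {B C : Subgroup S} (h : B ≤ C) (hB : B.index = p)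
    (hC : C.index = p) : B = C := by
  have hp : p.Prime := Fact.out
  have h1 := Subgroup.relIndex_mul_index h
  rw [hB, hC] at h1
  have h2 : B.relIndex C = 1 := by
    have : B.relIndex C * p = 1 * p := by rw [h1, one_mul]
    exact Nat.eq_of_mul_eq_mul_right hp.pos this
  exact le_antisymm h (Subgroup.relIndex_eq_one.1 h2)

/-- the commutator hom `a ↦ [a,x]` on an abelian normal subgroup -/
def commHom (A : Subgroup S) [A.Normal] (hA : ∀ a ∈ A, ∀ b ∈ A, a * b = b * a) (x : S) : ↥A →* S :=
  MonoidHom.mk' (fun a => (a : S) * x * (a : S)⁻¹ * x⁻¹) (by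
    intro a b
    have h1 : x * (b : S)⁻¹ * x⁻¹ ∈ A := ‹A.Normal›.conj_mem _ (A.inv_mem b.2) x
    have h2 : (b : S) * (x * (b : S)⁻¹ * x⁻¹) ∈ A := A.mul_mem b.2 h1
    have h3 := hA _ h2 _ (A.inv_mem a.2)
    have h4 : x * (a : S)⁻¹ * x⁻¹ ∈ A := ‹A.Normal›.conj_mem _ (A.inv_mem a.2) x
    have h5 := hA _ h2 _ h4
    show ((a : S) * (b : S)) * x * ((a : S) * (b : S))⁻¹ * x⁻¹ = _
    calc ((a : S) * (b : S)) * x * ((a : S) * (b : S))⁻¹ * x⁻¹
        = (a : S) * (((b : S) * (x * (b : S)⁻¹ * x⁻¹)) * (x * (a : S)⁻¹ * x⁻¹)) := by group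
      _ = (a : S) * ((x * (a : S)⁻¹ * x⁻¹) * ((b : S) * (x * (b : S)⁻¹ * x⁻¹))) := by rw [h5]
      _ = _ := by group)

theorem commHom_apply (A : Subgroup S) [A.Normal] (hA : ∀ a ∈ A, ∀ b ∈ A, a * b = b * a) (x : S)
    (a : ↥A) : commHom A hA x a = (a : S) * x * (a : S)⁻¹ * x⁻¹ := rfl

theorem index_center {p : ℕ} [Fact p.Prime] (hna : ¬ IsMulCommutative S)
    (A : Subgroup S) [A.Normal] (hA : ∀ a ∈ A, ∀ b ∈ A, a * b = b * a) (hAi : A.index = p) :
    (Subgroup.center S).index = p * Nat.card (commutator S) := by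
  have hp : p.Prime := Fact.out
  have hZA := center_le hna hA hAi
  obtain ⟨x, hx⟩ : ∃ x, x ∉ A := by
    by_contra hcon
    push Not at hcon
    have : A = ⊤ := (Subgroup.eq_top_iff' A).2 hcon
    rw [this, Subgroup.index_top] at hAi
    exact hp.one_lt.ne hAi
  have htop : A ⊔ Subgroup.zpowers x = ⊤ :=
    sup_eq_top_of_index_prime hAi (fun h => hx (h (Subgroup.mem_zpowers x)))
  have hdec : ∀ s : S, ∃ a ∈ A, ∃ k : ℤ, a * x ^ k = s := by
    intro s
    obtain ⟨a, ha, z, hz, rfl⟩ := Subgroup.mem_sup_of_normal_left.1 (htop ▸ Subgroup.mem_top s)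
    obtain ⟨k, rfl⟩ := Subgroup.mem_zpowers_iff.1 hz
    exact ⟨a, ha, k, rfl⟩
  set φ := commHom A hA x with hφ
  have hker : φ.ker = (Subgroup.center S).subgroupOf A := by
    ext a
    rw [MonoidHom.mem_ker, Subgroup.mem_subgroupOf, hφ, commHom_apply, Subgroup.mem_center_iff]
    constructor
    · intro h s
      have hax : (a : S) * x = x * a := by
        have := congrArg (fun t => t * x * (a : S)) h
        simpa [mul_assoc] using this
      obtain ⟨b, hb, k, rfl⟩ := hdec s
      have h1 : Commute (a : S) x := hax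
      have h2 : Commute (a : S) b := hA _ a.2 _ hb
      exact ((h2.mul_right (h1.zpow_right k))).eq.symm
    · intro h
      rw [← h x]; group
  have hrange : φ.range = commutator S := by
    have hInorm : φ.range.Normal := by
      rw [← Subgroup.normalizer_eq_top_iff, eq_top_iff, ← htop]
      refine sup_le ?_ (Subgroup.zpowers_le.2 ?_)
      · intro b hb
        rw [Subgroup.mem_normalizer_iff]
        intro h
        have key : ∀ h ∈ φ.range, b * h * b⁻¹ = h := by
          rintro _ ⟨a, rfl⟩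
          rw [hφ, commHom_apply]
          have h1 : (a : S) * x * (a : S)⁻¹ * x⁻¹ ∈ A := by
            have := A.mul_mem a.2 (‹A.Normal›.conj_mem _ (A.inv_mem a.2) x)
            simpa [mul_assoc] using this
          rw [hA b hb _ h1]; group
        have key' : ∀ h ∈ φ.range, b⁻¹ * h * b = h := by
          intro h hh
          have := key h hh
          calc b⁻¹ * h * b = b⁻¹ * (b * h * b⁻¹) * b := by rw [this]
            _ = h := by group
        constructor
        · intro hh; rw [key h hh]; exact hh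
        · intro hh
          have := key' _ hh
          have h2 : b⁻¹ * (b * h * b⁻¹) * b = h := by group
          rw [h2] at this
          rw [this]; exact hh
      · rw [Subgroup.mem_normalizer_iff]
        intro h
        constructor
        · rintro ⟨a, rfl⟩
          refine ⟨⟨x * a * x⁻¹, ‹A.Normal›.conj_mem _ a.2 x⟩, ?_⟩
          rw [hφ, commHom_apply, commHom_apply]; group
        · rintro ⟨a, ha⟩
          refine ⟨⟨x⁻¹ * a * x, by simpa using ‹A.Normal›.conj_mem _ a.2 x⁻¹⟩, ?_⟩
          rw [hφ, commHom_apply] at ha ⊢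
          have : h = x⁻¹ * (x * h * x⁻¹) * x := by group
          rw [this, ← ha]; group
    apply le_antisymm
    · rintro _ ⟨a, rfl⟩
      rw [hφ, commHom_apply, commutator_def, ← commutatorElement_def]
      exact Subgroup.commutator_mem_commutator (Subgroup.mem_top _) (Subgroup.mem_top _)
    · apply Subgroup.Normal.quotient_commutative_iff_commutator_le.1
      have hax : ∀ a ∈ A, Commute (QuotientGroup.mk a : S ⧸ φ.range) (QuotientGroup.mk x) := by
        intro a ha
        show (QuotientGroup.mk a : S ⧸ φ.range) * (QuotientGroup.mk x) = (QuotientGroup.mk x) * (QuotientGroup.mk a)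
        rw [← QuotientGroup.mk_mul, ← QuotientGroup.mk_mul, QuotientGroup.eq]
        refine ⟨⟨x⁻¹ * a⁻¹ * x, by simpa using ‹A.Normal›.conj_mem _ (A.inv_mem ha) x⁻¹⟩, ?_⟩
        rw [hφ, commHom_apply]
        group
      have hab : ∀ a ∈ A, ∀ b ∈ A, Commute (QuotientGroup.mk a : S ⧸ φ.range) (QuotientGroup.mk b) := by
        intro a ha b hb
        show (QuotientGroup.mk a : S ⧸ φ.range) * (QuotientGroup.mk b) = (QuotientGroup.mk b) * (QuotientGroup.mk a)
        rw [← QuotientGroup.mk_mul, ← QuotientGroup.mk_mul, hA a ha b hb]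
      refine ⟨⟨fun s t => ?_⟩⟩
      obtain ⟨s, rfl⟩ := QuotientGroup.mk_surjective s
      obtain ⟨t, rfl⟩ := QuotientGroup.mk_surjective t
      obtain ⟨a, ha, k, rfl⟩ := hdec s
      obtain ⟨b, hb, j, rfl⟩ := hdec t
      simp only [QuotientGroup.mk_mul, QuotientGroup.mk_zpow]
      exact (Commute.mul_left (Commute.mul_right (hab a ha b hb) ((hax a ha).zpow_right j))
        (Commute.mul_right ((hax b hb).symm.zpow_left k) ((Commute.refl _).zpow_zpow k j))).eq
  have h1 : (Subgroup.center S).relIndex A = Nat.card (commutator S) := by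
    rw [← hrange, ← Subgroup.index_ker, hker]; rfl
  rw [← Subgroup.relIndex_mul_index hZA, h1, hAi, mul_comm]

theorem count_abelian [Finite S] {p : ℕ} [Fact p.Prime] (hna : ¬ IsMulCommutative S)
    (hidx : (Subgroup.center S).index = p * p) :
    Nat.card {B : Subgroup S // IsMulCommutative ↥B ∧ B.index = p} = p + 1 := by
  classical
  have hp : p.Prime := Fact.out
  set Z := Subgroup.center S with hZ
  have hBs : ∀ s : S, s ∉ Z →
      IsMulCommutative ↥(Subgroup.zpowers s ⊔ Z) ∧ (Subgroup.zpowers s ⊔ Z).index = p := by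
    intro s hs
    have hcomm : ∀ a ∈ Subgroup.zpowers s ⊔ Z, ∀ b ∈ Subgroup.zpowers s ⊔ Z, a * b = b * a := by
      apply comm_sup_center
      intro a ha b hb
      obtain ⟨i, rfl⟩ := Subgroup.mem_zpowers_iff.1 ha
      obtain ⟨j, rfl⟩ := Subgroup.mem_zpowers_iff.1 hb
      exact ((Commute.refl s).zpow_zpow i j).eq
    refine ⟨⟨⟨fun a b => Subtype.ext (hcomm a a.2 b b.2)⟩⟩, ?_⟩
    have h1 := Subgroup.relIndex_mul_index (le_sup_right : Z ≤ Subgroup.zpowers s ⊔ Z)
    rw [hidx, ← sq] at h1
    have h2 : Z.relIndex (Subgroup.zpowers s ⊔ Z) ≠ 1 := by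
      intro h
      exact hs (Subgroup.relIndex_eq_one.1 h (Subgroup.mem_sup_left (Subgroup.mem_zpowers s)))
    have h3 : (Subgroup.zpowers s ⊔ Z).index ≠ 1 := by
      intro h
      rw [Subgroup.index_eq_one] at h
      apply hna
      exact ⟨⟨fun a b => hcomm a (h ▸ Subgroup.mem_top a) b (h ▸ Subgroup.mem_top b)⟩⟩
    exact ((Nat.Prime.mul_eq_prime_sq_iff hp h2 h3).1 h1).2
  let f : {s : S // s ∉ Z} → {B : Subgroup S // IsMulCommutative ↥B ∧ B.index = p} :=
    fun s => ⟨Subgroup.zpowers s.1 ⊔ Z, hBs s.1 s.2⟩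
  have hZB : ∀ B : {B : Subgroup S // IsMulCommutative ↥B ∧ B.index = p}, Z ≤ B.1 := by
    intro B
    exact center_le hna (fun a ha b hb =>
      congrArg Subtype.val (B.2.1.is_comm.comm ⟨a, ha⟩ ⟨b, hb⟩)) B.2.2
  have hf : ∀ (B : {B : Subgroup S // IsMulCommutative ↥B ∧ B.index = p}) (s : {s : S // s ∉ Z}),
      f s = B ↔ s.1 ∈ B.1 := by
    intro B s
    constructor
    · rintro rfl
      exact Subgroup.mem_sup_left (Subgroup.mem_zpowers s.1)
    · intro h
      apply Subtype.ext
      exact eq_of_le_of_index_eq (sup_le (Subgroup.zpowers_le.2 h) (hZB B)) (hBs s.1 s.2).2 B.2.2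
  have hcardS : Nat.card S = p * p * Nat.card Z := by
    rw [← hidx, mul_comm, Subgroup.card_mul_index]
  have hcardB : ∀ B : {B : Subgroup S // IsMulCommutative ↥B ∧ B.index = p},
      Nat.card B.1 = p * Nat.card Z := by
    intro B
    have h1 := Subgroup.card_mul_index B.1
    rw [B.2.2, hcardS] at h1
    have : Nat.card B.1 * p = (p * Nat.card Z) * p := by rw [h1]; ring
    exact Nat.eq_of_mul_eq_mul_right hp.pos this
  have hfib : ∀ B : {B : Subgroup S // IsMulCommutative ↥B ∧ B.index = p},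
      Nat.card {s : {s : S // s ∉ Z} // f s = B} = p * Nat.card Z - Nat.card Z := by
    intro B
    rw [Nat.card_congr (Equiv.subtypeEquivRight (hf B)),
      Nat.card_congr (Equiv.subtypeSubtypeEquivSubtypeInter (fun s : S => s ∉ Z) (fun s => s ∈ B.1))]
    have h1 : Nat.card {s : S // s ∉ Z ∧ s ∈ B.1} = ((B.1 : Set S) \ (Z : Set S)).ncard := by
      rw [← _root_.Nat.card_coe_set_eq]
      apply Nat.card_congr
      apply Equiv.subtypeEquivRight
      intro s
      simp [and_comm]
    rw [h1, Set.ncard_sdiff (by exact_mod_cast hZB B), ← hcardB B]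
    rfl
  have htot : Nat.card {s : S // s ∉ Z} = p * p * Nat.card Z - Nat.card Z := by
    have h1 : Nat.card {s : S // s ∉ Z} = ((Set.univ : Set S) \ (Z : Set S)).ncard := by
      rw [← _root_.Nat.card_coe_set_eq]
      apply Nat.card_congr
      apply Equiv.subtypeEquivRight
      intro s
      simp
    rw [h1, Set.ncard_sdiff (Set.subset_univ _), Set.ncard_univ, hcardS]
    rfl
  haveI : Fintype {B : Subgroup S // IsMulCommutative ↥B ∧ B.index = p} := Fintype.ofFinite _
  have h := Nat.card_congr (Equiv.sigmaFiberEquiv f)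
  rw [Nat.card_sigma, htot] at h
  simp only [hfib, Finset.sum_const, Finset.card_univ, smul_eq_mul] at h
  rw [← Nat.card_eq_fintype_card] at h
  set n := Nat.card {B : Subgroup S // IsMulCommutative ↥B ∧ B.index = p} with hn
  have hz : 0 < Nat.card Z := Nat.card_pos
  set z := Nat.card Z with hz'
  obtain ⟨q, rfl⟩ : ∃ q, p = q + 1 := ⟨p - 1, by have := hp.pos; omega⟩
  have hq : 0 < q := by have := hp.one_lt; omega
  have e1 : (q + 1) * z - z = q * z := by
    have : (q + 1) * z = q * z + z := by ring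
    omega
  have e2 : (q + 1) * (q + 1) * z - z = (q + 2) * (q * z) := by
    have : (q + 1) * (q + 1) * z = (q + 2) * (q * z) + z := by ring
    omega
  rw [e1, e2] at h
  have := Nat.eq_of_mul_eq_mul_right (Nat.mul_pos hq hz) h
  omega

/-- Let S be a non-abelian finite p-group with an abelian subgroup A of index p. Then [S : Z(S)] = p·#[S,S], and either [S,S] has order p, S/Z(S) is elementary abelian of order p², and S has exactly p + 1 abelian subgroups of index p; or [S,S] has order at least p² and A is the only abelian subgroup of index p in S. -/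
theorem result {S : Type*} [Group S] [Finite S] (p : ℕ) [Fact p.Prime] (hS : IsPGroup p S) (hna : ¬ IsMulCommutative S)
    (A : Subgroup S) (hA : IsMulCommutative ↥A) (hAi : A.index = p) :
    (Subgroup.center S).index = p * Nat.card (commutator S) ∧
      ((Nat.card (commutator S) = p ∧ Cfsg.IsElementaryAbelian p (⊤ : Subgroup (S ⧸ Subgroup.center S)) ∧
          Nat.card (S ⧸ Subgroup.center S) = p ^ 2 ∧
          Nat.card {B : Subgroup S // IsMulCommutative ↥B ∧ B.index = p} = p + 1) ∨
        (p ^ 2 ≤ Nat.card (commutator S) ∧ ∀ B : Subgroup S, IsMulCommutative ↥B → B.index = p → B = A)) := by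
  have hp : p.Prime := Fact.out
  have hA' : ∀ a ∈ A, ∀ b ∈ A, a * b = b * a := fun a ha b hb =>
    congrArg Subtype.val (hA.is_comm.comm ⟨a, ha⟩ ⟨b, hb⟩)
  haveI hAn : A.Normal := normal_of_index_eq_p hS hAi
  have hidx := index_center hna A hA' hAi
  refine ⟨hidx, ?_⟩
  obtain ⟨k, hk⟩ := IsPGroup.iff_card.1 (hS.to_subgroup (commutator S))
  have hk0 : k ≠ 0 := by
    rintro rfl
    rw [pow_zero] at hk
    have hbot : commutator S = ⊥ := Subgroup.card_eq_one.1 hk
    apply hna
    refine ⟨⟨fun a b => ?_⟩⟩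
    have h1 : ⁅a, b⁆ ∈ commutator S := by
      rw [commutator_def]
      exact Subgroup.commutator_mem_commutator (Subgroup.mem_top _) (Subgroup.mem_top _)
    rw [hbot, Subgroup.mem_bot, commutatorElement_eq_one_iff_mul_comm] at h1
    exact h1
  rcases Nat.lt_or_ge k 2 with hk2 | hk2
  · left
    have hk1 : k = 1 := by omega
    subst hk1
    rw [pow_one] at hk
    rw [hk] at hidx
    have hq : Nat.card (S ⧸ Subgroup.center S) = p ^ 2 := by
      rw [← Subgroup.index_eq_card, hidx, sq]
    refine ⟨hk, ⟨?_, ?_⟩, hq, ?_⟩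
    · refine ⟨⟨fun a b => ?_⟩⟩
      exact Subtype.ext (IsPGroup.commutative_of_card_eq_prime_sq hq a.1 b.1)
    · intro a _
      have h1 : orderOf a ∣ p ^ 2 := hq ▸ orderOf_dvd_natCard a
      obtain ⟨j, hj, hj'⟩ := (Nat.dvd_prime_pow hp).1 h1
      have hj2 : j ≠ 2 := by
        rintro rfl
        haveI : IsCyclic (S ⧸ Subgroup.center S) := isCyclic_of_orderOf_eq_card a (hj'.trans hq.symm)
        apply hna
        refine ⟨⟨fun s t => ?_⟩⟩
        exact commutative_of_cyclic_center_quotient (QuotientGroup.mk' (Subgroup.center S))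
          (by rw [QuotientGroup.ker_mk']) s t
      apply orderOf_dvd_iff_pow_eq_one.1
      rw [hj']
      have : j ≤ 1 := by omega
      calc p ^ j ∣ p ^ 1 := pow_dvd_pow p this
        _ = p := pow_one p
    · exact count_abelian hna hidx
  · right
    refine ⟨hk ▸ Nat.pow_le_pow_right hp.pos hk2, ?_⟩
    intro B hB hBi
    by_contra hne
    have hB' : ∀ a ∈ B, ∀ b ∈ B, a * b = b * a := fun a ha b hb =>
      congrArg Subtype.val (hB.is_comm.comm ⟨a, ha⟩ ⟨b, hb⟩)
    have hnle : ¬ B ≤ A := fun h => hne (eq_of_le_of_index_eq h hBi hAi)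
    have htop : A ⊔ B = ⊤ := sup_eq_top_of_index_prime hAi hnle
    have hle : A ⊓ B ≤ Subgroup.center S := by
      intro c hc
      obtain ⟨hcA, hcB⟩ := Subgroup.mem_inf.1 hc
      have h1 : A ⊔ B ≤ Subgroup.centralizer {c} := by
        refine sup_le ?_ ?_
        · intro a ha; rw [mem_cz]; exact hA' a ha c hcA
        · intro a ha; rw [mem_cz]; exact hB' a ha c hcB
      rw [htop] at h1
      rw [Subgroup.mem_center_iff]
      intro g
      exact mem_cz.1 (h1 (Subgroup.mem_top g))
    have h1 : (Subgroup.center S).index ≤ (A ⊓ B).index :=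
      Nat.le_of_dvd (Nat.pos_of_ne_zero Subgroup.index_ne_zero_of_finite) (Subgroup.index_dvd_of_le hle)
    have h2 : (A ⊓ B).index ≤ p * p := by
      have := Subgroup.index_inf_le (H := A) (K := B)
      rwa [hAi, hBi] at this
    rw [hidx, hk] at h1
    have h3 : p * p ^ k ≤ p * p := h1.trans h2
    have h4 : p ^ k ≤ p := Nat.le_of_mul_le_mul_left h3 hp.pos
    have h5 : p ^ 2 ≤ p ^ k := Nat.pow_le_pow_right hp.pos hk2
    have h6 : p ^ 2 ≤ p ^ 1 := by rw [pow_one]; exact h5.trans h4
    have := (Nat.pow_le_pow_iff_right hp.one_lt).1 h6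
    omega

end Cfsg.Agent.S3807
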