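import Cfsg.Statements.S3808
-- import your own Cfsg.Agent.* helpers here
import Cfsg.Agent.Lib.Helper67.ExtraSub

set_option autoImplicit false
open Cfsg

namespace Cfsg.Agent.S3808

/-- Let S be a finite p-group with an extraspecial subgroup Q of index p. Then either Z(S) = Z(Q), or S = Q·Z(S) and Z(S) has order p². -/
theorem result {S : Type*} [Group S] [Finite S] (p : ℕ) [Fact p.Prime] (hS : IsPGroup p S) (Q : Subgroup S) (hQ : Cfsg.IsExtraspecial p ↥Q) (hQi : Q.index = p) :
    Subgroup.center S = (Subgroup.center ↥Q).map Q.subtype ∨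
      (Q ⊔ Subgroup.center S = ⊤ ∧ Nat.card (Subgroup.center S) = p ^ 2) := by
  have hp : p.Prime := Fact.out
  rw [Lib.Helper67.map_center_eq]
  have hZc : Nat.card ↥(Q ⊓ Subgroup.centralizer (Q : Set S)) = p := Lib.Helper67.es_card_Z hQ
  have hle0 : Q ⊓ Subgroup.center S ≤ Q ⊓ Subgroup.centralizer (Q : Set S) := by
    intro z hz
    obtain ⟨hz1, hz2⟩ := Subgroup.mem_inf.1 hz
    refine Subgroup.mem_inf.2 ⟨hz1, ?_⟩
    rw [Subgroup.mem_centralizer_iff]
    intro q _
    exact Subgroup.mem_center_iff.1 hz2 q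
  by_cases h : Subgroup.center S ≤ Q
  · left
    have hle : Subgroup.center S ≤ Q ⊓ Subgroup.centralizer (Q : Set S) := by
      refine le_trans ?_ hle0
      exact le_inf h le_rfl
    apply Subgroup.eq_of_le_of_card_ge hle
    rw [hZc]
    have hnt : Nontrivial S := by
      obtain ⟨a, _, b, _, hab⟩ := Lib.Helper67.es_nonabelian hQ
      exact ⟨⟨a * b, b * a, hab⟩⟩
    have hcn := hS.center_nontrivial
    have hdvd : Nat.card (Subgroup.center S) ∣ p := hZc ▸ Subgroup.card_dvd_of_le hle
    rcases (Nat.dvd_prime hp).1 hdvd with h1 | h1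
    · exfalso
      rw [Subgroup.card_eq_one] at h1
      rw [h1] at hcn
      exact not_subsingleton _ (inferInstance : Subsingleton (⊥ : Subgroup S))
    · exact h1.ge
  · right
    have htop := Lib.Helper67.sup_eq_top_of_index_prime hQi h
    refine ⟨htop, ?_⟩
    have hQn : Q.Normal := Lib.Helper67.normal_of_index_eq_p hS hQi
    have e1 : Q.relIndex (Subgroup.center S) = p := by
      rw [← Subgroup.relIndex_sup_left, htop, Subgroup.relIndex_top_right, hQi]
    have e2 : Q ⊓ Subgroup.center S = Q ⊓ Subgroup.centralizer (Q : Set S) := by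
      apply le_antisymm hle0
      intro z hz
      obtain ⟨hz1, hz2⟩ := Subgroup.mem_inf.1 hz
      refine Subgroup.mem_inf.2 ⟨hz1, ?_⟩
      have hle : Q ⊔ Subgroup.center S ≤ Subgroup.centralizer {z} := by
        apply sup_le
        · intro q hq
          rw [Lib.Helper67.mem_cz]
          exact Subgroup.mem_centralizer_iff.1 hz2 q hq
        · intro c hc
          rw [Lib.Helper67.mem_cz]
          exact (Subgroup.mem_center_iff.1 hc z).symm
      rw [htop] at hle
      rw [Subgroup.mem_center_iff]
      intro g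
      exact Lib.Helper67.mem_cz.1 (hle (Subgroup.mem_top g))
    have e3 := Lib.Helper67.card_mul_relIndex (inf_le_right : Q ⊓ Subgroup.center S ≤ Subgroup.center S)
    rw [Subgroup.inf_relIndex_right, e1, e2, hZc] at e3
    rw [← e3]; ring

end Cfsg.Agent.S3808
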