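import Cfsg.Statements.S3809
-- import your own Cfsg.Agent.* helpers here
import Cfsg.Agent.Lib.Helper67.ExtraSub

set_option autoImplicit false
open Cfsg

namespace Cfsg.Agent.S3809

/-- Let S be a finite p-group with an extraspecial subgroup of index p. Then S has order p^(2+2n) for some n ≥ 1, derived length at most 3, and exponent dividing p³. -/
theorem result {S : Type*} [Group S] [Finite S] (p : ℕ) [Fact p.Prime] (hS : IsPGroup p S) (Q : Subgroup S) (hQ : Cfsg.IsExtraspecial p ↥Q) (hQi : Q.index = p) :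
    (∃ n : ℕ, 1 ≤ n ∧ Nat.card S = p ^ (2 + 2 * n)) ∧ derivedSeries S 3 = ⊥ ∧ ∀ x : S, x ^ (p ^ 3) = 1 := by
  have hp : p.Prime := Fact.out
  have hQn : Q.Normal := Lib.Helper67.normal_of_index_eq_p hS hQi
  refine ⟨?_, ?_, ?_⟩
  · obtain ⟨n, hn, hc⟩ := Lib.Helper67.extraspecial_card hQ
    refine ⟨n, hn, ?_⟩
    rw [← Subgroup.card_mul_index Q, hc, hQi]
    ring
  · have h1 : derivedSeries S 1 ≤ Q := by
      rw [derivedSeries_succ, derivedSeries_zero, ← commutator_def]
      exact Lib.Helper67.commutator_le_of_index_prime hQi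
    have h2 : derivedSeries S 2 ≤ Q ⊓ Subgroup.centralizer (Q : Set S) := by
      rw [derivedSeries_succ]
      refine (Subgroup.commutator_mono h1 h1).trans ?_
      rw [Subgroup.commutator_le]
      intro a ha b hb
      rw [commutatorElement_def]
      exact Lib.Helper67.es_comm_mem hQ a ha b hb
    rw [derivedSeries_succ, eq_bot_iff]
    refine (Subgroup.commutator_mono h2 h2).trans ?_
    rw [Subgroup.commutator_le]
    intro a ha b hb
    rw [Subgroup.mem_bot, commutatorElement_eq_one_iff_mul_comm]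
    exact Lib.Helper67.es_cent b hb a (Subgroup.mem_inf.1 ha).1
  · intro x
    have h1 : x ^ p ∈ Q := Lib.Helper67.pow_mem_of_index_eq hQi x
    have h2 := Lib.Helper67.es_pow_mem hQ h1
    have h3 := Lib.Helper67.es_Z_pow hQ h2
    rw [← h3, ← pow_mul, ← pow_mul]
    congr 1
    ring

end Cfsg.Agent.S3809
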