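import Cfsg.Statements.S3810
-- import your own Cfsg.Agent.* helpers here
import Cfsg.Agent.Lib.Helper67.ExtraSub
import Cfsg.Agent.Lib.Helper67.PGroupAux

set_option autoImplicit false
open Cfsg

namespace Cfsg.Agent.S3810

/-- Let S be a finite p-group with an extraspecial subgroup of index p. Then S has an abelian subgroup of index p if and only if S has order p⁴. -/
theorem result {S : Type*} [Group S] [Finite S] (p : ℕ) [Fact p.Prime] (hS : IsPGroup p S) (Q : Subgroup S) (hQ : Cfsg.IsExtraspecial p ↥Q) (hQi : Q.index = p) :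
    (∃ A : Subgroup S, IsMulCommutative ↥A ∧ A.index = p) ↔ Nat.card S = p ^ 4 := by
  have hp : p.Prime := Fact.out
  have hQn : Q.Normal := Lib.Helper67.normal_of_index_eq_p hS hQi
  obtain ⟨n, hn, hcQ⟩ := Lib.Helper67.extraspecial_card hQ
  have hcS : Nat.card S = p ^ (2 * n + 2) := by
    rw [← Subgroup.card_mul_index Q, hcQ, hQi]; ring
  have hZc := Lib.Helper67.es_card_Z hQ
  set Z := Q ⊓ Subgroup.centralizer (Q : Set S) with hZdef
  constructor
  · rintro ⟨A, hA, hAi⟩
    have hAn : A.Normal := Lib.Helper67.normal_of_index_eq_p hS hAi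
    have hAcomm : ∀ a ∈ A, ∀ b ∈ A, a * b = b * a := fun a ha b hb =>
      congrArg Subtype.val (hA.is_comm.comm ⟨a, ha⟩ ⟨b, hb⟩)
    have hB : (A ⊓ Q).relIndex Q = p := by
      rw [Subgroup.inf_relIndex_right]
      have hd : A.relIndex Q ∣ p := hAi ▸ Subgroup.relIndex_dvd_index_of_normal A Q
      rcases (Nat.dvd_prime hp).1 hd with h | h
      · exfalso
        have hQA := Subgroup.relIndex_eq_one.1 h
        obtain ⟨a, ha, b, hb, hab⟩ := Lib.Helper67.es_nonabelian hQ
        exact hab (hAcomm a (hQA ha) b (hQA hb))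
      · exact h
    obtain ⟨x, hxQ, hxB⟩ : ∃ x ∈ Q, x ∉ A ⊓ Q := by
      by_contra hcon
      push Not at hcon
      have : Q ≤ A ⊓ Q := hcon
      rw [Subgroup.relIndex_eq_one.2 this] at hB
      exact hp.one_lt.ne hB
    have e : (A ⊓ Q) ⊔ Subgroup.zpowers x = Q :=
      Lib.Helper67.eq_of_relIndex_prime hp le_sup_left (sup_le inf_le_right (by simpa using hxQ)) hB
        (fun hle => hxB (hle (Subgroup.mem_sup_right (Subgroup.mem_zpowers x))))
    have hCle : (A ⊓ Q) ⊓ Subgroup.centralizer {x} ≤ Z := by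
      intro b hb
      obtain ⟨hbB, hbx⟩ := Subgroup.mem_inf.1 hb
      obtain ⟨hbA, hbQ⟩ := Subgroup.mem_inf.1 hbB
      refine Subgroup.mem_inf.2 ⟨hbQ, ?_⟩
      have hle : (A ⊓ Q) ⊔ Subgroup.zpowers x ≤ Subgroup.centralizer {b} := by
        apply sup_le
        · intro c hc
          rw [Lib.Helper67.mem_cz]
          exact hAcomm c (Subgroup.mem_inf.1 hc).1 b hbA
        · rw [Subgroup.zpowers_le, Lib.Helper67.mem_cz]
          exact (Lib.Helper67.mem_cz.1 hbx).symm
      rw [e] at hle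
      rw [Subgroup.mem_centralizer_iff]
      intro q hq
      exact Lib.Helper67.mem_cz.1 (hle hq)
    have hrel : ((A ⊓ Q) ⊓ Subgroup.centralizer {x}).relIndex (A ⊓ Q) ≤ p := by
      by_cases hne : ∃ l ∈ A ⊓ Q, l * x ≠ x * l
      · exact (Lib.Helper67.relIndex_centralizer_eq hZc (Lib.Helper67.es_comm_mem hQ)
          Lib.Helper67.es_cent inf_le_right hxQ hne).le
      · push Not at hne
        have : A ⊓ Q ≤ (A ⊓ Q) ⊓ Subgroup.centralizer {x} :=
          le_inf le_rfl (fun l hl => Lib.Helper67.mem_cz.2 (hne l hl))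
        rw [Subgroup.relIndex_eq_one.2 this]
        exact hp.one_lt.le
    have hcB : Nat.card ↥(A ⊓ Q) ≤ p * p := by
      rw [← Lib.Helper67.card_mul_relIndex
        (inf_le_left : (A ⊓ Q) ⊓ Subgroup.centralizer {x} ≤ A ⊓ Q)]
      exact Nat.mul_le_mul (hZc ▸ Subgroup.card_le_of_le hCle) hrel
    have hcQ' : Nat.card Q ≤ p ^ 3 := by
      rw [← Lib.Helper67.card_mul_relIndex (inf_le_right : A ⊓ Q ≤ Q), hB]
      calc _ ≤ p * p * p := Nat.mul_le_mul_right p hcB
        _ = p ^ 3 := by ring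
    rw [hcQ] at hcQ'
    have : 2 * n + 1 ≤ 3 := (Nat.pow_le_pow_iff_right hp.one_lt).1 hcQ'
    have hn1 : n = 1 := by omega
    rw [hcS, hn1]
  · intro hc4
    have hZn : Z.Normal := by
      constructor
      intro z hz s
      obtain ⟨hzQ, hzc⟩ := Subgroup.mem_inf.1 hz
      refine Subgroup.mem_inf.2 ⟨hQn.conj_mem z hzQ s, ?_⟩
      rw [Subgroup.mem_centralizer_iff]
      intro q hq
      have h1 := Subgroup.mem_centralizer_iff.1 hzc (s⁻¹ * q * s)
        (by simpa using hQn.conj_mem q hq s⁻¹)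
      calc q * (s * z * s⁻¹) = s * ((s⁻¹ * q * s) * z) * s⁻¹ := by group
        _ = s * (z * (s⁻¹ * q * s)) * s⁻¹ := by rw [h1]
        _ = _ := by group
    have hZcen : Z ≤ Subgroup.center S := Lib.Helper67.le_center_of_normal_card_eq hS Z hZc
    have hSq : IsPGroup p (S ⧸ Z) := hS.to_quotient Z
    have hQbar : (Q.map (QuotientGroup.mk' Z)).Normal := hQn.map _ (QuotientGroup.mk'_surjective Z)
    have hQbne : Q.map (QuotientGroup.mk' Z) ≠ ⊥ := by
      intro h
      rw [Subgroup.map_eq_bot_iff, QuotientGroup.ker_mk'] at h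
      obtain ⟨a, ha, b, hb, hab⟩ := Lib.Helper67.es_nonabelian hQ
      exact hab (Lib.Helper67.es_cent b (h hb) a ha)
    obtain ⟨nb, hnb, hnbc, hnb1⟩ := Lib.Helper67.exists_mem_center_of_normal hSq _ hQbne
    obtain ⟨n0, hn0Q, rfl⟩ := hnb
    have hn0Z : n0 ∉ Z := fun h => hnb1 ((QuotientGroup.eq_one_iff n0).2 h)
    have hcomm : ∀ a ∈ (⊤ : Subgroup S), a * n0 * a⁻¹ * n0⁻¹ ∈ Z := by
      intro a _
      rw [← QuotientGroup.eq_one_iff]
      have h1 := Subgroup.mem_center_iff.1 hnbc (QuotientGroup.mk' Z a)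
      have h2 : ((a * n0 * a⁻¹ * n0⁻¹ : S) : S ⧸ Z) = (QuotientGroup.mk' Z a) * (QuotientGroup.mk' Z n0) *
        (QuotientGroup.mk' Z a)⁻¹ * (QuotientGroup.mk' Z n0)⁻¹ := by simp
      rw [h2, h1]
      group
    have hne : ∃ l ∈ (⊤ : Subgroup S), l * n0 ≠ n0 * l := by
      by_contra hcon
      push Not at hcon
      apply hn0Z
      refine Subgroup.mem_inf.2 ⟨hn0Q, ?_⟩
      rw [Subgroup.mem_centralizer_iff]
      intro q _
      exact hcon q (Subgroup.mem_top q)
    have hidx := Lib.Helper67.relIndex_centralizer_eq' hZc hcomm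
      (fun z hz h _ => Subgroup.mem_center_iff.1 (hZcen hz) h) hne
    rw [top_inf_eq, Subgroup.relIndex_top_right] at hidx
    set A := Subgroup.centralizer ({n0} : Set S) with hA
    have hcA : Nat.card A = p ^ 3 := by
      have := Subgroup.card_mul_index A
      rw [hidx, hc4] at this
      apply Nat.eq_of_mul_eq_mul_right hp.pos
      rw [this]; ring
    have hZA : Z ≤ A := fun z hz =>
      Lib.Helper67.mem_cz.2 ((Subgroup.mem_center_iff.1 (hZcen hz) n0).symm)
    have hZC : Z ≤ A ⊓ Subgroup.centralizer (A : Set S) := le_inf hZA (fun z hz => by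
      rw [Subgroup.mem_centralizer_iff]
      intro a _
      exact Subgroup.mem_center_iff.1 (hZcen hz) a)
    have hn0C : n0 ∈ A ⊓ Subgroup.centralizer (A : Set S) :=
      Subgroup.mem_inf.2 ⟨Lib.Helper67.mem_cz.2 rfl, by
        rw [Subgroup.mem_centralizer_iff]
        intro a ha
        exact Lib.Helper67.mem_cz.1 ha⟩
    have hrel : Z.relIndex (A ⊓ Subgroup.centralizer (A : Set S)) *
        (A ⊓ Subgroup.centralizer (A : Set S)).relIndex A = p * p := by
      rw [Subgroup.relIndex_mul_relIndex Z _ A hZC inf_le_left]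
      have := Lib.Helper67.card_mul_relIndex hZA
      rw [hZc, hcA] at this
      apply Nat.eq_of_mul_eq_mul_left hp.pos
      rw [this]; ring
    have h1 : Z.relIndex (A ⊓ Subgroup.centralizer (A : Set S)) ≠ 1 :=
      fun h => hn0Z (Subgroup.relIndex_eq_one.1 h hn0C)
    have hdvd : (A ⊓ Subgroup.centralizer (A : Set S)).relIndex A ∣ p := by
      have h2 : Z.relIndex (A ⊓ Subgroup.centralizer (A : Set S)) ∣ p ^ 2 :=
        ⟨_, by rw [hrel]; ring⟩
      obtain ⟨k, hk, hk2⟩ := (Nat.dvd_prime_pow hp).1 h2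
      have hk0 : k ≠ 0 := by
        rintro rfl
        exact h1 (by simpa using hk2)
      obtain ⟨j, rfl⟩ : ∃ j, k = j + 1 := ⟨k - 1, by omega⟩
      rw [hk2, pow_succ'] at hrel
      have h3 : p ^ j * (A ⊓ Subgroup.centralizer (A : Set S)).relIndex A = p :=
        Nat.eq_of_mul_eq_mul_left hp.pos (by rw [← mul_assoc]; exact hrel)
      exact ⟨p ^ j, by rw [mul_comm]; exact h3.symm⟩
    have hab := Lib.Helper67.comm_of_relIndex_center_dvd_prime hp hdvd
    exact ⟨A, ⟨⟨fun a b => Subtype.ext (hab a a.2 b b.2)⟩⟩, hidx⟩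

end Cfsg.Agent.S3810
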