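import Cfsg.Statements.S3824
-- import your own Cfsg.Agent.* helpers here
import Cfsg.Agent.S0143
import Cfsg.Agent.Lib.Helper12.Card

set_option autoImplicit false
open Cfsg

namespace Cfsg.Agent.S3824

universe u

theorem aux : ∀ (n : ℕ) (G : Type u) [Group G] [Finite G] (A : Subgroup G), Nat.card G ≤ n →
    IsMulCommutative A → (∃ k : ℕ, A.index = 2 ^ k) → Group.IsSolvable G := by
  intro n
  induction n with
  | zero =>
    intro G _ _ A hn
    exact absurd hn (by have := Nat.card_pos (α := G); omega)
  | succ n ih =>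
    intro G _ _ A hn hA hidx
    obtain ⟨k, hk⟩ := hidx
    by_cases hAbot : A = ⊥
    · rw [hAbot, Subgroup.index_bot] at hk
      have : Fact (Nat.Prime 2) := ⟨Nat.prime_two⟩
      have := (IsPGroup.of_card hk).isNilpotent
      infer_instance
    have hnt : Nontrivial G := by
      obtain ⟨a, ha1⟩ := Subgroup.ne_bot_iff_exists_ne_one.1 hAbot
      exact ⟨⟨(a : G), 1, fun h' => ha1 (Subtype.ext h')⟩⟩
    by_cases hs : IsSimpleGroup G
    · obtain ⟨a, ha1⟩ := Subgroup.ne_bot_iff_exists_ne_one.1 hAbot
      have hle : A ≤ Subgroup.centralizer ({(a : G)} : Set G) := by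
        intro x hx
        rw [Subgroup.mem_centralizer_iff]
        rintro _ rfl
        exact congrArg Subtype.val (hA.is_comm.comm a ⟨x, hx⟩)
      have hdvd : (Subgroup.centralizer ({(a : G)} : Set G)).index ∣ 2 ^ k :=
        hk ▸ Subgroup.index_dvd_of_le hle
      obtain ⟨j, -, hj⟩ := (Nat.dvd_prime_pow Nat.prime_two).1 hdvd
      have hprime := Cfsg.Agent.S0143.result 2 j Nat.prime_two (a : G)
        (fun h => ha1 (Subtype.ext h)) hj
      have : Fact (Nat.card G).Prime := ⟨hprime⟩
      have hcyc : IsCyclic G := isCyclic_of_prime_card rfl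
      let _ := hcyc.commGroup
      infer_instance
    · obtain ⟨N, hNn, hN1, hN2⟩ : ∃ N : Subgroup G, N.Normal ∧ N ≠ ⊥ ∧ N ≠ ⊤ := by
        by_contra hcon
        push Not at hcon
        apply hs
        exact ⟨fun H hH => by
          by_cases h : H = ⊥
          · left; exact h
          · right; exact hcon H hH h⟩
      have hcN : Nat.card N < Nat.card G := by
        have h1 := Subgroup.card_mul_index N
        have h2 : N.index ≠ 1 := fun h => hN2 (Subgroup.index_eq_one.1 h)
        have h3 : N.index ≠ 0 := Subgroup.index_ne_zero_of_finite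
        have h4 : 0 < Nat.card N := Nat.card_pos
        have h5 : Nat.card N * 2 ≤ Nat.card N * N.index := Nat.mul_le_mul_left _ (by omega)
        omega
      have hcQ : Nat.card (G ⧸ N) < Nat.card G := by
        have h1 := Subgroup.card_mul_index N
        rw [Subgroup.index_eq_card] at h1
        have h2 : Nat.card N ≠ 1 := fun h => hN1 (Subgroup.card_eq_one.1 h)
        have h4 : 0 < Nat.card N := Nat.card_pos
        have h3 : 0 < Nat.card (G ⧸ N) := Nat.card_pos
        have h5 : 2 * Nat.card (G ⧸ N) ≤ Nat.card N * Nat.card (G ⧸ N) :=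
          Nat.mul_le_mul_right _ (by omega)
        omega
      have s1 : Group.IsSolvable N := by
        apply ih N (A.subgroupOf N) (by omega)
        · refine ⟨⟨fun a b => Subtype.ext (Subtype.ext ?_)⟩⟩
          have h7 : ((⟨a.1.1, a.2⟩ : A) * ⟨b.1.1, b.2⟩ : A) = ⟨b.1.1, b.2⟩ * ⟨a.1.1, a.2⟩ :=
            hA.is_comm.comm _ _
          exact congrArg (Subtype.val : A → G) h7
        · have h1 : A.relIndex N ∣ 2 ^ k := by
            have e1 := Lib.Helper12.card_sup_mul_card_inf A N
            have e2 := Lib.Helper12.relIndex_mul_card' (le_sup_left : A ≤ A ⊔ N)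
            have e3 := Lib.Helper12.relIndex_mul_card' (inf_le_right : A ⊓ N ≤ N)
            rw [Subgroup.inf_relIndex_right] at e3
            have e4 : A.relIndex N = A.relIndex (A ⊔ N) := by
              have h6 : 0 < Nat.card A * Nat.card ↥(A ⊓ N) := Nat.mul_pos Nat.card_pos Nat.card_pos
              apply Nat.eq_of_mul_eq_mul_right h6
              calc A.relIndex N * (Nat.card A * Nat.card ↥(A ⊓ N))
                  = Nat.card A * (A.relIndex N * Nat.card ↥(A ⊓ N)) := by ring
                _ = Nat.card A * Nat.card N := by rw [e3]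
                _ = Nat.card ↥(A ⊔ N) * Nat.card ↥(A ⊓ N) := e1.symm
                _ = (A.relIndex (A ⊔ N) * Nat.card A) * Nat.card ↥(A ⊓ N) := by rw [e2]
                _ = _ := by ring
            rw [e4, ← hk]
            exact Subgroup.relIndex_dvd_index_of_le le_sup_left
          obtain ⟨j, -, hj⟩ := (Nat.dvd_prime_pow Nat.prime_two).1 h1
          exact ⟨j, hj⟩
      have s2 : Group.IsSolvable (G ⧸ N) := by
        apply ih (G ⧸ N) (A.map (QuotientGroup.mk' N)) (by omega)
        · refine ⟨⟨?_⟩⟩
          rintro ⟨_, ⟨a, ha, rfl⟩⟩ ⟨_, ⟨b, hb, rfl⟩⟩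
          apply Subtype.ext
          change (QuotientGroup.mk' N) a * (QuotientGroup.mk' N) b =
            (QuotientGroup.mk' N) b * (QuotientGroup.mk' N) a
          rw [← map_mul, ← map_mul]
          exact congrArg _ (congrArg Subtype.val (hA.is_comm.comm ⟨a, ha⟩ ⟨b, hb⟩))
        · have h1 : (A.map (QuotientGroup.mk' N)).index ∣ 2 ^ k :=
            hk ▸ Subgroup.index_map_dvd A (QuotientGroup.mk'_surjective N)
          obtain ⟨j, -, hj⟩ := (Nat.dvd_prime_pow Nat.prime_two).1 h1
          exact ⟨j, hj⟩
      exact Group.isSolvable_of_ker_le_range N.subtype (QuotientGroup.mk' N) (by simp)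

/-- Every finite group having an abelian subgroup whose index is a power of 2 is solvable. -/
theorem result {G : Type*} [Group G] [Finite G]
    (A : Subgroup G) (hA : IsMulCommutative A) (hidx : ∃ k : ℕ, A.index = 2 ^ k) : Group.IsSolvable G := by
  exact aux _ G A le_rfl hA hidx

end Cfsg.Agent.S3824
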