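import Cfsg.Statements.S3868
import Mathlib
import Cfsg.Agent.Lib.Helper65.MinNonClosed

set_option autoImplicit false
open Cfsg

namespace Cfsg.Agent.S3868

open Cfsg.Agent.Lib.Helper65 Cfsg.Agent.Lib.Helper1
open scoped Pointwise

theorem le_normalizer_of_isPClosed {G : Type*} [Group G] {p : ℕ} [Fact p.Prime] (H X : Subgroup G)
    (hH : IsPClosed p ↥H) (hXH : X ≤ H) (hX : IsPGroup p X) (hrel : ¬ p ∣ X.relIndex H) :
    H ≤ Subgroup.normalizer (X : Set G) := by
  have q : IsPGroup p (X.subgroupOf H) := hX.of_equiv (Subgroup.subgroupOfEquivOfLe hXH).symm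
  have h1 : (X.subgroupOf H).Normal := hH (q.toSylow hrel)
  exact (Subgroup.normal_subgroupOf_iff_le_normalizer hXH).mp h1

/-- a Sylow subgroup that is normal in a normal subgroup is normal -/
theorem normal_of_normal_in_normal {G : Type*} [Group G] [Finite G] {p : ℕ} [Fact p.Prime]
    (P : Sylow p G) (L : Subgroup G) [L.Normal] (hPL : (P : Subgroup G) ≤ L)
    (hLP : L ≤ Subgroup.normalizer ((P : Subgroup G) : Set G)) : (P : Subgroup G).Normal := by
  have hS : IsSylowIn p (P : Subgroup G) L := by
    refine ⟨hPL, P.isPGroup', fun h => P.not_dvd_index ?_⟩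
    rw [← Subgroup.relIndex_mul_index hPL]
    exact Dvd.dvd.mul_right h _
  rw [← Subgroup.normalizer_eq_top_iff, eq_top_iff]
  intro g _
  rw [mem_normalizer_iff_conj_smul]
  have hg : g ∈ Subgroup.normalizer (L : Set G) := by
    rw [Subgroup.normalizer_eq_top]; trivial
  have h1 := (hS.conj hg).le_of_normal hPL hLP P.isPGroup'
  exact (Subgroup.eq_of_le_of_card_ge h1 (card_conj_smul g _).le).symm

/-- Structure of the non-simple minimal non-p-closed groups. Call a finite group p-closed when its Sylow p-subgroups are normal, and minimal non-p-closed when it is not p-closed but every proper subgroup and every proper quotient is. If such a group G is not simple, then there is a prime q ≠ p such that G has order p · q^e, where e is the multiplicative order of q modulo p, and G has a normal subgroup A of order q^e that is elementary abelian and is a minimal normal subgroup of G (so G is the semidirect product of A by a group of order p acting irreducibly). -/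
theorem result {G : Type*} [Group G] [Finite G] {p : ℕ} [Fact p.Prime]
    (hnc : ¬ Cfsg.IsPClosed p G) (hsub : ∀ H : Subgroup G, H ≠ ⊤ → Cfsg.IsPClosed p ↥H)
    (hquo : ∀ (N : Subgroup G) [N.Normal], N ≠ ⊥ → Cfsg.IsPClosed p (G ⧸ N)) (hns : ¬ IsSimpleGroup G) :
    ∃ q : ℕ, q.Prime ∧ q ≠ p ∧ Nat.card G = p * q ^ orderOf (q : ZMod p) ∧
      ∃ A : Subgroup G, A.Normal ∧ Nat.card ↥A = q ^ orderOf (q : ZMod p) ∧ Cfsg.IsElementaryAbelian q A ∧
        ∀ B : Subgroup G, B.Normal → B ≤ A → B = ⊥ ∨ B = A := by
  have hp : p.Prime := Fact.out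
  obtain ⟨P, hPn⟩ : ∃ P : Sylow p G, ¬ (P : Subgroup G).Normal := by
    by_contra h
    push Not at h
    exact hnc h
  have hnt : Nontrivial G := by
    by_contra h
    rw [not_nontrivial_iff_subsingleton] at h
    apply hPn
    have : (P : Subgroup G) = ⊤ := Subsingleton.elim _ _
    rw [this]
    infer_instance
  obtain ⟨K, hKn, hKb, hKt⟩ : ∃ K : Subgroup G, K.Normal ∧ K ≠ ⊥ ∧ K ≠ ⊤ := by
    by_contra h
    push Not at h
    apply hns
    refine ⟨fun H hH => ?_⟩
    by_cases hb : H = ⊥
    · exact Or.inl hb
    · exact Or.inr (h H hH hb)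
  obtain ⟨N, hNK, hNn, hNne, hmin⟩ := Cfsg.Agent.Lib.Helper12.exists_minNormal_le K hKn hKb
  have hNt : N ≠ ⊤ := by
    intro h
    apply hKt
    rw [eq_top_iff, ← h]
    exact hNK
  -- quotients
  have hq : ∀ M : Subgroup G, M.Normal → M ≠ ⊥ → (M ⊔ (P : Subgroup G)).Normal := by
    intro M hM hMne
    have h1 := hquo M hMne (P.mapSurjective (QuotientGroup.mk'_surjective M))
    rw [Sylow.coe_mapSurjective] at h1
    have h2 : ((P : Subgroup G).map (QuotientGroup.mk' M)).comap (QuotientGroup.mk' M) =
        M ⊔ (P : Subgroup G) := by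
      rw [Subgroup.comap_map_eq, QuotientGroup.ker_mk', sup_comm]
    rw [← h2]
    exact h1.comap _
  have hNP : N ⊔ (P : Subgroup G) = ⊤ := by
    by_contra hL
    have hLn := hq N hNn hNne
    have hrel : ¬ p ∣ (P : Subgroup G).relIndex (N ⊔ (P : Subgroup G)) := by
      intro h
      apply P.not_dvd_index
      rw [← Subgroup.relIndex_mul_index (le_sup_right : (P : Subgroup G) ≤ N ⊔ (P : Subgroup G))]
      exact Dvd.dvd.mul_right h _
    have h1 := le_normalizer_of_isPClosed _ _ (hsub _ hL) le_sup_right P.isPGroup' hrel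
    exact hPn (normal_of_normal_in_normal P _ le_sup_right h1)
  have hpN : ¬ p ∣ Nat.card N := by
    intro hdvd
    obtain ⟨S⟩ : Nonempty (Sylow p N) := inferInstance
    have hSn := hsub N hNt S
    have hSc := S.characteristic_of_normal hSn
    have hSG : ((S : Subgroup N).map N.subtype).Normal := inferInstance
    rcases hmin _ hSG (Subgroup.map_subtype_le _) with h | h
    · apply S.ne_bot_of_dvd_card hdvd
      apply Subgroup.map_injective N.subtype_injective
      rw [h, Subgroup.map_bot]
    · have hNp : IsPGroup p N := by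
        rw [← h]
        exact S.isPGroup'.map _
      have h1 : N ≤ P := hNp.le_sylow_of_normal P
      apply hPn
      have h2 : (P : Subgroup G) = ⊤ := by
        rw [← hNP]
        exact (sup_eq_right.mpr h1).symm
      rw [h2]
      infer_instance
  have hPne : (P : Subgroup G) ≠ ⊥ := by
    intro h
    apply hPn
    rw [h]
    infer_instance
  obtain ⟨q, hq1, hq2, hq3, hq4, hq5⟩ := minimal_structure N hNne hmin hpN (P : Subgroup G) P.isPGroup' hPne hNP
    (fun H hH X hXH hXP hrel => le_normalizer_of_isPClosed H X (hsub H hH) hXH (P.isPGroup'.to_le hXP) hrel)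
    (by
      intro M hM hMP
      by_contra hMne
      have h1 := hq M hM hMne
      rw [sup_eq_right.mpr hMP] at h1
      exact hPn h1)
  exact ⟨q, hq1, hq2, hq3, N, hNn, hq4, hq5, hmin⟩

end Cfsg.Agent.S3868
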