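import Cfsg.Statements.S3869
import Mathlib
import Cfsg.Agent.Lib.Helper65.MinNormalPrime

set_option autoImplicit false
open Cfsg

namespace Cfsg.Agent.S3869

open Cfsg.Agent.Lib.Helper65

/-- Let p and q be distinct primes and G a finite non-abelian group with a normal elementary abelian q-subgroup A that is a minimal normal subgroup of G and has index p. Then A has order q^e with e the multiplicative order of q modulo p, and G is minimal non-p-closed: its Sylow p-subgroups are not normal, while in every proper subgroup and in every proper quotient of G the Sylow p-subgroups are normal. -/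
theorem result {G : Type*} [Group G] [Finite G] {p q : ℕ} [Fact p.Prime] (hq : q.Prime) (hpq : q ≠ p)
    (hna : ¬ IsMulCommutative G) (A : Subgroup G) [A.Normal] (hA : Cfsg.IsElementaryAbelian q A) (hidx : A.index = p)
    (hmin : ∀ B : Subgroup G, B.Normal → B ≤ A → B = ⊥ ∨ B = A) :
    Nat.card ↥A = q ^ orderOf (q : ZMod p) ∧ ¬ Cfsg.IsPClosed p G ∧ (∀ H : Subgroup G, H ≠ ⊤ → Cfsg.IsPClosed p ↥H) ∧
      ∀ (N : Subgroup G) [N.Normal], N ≠ ⊥ → Cfsg.IsPClosed p (G ⧸ N) := by
  have hp : p.Prime := Fact.out
  have hna' : ¬ ∀ x y : G, x * y = y * x := fun h => hna ⟨⟨h⟩⟩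
  have hAcomm : ∀ a ∈ A, ∀ b ∈ A, a * b = b * a := by
    intro a ha b hb
    exact congrArg Subtype.val (hA.1.is_comm.comm ⟨a, ha⟩ ⟨b, hb⟩)
  have hAq : IsPGroup q A := by
    intro x
    exact ⟨1, Subtype.ext (by simpa using hA.2 x.1 x.2)⟩
  have hnocen : ∀ c, c ∉ A → ¬ ∀ a ∈ A, c * a = a * c := fun c hc hcen =>
    hna' (comm_of_centralizing hp A hAcomm hidx c hc hcen)
  -- a normal subgroup meeting `A` trivially is trivial
  have hdisj : ∀ N : Subgroup G, N.Normal → N ⊓ A = ⊥ → N = ⊥ := by
    intro N hN hNA
    by_contra hne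
    have hNA' : ¬ N ≤ A := by
      intro h
      apply hne
      rw [← hNA]
      exact (inf_eq_left.mpr h).symm
    obtain ⟨c, hcN, hcA⟩ := SetLike.not_le_iff_exists.mp hNA'
    apply hnocen c hcA
    intro a ha
    exact (Subgroup.commute_of_normal_of_disjoint N A hN inferInstance (disjoint_iff.mpr hNA) c a hcN ha).eq
  refine ⟨card_minNormal_of_index_prime hq hpq hna' A hA hidx hmin, ?_, ?_, ?_⟩
  · intro hcl
    obtain ⟨P⟩ : Nonempty (Sylow p G) := inferInstance
    have hPn := hcl P
    have hPA : (P : Subgroup G) ⊓ A = ⊥ := by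
      haveI : Fact q.Prime := ⟨hq⟩
      exact disjoint_iff.mp (IsPGroup.disjoint_of_ne p q hpq.symm _ _ P.isPGroup' hAq)
    have hPbot := hdisj P hPn hPA
    have hdvd : p ∣ Nat.card G := by
      rw [← hidx]; exact A.index_dvd_card
    exact P.ne_bot_of_dvd_card hdvd hPbot
  · intro H hH
    by_cases hHA : H ≤ A
    · exact isPClosed_of_isPGroup_ne hp hq hpq (hAq.to_le hHA)
    · obtain ⟨c, hcH, hcA⟩ := SetLike.not_le_iff_exists.mp hHA
      have hsup := sup_zpowers_eq_top_of_index_prime hp A hidx c hcA
      have hn : (H ⊓ A).Normal := by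
        rw [← Subgroup.normalizer_eq_top_iff, eq_top_iff, ← hsup]
        refine sup_le ?_ ?_
        · rw [Subgroup.le_normalizer_iff]
          intro a ha b hb
          rw [hAcomm a ha b hb.2, mul_inv_cancel_right]
          exact hb
        · have h1 : H ≤ Subgroup.normalizer ((H ⊓ A : Subgroup G) : Set G) := by
            rw [Subgroup.le_normalizer_iff]
            intro h hh b hb
            exact ⟨H.mul_mem (H.mul_mem hh hb.1) (H.inv_mem hh), ‹A.Normal›.conj_mem b hb.2 h⟩
          rw [Subgroup.zpowers_le]
          exact h1 hcH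
      rcases hmin _ hn inf_le_right with h | h
      · apply isPClosed_of_isPGroup
        have h1 : A.subgroupOf H = ⊥ := by
          rw [← Subgroup.inf_subgroupOf_right, inf_comm, h, Subgroup.bot_subgroupOf]
        have h2 : A.relIndex H ∣ p := by
          rw [← hidx]; exact Subgroup.relIndex_dvd_index_of_normal A H
        rw [Subgroup.relIndex, h1, Subgroup.index_bot] at h2
        rcases (Nat.dvd_prime hp).mp h2 with h3 | h3
        · exact IsPGroup.of_card (n := 0) (by rw [h3, pow_zero])
        · exact IsPGroup.of_card (n := 1) (by rw [h3, pow_one])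
      · exfalso
        apply hH
        rw [eq_top_iff, ← hsup]
        exact sup_le (inf_eq_right.mp h) (by rw [Subgroup.zpowers_le]; exact hcH)
  · intro N hN hNne
    have hn : (N ⊓ A).Normal := inferInstance
    rcases hmin _ hn inf_le_right with h | h
    · exact absurd (hdisj N hN h) hNne
    · apply isPClosed_of_isPGroup
      have h2 : N.index ∣ p := by
        rw [← hidx]; exact Subgroup.index_dvd_of_le (inf_eq_right.mp h)
      have h3 : Nat.card (G ⧸ N) = N.index := rfl
      rcases (Nat.dvd_prime hp).mp h2 with h4 | h4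
      · exact IsPGroup.of_card (n := 0) (by rw [h3, h4, pow_zero])
      · exact IsPGroup.of_card (n := 1) (by rw [h3, h4, pow_one])

end Cfsg.Agent.S3869
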