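import Cfsg.Statements.S3870
-- import your own Cfsg.Agent.* helpers here

set_option autoImplicit false
open Cfsg
open scoped Pointwise

namespace Cfsg.Agent.S3870


/-- normalizers grow in `p`-groups, phrased inside an ambient group. -/
theorem lt_inf_normalizer {G : Type*} [Group G] [Finite G] {p : ℕ} [Fact p.Prime] {S B : Subgroup G}
    (hS : IsPGroup p S) (h : B < S) : B < S ⊓ Subgroup.normalizer (B : Set G) := by
  have hnil : Group.IsNilpotent S := hS.isNilpotent
  have hnc := Group.normalizerCondition_of_isNilpotent (G := S)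
  have h1 : B.subgroupOf S < ⊤ := by
    rw [lt_top_iff_ne_top]
    intro h2
    rw [Subgroup.subgroupOf_eq_top] at h2
    exact absurd (le_antisymm h.le h2) h.ne
  have h2 := hnc _ h1
  rw [← Subgroup.subgroupOf_normalizer_eq h.le] at h2
  obtain ⟨_, x, hx, hxn⟩ := SetLike.lt_iff_le_and_exists.mp h2
  rw [SetLike.lt_iff_le_and_exists]
  refine ⟨le_inf h.le Subgroup.le_normalizer, x, ⟨x.2, hx⟩, hxn⟩

theorem card_lt_of_lt {G : Type*} [Group G] [Finite G] {H K : Subgroup G} (h : H < K) :
    Nat.card H < Nat.card K := by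
  by_contra hc
  exact h.ne (Subgroup.eq_of_le_of_card_ge h.le (not_lt.mp hc))

/-- in a `p`-closed subgroup `N`, all `p`-subgroups of `N` lie in one Sylow subgroup of `G` -/
theorem exists_sylow_of_pclosed {G : Type*} [Group G] [Finite G] {p : ℕ} [Fact p.Prime]
    (N : Subgroup G) (hN : Cfsg.IsPClosed p ↥N) :
    ∃ P₁ : Sylow p G, ∀ U : Subgroup G, U ≤ N → IsPGroup p U → U ≤ P₁ := by
  obtain ⟨S⟩ : Nonempty (Sylow p ↥N) := inferInstance
  have hSn : (S : Subgroup ↥N).Normal := hN S
  have hSp : IsPGroup p ((S : Subgroup ↥N).map N.subtype) := S.2.map _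
  obtain ⟨P₁, hP₁⟩ := hSp.exists_le_sylow
  refine ⟨P₁, fun U hU hUp => ?_⟩
  have h1 : IsPGroup p (U.subgroupOf N) :=
    hUp.comap_of_injective _ N.subtype_injective
  have h2 : U.subgroupOf N ≤ S := by
    obtain ⟨S', hS'⟩ := h1.exists_le_sylow
    have h3 : (S : Subgroup ↥N) ≤ S' := S.2.le_sylow_of_normal S'
    have h4 : (S' : Subgroup ↥N) = S := S.is_maximal' S'.2 h3
    exact h4 ▸ hS'
  intro u hu
  apply hP₁
  exact ⟨⟨u, hU hu⟩, h2 hu, rfl⟩

/-- Let G be a finite simple group whose Sylow p-subgroups are not normal but such that every proper subgroup of G has a normal Sylow p-subgroup. Then any two distinct Sylow p-subgroups of G intersect trivially, and for every Sylow p-subgroup P the normalizer of every non-identity subgroup of P lies in the normalizer of P. -/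
theorem result {G : Type*} [Group G] [Finite G] [IsSimpleGroup G] {p : ℕ} [Fact p.Prime]
    (hnc : ¬ Cfsg.IsPClosed p G) (hsub : ∀ H : Subgroup G, H ≠ ⊤ → Cfsg.IsPClosed p ↥H) :
    (∀ P Q : Sylow p G, P ≠ Q → (P : Subgroup G) ⊓ (Q : Subgroup G) = ⊥) ∧
      ∀ (P : Sylow p G) (R : Subgroup G), R ≤ P → R ≠ ⊥ →
        Subgroup.normalizer (R : Set G) ≤ Subgroup.normalizer ((P : Subgroup G) : Set G) := by
  classical
  -- proper normalizers
  have hprop : ∀ D : Subgroup G, D ≠ ⊥ → IsPGroup p D → Subgroup.normalizer (D : Set G) ≠ ⊤ := by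
    intro D hD hDp htop
    have hDn : D.Normal := Subgroup.normalizer_eq_top_iff.mp htop
    rcases hDn.eq_bot_or_eq_top with h | h
    · exact hD h
    · apply hnc
      intro P
      have h1 : (⊤ : Subgroup G) ≤ P := by
        obtain ⟨Q, hQ⟩ := hDp.exists_le_sylow
        rw [h] at hQ
        have hQtop : (Q : Subgroup G) = ⊤ := top_le_iff.mp hQ
        have hc : Nat.card (P : Subgroup G) = Nat.card (Q : Subgroup G) := by
          rw [Sylow.card_eq_multiplicity, Sylow.card_eq_multiplicity]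
        rw [← hQtop]
        exact (Subgroup.eq_of_le_of_card_ge (hQtop ▸ le_top) hc.ge).ge
      rw [top_le_iff.mp h1]
      infer_instance
  have hTI : ∀ P Q : Sylow p G, P ≠ Q → (P : Subgroup G) ⊓ (Q : Subgroup G) = ⊥ := by
    by_contra hcon
    push Not at hcon
    obtain ⟨P₀, Q₀, hne₀, hD₀⟩ := hcon
    obtain ⟨⟨P, Q⟩, ⟨hne, hD⟩, hmax⟩ := Set.exists_max_image
      {x : Sylow p G × Sylow p G | x.1 ≠ x.2 ∧ (x.1 : Subgroup G) ⊓ (x.2 : Subgroup G) ≠ ⊥}
      (fun x => Nat.card ((x.1 : Subgroup G) ⊓ (x.2 : Subgroup G) : Subgroup G)) (Set.toFinite _)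
      ⟨(P₀, Q₀), hne₀, hD₀⟩
    simp only at hne hD hmax
    set D := (P : Subgroup G) ⊓ (Q : Subgroup G) with hDdef
    have hDp : IsPGroup p D := P.2.to_le inf_le_left
    have hcardPQ : Nat.card (P : Subgroup G) = Nat.card (Q : Subgroup G) := by
      rw [Sylow.card_eq_multiplicity, Sylow.card_eq_multiplicity]
    have hDP : D < P := by
      refine lt_of_le_of_ne inf_le_left fun h => hne ?_
      have h1 : (P : Subgroup G) ≤ Q := h ▸ inf_le_right
      exact Sylow.ext (Subgroup.eq_of_le_of_card_ge h1 hcardPQ.ge)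
    have hDQ : D < Q := by
      refine lt_of_le_of_ne inf_le_right fun h => hne ?_
      have h1 : (Q : Subgroup G) ≤ P := h ▸ inf_le_left
      exact (Sylow.ext (Subgroup.eq_of_le_of_card_ge h1 hcardPQ.le)).symm
    obtain ⟨P₁, hP₁⟩ := exists_sylow_of_pclosed (Subgroup.normalizer (D : Set G))
      (hsub _ (hprop D hD hDp))
    have key : ∀ R : Sylow p G, D < R → R = P₁ := by
      intro R hDR
      by_contra hRP
      have h1 := lt_inf_normalizer R.2 hDR
      have h2 : (R : Subgroup G) ⊓ Subgroup.normalizer (D : Set G) ≤ P₁ :=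
        hP₁ _ inf_le_right (R.2.to_le inf_le_left)
      have h3 : (R : Subgroup G) ⊓ Subgroup.normalizer (D : Set G) ≤ (R : Subgroup G) ⊓ P₁ :=
        le_inf inf_le_left h2
      have h4 : D < (R : Subgroup G) ⊓ P₁ := lt_of_lt_of_le h1 h3
      have h5 : (R : Subgroup G) ⊓ P₁ ≠ ⊥ := by
        intro h
        rw [h] at h4
        exact not_lt_bot h4
      have h6 := hmax (R, P₁) ⟨hRP, h5⟩
      exact absurd (card_lt_of_lt h4) (not_lt.mpr h6)
    exact hne ((key P hDP).trans (key Q hDQ).symm)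
  refine ⟨hTI, ?_⟩
  intro P R hRP hR g hg
  by_contra hgP
  have hne : g • P ≠ P := by
    intro h
    apply hgP
    exact Sylow.smul_eq_iff_mem_normalizer.mp h
  have h1 := hTI (g • P) P hne
  apply hR
  rw [eq_bot_iff, ← h1]
  intro x hx
  refine ⟨?_, hRP hx⟩
  change x ∈ MulAut.conj g • (P : Subgroup G)
  rw [Subgroup.mem_pointwise_smul_iff_inv_smul_mem]
  apply hRP
  have h2 := (Subgroup.mem_normalizer_iff.mp (Subgroup.inv_mem _ hg) x).mp hx
  simpa [MulAut.smul_def] using h2

end Cfsg.Agent.S3870
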