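import Cfsg.Statements.S4209
import Cfsg.Agent.Lib.Helper15.HallPetrescu

set_option autoImplicit false
open Cfsg

namespace Cfsg.Agent.S4209

theorem pow_dvd_choose {p : ℕ} (hp : p.Prime) (e i : ℕ) (h0 : 1 ≤ i) (hi : i < p) :
    p ^ e ∣ (p ^ e).choose i := by
  obtain ⟨k, rfl⟩ : ∃ k, i = k + 1 := ⟨i - 1, by omega⟩
  obtain ⟨N, hN⟩ : ∃ N, p ^ e = N + 1 := ⟨p ^ e - 1, by have := Nat.pos_of_ne_zero (pow_ne_zero e hp.ne_zero); omega⟩
  have h1 := Nat.add_one_mul_choose_eq N k
  have h2 : p ^ e ∣ (p ^ e).choose (k + 1) * (k + 1) := by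
    rw [hN]
    exact ⟨_, h1.symm⟩
  refine Nat.Coprime.dvd_of_dvd_mul_right ?_ h2
  apply Nat.Coprime.pow_left
  exact (Nat.Prime.coprime_iff_not_dvd hp).mpr (fun h => by
    have := Nat.le_of_dvd (by omega) h
    omega)

/-- A finite `p`-group of nilpotency class less than `p` (the term of index `p - 1` of the lower central series of the whole group, indexed from `0`, is trivial) is a regular `p`-group. -/
theorem result {G : Type*} [Group G] [Finite G] {p : ℕ} [Fact p.Prime] (hG : IsPGroup p G) (hcl : (⊤ : Subgroup G).lowerCentralSeries (p - 1) = ⊥) : Cfsg.IsRegularPGroup p G := by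
  have hp : p.Prime := Fact.out
  refine ⟨hG, fun a b n => ?_⟩
  set H := Subgroup.closure ({a, b} : Set G) with hH
  have haH : a ∈ H := Subgroup.subset_closure (by simp)
  have hbH : b ∈ H := Subgroup.subset_closure (by simp)
  have hcl' : Cfsg.Agent.Lib.Helper15.Pearl.Gm ↥H (p - 1) = ⊥ := by
    have h1 : ((⊤ : Subgroup ↥H).lowerCentralSeries (p - 1)).map H.subtype ≤ ⊥ := by
      rw [Subgroup.top_subtype_lowerCentralSeries, ← hcl]
      exact Subgroup.lowerCentralSeries_mono (p - 1) le_top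
    rw [le_bot_iff, Subgroup.map_eq_bot_iff_of_injective _ H.subtype_injective] at h1
    exact h1
  have key := Cfsg.Agent.Lib.Helper15.HP.hall_petrescu (⟨a, haH⟩ : ↥H) ⟨b, hbH⟩ (p - 1) hcl'
    ((Cfsg.powerClosure p n ⁅H, H⁆).comap H.subtype) (p ^ n) (by
      intro i hi1 hi2 c hc
      obtain ⟨k, hk⟩ := pow_dvd_choose hp n (i + 1) (by omega) (by omega)
      rw [hk, mul_comm, pow_mul, Subgroup.mem_comap]
      apply Subgroup.subset_closure
      refine ⟨(c : G) ^ k, Subgroup.pow_mem _ ?_ _, by simp⟩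
      have h1 : c ∈ Cfsg.Agent.Lib.Helper15.Pearl.Gm ↥H 1 :=
        Cfsg.Agent.Lib.Helper15.Pearl.Gm_anti hi1 hc
      have h2 : (c : G) ∈ ((⊤ : Subgroup ↥H).lowerCentralSeries 1).map H.subtype :=
        Subgroup.mem_map_of_mem H.subtype h1
      rw [Subgroup.top_subtype_lowerCentralSeries] at h2
      exact h2)
  rw [Subgroup.mem_comap] at key
  refine ⟨_, key, ?_⟩
  simp only [Subgroup.subtype_apply, Subgroup.coe_mul, Subgroup.coe_inv, Subgroup.coe_pow]
  group

end Cfsg.Agent.S4209
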