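import Cfsg.Statements.S4584
-- import your own Cfsg.Agent.* helpers here
import Cfsg.Agent.Lib.Helper13.CyclicExt
import Cfsg.Agent.Lib.Helper67.PGroupAux

set_option autoImplicit false
open Cfsg

namespace Cfsg.Agent.S4584

theorem card_lt {P : Type*} [Group P] [Finite P] {H K : Subgroup P} (h : H < K) :
    Nat.card ↥H < Nat.card ↥K := by
  rcases (Subgroup.card_le_of_le h.le).lt_or_eq with h1 | h1
  · exact h1
  · exact absurd (Subgroup.eq_of_le_of_card_ge h.le h1.ge) h.ne

theorem sup_zpowers_eq_top {P : Type*} [Group P] [Finite P] {p : ℕ} (hp : p.Prime) {N : Subgroup P}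
    (hN : N.index = p) {x : P} (hx : x ∉ N) : N ⊔ Subgroup.zpowers x = ⊤ := by
  have h1 : (N ⊔ Subgroup.zpowers x).index ∣ N.index := Subgroup.index_dvd_of_le le_sup_left
  rw [hN, Nat.dvd_prime hp] at h1
  rcases h1 with h1 | h1
  · exact Subgroup.index_eq_one.mp h1
  · exfalso
    apply hx
    have h2 : N = N ⊔ Subgroup.zpowers x := by
      apply Subgroup.eq_of_le_of_card_ge le_sup_left
      have e1 := Subgroup.card_mul_index N
      have e2 := Subgroup.card_mul_index (N ⊔ Subgroup.zpowers x)
      rw [hN] at e1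
      rw [h1, ← e1] at e2
      exact le_of_eq (Nat.eq_of_mul_eq_mul_right hp.pos e2)
    rw [h2]
    exact Subgroup.mem_sup_right (Subgroup.mem_zpowers x)

/-- `A` abelian of prime index in `P`, `P` not abelian-by-... : `|Z(P)| |P'| = |A|`. -/
theorem card_center_mul_card_commutator {P : Type*} [Group P] [Finite P] {p : ℕ} (hp : p.Prime)
    (N : Subgroup P) [N.Normal] (hN : N.index = p) (hab : ∀ a ∈ N, ∀ b ∈ N, a * b = b * a)
    (hZ : Subgroup.center P ≤ N) :
    Nat.card ↥(Subgroup.center P) * Nat.card ↥(commutator P) = Nat.card ↥N := by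
  obtain ⟨b, hb⟩ : ∃ x : P, x ∉ N := by
    by_contra h
    push Not at h
    have : N = ⊤ := eq_top_iff.mpr fun x _ => h x
    rw [this, Subgroup.index_top] at hN
    exact hp.one_lt.ne hN
  have htop := sup_zpowers_eq_top hp hN hb
  have e1 := Cfsg.Agent.Lib.Helper13.card_ker_mul_card_commutator N b htop
  have hc : commutator ↥N = ⊥ := by
    rw [commutator_def, Subgroup.commutator_eq_bot_iff_le_centralizer]
    intro x _
    rw [Subgroup.mem_centralizer_iff]
    intro y _
    exact Subtype.ext (hab _ y.2 _ x.2)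
  rw [hc, Subgroup.map_bot, Subgroup.card_bot, mul_one] at e1
  rw [← e1]
  congr 1
  apply Nat.card_congr
  refine ⟨fun z => ⟨⟨z.1, hZ z.2⟩, ?_⟩, fun n => ⟨n.1.1, ?_⟩, fun z => rfl, fun n => rfl⟩
  · rw [Subgroup.mem_bot]
    have := Subgroup.mem_center_iff.mp z.2 b
    change b * z.1 * b⁻¹ * (z.1)⁻¹ = 1
    rw [this, mul_inv_cancel_right, mul_inv_cancel]
  · have h1 : b * n.1.1 * b⁻¹ * (n.1.1)⁻¹ = 1 := Subgroup.mem_bot.mp n.2
    have h2 : N ⊔ Subgroup.zpowers b ≤ Subgroup.centralizer ({n.1.1} : Set P) := by
      apply sup_le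
      · intro m hm
        rw [Subgroup.mem_centralizer_singleton_iff]
        exact hab _ hm _ n.1.2
      · rw [Subgroup.zpowers_le, Subgroup.mem_centralizer_singleton_iff]
        rw [mul_inv_eq_one, mul_inv_eq_iff_eq_mul] at h1
        exact h1
    rw [htop] at h2
    rw [Subgroup.mem_center_iff]
    intro g
    exact Subgroup.mem_centralizer_singleton_iff.mp (h2 (Subgroup.mem_top g))

theorem lemmaA {P : Type*} [Group P] [Finite P] (p : ℕ) [Fact p.Prime] (hP : Nat.card P = p ^ 4)
    (a : P) (ha : a ∉ Subgroup.center P) (hidx : (Subgroup.centralizer ({a} : Set P)).index = p) :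
    Nat.card ↥(Subgroup.center P) * Nat.card ↥(commutator P) = p ^ 3 := by
  have hp : p.Prime := Fact.out
  have hPp : IsPGroup p P := IsPGroup.of_card hP
  set N := Subgroup.centralizer ({a} : Set P) with hN
  have hcardN : Nat.card ↥N = p ^ 3 := by
    have e := Subgroup.card_mul_index N
    rw [hidx, hP] at e
    apply Nat.eq_of_mul_eq_mul_right hp.pos
    rw [e]; ring
  have hNn : N.Normal := by
    apply Subgroup.normal_of_index_eq_minFac_card
    rw [hidx, hP, hp.pow_minFac (by norm_num)]
  have hZN : Subgroup.center P ≤ N := Subgroup.center_le_centralizer _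
  have hab : ∀ u ∈ N, ∀ v ∈ N, u * v = v * u := by
    apply Cfsg.Agent.Lib.Helper67.comm_of_relIndex_center_dvd_prime hp
    set Zn := N ⊓ Subgroup.centralizer (N : Set P) with hZn
    have haZn : a ∈ Zn := by
      refine Subgroup.mem_inf.mpr ⟨?_, ?_⟩
      · rw [hN, Subgroup.mem_centralizer_singleton_iff]
      · rw [Subgroup.mem_centralizer_iff]
        intro n hn
        exact Subgroup.mem_centralizer_singleton_iff.mp hn
    have hlt : Subgroup.center P < Zn := by
      refine lt_of_le_of_ne (le_inf hZN (Subgroup.center_le_centralizer _)) ?_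
      intro h
      exact ha (h ▸ haZn)
    have h1 := card_lt hlt
    have hnt : Nontrivial P := by
      rw [← Finite.one_lt_card_iff_nontrivial, hP]
      exact Nat.one_lt_pow (by norm_num) hp.one_lt
    have hcn := hPp.center_nontrivial
    obtain ⟨j, hj0, hj⟩ := (hPp.to_subgroup (Subgroup.center P)).nontrivial_iff_card.mp hcn
    obtain ⟨k, hk3, hk⟩ := (Nat.dvd_prime_pow hp).mp (hcardN ▸ Subgroup.card_dvd_of_le (inf_le_left : Zn ≤ N))
    rw [hj, hk] at h1
    have hjk : j < k := (Nat.pow_lt_pow_iff_right hp.one_lt).mp h1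
    have e := Cfsg.Agent.Lib.Helper67.card_mul_relIndex (inf_le_left : Zn ≤ N)
    rw [hk, hcardN] at e
    have hk2 : k = 2 ∨ k = 3 := by omega
    rcases hk2 with rfl | rfl
    · have : Zn.relIndex N = p := by
        apply Nat.eq_of_mul_eq_mul_left (pow_pos hp.pos 2)
        rw [e]; ring
      rw [this]
    · have : Zn.relIndex N = 1 := by
        apply Nat.eq_of_mul_eq_mul_left (pow_pos hp.pos 3)
        rw [e]; ring
      rw [this]; exact one_dvd _
  rw [card_center_mul_card_commutator hp N hidx hab hZN, hcardN]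

/-- Let p be a prime and P a group of order p^4. Then the derived subgroup P' has order p if and only if the centre Z(P) has index p^2 in P. -/
theorem result {P : Type*} [Group P] [Finite P] (p : ℕ) [Fact p.Prime] (hP : Nat.card P = p ^ 4) :
    Nat.card (commutator P) = p ↔ (Subgroup.center P).index = p ^ 2 := by
  have hp : p.Prime := Fact.out
  have hPp : IsPGroup p P := IsPGroup.of_card hP
  constructor
  · intro h
    have hcen : commutator P ≤ Subgroup.center P :=
      Cfsg.Agent.Lib.Helper67.le_center_of_normal_card_eq hPp _ h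
    obtain ⟨a, l, hal⟩ : ∃ a l : P, l * a ≠ a * l := by
      by_contra hcon
      push Not at hcon
      have : commutator P = ⊥ := by
        rw [commutator_def, Subgroup.commutator_eq_bot_iff_le_centralizer]
        intro x _
        rw [Subgroup.mem_centralizer_iff]
        intro y _
        exact hcon x y
      rw [this, Subgroup.card_bot] at h
      exact hp.one_lt.ne h
    have h1 := Cfsg.Agent.Lib.Helper67.relIndex_centralizer_eq' (Z := commutator P) (L := ⊤) h (x := a)
      (fun g _ => Subgroup.commutator_mem_commutator (Subgroup.mem_top g) (Subgroup.mem_top a))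
      (fun z hz g _ => Subgroup.mem_center_iff.mp (hcen hz) g) ⟨l, Subgroup.mem_top l, hal⟩
    rw [top_inf_eq, Subgroup.relIndex_top_right] at h1
    have ha : a ∉ Subgroup.center P := fun hc => hal (Subgroup.mem_center_iff.mp hc l)
    have h2 := lemmaA p hP a ha h1
    rw [h] at h2
    have h3 : Nat.card ↥(Subgroup.center P) = p ^ 2 := by
      apply Nat.eq_of_mul_eq_mul_right hp.pos
      rw [h2]; ring
    have h4 := Subgroup.card_mul_index (Subgroup.center P)
    rw [h3, hP] at h4
    apply Nat.eq_of_mul_eq_mul_left (pow_pos hp.pos 2)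
    rw [h4]; ring
  · intro h
    have h4 := Subgroup.card_mul_index (Subgroup.center P)
    rw [h, hP] at h4
    have h3 : Nat.card ↥(Subgroup.center P) = p ^ 2 := by
      apply Nat.eq_of_mul_eq_mul_right (pow_pos hp.pos 2)
      rw [h4]; ring
    obtain ⟨a, ha⟩ : ∃ a : P, a ∉ Subgroup.center P := by
      by_contra hcon
      push Not at hcon
      have : Subgroup.center P = ⊤ := eq_top_iff.mpr fun x _ => hcon x
      rw [this, Subgroup.index_top] at h
      exact (Nat.one_lt_pow (by norm_num) hp.one_lt).ne h
    have hlt1 : Subgroup.center P < Subgroup.centralizer ({a} : Set P) := by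
      refine lt_of_le_of_ne (Subgroup.center_le_centralizer _) ?_
      intro he
      apply ha
      rw [he, Subgroup.mem_centralizer_singleton_iff]
    have hlt2 : Subgroup.centralizer ({a} : Set P) < ⊤ := by
      rw [lt_top_iff_ne_top]
      intro he
      apply ha
      rw [Subgroup.mem_center_iff]
      intro g
      exact Subgroup.mem_centralizer_singleton_iff.mp (he ▸ Subgroup.mem_top g)
    have c1 := card_lt hlt1
    have c2 := card_lt hlt2
    obtain ⟨k, -, hk⟩ := (Nat.dvd_prime_pow hp).mp (hP ▸ Subgroup.card_subgroup_dvd_card (Subgroup.centralizer ({a} : Set P)))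
    rw [h3, hk] at c1
    rw [hk, Subgroup.card_top, hP] at c2
    have k1 := (Nat.pow_lt_pow_iff_right hp.one_lt).mp c1
    have k2 := (Nat.pow_lt_pow_iff_right hp.one_lt).mp c2
    have hk3 : k = 3 := by omega
    subst hk3
    have hidx : (Subgroup.centralizer ({a} : Set P)).index = p := by
      have e := Subgroup.card_mul_index (Subgroup.centralizer ({a} : Set P))
      rw [hk, hP] at e
      apply Nat.eq_of_mul_eq_mul_left (pow_pos hp.pos 3)
      rw [e]; ring
    have h2 := lemmaA p hP a ha hidx
    rw [h3] at h2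
    apply Nat.eq_of_mul_eq_mul_left (pow_pos hp.pos 2)
    rw [h2]; ring

end Cfsg.Agent.S4584
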