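import Cfsg.Statements.S4585
-- import your own Cfsg.Agent.* helpers here
import Cfsg.Agent.S4584

set_option autoImplicit false
open Cfsg

namespace Cfsg.Agent.S4585

open scoped commutatorElement

theorem lcs_lt {P : Type*} [Group P] [Group.IsNilpotent P] (n : ℕ)
    (h : (⊤ : Subgroup P).lowerCentralSeries n ≠ ⊥) :
    (⊤ : Subgroup P).lowerCentralSeries (n + 1) < (⊤ : Subgroup P).lowerCentralSeries n := by
  refine lt_of_le_of_ne (Subgroup.lowerCentralSeries_antitone _ (Nat.le_succ n)) ?_
  intro he
  apply h
  have hk : ∀ k : ℕ, (⊤ : Subgroup P).lowerCentralSeries (n + k) = (⊤ : Subgroup P).lowerCentralSeries n := by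
    intro k
    induction k with
    | zero => rfl
    | succ k ih =>
      rw [← add_assoc, Subgroup.lowerCentralSeries_succ, ih, ← Subgroup.lowerCentralSeries_succ, he]
  rw [← hk (Group.nilpotencyClass P), eq_bot_iff, ← Subgroup.lowerCentralSeries_nilpotencyClass]
  exact Subgroup.lowerCentralSeries_antitone _ (Nat.le_add_left _ _)

theorem commutator_eq_bot_of_index_dvd {P : Type*} [Group P] [Group.IsNilpotent P] {p : ℕ} (hp : p.Prime)
    (h : (commutator P).index ∣ p) : commutator P = ⊥ := by
  by_contra hne
  have hL1 : (⊤ : Subgroup P).lowerCentralSeries 1 = commutator P := Subgroup.top_lowerCentralSeries_one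
  have hlt := lcs_lt (P := P) 1 (by rw [hL1]; exact hne)
  set K := (⊤ : Subgroup P).lowerCentralSeries 2 with hK
  have hKn : K.Normal := by rw [hK]; infer_instance
  have hcen : (commutator P).map (QuotientGroup.mk' K) ≤ Subgroup.center (P ⧸ K) := by
    rintro _ ⟨a, ha, rfl⟩
    rw [Subgroup.mem_center_iff]
    intro g
    obtain ⟨g, rfl⟩ := QuotientGroup.mk'_surjective K g
    have h1 : ⁅a, g⁆ ∈ K := by
      rw [hK, Subgroup.lowerCentralSeries_succ, hL1]
      exact Subgroup.commutator_mem_commutator ha (Subgroup.mem_top g)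
    have h2 : (QuotientGroup.mk' K) ⁅a, g⁆ = 1 := (QuotientGroup.eq_one_iff _).mpr h1
    rw [map_commutatorElement, commutatorElement_eq_one_iff_mul_comm] at h2
    exact h2.symm
  have hidx : (Subgroup.center (P ⧸ K)).index ∣ p :=
    ((Subgroup.index_dvd_of_le hcen).trans
      (Subgroup.index_map_dvd _ (QuotientGroup.mk'_surjective K))).trans h
  have hcomm := Cfsg.Agent.Lib.Helper67.comm_of_relIndex_center_dvd_prime hp (A := (⊤ : Subgroup (P ⧸ K)))
    (by rw [top_inf_eq, Subgroup.relIndex_top_right, Subgroup.coe_top, Subgroup.centralizer_univ]; exact hidx)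
  apply not_le_of_gt hlt
  rw [hL1, commutator_def, Subgroup.commutator_le]
  intro g₁ _ g₂ _
  rw [← QuotientGroup.eq_one_iff]
  change (QuotientGroup.mk' K) ⁅g₁, g₂⁆ = 1
  rw [map_commutatorElement, commutatorElement_eq_one_iff_mul_comm]
  exact hcomm _ (Subgroup.mem_top _) _ (Subgroup.mem_top _)

/-- Let p be a prime and P a group of order p^4. Then P' has index p^2 in P if and only if P has maximal nilpotency class, that is, nilpotency class exactly 3. -/
theorem result {P : Type*} [Group P] [Finite P] (p : ℕ) [Fact p.Prime] (hP : Nat.card P = p ^ 4) :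
    (commutator P).index = p ^ 2 ↔ Group.nilpotencyClass P = 3 := by
  have hp : p.Prime := Fact.out
  have hPp : IsPGroup p P := IsPGroup.of_card hP
  have hnil : Group.IsNilpotent P := hPp.isNilpotent
  have hL1 : (⊤ : Subgroup P).lowerCentralSeries 1 = commutator P := Subgroup.top_lowerCentralSeries_one
  have hcard : ∀ H : Subgroup P, ∃ k, Nat.card ↥H = p ^ k := fun H => (hPp.to_subgroup H).exists_card_eq
  have hbot : ∀ H : Subgroup P, Nat.card ↥H = p ^ 0 → H = ⊥ := by
    intro H h
    rw [pow_zero] at h
    exact Subgroup.card_eq_one.mp h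
  constructor
  · intro h
    have e := Subgroup.card_mul_index (commutator P)
    rw [h, hP] at e
    have hc : Nat.card ↥(commutator P) = p ^ 2 := by
      apply Nat.eq_of_mul_eq_mul_right (pow_pos hp.pos 2)
      rw [e]; ring
    have hne1 : (⊤ : Subgroup P).lowerCentralSeries 1 ≠ ⊥ := by
      rw [hL1]
      intro hb
      rw [hb, Subgroup.card_bot] at hc
      exact (Nat.one_lt_pow (by norm_num) hp.one_lt).ne hc
    have hlt1 := Cfsg.Agent.S4584.card_lt (lcs_lt 1 hne1)
    obtain ⟨b, hb⟩ := hcard ((⊤ : Subgroup P).lowerCentralSeries 2)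
    rw [hL1, hc, hb] at hlt1
    have hb2 := (Nat.pow_lt_pow_iff_right hp.one_lt).mp hlt1
    by_cases hne2 : (⊤ : Subgroup P).lowerCentralSeries 2 = ⊥
    · exfalso
      have hcen : commutator P ≤ Subgroup.center P := by
        rw [Subgroup.lowerCentralSeries_succ, hL1, Subgroup.commutator_eq_bot_iff_le_centralizer,
          Subgroup.coe_top, Subgroup.centralizer_univ] at hne2
        exact hne2
      obtain ⟨k, hk⟩ := hcard (Subgroup.center P)
      have hk2 : 2 ≤ k := by
        have := Subgroup.card_le_of_le hcen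
        rw [hc, hk] at this
        exact (Nat.pow_le_pow_iff_right hp.one_lt).mp this
      have e2 := Subgroup.card_mul_index (Subgroup.center P)
      rw [hk, hP] at e2
      have hk4 : k ≤ 4 := by
        have : p ^ k ∣ p ^ 4 := Dvd.intro _ e2
        exact (Nat.pow_dvd_pow_iff_le_right hp.one_lt).mp this
      have hidx : (Subgroup.center P).index = p ^ (4 - k) := by
        apply Nat.eq_of_mul_eq_mul_left (pow_pos hp.pos k)
        rw [e2, ← pow_add]; congr 1; omega
      have hk' : k = 2 := by
        by_contra hk'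
        have h3 : (Subgroup.center P).index ∣ p := by
          rw [hidx]
          have : 4 - k ≤ 1 := by omega
          calc p ^ (4 - k) ∣ p ^ 1 := pow_dvd_pow p this
            _ = p := pow_one p
        have hcomm := Cfsg.Agent.Lib.Helper67.comm_of_relIndex_center_dvd_prime hp (A := (⊤ : Subgroup P))
          (by rw [top_inf_eq, Subgroup.relIndex_top_right, Subgroup.coe_top, Subgroup.centralizer_univ]; exact h3)
        apply hne1
        rw [hL1, commutator_def, Subgroup.commutator_eq_bot_iff_le_centralizer]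
        intro x _
        rw [Subgroup.mem_centralizer_iff]
        intro y _
        exact hcomm _ (Subgroup.mem_top _) _ (Subgroup.mem_top _)
      subst hk'
      have := (Cfsg.Agent.S4584.result p hP).mpr hidx
      rw [hc] at this
      have h5 : p ^ 2 = p ^ 1 := by rw [this, pow_one]
      exact absurd (Nat.pow_right_injective hp.two_le h5) (by norm_num)
    · have hlt2 := Cfsg.Agent.S4584.card_lt (lcs_lt 2 hne2)
      obtain ⟨c, hc'⟩ := hcard ((⊤ : Subgroup P).lowerCentralSeries 3)
      rw [hb, hc'] at hlt2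
      have hc2 := (Nat.pow_lt_pow_iff_right hp.one_lt).mp hlt2
      have hc0 : c = 0 := by omega
      subst hc0
      have h3 := hbot _ hc'
      rw [Subgroup.lowerCentralSeries_eq_bot_iff_nilpotencyClass_le] at h3
      rw [Subgroup.lowerCentralSeries_eq_bot_iff_nilpotencyClass_le] at hne2
      omega
  · intro h
    have h3 : (⊤ : Subgroup P).lowerCentralSeries 3 = ⊥ := by
      rw [Subgroup.lowerCentralSeries_eq_bot_iff_nilpotencyClass_le, h]
    have hne2 : (⊤ : Subgroup P).lowerCentralSeries 2 ≠ ⊥ := by
      rw [Ne, Subgroup.lowerCentralSeries_eq_bot_iff_nilpotencyClass_le, h]; norm_num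
    have hne1 : (⊤ : Subgroup P).lowerCentralSeries 1 ≠ ⊥ := by
      rw [Ne, Subgroup.lowerCentralSeries_eq_bot_iff_nilpotencyClass_le, h]; norm_num
    have hlt1 := Cfsg.Agent.S4584.card_lt (lcs_lt 1 hne1)
    have hlt2 := Cfsg.Agent.S4584.card_lt (lcs_lt 2 hne2)
    obtain ⟨a, ha⟩ := hcard (commutator P)
    obtain ⟨b, hb⟩ := hcard ((⊤ : Subgroup P).lowerCentralSeries 2)
    rw [hL1, ha, hb] at hlt1
    rw [h3, Subgroup.card_bot, hb] at hlt2
    have hab := (Nat.pow_lt_pow_iff_right hp.one_lt).mp hlt1
    have hb0 : b ≠ 0 := by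
      rintro rfl
      simp at hlt2
    have e := Subgroup.card_mul_index (commutator P)
    rw [ha, hP] at e
    have ha4 : a ≤ 4 := by
      have : p ^ a ∣ p ^ 4 := Dvd.intro _ e
      exact (Nat.pow_dvd_pow_iff_le_right hp.one_lt).mp this
    have hidx : (commutator P).index = p ^ (4 - a) := by
      apply Nat.eq_of_mul_eq_mul_left (pow_pos hp.pos a)
      rw [e, ← pow_add]; congr 1; omega
    have ha2 : a = 2 := by
      by_contra hcon
      have h4 : (commutator P).index ∣ p := by
        rw [hidx]
        have : 4 - a ≤ 1 := by omega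
        calc p ^ (4 - a) ∣ p ^ 1 := pow_dvd_pow p this
          _ = p := pow_one p
      exact hne1 (hL1 ▸ commutator_eq_bot_of_index_dvd hp h4)
    rw [hidx, ha2]

end Cfsg.Agent.S4585
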