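import Cfsg.Statements.S3872
import Cfsg.Agent.S4209
import Cfsg.Agent.S4225
import Cfsg.Agent.S4585
import Cfsg.Agent.Lib.Helper59.UniqueOdd

set_option autoImplicit false
open Cfsg

namespace Cfsg.Agent.S3872

theorem lcs_card_aux {G : Type*} [Group G] [Finite G] {p : ℕ} [hp : Fact p.Prime] (hG : IsPGroup p G) :
    ∀ k : ℕ, (⊤ : Subgroup G).lowerCentralSeries (k + 1) ≠ ⊥ →
      p ^ k * Nat.card ↥((⊤ : Subgroup G).lowerCentralSeries (k + 1)) ≤
        Nat.card ↥((⊤ : Subgroup G).lowerCentralSeries 1) := by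
  haveI : Group.IsNilpotent G := hG.isNilpotent
  intro k
  induction k with
  | zero => intro _; simp
  | succ k ih =>
    intro h
    have h1 : (⊤ : Subgroup G).lowerCentralSeries (k + 1) ≠ ⊥ := by
      intro h0
      apply h
      rw [eq_bot_iff, ← h0]
      exact Subgroup.lowerCentralSeries_antitone _ (Nat.le_succ _)
    have hlt := Cfsg.Agent.S4585.lcs_lt (P := G) (k + 1) h1
    have h2 := ih h1
    obtain ⟨a, ha⟩ := (hG.to_subgroup ((⊤ : Subgroup G).lowerCentralSeries (k + 1))).exists_card_eq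
    obtain ⟨b, hb⟩ := (hG.to_subgroup ((⊤ : Subgroup G).lowerCentralSeries (k + 1 + 1))).exists_card_eq
    have h3 := Cfsg.Agent.S4584.card_lt hlt
    rw [ha, hb] at h3
    have h4 := (Nat.pow_lt_pow_iff_right hp.out.one_lt).mp h3
    have h5 : p ^ (b + 1) ≤ p ^ a := Nat.pow_le_pow_right hp.out.pos h4
    rw [ha] at h2
    rw [hb]
    calc p ^ (k + 1) * p ^ b = p ^ k * p ^ (b + 1) := by ring
      _ ≤ p ^ k * p ^ a := Nat.mul_le_mul_left _ h5
      _ ≤ _ := h2

theorem card_ge_of_lcs {G : Type*} [Group G] [Finite G] {p : ℕ} [hp : Fact p.Prime] (hG : IsPGroup p G)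
    (k : ℕ) (h : (⊤ : Subgroup G).lowerCentralSeries (k + 1) ≠ ⊥) : p ^ (k + 3) ≤ Nat.card G := by
  haveI : Group.IsNilpotent G := hG.isNilpotent
  have h1 := lcs_card_aux hG k h
  have hL1 : (⊤ : Subgroup G).lowerCentralSeries 1 = commutator G := Subgroup.top_lowerCentralSeries_one
  obtain ⟨b, hb⟩ := (hG.to_subgroup ((⊤ : Subgroup G).lowerCentralSeries (k + 1))).exists_card_eq
  have hb0 : b ≠ 0 := by
    rintro rfl
    apply h
    rw [pow_zero] at hb
    exact (Subgroup.card_eq_one).mp hb
  have h2 : p ^ (k + 1) ≤ Nat.card ↥(commutator G) := by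
    rw [← hL1]
    refine le_trans ?_ h1
    rw [hb, pow_succ]
    exact Nat.mul_le_mul_left _ (by
      calc p = p ^ 1 := (pow_one p).symm
        _ ≤ p ^ b := Nat.pow_le_pow_right hp.out.pos (by omega))
  have hne : commutator G ≠ ⊥ := by
    intro h0
    apply h
    rw [eq_bot_iff, ← h0, ← hL1]
    exact Subgroup.lowerCentralSeries_antitone _ (by omega)
  obtain ⟨c, hc⟩ := hG.exists_card_eq
  have hidx : ∃ d, (commutator G).index = p ^ d := by
    have hd : (commutator G).index ∣ p ^ c := hc ▸ Subgroup.index_dvd_card _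
    obtain ⟨d, -, hd⟩ := (Nat.dvd_prime_pow hp.out).mp hd
    exact ⟨d, hd⟩
  obtain ⟨d, hd⟩ := hidx
  have hd2 : 2 ≤ d := by
    by_contra hlt
    apply hne
    apply Cfsg.Agent.S4585.commutator_eq_bot_of_index_dvd hp.out
    rw [hd]
    have : d = 0 ∨ d = 1 := by omega
    rcases this with rfl | rfl <;> simp
  have e := Subgroup.card_mul_index (commutator G)
  rw [← e, hd]
  calc p ^ (k + 3) = p ^ (k + 1) * p ^ 2 := by ring
    _ ≤ Nat.card ↥(commutator G) * p ^ d :=
      Nat.mul_le_mul h2 (Nat.pow_le_pow_right hp.out.pos hd2)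

/-- Say that a finite group is p-exponent closed when its elements of order dividing p form a subgroup. Let G be a finite p-group that is not p-exponent closed, but all of whose proper subgroups and proper quotients are. Then G is generated by two elements, has nilpotency class at least p, has exponent p², has cyclic center, and has order at least p^(p+1). -/
theorem result {G : Type*} [Group G] [Finite G] {p : ℕ} [Fact p.Prime] (hG : IsPGroup p G)
    (hnc : ¬ (∃ H : Subgroup G, (H : Set G) = {g : G | g ^ p = 1})) (hsub : ∀ K : Subgroup G, K ≠ ⊤ → (∃ H : Subgroup ↥K, (H : Set ↥K) = {g : ↥K | g ^ p = 1}))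
    (hquo : ∀ (N : Subgroup G) [N.Normal], N ≠ ⊥ → (∃ H : Subgroup (G ⧸ N), (H : Set (G ⧸ N)) = {g : (G ⧸ N) | g ^ p = 1})) :
    (∃ x y : G, Subgroup.closure ({x, y} : Set G) = ⊤) ∧ (⊤ : Subgroup G).lowerCentralSeries (p - 1) ≠ ⊥ ∧
      Monoid.exponent G = p ^ 2 ∧ IsCyclic ↥(Subgroup.center G) ∧ p ^ (p + 1) ≤ Nat.card G := by
  classical
  have hp : p.Prime := Fact.out
  have hxy : ∃ x y : G, x ^ p = 1 ∧ y ^ p = 1 ∧ (x * y) ^ p ≠ 1 := by
    by_contra hcon
    push_neg at hcon
    exact hnc ⟨{ carrier := {g | g ^ p = 1}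
                 mul_mem' := fun {a b} ha hb => hcon a b ha hb
                 one_mem' := one_pow p
                 inv_mem' := fun {a} ha => by
                   show a⁻¹ ^ p = 1
                   rw [inv_pow, show a ^ p = 1 from ha, inv_one] }, rfl⟩
  obtain ⟨x, y, hx, hy, hxy⟩ := hxy
  have hgen : Subgroup.closure ({x, y} : Set G) = ⊤ := by
    by_contra hne
    obtain ⟨H, hH⟩ := hsub _ hne
    have hxm : x ∈ Subgroup.closure ({x, y} : Set G) := Subgroup.subset_closure (by simp)
    have hym : y ∈ Subgroup.closure ({x, y} : Set G) := Subgroup.subset_closure (by simp)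
    have h1 : (⟨x, hxm⟩ : ↥(Subgroup.closure ({x, y} : Set G))) ∈ H := by
      rw [← SetLike.mem_coe, hH]
      exact Subtype.ext hx
    have h2 : (⟨y, hym⟩ : ↥(Subgroup.closure ({x, y} : Set G))) ∈ H := by
      rw [← SetLike.mem_coe, hH]
      exact Subtype.ext hy
    have h3 := H.mul_mem h1 h2
    rw [← SetLike.mem_coe, hH] at h3
    exact hxy (congrArg Subtype.val h3)
  have hcl : (⊤ : Subgroup G).lowerCentralSeries (p - 1) ≠ ⊥ := by
    intro h
    obtain ⟨H, -, hH⟩ := Cfsg.Agent.S4225.result (Cfsg.Agent.S4209.result hG h) 1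
    exact hnc ⟨H, by simpa using hH⟩
  have hpow : ∀ (N : Subgroup G) [N.Normal], N ≠ ⊥ → ∀ g : G, g ^ p ∈ N := by
    intro N _ hN g
    obtain ⟨H, hH⟩ := hquo N hN
    have h1 : Subgroup.closure ({x, y} : Set G) ≤ H.comap (QuotientGroup.mk' N) := by
      rw [Subgroup.closure_le]
      intro z hz
      rcases hz with rfl | hz
      · show (QuotientGroup.mk' N z) ∈ (H : Set (G ⧸ N))
        rw [hH]
        show (QuotientGroup.mk' N z) ^ p = 1
        rw [← map_pow, hx, map_one]
      · rw [Set.mem_singleton_iff] at hz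
        subst hz
        show (QuotientGroup.mk' N z) ∈ (H : Set (G ⧸ N))
        rw [hH]
        show (QuotientGroup.mk' N z) ^ p = 1
        rw [← map_pow, hy, map_one]
    rw [hgen] at h1
    have h2 : (QuotientGroup.mk' N g) ∈ (H : Set (G ⧸ N)) := h1 (Subgroup.mem_top g)
    rw [hH] at h2
    have h3 : (QuotientGroup.mk' N g) ^ p = 1 := h2
    rw [← map_pow] at h3
    exact (QuotientGroup.eq_one_iff _).mp h3
  haveI : Nontrivial G := by
    refine ⟨⟨(x * y) ^ p, 1, hxy⟩⟩
  have hzn : ∀ z ∈ Subgroup.center G, (Subgroup.zpowers z).Normal := by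
    intro z hz
    refine ⟨fun n hn g => ?_⟩
    have hnc : n ∈ Subgroup.center G := (Subgroup.zpowers_le.mpr hz) hn
    rw [Subgroup.mem_center_iff] at hnc
    rw [hnc g, mul_inv_cancel_right]
    exact hn
  obtain ⟨z, hzc, hzo⟩ := Cfsg.Agent.Lib.Helper59.exists_central_orderOf_eq hG
  have hz1 : z ≠ 1 := by
    rintro rfl
    rw [orderOf_one] at hzo
    exact hp.one_lt.ne hzo
  have hsq : ∀ g : G, g ^ (p ^ 2) = 1 := by
    intro g
    haveI := hzn z hzc
    have h1 := hpow (Subgroup.zpowers z) (by rwa [Ne, Subgroup.zpowers_eq_bot]) g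
    obtain ⟨k, hk⟩ := Subgroup.mem_zpowers_iff.mp h1
    rw [pow_two, pow_mul, ← hk, ← zpow_natCast, ← zpow_mul, mul_comm, zpow_mul, zpow_natCast, ← hzo,
      pow_orderOf_eq_one, one_zpow]
  refine ⟨⟨x, y, hgen⟩, hcl, ?_, ?_, ?_⟩
  · have h1 : Monoid.exponent G ∣ p ^ 2 := Monoid.exponent_dvd_of_forall_pow_eq_one hsq
    obtain ⟨k, hk2, hk⟩ := (Nat.dvd_prime_pow hp).mp h1
    have hk' : k = 2 := by
      by_contra hne
      apply hxy
      have h2 : Monoid.exponent G ∣ p := by
        rw [hk]
        have : k = 0 ∨ k = 1 := by omega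
        rcases this with rfl | rfl <;> simp
      obtain ⟨c, hc⟩ := h2
      rw [hc, pow_mul, Monoid.pow_exponent_eq_one, one_pow]
    rw [hk, hk']
  · apply Cfsg.Agent.Lib.Helper59.isCyclic_of_unique_of_comm (hG.to_subgroup (Subgroup.center G))
    · intro u v hu hv
      by_contra hnot
      have huc := u.2
      have hvc := v.2
      have hu1 : (u : G) ≠ 1 := by
        intro h
        have : u = 1 := Subtype.ext h
        rw [this, orderOf_one] at hu
        exact hp.one_lt.ne hu
      have hv1 : (v : G) ≠ 1 := by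
        intro h
        have : v = 1 := Subtype.ext h
        rw [this, orderOf_one] at hv
        exact hp.one_lt.ne hv
      haveI := hzn u huc
      haveI := hzn v hvc
      have h1 := hpow (Subgroup.zpowers (u : G)) (by rwa [Ne, Subgroup.zpowers_eq_bot]) (x * y)
      have h2 := hpow (Subgroup.zpowers (v : G)) (by rwa [Ne, Subgroup.zpowers_eq_bot]) (x * y)
      -- zpowers v has prime order, generated by any nontrivial element
      have hvo : orderOf (v : G) = p := by rw [Subgroup.orderOf_coe, hv]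
      have hcardv : Nat.card (Subgroup.zpowers (v : G)) = p := by rw [Nat.card_zpowers, hvo]
      have h3 : Subgroup.zpowers ((x * y) ^ p) = Subgroup.zpowers (v : G) := by
        have hle : Subgroup.zpowers ((x * y) ^ p) ≤ Subgroup.zpowers (v : G) := Subgroup.zpowers_le.mpr h2
        have hd := Subgroup.card_dvd_of_le hle
        rw [hcardv] at hd
        rcases (Nat.dvd_prime hp).mp hd with h | h
        · exfalso
          apply hxy
          have := (Subgroup.card_eq_one).mp h
          rwa [Subgroup.zpowers_eq_bot] at this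
        · exact Subgroup.eq_of_le_of_card_ge hle (by rw [h, hcardv])
      have h4 : (v : G) ∈ Subgroup.zpowers (u : G) := by
        have : Subgroup.zpowers (v : G) ≤ Subgroup.zpowers (u : G) := by
          rw [← h3]; exact Subgroup.zpowers_le.mpr h1
        exact this (Subgroup.mem_zpowers _)
      apply hnot
      obtain ⟨k, hk⟩ := Subgroup.mem_zpowers_iff.mp h4
      exact Subgroup.mem_zpowers_iff.mpr ⟨k, Subtype.ext (by simpa using hk)⟩
    · intro u v
      exact Subtype.ext (Subgroup.mem_center_iff.mp v.2 u.1)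
  · have hp2 : 2 ≤ p := hp.two_le
    have h1 := card_ge_of_lcs hG (p - 2) (by
      have : p - 2 + 1 = p - 1 := by omega
      rw [this]; exact hcl)
    have : p - 2 + 3 = p + 1 := by omega
    rwa [this] at h1

end Cfsg.Agent.S3872
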