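import Cfsg.Statements.S3873
import Mathlib
import Cfsg.Agent.Lib.Helper65.MinNonClosed

set_option autoImplicit false
open Cfsg

namespace Cfsg.Agent.S3873

open Cfsg.Agent.Lib.Helper65 Cfsg.Agent.Lib.Helper1

/-- Say that a finite group is p-exponent closed when its elements of order dividing p form a subgroup. Let G be a finite group that is not p-exponent closed, but all of whose proper subgroups and proper quotients are, and suppose G is neither simple nor a p-group. Then there is a prime q ≠ p such that G has order p · q^e, where e is the multiplicative order of q modulo p, and G has a normal elementary abelian subgroup of order q^e that is a minimal normal subgroup of G. -/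
theorem result {G : Type*} [Group G] [Finite G] {p : ℕ} [Fact p.Prime]
    (hnc : ¬ (∃ H : Subgroup G, (H : Set G) = {g : G | g ^ p = 1})) (hsub : ∀ K : Subgroup G, K ≠ ⊤ → (∃ H : Subgroup ↥K, (H : Set ↥K) = {g : ↥K | g ^ p = 1}))
    (hquo : ∀ (N : Subgroup G) [N.Normal], N ≠ ⊥ → (∃ H : Subgroup (G ⧸ N), (H : Set (G ⧸ N)) = {g : (G ⧸ N) | g ^ p = 1}))
    (hns : ¬ IsSimpleGroup G) (hnp : ¬ IsPGroup p G) :
    ∃ q : ℕ, q.Prime ∧ q ≠ p ∧ Nat.card G = p * q ^ orderOf (q : ZMod p) ∧
      ∃ A : Subgroup G, A.Normal ∧ Nat.card ↥A = q ^ orderOf (q : ZMod p) ∧ Cfsg.IsElementaryAbelian q A ∧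
        ∀ B : Subgroup G, B.Normal → B ≤ A → B = ⊥ ∨ B = A := by
  have hp : p.Prime := Fact.out
  obtain ⟨x, y, hx, hy, hxy⟩ : ∃ x y : G, x ^ p = 1 ∧ y ^ p = 1 ∧ (x * y) ^ p ≠ 1 := by
    by_contra h
    push Not at h
    apply hnc
    exact ⟨{ carrier := {g | g ^ p = 1}
             mul_mem' := fun {a b} ha hb => h a b ha hb
             one_mem' := one_pow _
             inv_mem' := fun {a} ha => by
               show a⁻¹ ^ p = 1
               rw [inv_pow, show a ^ p = 1 from ha, inv_one] }, rfl⟩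
  have hgen : Subgroup.closure ({x, y} : Set G) = ⊤ := by
    by_contra hK
    obtain ⟨H, hH⟩ := hsub _ hK
    have hxK : x ∈ Subgroup.closure ({x, y} : Set G) := Subgroup.subset_closure (by simp)
    have hyK : y ∈ Subgroup.closure ({x, y} : Set G) := Subgroup.subset_closure (by simp)
    have h1 : (⟨x, hxK⟩ : Subgroup.closure ({x, y} : Set G)) ∈ H := by
      rw [← SetLike.mem_coe, hH]
      exact Subtype.ext (by simpa using hx)
    have h2 : (⟨y, hyK⟩ : Subgroup.closure ({x, y} : Set G)) ∈ H := by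
      rw [← SetLike.mem_coe, hH]
      exact Subtype.ext (by simpa using hy)
    have h3 := H.mul_mem h1 h2
    rw [← SetLike.mem_coe, hH] at h3
    apply hxy
    simpa using congrArg Subtype.val h3
  have hpow : ∀ M : Subgroup G, M.Normal → M ≠ ⊥ → ∀ g : G, g ^ p ∈ M := by
    intro M hM hMne g
    obtain ⟨H, hH⟩ := hquo M hMne
    have h1 : (⊤ : Subgroup G) ≤ H.comap (QuotientGroup.mk' M) := by
      rw [← hgen, Subgroup.closure_le]
      rintro z (rfl | rfl)
      · show QuotientGroup.mk' M z ∈ (H : Set (G ⧸ M))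
        rw [hH]
        show (QuotientGroup.mk' M z) ^ p = 1
        rw [← map_pow, hx, map_one]
      · show QuotientGroup.mk' M z ∈ (H : Set (G ⧸ M))
        rw [hH]
        show (QuotientGroup.mk' M z) ^ p = 1
        rw [← map_pow, hy, map_one]
    have h2 : QuotientGroup.mk' M g ∈ (H : Set (G ⧸ M)) := h1 (Subgroup.mem_top g)
    rw [hH] at h2
    have h3 : (QuotientGroup.mk' M g) ^ p = 1 := h2
    rw [← map_pow] at h3
    exact (QuotientGroup.eq_one_iff _).mp h3
  have hnt : Nontrivial G := by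
    refine ⟨⟨(x * y) ^ p, 1, hxy⟩⟩
  obtain ⟨K, hKn, hKb, hKt⟩ : ∃ K : Subgroup G, K.Normal ∧ K ≠ ⊥ ∧ K ≠ ⊤ := by
    by_contra h
    push Not at h
    apply hns
    refine ⟨fun H hH => ?_⟩
    by_cases hb : H = ⊥
    · exact Or.inl hb
    · exact Or.inr (h H hH hb)
  obtain ⟨N, hNK, hNn, hNne, hmin⟩ := Cfsg.Agent.Lib.Helper12.exists_minNormal_le K hKn hKb
  have hNt : N ≠ ⊤ := by
    intro h
    apply hKt
    rw [eq_top_iff, ← h]
    exact hNK
  have hpN : ¬ p ∣ Nat.card N := by
    intro hdvd
    obtain ⟨H, hH⟩ := hsub N hNt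
    have hmemH : ∀ g : N, g ∈ H ↔ g ^ p = 1 := by
      intro g
      rw [← SetLike.mem_coe, hH]
      rfl
    have hWn : (H.map N.subtype).Normal := by
      refine ⟨?_⟩
      rintro _ ⟨z, hz, rfl⟩ g
      refine ⟨⟨g * z * g⁻¹, hNn.conj_mem z z.2 g⟩, ?_, rfl⟩
      rw [SetLike.mem_coe, hmemH] at hz ⊢
      apply Subtype.ext
      have h1 : (z : G) ^ p = 1 := by simpa using congrArg Subtype.val hz
      simp [conj_pow, h1]
    rcases hmin _ hWn (Subgroup.map_subtype_le _) with h | h
    · obtain ⟨z, hz⟩ := exists_prime_orderOf_dvd_card' p hdvd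
      have h1 : z ∈ H := by
        rw [hmemH, ← hz]
        exact pow_orderOf_eq_one z
      have h2 : (z : G) ∈ H.map N.subtype := ⟨z, h1, rfl⟩
      rw [h, Subgroup.mem_bot] at h2
      have h3 : z = 1 := Subtype.ext h2
      rw [h3, orderOf_one] at hz
      exact hp.one_lt.ne hz
    · apply hnp
      intro g
      refine ⟨2, ?_⟩
      have h1 : g ^ p ∈ H.map N.subtype := by rw [h]; exact hpow N hNn hNne g
      obtain ⟨z, hz, hzg⟩ := h1
      rw [SetLike.mem_coe, hmemH] at hz
      have h2 : (z : G) ^ p = 1 := by simpa using congrArg Subtype.val hz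
      rw [pow_two, pow_mul, ← hzg]
      exact h2
  obtain ⟨P⟩ : Nonempty (Sylow p G) := inferInstance
  have hNP : N ⊔ (P : Subgroup G) = ⊤ := by
    have hQp : IsPGroup p (G ⧸ N) := by
      intro g
      induction g using QuotientGroup.induction_on with
      | H g =>
        refine ⟨1, ?_⟩
        rw [pow_one, ← QuotientGroup.mk_pow, QuotientGroup.eq_one_iff]
        exact hpow N hNn hNne g
    obtain ⟨k, hk⟩ := hQp.exists_card_eq
    have hk' : N.index = p ^ k := hk
    rw [← Subgroup.index_eq_one]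
    have h1 : (N ⊔ (P : Subgroup G)).index ∣ p ^ k := by
      rw [← hk']; exact Subgroup.index_dvd_of_le le_sup_left
    have h2 : (N ⊔ (P : Subgroup G)).index ∣ (P : Subgroup G).index :=
      Subgroup.index_dvd_of_le le_sup_right
    have h3 : (p ^ k).Coprime (P : Subgroup G).index :=
      ((Nat.Prime.coprime_iff_not_dvd hp).mpr P.not_dvd_index).pow_left k
    exact Nat.eq_one_of_dvd_coprimes h3 h1 h2
  have hNPbot : N ⊓ (P : Subgroup G) = ⊥ := by
    obtain ⟨k, hk⟩ := P.isPGroup'.exists_card_eq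
    apply (Subgroup.disjoint_of_coprime_natCard _).eq_bot
    rw [hk]
    exact (((Nat.Prime.coprime_iff_not_dvd hp).mpr hpN).symm).pow_right k
  have hPexp : ∀ g ∈ (P : Subgroup G), g ^ p = 1 := by
    intro g hg
    have h1 : g ^ p ∈ N ⊓ (P : Subgroup G) := ⟨hpow N hNn hNne g, Subgroup.pow_mem _ hg p⟩
    rwa [hNPbot, Subgroup.mem_bot] at h1
  have hPne : (P : Subgroup G) ≠ ⊥ := by
    intro h
    rw [h, sup_bot_eq] at hNP
    exact hNt hNP
  obtain ⟨q, hq1, hq2, hq3, hq4, hq5⟩ := minimal_structure N hNne hmin hpN (P : Subgroup G) P.isPGroup' hPne hNP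
    (by
      intro H hH X hXH hXP hrel
      obtain ⟨Ω, hΩ⟩ := hsub H hH
      have hmemΩ : ∀ g : H, g ∈ Ω ↔ g ^ p = 1 := by
        intro g
        rw [← SetLike.mem_coe, hΩ]
        rfl
      set W := Ω.map H.subtype with hW
      have hWH : W ≤ H := Subgroup.map_subtype_le _
      have hmemW : ∀ g : G, g ∈ W ↔ g ∈ H ∧ g ^ p = 1 := by
        intro g
        constructor
        · rintro ⟨z, hz, rfl⟩
          rw [SetLike.mem_coe, hmemΩ] at hz
          exact ⟨z.2, by simpa using congrArg Subtype.val hz⟩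
        · rintro ⟨hg, hg1⟩
          exact ⟨⟨g, hg⟩, (hmemΩ _).mpr (Subtype.ext (by simpa using hg1)), rfl⟩
      have hXW : X ≤ W := fun g hg => (hmemW g).mpr ⟨hXH hg, hPexp g (hXP hg)⟩
      have hWp : IsPGroup p W := by
        intro g
        exact ⟨1, Subtype.ext (by simpa using ((hmemW g.1).mp g.2).2)⟩
      have hHW : H ≤ Subgroup.normalizer (W : Set G) := by
        rw [Subgroup.le_normalizer_iff]
        intro h hh g hg
        rw [hmemW] at hg ⊢
        exact ⟨H.mul_mem (H.mul_mem hh hg.1) (H.inv_mem hh), by rw [conj_pow, hg.2, mul_one, mul_inv_cancel]⟩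
      have h1 : X.relIndex W = 1 := by
        obtain ⟨k, hk⟩ := hWp.exists_card_eq
        have h2 : X.relIndex W ∣ p ^ k := by
          rw [← hk, ← card_mul_relIndex hXW]
          exact Dvd.intro_left _ rfl
        obtain ⟨j, -, hj⟩ := (Nat.dvd_prime_pow hp).mp h2
        rcases j with _ | j
        · simpa using hj
        · exfalso
          apply hrel
          rw [← Subgroup.relIndex_mul_relIndex X W H hXW hWH, hj]
          exact Dvd.dvd.mul_right (dvd_pow_self p (Nat.succ_ne_zero j)) _
      rw [Subgroup.relIndex_eq_one] at h1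
      rw [le_antisymm hXW h1]
      exact hHW)
    (by
      intro M hM hMP
      by_contra hMne
      apply hnp
      intro g
      refine ⟨2, ?_⟩
      rw [pow_two, pow_mul]
      exact hPexp _ (hMP (hpow M hM hMne g)))
  exact ⟨q, hq1, hq2, hq3, N, hNn, hq4, hq5, hmin⟩

end Cfsg.Agent.S3873
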