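import Cfsg.Statements.S3875
-- import your own Cfsg.Agent.* helpers here
import Cfsg.Agent.Lib.Helper80.NPCMain
import Cfsg.Agent.Lib.Helper80.NPCEx2
import Cfsg.Agent.Lib.Helper56.NPCPQ
import Cfsg.Agent.Lib.Helper56.NPCEX1
import Cfsg.Agent.Lib.Helper56.NPCSIMPLE

set_option autoImplicit false
open Cfsg

namespace Cfsg.Agent.S3875

/-- Let p be an odd prime and let m be the least prime power congruent to 1 modulo p. Then the least order of a finite group whose Sylow p-subgroups are not normal is the smaller of p · m and p(p² − 1)/2: every finite group whose Sylow p-subgroups are not normal has at least that order, and some group of exactly that order has non-normal Sylow p-subgroups. -/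
theorem result (p : ℕ) [Fact p.Prime] (hp : p ≠ 2) (m : ℕ) (hm : IsPrimePow m) (hm1 : m % p = 1)
    (hleast : ∀ k : ℕ, IsPrimePow k → k % p = 1 → m ≤ k) :
    (∀ (H : Type) [Group H] [Finite H], ¬ Cfsg.IsPClosed p H → min (p * m) (p * (p ^ 2 - 1) / 2) ≤ Nat.card H) ∧
      ∃ (H : Type) (_ : Group H) (_ : Finite H), Nat.card H = min (p * m) (p * (p ^ 2 - 1) / 2) ∧ ¬ Cfsg.IsPClosed p H := by
  refine ⟨fun H _ _ hnc => Cfsg.Agent.Lib.Helper80.NPC.lower p m
    (fun L _ _ q k hq hL h => Cfsg.Agent.Lib.Helper56.NPC.pq_case p m hleast q k hq hL h)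
    (fun H _ _ _ h => Cfsg.Agent.Lib.Helper56.NPC.simple_case p hp h) _ H rfl hnc, ?_⟩
  rcases le_total (p * m) (p * (p ^ 2 - 1) / 2) with h | h
  · rw [min_eq_left h]
    exact Cfsg.Agent.Lib.Helper56.NPC.ex_affine p m hm hm1
  · rw [min_eq_right h]
    by_cases h3 : 3 < p
    · exact Cfsg.Agent.Lib.Helper80.NPC.ex_psl p h3
    · have hp3 : p = 3 := by
        have := (Fact.out : p.Prime).two_le
        omega
      subst hp3
      have hm4 : m ≤ 4 := hleast 4 ⟨2, 2, Nat.prime_two.prime, by norm_num, by norm_num⟩ (by norm_num)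
      have hm4' : m = 4 := by
        norm_num at h
        omega
      subst hm4'
      have := Cfsg.Agent.Lib.Helper56.NPC.ex_affine 3 4 hm hm1
      simpa using this

end Cfsg.Agent.S3875
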