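import Cfsg.Statements.S3891
import Cfsg.Agent.Lib.Helper4.NilCover

set_option autoImplicit false
open Cfsg

namespace Cfsg.Agent.S3891

/-- A cover of a group is a finite set of proper subgroups whose union is the whole group; it is minimal when no cover has fewer members, and nilpotent when all its members are nilpotent. Let G be a finite group with trivial center admitting a nilpotent minimal cover, and let P be a non-normal Sylow p-subgroup of G that is cyclic, or abelian but not elementary abelian. Then the centralizer of P is nilpotent and the normalizer of P is the unique maximal subgroup of G containing the centralizer of P. -/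
theorem result {G : Type*} [Group G] [Finite G] (hZ : Subgroup.center G = ⊥) (𝓐 : Finset (Subgroup G))
    (h𝓐 : ((∀ A ∈ 𝓐, A ≠ ⊤) ∧ (∀ g : G, ∃ A ∈ 𝓐, g ∈ A)) ∧ (∀ 𝓑 : Finset (Subgroup G), (∀ A ∈ 𝓑, A ≠ ⊤) ∧ (∀ g : G, ∃ A ∈ 𝓑, g ∈ A) → 𝓐.card ≤ 𝓑.card) ∧ (∀ A ∈ 𝓐, Group.IsNilpotent ↥A)) {p : ℕ} [Fact p.Prime] (P : Sylow p G)
    (hP : IsCyclic ↥(P : Subgroup G) ∨ (IsMulCommutative ↥(P : Subgroup G) ∧ ¬ Cfsg.IsElementaryAbelian p (P : Subgroup G)))
    (hnn : ¬ (P : Subgroup G).Normal) :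
    Group.IsNilpotent ↥(Subgroup.centralizer ((P : Subgroup G) : Set G)) ∧
      IsCoatom (Subgroup.normalizer ((P : Subgroup G) : Set G)) ∧
      ∀ M : Subgroup G, IsCoatom M → Subgroup.centralizer ((P : Subgroup G) : Set G) ≤ M →
        M = Subgroup.normalizer ((P : Subgroup G) : Set G) := by
  classical
  have hp : p.Prime := Fact.out
  have hab : IsMulCommutative ↥(P : Subgroup G) := by
    rcases hP with hc | ⟨h, _⟩
    · obtain ⟨x, hx⟩ := hc.exists_generator
      refine ⟨⟨fun a b => ?_⟩⟩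
      obtain ⟨i, rfl⟩ := Subgroup.mem_zpowers_iff.1 (hx a)
      obtain ⟨j, rfl⟩ := Subgroup.mem_zpowers_iff.1 (hx b)
      rw [← zpow_add, ← zpow_add, add_comm]
    · exact h
  have hnb : (P : Subgroup G) ≠ ⊥ := by
    intro e
    apply hnn
    rw [e]
    infer_instance
  have hne : ¬ ((∀ a ∈ (P : Subgroup G), a ^ p = 1) ∧ p < Nat.card ↥(P : Subgroup G)) := by
    rintro ⟨h1, h2⟩
    rcases hP with hc | ⟨_, h⟩
    · obtain ⟨x, hx⟩ := hc.exists_generator
      have h3 : orderOf x = Nat.card ↥(P : Subgroup G) := orderOf_eq_card_of_forall_mem_zpowers hx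
      have h4 : x ^ p = 1 := Subtype.ext (h1 x x.2)
      have h5 := Nat.le_of_dvd hp.pos (orderOf_dvd_of_pow_eq_one h4)
      omega
    · exact h ⟨hab, h1⟩
  have H : Cfsg.Agent.Lib.Helper4.NilCover.Hyp 𝓐 P := ⟨h𝓐, hZ, hab, hnb, hne⟩
  refine ⟨h𝓐.2.2 _ (H.mem P), H.isCoatom hnn, fun M hM hC => ?_⟩
  have h1 := H.le_normalizer hM.1 hC
  rcases eq_or_lt_of_le h1 with h2 | h2
  · exact h2
  · exact absurd (hM.2 _ h2) (H.isCoatom hnn).1

end Cfsg.Agent.S3891
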