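import Cfsg.Statements.S3892
import Cfsg.Agent.Lib.Helper57.NilCover

set_option autoImplicit false
open Cfsg

namespace Cfsg.Agent.S3892

open Equiv Equiv.Perm
open Cfsg.Agent.Lib.Helper57.NilCover
open Cfsg.Agent.Lib.Helper31 (commute_of_mem_nilpotent)

theorem small_case {G : Type*} [Group G] (𝓐 : Finset (Subgroup G))
    (hprop : ∀ A ∈ 𝓐, A ≠ ⊤) (hcov : ∀ g : G, ∃ A ∈ 𝓐, g ∈ A)
    (hmin : ∀ 𝓑 : Finset (Subgroup G), (∀ A ∈ 𝓑, A ≠ ⊤) ∧ (∀ g : G, ∃ A ∈ 𝓑, g ∈ A) →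
      𝓐.card ≤ 𝓑.card)
    (hnil : ∀ A ∈ 𝓐, Group.IsNilpotent ↥A) (M : Subgroup G) (hM : M ≠ ⊤) (X₀ X₁ : G)
    (h3 : X₀ ^ 3 = 1) (hT : (X₀ * X₁) ^ 2 = 1) (hne : (X₀ * X₁) * X₀ ≠ X₀ * (X₀ * X₁))
    (k0 : ∀ B ∈ 𝓐, X₀ ∈ B → B ≤ M) (k1 : ∀ B ∈ 𝓐, X₁ ∈ B → B ≤ M) : False := by
  obtain ⟨B, hB, hXB⟩ := hcov X₀
  obtain ⟨B', hB', hXB'⟩ := hcov X₁
  have e : B = B' := eq_of_le_proper 𝓐 hprop hcov hmin M hM hB hB' (k0 B hB hXB) (k1 B' hB' hXB')
  rw [← e] at hXB'
  apply hne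
  exact commute_of_mem_nilpotent B (hnil B hB) (B.mul_mem hXB hXB') hXB
    (Nat.Coprime.coprime_dvd_left (orderOf_dvd_of_pow_eq_one hT)
      (Nat.Coprime.coprime_dvd_right (orderOf_dvd_of_pow_eq_one h3) (by norm_num)))

set_option maxRecDepth 1000000 in
theorem t5a : ∀ g : Perm (Fin 5),
    (∀ u, g u ∈ ({3, 4} : Finset (Fin 5)) ↔ u ∈ ({3, 4} : Finset (Fin 5))) → g 4 ≠ 4 →
    (g * g = 1 ∧ g * (swap 1 0 * swap 1 2) ≠ (swap 1 0 * swap 1 2) * g) ∨ g = swap 3 4 ∨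
      g = swap 3 4 * (swap 1 0 * swap 1 2) ∨
      g = swap 3 4 * (swap 1 0 * swap 1 2) * (swap 1 0 * swap 1 2) := by decide

set_option maxRecDepth 1000000 in
theorem t5b : ∀ g : Perm (Fin 5),
    (∀ u, g u ∈ ({2, 4} : Finset (Fin 5)) ↔ u ∈ ({2, 4} : Finset (Fin 5))) → g 4 ≠ 4 →
    (g * g = 1 ∧ g * (swap 1 0 * swap 1 3) ≠ (swap 1 0 * swap 1 3) * g) ∨ g = swap 2 4 ∨
      g = swap 2 4 * (swap 1 0 * swap 1 3) ∨
      g = swap 2 4 * (swap 1 0 * swap 1 3) * (swap 1 0 * swap 1 3) := by decide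

set_option maxRecDepth 1000000 in
theorem t4a : ∀ g : Perm (Fin 4), g 3 = 3 →
    (g = 1 ∨ g = swap 1 0 * swap 1 2 ∨ g = (swap 1 0 * swap 1 2) * (swap 1 0 * swap 1 2)) ∨
    (g * g = 1 ∧ g * (swap 1 0 * swap 1 2) ≠ (swap 1 0 * swap 1 2) * g) := by decide

set_option maxRecDepth 1000000 in
theorem t4b : ∀ g : Perm (Fin 4), g 2 = 2 →
    (g = 1 ∨ g = swap 1 0 * swap 1 3 ∨ g = (swap 1 0 * swap 1 3) * (swap 1 0 * swap 1 3)) ∨
    (g * g = 1 ∧ g * (swap 1 0 * swap 1 3) ≠ (swap 1 0 * swap 1 3) * g) := by decide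

/-- a nilpotent subgroup containing an element of order dividing 3 contains no involution-like
element not commuting with it -/
theorem no_inv {G : Type*} [Group G] (B : Subgroup G) (hB : Group.IsNilpotent B) {x g : G}
    (hx : x ∈ B) (hg : g ∈ B) (h3 : x ^ 3 = 1) (h2 : g * g = 1) : g * x = x * g :=
  commute_of_mem_nilpotent B hB hg hx
    (Nat.Coprime.coprime_dvd_left (orderOf_dvd_of_pow_eq_one (by rw [pow_two]; exact h2))
      (Nat.Coprime.coprime_dvd_right (orderOf_dvd_of_pow_eq_one h3) (by norm_num)))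

theorem sym4 (𝓐 : Finset (Subgroup (Perm (Fin 4))))
    (hprop : ∀ A ∈ 𝓐, A ≠ ⊤) (hcov : ∀ g : Perm (Fin 4), ∃ A ∈ 𝓐, g ∈ A)
    (hmin : ∀ 𝓑 : Finset (Subgroup (Perm (Fin 4))),
      (∀ A ∈ 𝓑, A ≠ ⊤) ∧ (∀ g : Perm (Fin 4), ∃ A ∈ 𝓑, g ∈ A) → 𝓐.card ≤ 𝓑.card)
    (hnil : ∀ A ∈ 𝓐, Group.IsNilpotent ↥A) : False := by
  have c0 : IsThreeCycle (swap 1 0 * swap 1 2 : Perm (Fin 4)) :=
    isThreeCycle_swap_mul_swap_same (by decide) (by decide) (by decide)
  have c1 : IsThreeCycle (swap 1 0 * swap 1 3 : Perm (Fin 4)) :=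
    isThreeCycle_swap_mul_swap_same (by decide) (by decide) (by decide)
  have p0 : (swap 1 0 * swap 1 2 : Perm (Fin 4)) ^ 3 = 1 := by
    have := pow_orderOf_eq_one (swap 1 0 * swap 1 2 : Perm (Fin 4))
    rwa [c0.orderOf] at this
  have p1 : (swap 1 0 * swap 1 3 : Perm (Fin 4)) ^ 3 = 1 := by
    have := pow_orderOf_eq_one (swap 1 0 * swap 1 3 : Perm (Fin 4))
    rwa [c1.orderOf] at this
  refine small_case 𝓐 hprop hcov hmin hnil (alternatingGroup (Fin 4)) ?_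
    (swap 1 0 * swap 1 2) (swap 1 0 * swap 1 3) p0 (by decide) (by decide) ?_ ?_
  · intro h
    have : (swap 0 1 : Perm (Fin 4)) ∈ alternatingGroup (Fin 4) := by rw [h]; exact Subgroup.mem_top _
    rw [mem_alternatingGroup, sign_swap (by decide)] at this
    exact absurd this (by decide)
  · intro B hB hx g hg
    have h1 := le_stab (MonoidHom.id _) Function.injective_id B (hnil B hB) _ hx c0.isCycle {3}
      (by decide) (Or.inl rfl) hg
    rw [Subgroup.mem_comap, mem_stabF] at h1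
    have h2 : g 3 = 3 := by
      have := (h1 3).2 (by simp)
      simpa using this
    rw [mem_alternatingGroup]
    rcases t4a g h2 with (h | h | h) | ⟨h, h'⟩
    · rw [h, Perm.sign_one]
    · rw [h, Perm.sign_mul, sign_swap (by decide), sign_swap (by decide)]; rfl
    · rw [h, Perm.sign_mul, Perm.sign_mul, sign_swap (by decide), sign_swap (by decide)]; rfl
    · exact absurd (no_inv B (hnil B hB) hx hg p0 h) h'
  · intro B hB hx g hg
    have h1 := le_stab (MonoidHom.id _) Function.injective_id B (hnil B hB) _ hx c1.isCycle {2}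
      (by decide) (Or.inl rfl) hg
    rw [Subgroup.mem_comap, mem_stabF] at h1
    have h2 : g 2 = 2 := by
      have := (h1 2).2 (by simp)
      simpa using this
    rw [mem_alternatingGroup]
    rcases t4b g h2 with (h | h | h) | ⟨h, h'⟩
    · rw [h, Perm.sign_one]
    · rw [h, Perm.sign_mul, sign_swap (by decide), sign_swap (by decide)]; rfl
    · rw [h, Perm.sign_mul, Perm.sign_mul, sign_swap (by decide), sign_swap (by decide)]; rfl
    · exact absurd (no_inv B (hnil B hB) hx hg p1 h) h'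

theorem alt5 (𝓐 : Finset (Subgroup ↥(alternatingGroup (Fin 5))))
    (hprop : ∀ A ∈ 𝓐, A ≠ ⊤) (hcov : ∀ g : ↥(alternatingGroup (Fin 5)), ∃ A ∈ 𝓐, g ∈ A)
    (hmin : ∀ 𝓑 : Finset (Subgroup ↥(alternatingGroup (Fin 5))),
      (∀ A ∈ 𝓑, A ≠ ⊤) ∧ (∀ g : ↥(alternatingGroup (Fin 5)), ∃ A ∈ 𝓑, g ∈ A) → 𝓐.card ≤ 𝓑.card)
    (hnil : ∀ A ∈ 𝓐, Group.IsNilpotent ↥A) : False := by
  have c0 : IsThreeCycle (swap 1 0 * swap 1 2 : Perm (Fin 5)) :=
    isThreeCycle_swap_mul_swap_same (by decide) (by decide) (by decide)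
  have c1 : IsThreeCycle (swap 1 0 * swap 1 3 : Perm (Fin 5)) :=
    isThreeCycle_swap_mul_swap_same (by decide) (by decide) (by decide)
  have p0 : (swap 1 0 * swap 1 2 : Perm (Fin 5)) ^ 3 = 1 := by
    have := pow_orderOf_eq_one (swap 1 0 * swap 1 2 : Perm (Fin 5))
    rwa [c0.orderOf] at this
  have p1 : (swap 1 0 * swap 1 3 : Perm (Fin 5)) ^ 3 = 1 := by
    have := pow_orderOf_eq_one (swap 1 0 * swap 1 3 : Perm (Fin 5))
    rwa [c1.orderOf] at this
  have s0 : sign (swap 1 0 * swap 1 2 : Perm (Fin 5)) = 1 := by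
    rw [Perm.sign_mul, sign_swap (by decide), sign_swap (by decide)]; rfl
  have s1 : sign (swap 1 0 * swap 1 3 : Perm (Fin 5)) = 1 := by
    rw [Perm.sign_mul, sign_swap (by decide), sign_swap (by decide)]; rfl
  obtain ⟨ι, hιdef⟩ : ∃ ι : ↥(alternatingGroup (Fin 5)) →* Perm (Fin 5),
      ι = (alternatingGroup (Fin 5)).subtype := ⟨_, rfl⟩
  have hι : Function.Injective ι := by rw [hιdef]; exact Subgroup.subtype_injective _
  have hev : ∀ g : ↥(alternatingGroup (Fin 5)), sign (ι g) = 1 := by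
    intro g; rw [hιdef]; exact mem_alternatingGroup.1 g.2
  have hodd : Odd (Fintype.card (Fin 5)) := by rw [Fintype.card_fin]; decide
  have toM : ∀ g : ↥(alternatingGroup (Fin 5)), ι g 4 = 4 → g ∈ (stabF {4}).comap ι := by
    intro g hg
    rw [Subgroup.mem_comap, mem_stabF]
    intro u
    rw [Finset.mem_singleton, Finset.mem_singleton]
    constructor
    · intro h; exact (ι g).injective (h.trans hg.symm)
    · rintro rfl; exact hg
  obtain ⟨X₀, hX₀⟩ : ∃ X₀ : ↥(alternatingGroup (Fin 5)), ι X₀ = swap 1 0 * swap 1 2 :=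
    ⟨⟨_, mem_alternatingGroup.2 s0⟩, by rw [hιdef]; rfl⟩
  obtain ⟨X₁, hX₁⟩ : ∃ X₁ : ↥(alternatingGroup (Fin 5)), ι X₁ = swap 1 0 * swap 1 3 :=
    ⟨⟨_, mem_alternatingGroup.2 s1⟩, by rw [hιdef]; rfl⟩
  have q0 : X₀ ^ 3 = 1 := hι (by rw [map_pow, hX₀, p0, map_one])
  have q1 : X₁ ^ 3 = 1 := hι (by rw [map_pow, hX₁, p1, map_one])
  have hs : sign (swap 4 0 * swap 0 1 : Perm (Fin 5)) = 1 := by
    rw [Perm.sign_mul, sign_swap (by decide), sign_swap (by decide)]; rfl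
  obtain ⟨W, hW⟩ : ∃ W : ↥(alternatingGroup (Fin 5)), ι W = swap 4 0 * swap 0 1 :=
    ⟨⟨_, mem_alternatingGroup.2 hs⟩, by rw [hιdef]; rfl⟩
  have d1 : ((swap 1 0 * swap 1 2 : Perm (Fin 5)) * (swap 1 0 * swap 1 3)) ^ 2 = 1 := by decide
  have d2 : ((swap 1 0 * swap 1 2 : Perm (Fin 5)) * (swap 1 0 * swap 1 3)) * (swap 1 0 * swap 1 2) ≠
        (swap 1 0 * swap 1 2) * ((swap 1 0 * swap 1 2) * (swap 1 0 * swap 1 3)) := by decide
  have d3 : (swap 4 0 * swap 0 1 : Perm (Fin 5)) 4 ∉ ({4} : Finset (Fin 5)) := by decide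
  have d4 : ∀ u : Fin 5, u ∈ ({3, 4} : Finset (Fin 5)) ↔
            u ∉ (swap 1 0 * swap 1 2 : Perm (Fin 5)).support := by decide
  have d5 : ∀ u : Fin 5, u ∈ ({2, 4} : Finset (Fin 5)) ↔
            u ∉ (swap 1 0 * swap 1 3 : Perm (Fin 5)).support := by decide
  refine small_case 𝓐 hprop hcov hmin hnil ((stabF {4}).comap ι) ?_ X₀ X₁ q0
    (hι (by rw [map_pow, map_mul, hX₀, hX₁, d1, map_one]))
    (by
      intro h
      apply d2
      have := congrArg ι h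
      rwa [map_mul, map_mul, map_mul, map_mul, hX₀, hX₁] at this) ?_ ?_
  · intro h
    have : W ∈ (stabF {4}).comap ι := by rw [h]; exact Subgroup.mem_top _
    rw [Subgroup.mem_comap, mem_stabF, hW] at this
    exact d3 ((this 4).2 (by simp))
  · intro B hB hx g hg
    have h1 := le_stab ι hι B (hnil B hB) X₀ hx (by rw [hX₀]; exact c0.isCycle) {3, 4}
      (by rw [hX₀]; exact d4) (Or.inr ⟨rfl, hodd, hev⟩) hg
    rw [Subgroup.mem_comap, mem_stabF] at h1
    apply toM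
    by_contra h4
    have hs := hev g
    rcases t5a (ι g) h1 h4 with ⟨h, h'⟩ | h | h | h
    · apply h'
      have h2 : g * g = 1 := hι (by rw [map_mul, h, map_one])
      have := no_inv B (hnil B hB) hx hg q0 h2
      have h3 := congrArg ι this
      rwa [map_mul, map_mul, hX₀] at h3
    · rw [h, sign_swap (by decide)] at hs; exact absurd hs (by decide)
    · rw [h, Perm.sign_mul, s0, sign_swap (by decide)] at hs; exact absurd hs (by decide)
    · rw [h, Perm.sign_mul, Perm.sign_mul, s0, sign_swap (by decide)] at hs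
      exact absurd hs (by decide)
  · intro B hB hx g hg
    have h1 := le_stab ι hι B (hnil B hB) X₁ hx (by rw [hX₁]; exact c1.isCycle) {2, 4}
      (by rw [hX₁]; exact d5) (Or.inr ⟨rfl, hodd, hev⟩) hg
    rw [Subgroup.mem_comap, mem_stabF] at h1
    apply toM
    by_contra h4
    have hs := hev g
    rcases t5b (ι g) h1 h4 with ⟨h, h'⟩ | h | h | h
    · apply h'
      have h2 : g * g = 1 := hι (by rw [map_mul, h, map_one])
      have := no_inv B (hnil B hB) hx hg q1 h2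
      have h3 := congrArg ι this
      rwa [map_mul, map_mul, hX₁] at h3
    · rw [h, sign_swap (by decide)] at hs; exact absurd hs (by decide)
    · rw [h, Perm.sign_mul, s1, sign_swap (by decide)] at hs; exact absurd hs (by decide)
    · rw [h, Perm.sign_mul, Perm.sign_mul, s1, sign_swap (by decide)] at hs
      exact absurd hs (by decide)

/-- existence of a cycle whose support has a prescribed size -/
theorem exists_cycle_card (n k : ℕ) (hk : k + 2 ≤ n) :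
    ∃ x : Perm (Fin n), x.IsCycle ∧ x.support.card = n - k ∧ (x.supportᶜ).card = k := by
  obtain ⟨s, -, hs⟩ := Finset.exists_subset_card_eq (s := (Finset.univ : Finset (Fin n))) (n := n - k)
    (by rw [Finset.card_univ, Fintype.card_fin]; omega)
  obtain ⟨x, hx, hxs⟩ := exists_cycle s (by omega)
  refine ⟨x, hx, by rw [hxs, hs], ?_⟩
  rw [Finset.card_compl, hxs, hs, Fintype.card_fin]
  omega

/-- A cover of a group is a finite set of proper subgroups whose union is the whole group; it is minimal when no cover has fewer members, and nilpotent when all its members are nilpotent. The alternating groups of degree at least 5 and the symmetric groups of degree at least 4 have no nilpotent minimal cover. -/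
theorem result (n : ℕ) :
    (5 ≤ n → ¬ ∃ 𝓐 : Finset (Subgroup ↥(alternatingGroup (Fin n))), ((∀ A ∈ 𝓐, A ≠ ⊤) ∧ (∀ g : ↥(alternatingGroup (Fin n)), ∃ A ∈ 𝓐, g ∈ A)) ∧ (∀ 𝓑 : Finset (Subgroup ↥(alternatingGroup (Fin n))), (∀ A ∈ 𝓑, A ≠ ⊤) ∧ (∀ g : ↥(alternatingGroup (Fin n)), ∃ A ∈ 𝓑, g ∈ A) → 𝓐.card ≤ 𝓑.card) ∧ (∀ A ∈ 𝓐, Group.IsNilpotent ↥A)) ∧
    (4 ≤ n → ¬ ∃ 𝓐 : Finset (Subgroup (Equiv.Perm (Fin n))), ((∀ A ∈ 𝓐, A ≠ ⊤) ∧ (∀ g : (Equiv.Perm (Fin n)), ∃ A ∈ 𝓐, g ∈ A)) ∧ (∀ 𝓑 : Finset (Subgroup (Equiv.Perm (Fin n))), (∀ A ∈ 𝓑, A ≠ ⊤) ∧ (∀ g : (Equiv.Perm (Fin n)), ∃ A ∈ 𝓑, g ∈ A) → 𝓐.card ≤ 𝓑.card) ∧ (∀ A ∈ 𝓐, Group.IsNilpotent ↥A)) := by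
  constructor
  · rintro hn ⟨𝓐, ⟨hprop, hcov⟩, hmin, hnil⟩
    rcases Nat.lt_or_ge 5 n with h6 | h5
    swap
    · obtain rfl : n = 5 := le_antisymm h5 hn
      exact alt5 𝓐 hprop hcov hmin hnil
    have hι : Function.Injective (alternatingGroup (Fin n)).subtype := Subgroup.subtype_injective _
    have hr : ∀ σ : Perm (Fin n), sign σ = 1 → σ ∈ (alternatingGroup (Fin n)).subtype.range :=
      fun σ h => ⟨⟨σ, mem_alternatingGroup.2 h⟩, rfl⟩
    have hev : ∀ g : ↥(alternatingGroup (Fin n)), sign ((alternatingGroup (Fin n)).subtype g) = 1 :=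
      fun g => mem_alternatingGroup.1 g.2
    rcases Nat.even_or_odd n with he | ho
    · obtain ⟨x, hx, hc, hc'⟩ := exists_cycle_card n 1 (by omega)
      have hs : sign x = 1 := by
        rw [hx.sign, hc]
        have : Odd (n - 1) := by
          obtain ⟨m, hm⟩ := he
          exact ⟨m - 1, by omega⟩
        rw [this.neg_one_pow, neg_neg]
      exact no_cover _ hι x hx (by omega) hr (hr x hs) (Or.inl hc') 𝓐 hprop hcov hmin hnil
    · obtain ⟨x, hx, hc, hc'⟩ := exists_cycle_card n 2 (by omega)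
      have hs : sign x = 1 := by
        rw [hx.sign, hc]
        have : Odd (n - 2) := by
          obtain ⟨m, hm⟩ := ho
          exact ⟨m - 1, by omega⟩
        rw [this.neg_one_pow, neg_neg]
      exact no_cover _ hι x hx (by omega) hr (hr x hs)
        (Or.inr ⟨hc', by rw [Fintype.card_fin]; exact ho, hev⟩) 𝓐 hprop hcov hmin hnil
  · rintro hn ⟨𝓐, ⟨hprop, hcov⟩, hmin, hnil⟩
    rcases Nat.lt_or_ge 4 n with h5 | h4
    swap
    · obtain rfl : n = 4 := le_antisymm h4 hn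
      exact sym4 𝓐 hprop hcov hmin hnil
    obtain ⟨x, hx, hc, hc'⟩ := exists_cycle_card n 1 (by omega)
    exact no_cover (MonoidHom.id _) Function.injective_id x hx (by omega)
      (fun σ _ => ⟨σ, rfl⟩) ⟨x, rfl⟩ (Or.inl hc') 𝓐 hprop hcov hmin hnil


end Cfsg.Agent.S3892
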