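import Cfsg.Statements.S3921
import Cfsg.Agent.Lib.Helper73.SCN.ODD
import Cfsg.Agent.Lib.Helper73.SCN.SYL
import Cfsg.Agent.Lib.Helper73.SCN.CZ
import Cfsg.Agent.Lib.Helper73.SCN.SDX
import Cfsg.Agent.Lib.Helper73.SCN.PSLF
import Cfsg.Agent.Lib.Helper73.SCN.NT
import Cfsg.Agent.Lib.Helper73.SCN.PSLB
import Cfsg.Agent.S0508
import Cfsg.Agent.Lib.Helper59.TwoGroupRecog
import Cfsg.Agent.Lib.Helper29.Cores

set_option autoImplicit false
open Cfsg

namespace Cfsg.Agent.S3921

open Cfsg.Agent.Lib.Helper73.SCN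

theorem fwd {G : Type*} [Group G] [Finite G] [IsSimpleGroup G] (hna : ¬ IsMulCommutative G)
    (h : SC G) : ∃ (F : Type) (_ : Field F) (_ : Fintype F), Odd (Fintype.card F) ∧
      Nonempty (G ≃* Matrix.ProjectiveSpecialLinearGroup (Fin 2) F) := by
  have h2 := even_card hna h
  obtain ⟨S⟩ : Nonempty (Sylow 2 G) := inferInstance
  obtain ⟨n, a, b, hn, hcard, ha, hb, hoa, hba, hb2, hrel⟩ := sylow_type hna h h2 S
  set z : G := a ^ (2 ^ (n - 2)) with hzdef
  have hpow : 2 ^ (n - 1) = 2 * 2 ^ (n - 2) := by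
    obtain ⟨m, rfl⟩ : ∃ m, n = m + 2 := ⟨n - 2, by omega⟩
    simp [pow_succ, mul_comm]
  have hz2 : z ^ 2 = 1 := by
    rw [hzdef, ← pow_mul, mul_comm, ← hpow, ← hoa, pow_orderOf_eq_one]
  have hz1 : z ≠ 1 := by
    intro h1
    have := orderOf_dvd_of_pow_eq_one h1
    rw [hoa, hpow] at this
    have h3 := Nat.le_of_dvd (by positivity) this
    have : 0 < 2 ^ (n - 2) := by positivity
    omega
  have hzo : orderOf z = 2 := orderOf_eq_prime hz2 hz1
  have hzinv : z⁻¹ = z := by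
    rw [inv_eq_iff_mul_eq_one, ← sq, hz2]
  have hconj : ∀ k : ℕ, b * a ^ k * b⁻¹ = (b * a * b⁻¹) ^ k := by
    intro k
    rw [conj_pow]
  have hbz : b * z * b⁻¹ = z := by
    rw [hzdef, hconj]
    rcases hrel with hrel | ⟨hn4, hrel⟩
    · rw [hrel, inv_pow, ← hzdef, hzinv]
    · rw [hrel, ← pow_mul, mul_comm, pow_mul, ← hzdef]
      have hodd : Odd (2 ^ (n - 2) - 1) := by
        obtain ⟨m, rfl⟩ : ∃ m, n = m + 3 := ⟨n - 3, by omega⟩
        have : 2 ^ (m + 3 - 2) = 2 * 2 ^ m := by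
          rw [show m + 3 - 2 = m + 1 by omega, pow_succ, mul_comm]
        rw [this]
        have : 0 < 2 ^ m := by positivity
        exact ⟨2 ^ m - 1, by omega⟩
      obtain ⟨j, hj⟩ := hodd
      rw [hj, pow_succ, pow_mul, hz2, one_pow, one_mul]
  have hC := centralizer_eq h S n a b hn hcard ha hb hoa hba hb2 hbz
  rcases hrel with hrel | ⟨hn4, hrel⟩
  · -- dihedral
    have hiso : Nonempty (↥(S : Subgroup G) ≃* DihedralGroup (2 ^ (n - 1))) := by
      refine Cfsg.Agent.Lib.Helper59.dihedral_recog (G := ↥(S : Subgroup G)) (2 ^ (n - 1))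
        (by positivity) ⟨a, ha⟩ ⟨b, hb⟩ ?_ ?_ ?_ ?_ ?_
      · rw [← hoa]; exact Subgroup.orderOf_mk a ha
      · apply Subtype.ext; simpa [sq] using hb2
      · apply Subtype.ext; simpa using hrel
      · intro hmem
        apply hba
        obtain ⟨k, hk⟩ := Subgroup.mem_zpowers_iff.mp hmem
        exact Subgroup.mem_zpowers_iff.mpr ⟨k, by simpa using congrArg Subtype.val hk⟩
      · rw [hcard]
        obtain ⟨m, rfl⟩ : ∃ m, n = m + 1 := ⟨n - 1, by omega⟩
        simp [pow_succ, mul_comm]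
    have hzS : z ∈ (S : Subgroup G) := Subgroup.pow_mem _ ha _
    have hO : (Cfsg.oddCore (Subgroup.centralizer ({z} : Set G))).map
        (Subgroup.centralizer ({z} : Set G)).subtype = ⊥ := by
      have h1 : Odd (Nat.card (Cfsg.oddCore (Subgroup.centralizer ({z} : Set G)))) :=
        Cfsg.Agent.Lib.Helper29.odd_card_oddCore
      have h3 : Nat.card (Cfsg.oddCore (Subgroup.centralizer ({z} : Set G))) ∣ 2 ^ n := by
        have := Subgroup.card_subgroup_dvd_card (Cfsg.oddCore (Subgroup.centralizer ({z} : Set G)))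
        have hc2 : Nat.card (Subgroup.centralizer ({z} : Set G)) = 2 ^ n := by
          rw [← hcard]; exact congrArg (fun K : Subgroup G => Nat.card K) hC
        rwa [hc2] at this
      have h4 : Nat.card (Cfsg.oddCore (Subgroup.centralizer ({z} : Set G))) = 1 := by
        obtain ⟨j, -, hj⟩ := (Nat.dvd_prime_pow Nat.prime_two).mp h3
        rw [hj] at h1 ⊢
        rcases j with _ | j
        · simp
        · exfalso
          rw [pow_succ] at h1
          exact (Nat.not_even_iff_odd.mpr h1) (even_two.mul_left _)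
      rw [Subgroup.card_eq_one.mp h4, Subgroup.map_bot]
    refine Cfsg.Agent.S0508.result S (2 ^ (n - 1)) ?_ hiso z hzo hzS ?_ ⊥ hO.symm ?_ ?_ ?_
    · obtain ⟨m, rfl⟩ : ∃ m, n = m + 2 := ⟨n - 2, by omega⟩
      have : 0 < 2 ^ m := by positivity
      simp [pow_succ]; omega
    · intro s hs
      have : s ∈ Subgroup.centralizer ({z} : Set G) := hC ▸ hs
      exact ((Subgroup.mem_centralizer_singleton_iff.mp this)).symm ▸ rfl
    · intro hne; exact absurd rfl hne
    · intro s _ hs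
      exfalso; apply hs
      rw [Subgroup.mem_centralizer_iff]
      intro y hy
      have : y = 1 := by simpa using hy
      simp [this]
    · intro Y hY hne
      exact absurd (le_bot_iff.mp hY) hne
  · exact (no_semidihedral hna S n a b hn4 hcard ha hb hoa hba hb2 hrel hC).elim

theorem result {G : Type*} [Group G] [Finite G] [IsSimpleGroup G] (hna : ¬ IsMulCommutative G) :
    (∀ H : Subgroup G, ¬ IsCyclic ↥H → Subgroup.centralizer (H : Set G) ≤ H) ↔ ∃ (F : Type) (_ : Field F) (_ : Fintype F),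
      (Fintype.card F = 4 ∨ Fintype.card F = 9 ∨ ((Fintype.card F).Prime ∧ ∃ k : ℕ, Fintype.card F = 2 ^ k + 1 ∨ Fintype.card F = 2 ^ k - 1)) ∧
      Nonempty (G ≃* Matrix.ProjectiveSpecialLinearGroup (Fin 2) F) := by
  constructor
  · intro h
    obtain ⟨F, i1, i2, hodd, ⟨e⟩⟩ := fwd hna h
    refine ⟨F, i1, i2, ?_, ⟨e⟩⟩
    obtain ⟨k, hk⟩ := card_of_sc_psl F hodd (SC.of_equiv e h)
    rcases prime_or_nine _ k (FiniteField.isPrimePow_card F) hk with hp | h9
    · exact Or.inr (Or.inr ⟨hp, k, hk⟩)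
    · exact Or.inr (Or.inl h9)
  · rintro ⟨F, i1, i2, hF, ⟨e⟩⟩
    exact SC.of_equiv e.symm (sc_psl F hF)

end Cfsg.Agent.S3921
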