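import Cfsg.Statements.S3937
-- import your own Cfsg.Agent.* helpers here
import Cfsg.Agent.S4333
import Cfsg.Agent.Lib.Helper28.Cores
import Cfsg.Agent.Lib.Helper42.Supersolvable3
import Cfsg.Agent.Lib.Helper28.GenFitting

set_option autoImplicit false
open Cfsg

namespace Cfsg.Agent.S3937

universe u

open scoped Pointwise

/-- iterated commutator with `g`. -/
def eng {G : Type*} [Group G] (g : G) (n : ℕ) (x : G) : G :=
  (List.replicate n g).foldl (fun a b => a * b * a⁻¹ * b⁻¹) x

theorem eng_zero {G : Type*} [Group G] (g x : G) : eng g 0 x = x := rfl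

theorem eng_succ {G : Type*} [Group G] (g x : G) (n : ℕ) :
    eng g (n + 1) x = eng g n x * g * (eng g n x)⁻¹ * g⁻¹ := by
  unfold eng
  rw [List.replicate_succ', List.foldl_append]
  rfl

theorem eng_map {G H : Type*} [Group G] [Group H] (f : G →* H) (g x : G) (n : ℕ) :
    f (eng g n x) = eng (f g) n (f x) := by
  induction n with
  | zero => rfl
  | succ n ih => rw [eng_succ, eng_succ]; simp [ih]

theorem eng_mem_lcs {G : Type*} [Group G] (S : Subgroup G) (g x : G) (hg : g ∈ S) (hx : x ∈ S)
    (n : ℕ) : eng g n x ∈ S.lowerCentralSeries n := by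
  induction n with
  | zero => simpa [eng_zero] using hx
  | succ n ih =>
    rw [eng_succ]
    have := Subgroup.commutator_mem_commutator ih hg
    rw [commutatorElement_def] at this
    exact this

theorem subnormal_of_engel : ∀ (n : ℕ) (G : Type u) [Group G] [Finite G], Nat.card G = n →
    ∀ g : G, (∀ x : G, ∃ k : ℕ, eng g k x = 1) → (Subgroup.zpowers g).IsSubnormal := by
  intro n
  induction n using Nat.strong_induction_on with
  | _ n ih =>
  intro G _ _ hn g hg
  by_contra hA
  have hprop : ∀ V : Subgroup G, Subgroup.zpowers g ≤ V → V ≠ ⊤ →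
      ((Subgroup.zpowers g).subgroupOf V).IsSubnormal := by
    intro V hAV hV
    have hgV : g ∈ V := hAV (Subgroup.mem_zpowers g)
    have hlt : Nat.card V < n := by
      rw [← hn]
      exact Cfsg.Agent.Lib.Helper42.card_lt_of_ne_top V hV
    have h1 := ih _ hlt V rfl ⟨g, hgV⟩ (by
      intro x
      obtain ⟨k, hk⟩ := hg x
      refine ⟨k, ?_⟩
      apply Subtype.ext
      have := eng_map V.subtype ⟨g, hgV⟩ x k
      simp only [Subgroup.subtype_apply] at this
      rw [this, hk]; rfl)
    have h2 : (Subgroup.zpowers g).subgroupOf V = Subgroup.zpowers (⟨g, hgV⟩ : V) := by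
      ext y
      rw [Subgroup.mem_subgroupOf, Subgroup.mem_zpowers_iff, Subgroup.mem_zpowers_iff]
      constructor
      · rintro ⟨k, hk⟩; exact ⟨k, Subtype.ext (by simpa using hk)⟩
      · rintro ⟨k, hk⟩; exact ⟨k, by rw [← hk]; simp⟩
    rw [h2]; exact h1
  obtain ⟨M, hAM, hMtop, hM⟩ := Cfsg.Agent.S4333.zipper (Subgroup.zpowers g) hA hprop
  have hgM : g ∈ M := hAM (Subgroup.mem_zpowers g)
  have key : ∀ x : G, x ∉ M → x * g * x⁻¹ * g⁻¹ ∉ M := by
    intro x hx hc
    have h1 : x * g * x⁻¹ ∈ M := by
      have := M.mul_mem hc hgM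
      simpa using this
    have h2 : Subgroup.zpowers g ≤ MulAut.conj x⁻¹ • M := by
      rw [Subgroup.zpowers_le, Subgroup.mem_pointwise_smul_iff_inv_smul_mem]
      simpa [MulAut.conj_apply] using h1
    have h3 : MulAut.conj x⁻¹ • M ≠ ⊤ := by
      intro h
      apply hMtop
      have : MulAut.conj x • (MulAut.conj x⁻¹ • M) = MulAut.conj x • (⊤ : Subgroup G) := by rw [h]
      rw [smul_smul, ← map_mul, mul_inv_cancel, map_one, one_smul] at this
      rw [this]
      ext y; simp [Subgroup.mem_pointwise_smul_iff_inv_smul_mem]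
    have h4 : MulAut.conj x⁻¹ • M ≤ M := hM _ h2 h3
    have h5 : MulAut.conj x⁻¹ • M = M := by
      apply Subgroup.eq_of_le_of_card_ge h4
      exact (Nat.card_congr (Subgroup.equivSMul (MulAut.conj x⁻¹) M).toEquiv).le
    have h6 : x ∈ Subgroup.normalizer (M : Set G) := by
      have : x⁻¹ ∈ Subgroup.normalizer (M : Set G) := by
        rw [Subgroup.mem_normalizer_iff]
        intro y
        constructor
        · intro hy
          have : x⁻¹ * y * x⁻¹⁻¹ ∈ MulAut.conj x⁻¹ • M := ⟨y, hy, by simp [MulAut.conj_apply]⟩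
          rwa [h5] at this
        · intro hy
          rw [← h5] at hy
          obtain ⟨z, hz, hzy⟩ := hy
          have : z = y := by
            simp only [MulDistribMulAction.toMonoidEnd_apply, MulDistribMulAction.toMonoidHom_apply, MulAut.smul_def, MulAut.conj_apply] at hzy
            simpa using hzy
          rw [← this]; exact hz
      simpa using inv_mem this
    by_cases hN : Subgroup.normalizer (M : Set G) = ⊤
    · have hMn : M.Normal := Subgroup.normalizer_eq_top_iff.mp hN
      apply hA
      exact Subgroup.IsSubnormal.trans hAM (hprop M hAM hMtop) hMn.isSubnormal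
    · exact hx (hM _ (hAM.trans Subgroup.le_normalizer) hN h6)
  obtain ⟨x, hx⟩ : ∃ x : G, x ∉ M := by
    by_contra h
    push Not at h
    exact hMtop (eq_top_iff.mpr fun y _ => h y)
  have hall : ∀ k, eng g k x ∉ M := by
    intro k
    induction k with
    | zero => exact hx
    | succ k ihk => rw [eng_succ]; exact key _ ihk
  obtain ⟨k, hk⟩ := hg x
  exact hall k (hk ▸ M.one_mem)

/-- Baer's characterization of the Fitting subgroup: in a finite group G, an element g lies in the Fitting subgroup if and only if g is a left Engel element, that is, for every x there is n with [x, g, g, …, g] = 1 (n entries g, [a, b] = aba⁻¹b⁻¹). -/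
theorem result {G : Type*} [Group G] [Finite G] (g : G) :
    g ∈ Cfsg.fittingSubgroup G ↔ ∀ x : G, ∃ n : ℕ, (List.replicate n g).foldl (fun a b => a * b * a⁻¹ * b⁻¹) x = 1 := by
  constructor
  · intro hg x
    have hN := Cfsg.Agent.Lib.Helper28.fitting_normal (G := G)
    have hnil := Cfsg.Agent.Lib.Helper28.fitting_isNilpotent (G := G)
    obtain ⟨n, hn⟩ := (Subgroup.isNilpotent_iff_lowerCentralSeries (Cfsg.fittingSubgroup G)).mp hnil
    have hc : x * g * x⁻¹ * g⁻¹ ∈ Cfsg.fittingSubgroup G :=
      mul_mem (hN.conj_mem g hg x) (inv_mem hg)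
    refine ⟨n + 1, ?_⟩
    have h1 := eng_mem_lcs (Cfsg.fittingSubgroup G) g _ hg hc n
    rw [hn, Subgroup.mem_bot] at h1
    rw [List.replicate_succ, List.foldl_cons]
    exact h1
  · intro h
    have h1 := subnormal_of_engel _ G rfl g h
    exact Cfsg.Agent.Lib.Helper28.subnormal_le_fitting h1 (Cfsg.Agent.Lib.Helper28.isNilpotent_of_isMulCommutative) (Subgroup.mem_zpowers g)

end Cfsg.Agent.S3937
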