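import Cfsg.Statements.S4001
import Cfsg.Agent.S0042
import Cfsg.Agent.Lib.Helper75.FrobTheory
import Cfsg.Agent.Lib.Helper31.FpfNilp
import Cfsg.Agent.Lib.Helper64.PrimeGraph
import Cfsg.Agent.Lib.Helper74.NilAux
import Cfsg.Agent.Lib.Helper42.Supersolvable

set_option autoImplicit false
open Cfsg

namespace Cfsg.Agent.S4001

/-- a fixed-point-free involution inverts -/
theorem inverts_of_fpf {L : Type*} [Group L] (N : Subgroup L) [Finite N] [hN : N.Normal] (t : L)
    (ht : t * t = 1) (hf : ∀ k ∈ N, t * k = k * t → k = 1) : ∀ k ∈ N, t * k * t⁻¹ = k⁻¹ := by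
  have hmem : ∀ k ∈ N, k⁻¹ * (t * k * t⁻¹) ∈ N := fun k hk =>
    N.mul_mem (N.inv_mem hk) (hN.conj_mem k hk t)
  let f : N → N := fun k => ⟨(k : L)⁻¹ * (t * k * t⁻¹), hmem k k.2⟩
  have hinj : Function.Injective f := by
    intro a b hab
    have h1 : (a : L)⁻¹ * (t * a * t⁻¹) = (b : L)⁻¹ * (t * b * t⁻¹) := congrArg Subtype.val hab
    have h0 : (b : L) * (a : L)⁻¹ = t * ((b : L) * (a : L)⁻¹) * t⁻¹ := by
      calc (b : L) * (a : L)⁻¹ = b * ((a : L)⁻¹ * (t * a * t⁻¹)) * (t * a * t⁻¹)⁻¹ := by group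
        _ = b * ((b : L)⁻¹ * (t * b * t⁻¹)) * (t * a * t⁻¹)⁻¹ := by rw [h1]
        _ = t * ((b : L) * (a : L)⁻¹) * t⁻¹ := by group
    have h2 : t * ((b : L) * (a : L)⁻¹) = ((b : L) * (a : L)⁻¹) * t := by
      calc t * ((b : L) * (a : L)⁻¹) = (t * ((b : L) * (a : L)⁻¹) * t⁻¹) * t := by group
        _ = ((b : L) * (a : L)⁻¹) * t := by rw [← h0]
    have h3 := hf _ (N.mul_mem b.2 (N.inv_mem a.2)) h2
    exact Subtype.ext (mul_inv_eq_one.mp h3).symm
  have hsurj := Finite.surjective_of_injective hinj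
  intro k hk
  obtain ⟨a, ha⟩ := hsurj ⟨k, hk⟩
  have ha' : (a : L)⁻¹ * (t * a * t⁻¹) = k := congrArg Subtype.val ha
  have htinv : t⁻¹ = t := inv_eq_of_mul_eq_one_left ht
  have h2 : t⁻¹ * t⁻¹ = 1 := by rw [← mul_inv_rev, ht, inv_one]
  rw [← ha']
  calc t * ((a : L)⁻¹ * (t * a * t⁻¹)) * t⁻¹ = t * (a : L)⁻¹ * t * a * (t⁻¹ * t⁻¹) := by group
    _ = t * (a : L)⁻¹ * t * a := by rw [h2, mul_one]
    _ = t * (a : L)⁻¹ * t⁻¹ * a := by rw [htinv]
    _ = ((a : L)⁻¹ * (t * a * t⁻¹))⁻¹ := by group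

theorem conj_of_not_mem_kernel {L : Type*} [Group L] (C : Subgroup L) (x : L)
    (hx : x ∉ Cfsg.frobeniusKernel C) : ∃ g : L, ∃ c ∈ C, c ≠ 1 ∧ x = g * c * g⁻¹ := by
  simp only [Cfsg.frobeniusKernel, Set.mem_ofPred_eq, not_or, not_forall, not_not] at hx
  obtain ⟨hx1, g, hg⟩ := hx
  obtain ⟨c, hc, hcx⟩ := (Subgroup.mem_smul_pointwise_iff_exists _ _ _).1 hg
  rw [MulAut.smul_def, MulAut.conj_apply] at hcx
  refine ⟨g, c, hc, ?_, hcx.symm⟩
  rintro rfl
  apply hx1
  rw [← hcx]; group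

theorem comm_kernel {L : Type*} [Group L] (C N : Subgroup L) [hNn : N.Normal]
    (hN : (N : Set L) = Cfsg.frobeniusKernel C)
    (hf : ∀ h ∈ C, h ≠ 1 → ∀ k ∈ N, h * k = k * h → k = 1) (x : L) (hx : x ∉ N) (k : L)
    (hk : k ∈ N) (hc : x * k = k * x) : k = 1 := by
  have hx' : x ∉ Cfsg.frobeniusKernel C := by rw [← hN]; exact hx
  obtain ⟨g, c, hcC, hc1, rfl⟩ := conj_of_not_mem_kernel C x hx'
  have hk' : g⁻¹ * k * g ∈ N := by
    have := hNn.conj_mem k hk g⁻¹
    simpa using this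
  have h1 : c * (g⁻¹ * k * g) = (g⁻¹ * k * g) * c := by
    calc c * (g⁻¹ * k * g) = g⁻¹ * ((g * c * g⁻¹) * k) * g := by group
      _ = g⁻¹ * (k * (g * c * g⁻¹)) * g := by rw [hc]
      _ = (g⁻¹ * k * g) * c := by group
  have h2 := hf c hcC hc1 _ hk' h1
  calc k = g * (g⁻¹ * k * g) * g⁻¹ := by group
    _ = 1 := by rw [h2]; group

theorem coprime_of_frob {L : Type*} [Group L] [Finite L] (C : Subgroup L)
    (hC : Cfsg.IsFrobeniusComplement C) : Nat.Coprime (Nat.card C) C.index := by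
  have h := (Cfsg.Agent.S0034.result C hC).2
  have h' : C.index ≡ 1 [MOD Nat.card C] := h
  have h2 := h'.gcd_eq
  rw [Nat.coprime_comm]
  unfold Nat.Coprime
  rw [h2]; simp

theorem exists_orderOf_of_quot {L M : Type*} [Group L] [Finite L] [Group M] (f : L →* M)
    (hf : Function.Surjective f) (n : ℕ) (y : M) (hy : orderOf y = n) : ∃ g : L, orderOf g = n := by
  obtain ⟨g, rfl⟩ := hf y
  have hd : n ∣ orderOf g := hy ▸ orderOf_map_dvd f g
  exact ⟨g ^ (orderOf g / n), orderOf_pow_orderOf_div (orderOf_pos g).ne' hd⟩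

theorem exists_orderOf_of_cyclic {L : Type*} [Group L] [Finite L] [IsCyclic L] (n : ℕ)
    (hn : n ∣ Nat.card L) : ∃ g : L, orderOf g = n := by
  obtain ⟨g, hg⟩ := IsCyclic.exists_ofOrder_eq_natCard (α := L)
  exact ⟨g ^ (orderOf g / n), orderOf_pow_orderOf_div (orderOf_pos g).ne' (hg ▸ hn)⟩

/-- Let G be a 2-Frobenius group: it has normal subgroups H < K with K a Frobenius group with kernel H and G/H a Frobenius group with kernel K/H. Then G is solvable; K/H has odd order coprime to the order of H and to the order of G/K (it is the image of an odd-order Hall subgroup); G/K is cyclic; and the prime graph of G has exactly two connected components, both complete: for distinct primes p, q dividing the order of G, G has an element of order pq exactly when p and q either both divide the order of K/H or both do not. -/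
theorem result {G : Type*} [Group G] [Finite G] (H K : Subgroup G) [H.Normal] [K.Normal] (hlt : H < K)
    (hK : ∃ C : Subgroup ↥K, Cfsg.IsFrobeniusComplement C ∧ Cfsg.frobeniusKernel C = (H.subgroupOf K : Set ↥K))
    (hGH : ∃ C : Subgroup (G ⧸ H), Cfsg.IsFrobeniusComplement C ∧ Cfsg.frobeniusKernel C = (K.map (QuotientGroup.mk' H) : Set (G ⧸ H))) :
    Group.IsSolvable G ∧ Odd (Nat.card (↥K ⧸ H.subgroupOf K)) ∧
      Nat.Coprime (Nat.card (↥K ⧸ H.subgroupOf K)) (Nat.card ↥H * Nat.card (G ⧸ K)) ∧ IsCyclic (G ⧸ K) ∧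
      ∀ p q : ℕ, p.Prime → q.Prime → p ≠ q → p ∣ Nat.card G → q ∣ Nat.card G →
        ((∃ g : G, orderOf g = p * q) ↔ (p ∣ Nat.card (↥K ⧸ H.subgroupOf K) ↔ q ∣ Nat.card (↥K ⧸ H.subgroupOf K))) := by
  classical
  obtain ⟨C1, hC1, hker1⟩ := hK
  obtain ⟨C2, hC2, hker2⟩ := hGH
  obtain ⟨K1, hK1, hK1n, hK1c, hK1bot, hK1card, hfpf1⟩ :=
    Lib.Helper75.frobenius_kernel_data C1 hC1
  obtain ⟨K2, hK2, hK2n, hK2c, hK2bot, hK2card, hfpf2⟩ :=
    Lib.Helper75.frobenius_kernel_data C2 hC2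
  have hK1eq : K1 = H.subgroupOf K := SetLike.coe_injective (hK1.trans hker1)
  have hK2eq : K2 = K.map (QuotientGroup.mk' H) := SetLike.coe_injective (hK2.trans hker2)
  have hHK : H ≤ K := hlt.le
  have hmemK1 : ∀ x : ↥K, x ∈ K1 ↔ (x : G) ∈ H := by
    intro x; rw [hK1eq, Subgroup.mem_subgroupOf]
  have hmemK2 : ∀ g : G, (QuotientGroup.mk' H g) ∈ K2 ↔ g ∈ K := by
    intro g
    rw [hK2eq, Subgroup.mem_map]
    constructor
    · rintro ⟨k, hk, hkg⟩
      have h1 : k⁻¹ * g ∈ H := QuotientGroup.eq.mp hkg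
      have h2 : g = k * (k⁻¹ * g) := by group
      rw [h2]; exact K.mul_mem hk (hHK h1)
    · intro hg; exact ⟨g, hg, rfl⟩
  -- centralizers of elements of K \ H
  have L1 : ∀ x ∈ K, x ∉ H → ∀ y ∈ H, x * y = y * x → y = 1 := by
    intro x hx hxH y hy hxy
    have := comm_kernel C1 K1 hK1 hfpf1 ⟨x, hx⟩ (fun h => hxH ((hmemK1 _).1 h)) ⟨y, hHK hy⟩
      ((hmemK1 _).2 hy) (Subtype.ext hxy)
    exact congrArg Subtype.val this
  have L2 : ∀ x ∈ K, x ∉ H → ∀ y : G, x * y = y * x → y ∈ K := by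
    intro x hx hxH y hxy
    by_contra hy
    have := comm_kernel C2 K2 hK2 hfpf2 (QuotientGroup.mk' H y) (fun h => hy ((hmemK2 _).1 h))
      (QuotientGroup.mk' H x) ((hmemK2 _).2 hx) (by rw [← map_mul, ← map_mul, hxy])
    exact hxH ((QuotientGroup.eq_one_iff x).1 this)
  -- the isomorphism C1 ≃ K2
  let ψ0 : C1 →* (G ⧸ H) := ((QuotientGroup.mk' H).comp K.subtype).comp C1.subtype
  have hψ0mem : ∀ c : C1, ψ0 c ∈ K2 := fun c => (hmemK2 _).2 (c : ↥K).2
  let ψ : C1 →* K2 := ψ0.codRestrict K2 hψ0mem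
  have hψinj : Function.Injective ψ := by
    rw [injective_iff_map_eq_one]
    intro c hc
    have h1 : ψ0 c = 1 := congrArg Subtype.val hc
    have h2 : ((c : ↥K) : G) ∈ H := (QuotientGroup.eq_one_iff _).1 h1
    have h3 : (c : ↥K) ∈ K1 ⊓ C1 := ⟨(hmemK1 _).2 h2, c.2⟩
    rw [hK1c.disjoint.eq_bot] at h3
    exact Subtype.ext (Subgroup.mem_bot.1 h3)
  have hψsurj : Function.Surjective ψ := by
    rintro ⟨y, hy⟩
    obtain ⟨g, rfl⟩ := QuotientGroup.mk'_surjective H y
    have hg : g ∈ K := (hmemK2 g).1 hy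
    have hmem : (⟨g, hg⟩ : ↥K) ∈ K1 ⊔ C1 := by rw [hK1c.sup_eq_top]; trivial
    obtain ⟨a, ha, c, hc, hac⟩ := Subgroup.mem_sup_of_normal_left.1 hmem
    refine ⟨⟨c, hc⟩, Subtype.ext ?_⟩
    have h1 : (a : G) * (c : G) = g := congrArg Subtype.val hac
    have h2 : QuotientGroup.mk' H (a : G) = 1 := (QuotientGroup.eq_one_iff _).2 ((hmemK1 a).1 ha)
    change QuotientGroup.mk' H (c : G) = QuotientGroup.mk' H g
    rw [← h1, map_mul, h2, one_mul]
  let e : C1 ≃* K2 := MulEquiv.ofBijective ψ ⟨hψinj, hψsurj⟩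
  -- cardinalities
  have hnB : Nat.card (↥K ⧸ H.subgroupOf K) = Nat.card C1 := by
    rw [← hK1eq]; exact hK1c.symm.index_eq_card
  have hcardK1 : Nat.card K1 = Nat.card H := by
    rw [hK1eq]; exact Nat.card_congr (Subgroup.subgroupOfEquivOfLe hHK).toEquiv
  have hcardK2 : Nat.card K2 = Nat.card C1 := (Nat.card_congr e.toEquiv).symm
  have hnC : Nat.card (G ⧸ K) = Nat.card C2 := by
    have h1 : K2.index = Nat.card C2 := hK2c.symm.index_eq_card
    rw [← h1, hK2eq, Subgroup.index_map_eq K (QuotientGroup.mk'_surjective H)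
      (by rw [QuotientGroup.ker_mk']; exact hHK)]
    rfl
  have hcop1 : Nat.Coprime (Nat.card C1) (Nat.card H) := by
    have := coprime_of_frob C1 hC1
    rwa [← hK1card, hcardK1] at this
  have hcop2 : Nat.Coprime (Nat.card C1) (Nat.card C2) := by
    have := coprime_of_frob C2 hC2
    rw [← hK2card, hcardK2] at this
    exact this.symm
  have hcardG : Nat.card G = Nat.card H * Nat.card C1 * Nat.card C2 := by
    rw [← Subgroup.card_mul_index K, ← Subgroup.card_mul_index K1, hcardK1,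
      hK1c.symm.index_eq_card]
    congr 1
  -- nilpotency
  obtain ⟨N1, hN1, -, hN1nil⟩ := Cfsg.Agent.S0042.result C1 hC1
  have hN1eq : N1 = K1 := SetLike.coe_injective (hN1.trans hK1.symm)
  rw [hN1eq] at hN1nil
  obtain ⟨N2, hN2, -, hN2nil⟩ := Cfsg.Agent.S0042.result C2 hC2
  have hN2eq : N2 = K2 := SetLike.coe_injective (hN2.trans hK2.symm)
  rw [hN2eq] at hN2nil
  have hHnil : Group.IsNilpotent H := by
    rw [hK1eq] at hN1nil
    exact Group.nilpotent_of_surjective (Subgroup.subgroupOfEquivOfLe hHK).toMonoidHom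
      (Subgroup.subgroupOfEquivOfLe hHK).surjective
  have hC1nil : Group.IsNilpotent C1 :=
    Group.nilpotent_of_surjective e.symm.toMonoidHom e.symm.surjective
  -- uniqueness of the involution of C1
  have huniq : ∀ t ∈ C1, ∀ t' ∈ C1, t ≠ 1 → t' ≠ 1 → t * t = 1 → t' * t' = 1 → t = t' := by
    intro t ht t' ht' h1 h1' h2 h2'
    have i1 := inverts_of_fpf K1 t h2 (fun k hk => hfpf1 t ht h1 k hk)
    have i2 := inverts_of_fpf K1 t' h2' (fun k hk => hfpf1 t' ht' h1' k hk)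
    by_contra hne
    have hne' : t * t' ≠ 1 := by
      intro h
      apply hne
      have : t' = t⁻¹ := (inv_eq_of_mul_eq_one_right h).symm
      rw [this]; exact (inv_eq_of_mul_eq_one_left h2).symm
    apply hK1bot
    rw [Subgroup.eq_bot_iff_forall]
    intro k hk
    apply hfpf1 (t * t') (C1.mul_mem ht ht') hne' k hk
    have e1 : t' * k * t'⁻¹ = k⁻¹ := i2 k hk
    have e2 : t * k⁻¹ * t⁻¹ = k := by
      have := i1 k⁻¹ (K1.inv_mem hk)
      rwa [inv_inv] at this
    calc t * t' * k = t * (t' * k * t'⁻¹) * t⁻¹ * (t * t') := by group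
      _ = k * (t * t') := by rw [e1, e2]
  -- odd order
  have hodd : Odd (Nat.card C1) := by
    rw [← Nat.not_even_iff_odd, even_iff_two_dvd]
    intro h2
    have : Fact (Nat.Prime 2) := ⟨Nat.prime_two⟩
    obtain ⟨t, ht⟩ := exists_prime_orderOf_dvd_card' (G := C1) 2 h2
    have ht1 : t ≠ 1 := by
      rintro rfl; simp at ht
    have ht2 : t * t = 1 := by
      rw [← pow_two, ← ht]; exact pow_orderOf_eq_one t
    obtain ⟨d, hd, hd1⟩ : ∃ d ∈ C2, d ≠ 1 := by
      by_contra hcon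
      push Not at hcon
      exact hC2.1 ((Subgroup.eq_bot_iff_forall _).2 hcon)
    have hconjmem : d * (e t : G ⧸ H) * d⁻¹ ∈ K2 := hK2n.conj_mem _ (e t).2 d
    obtain ⟨t', ht'⟩ := e.surjective ⟨_, hconjmem⟩
    have ht'v : (e t' : G ⧸ H) = d * (e t : G ⧸ H) * d⁻¹ := congrArg Subtype.val ht'
    have ht'1 : t' ≠ 1 := by
      rintro rfl
      rw [map_one] at ht'v
      have h3 : (e t : G ⧸ H) = 1 := by
        have : (e t : G ⧸ H) = d⁻¹ * (d * (e t : G ⧸ H) * d⁻¹) * d := by group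
        rw [this, ← ht'v]; simp
      apply ht1
      apply e.injective
      rw [map_one]; exact Subtype.ext h3
    have ht'2 : t' * t' = 1 := by
      apply e.injective
      apply Subtype.ext
      rw [map_mul, map_one]
      change (e t' : G ⧸ H) * (e t' : G ⧸ H) = 1
      rw [ht'v]
      have h4 : (e t : G ⧸ H) * (e t : G ⧸ H) = 1 := by
        have := congrArg (fun z => ((e z : K2) : G ⧸ H)) ht2
        simpa using this
      calc d * (e t : G ⧸ H) * d⁻¹ * (d * (e t : G ⧸ H) * d⁻¹)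
          = d * ((e t : G ⧸ H) * (e t : G ⧸ H)) * d⁻¹ := by group
        _ = 1 := by rw [h4]; group
    have heq : (t : ↥K) = (t' : ↥K) := huniq t t.2 t' t'.2
      (fun h => ht1 (Subtype.ext h)) (fun h => ht'1 (Subtype.ext h))
      (congrArg Subtype.val ht2) (congrArg Subtype.val ht'2)
    have heq' : t = t' := Subtype.ext heq
    rw [← heq'] at ht'v
    have hcomm : d * (e t : G ⧸ H) = (e t : G ⧸ H) * d := by
      calc d * (e t : G ⧸ H) = (d * (e t : G ⧸ H) * d⁻¹) * d := by group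
        _ = (e t : G ⧸ H) * d := by rw [← ht'v]
    have h5 := hfpf2 d hd hd1 _ (e t).2 hcomm
    apply ht1
    apply e.injective
    rw [map_one]; exact Subtype.ext h5
  -- C1 cyclic
  have hC1cyc : IsCyclic C1 := by
    apply Lib.Helper31.fpf_odd_nilpotent_isCyclic C1 K1 _ hK1bot _ hC1nil hodd
    · intro x _
      rw [Subgroup.normalizer_eq_top_iff.2 hK1n]; trivial
    · intro c hc hc1
      rw [Subgroup.eq_bot_iff_forall]
      rintro k ⟨hk, hkc⟩
      apply hfpf1 c hc hc1 k hk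
      exact (Subgroup.mem_centralizer_iff.1 hkc c rfl)
  have hK2cyc : IsCyclic K2 := isCyclic_of_surjective e e.surjective
  -- C2 cyclic
  have hC2cyc : IsCyclic C2 := by
    have hK2card1 : Nat.card K2 ≠ 1 := fun h => hK2bot (Subgroup.card_eq_one.mp h)
    obtain ⟨q, hq, hqd⟩ := Nat.exists_prime_and_dvd hK2card1
    have := Fact.mk hq
    obtain ⟨b, hb⟩ := exists_prime_orderOf_dvd_card' (G := K2) q hqd
    have hb' : orderOf (b : G ⧸ H) = q := by rw [Subgroup.orderOf_coe, hb]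
    have hb1 : (b : G ⧸ H) ≠ 1 := by
      intro h; rw [h, orderOf_one] at hb'; exact hq.one_lt.ne hb'
    have hQle : Subgroup.zpowers (b : G ⧸ H) ≤ K2 := by
      rw [Subgroup.zpowers_le]; exact b.2
    have hQn : (Subgroup.zpowers (b : G ⧸ H)).Normal :=
      Lib.Helper42.normal_of_le_cyclic_normal K2 _ hQle
    have hQcard : Nat.card (Subgroup.zpowers (b : G ⧸ H)) = q := by
      rw [Nat.card_zpowers, hb']
    have : Fact (Nat.card (Subgroup.zpowers (b : G ⧸ H))).Prime := ⟨hQcard ▸ hq⟩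
    have hAut : IsCyclic (MulAut (Subgroup.zpowers (b : G ⧸ H))) :=
      isCyclic_of_injective (IsCyclic.mulAutMulEquiv (Subgroup.zpowers (b : G ⧸ H))).toMonoidHom
        (IsCyclic.mulAutMulEquiv (Subgroup.zpowers (b : G ⧸ H))).injective
    let φ : C2 →* MulAut (Subgroup.zpowers (b : G ⧸ H)) :=
      (MulAut.conjNormal (H := Subgroup.zpowers (b : G ⧸ H))).comp C2.subtype
    apply isCyclic_of_injective φ
    rw [injective_iff_map_eq_one]
    intro c hc
    by_contra hc1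
    have h1 : φ c ⟨(b : G ⧸ H), Subgroup.mem_zpowers _⟩ = ⟨(b : G ⧸ H), Subgroup.mem_zpowers _⟩ := by
      rw [hc]; rfl
    have h2 : (c : G ⧸ H) * (b : G ⧸ H) * (c : G ⧸ H)⁻¹ = (b : G ⧸ H) := congrArg Subtype.val h1
    have h3 : (c : G ⧸ H) * (b : G ⧸ H) = (b : G ⧸ H) * (c : G ⧸ H) := by
      calc (c : G ⧸ H) * (b : G ⧸ H) = ((c : G ⧸ H) * (b : G ⧸ H) * (c : G ⧸ H)⁻¹) * c := by group
        _ = (b : G ⧸ H) * (c : G ⧸ H) := by rw [h2]
    exact hb1 (hfpf2 c c.2 (fun h => hc1 (Subtype.ext h)) _ b.2 h3)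
  -- G / K cyclic
  let π : (G ⧸ H) →* (G ⧸ K) := QuotientGroup.map H K (MonoidHom.id G) hHK
  have hπ : ∀ g : G, π (QuotientGroup.mk' H g) = QuotientGroup.mk' K g := fun g => rfl
  have hπK2 : ∀ x ∈ K2, π x = 1 := by
    intro x hx
    obtain ⟨g, rfl⟩ := QuotientGroup.mk'_surjective H x
    rw [hπ]; exact (QuotientGroup.eq_one_iff g).2 ((hmemK2 g).1 hx)
  have hGKcyc : IsCyclic (G ⧸ K) := by
    apply isCyclic_of_surjective (π.comp C2.subtype)
    intro y
    obtain ⟨g, rfl⟩ := QuotientGroup.mk'_surjective K y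
    have hmem : QuotientGroup.mk' H g ∈ K2 ⊔ C2 := by rw [hK2c.sup_eq_top]; trivial
    obtain ⟨a, ha, c, hc, hac⟩ := Subgroup.mem_sup_of_normal_left.1 hmem
    refine ⟨⟨c, hc⟩, ?_⟩
    change π c = _
    rw [← hπ, ← hac, map_mul, hπK2 a ha, one_mul]
  -- solvability
  have hGKsolv : Group.IsSolvable (G ⧸ K) := by
    let _ : CommGroup (G ⧸ K) := IsCyclic.commGroup
    infer_instance
  have hK2solv : Group.IsSolvable K2 := by
    let _ : CommGroup K2 := IsCyclic.commGroup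
    infer_instance
  have hHsolv : Group.IsSolvable H := inferInstance
  have hGHsolv : Group.IsSolvable (G ⧸ H) := by
    apply Group.isSolvable_of_ker_le_range K2.subtype π
    intro x hx
    obtain ⟨g, rfl⟩ := QuotientGroup.mk'_surjective H x
    rw [MonoidHom.mem_ker, hπ] at hx
    rw [Subgroup.range_subtype]
    exact (hmemK2 g).2 ((QuotientGroup.eq_one_iff g).1 hx)
  have hGsolv : Group.IsSolvable G :=
    Group.isSolvable_of_ker_le_range H.subtype (QuotientGroup.mk' H) (by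
      rw [QuotientGroup.ker_mk', Subgroup.range_subtype])
  have hKsolv : Group.IsSolvable K := inferInstance
  -- adjacency: necessary condition
  have key : ∀ p q : ℕ, p.Prime → q.Prime → p ≠ q → (∃ g : G, orderOf g = p * q) →
      p ∣ Nat.card C1 → q ∣ Nat.card C1 := by
    intro p q hp hq hpq ⟨g, hg⟩ hpB
    have hx : orderOf (g ^ q) = p := by
      rw [orderOf_pow_of_dvd hq.ne_zero (hg ▸ Dvd.intro_left p rfl), hg,
        Nat.mul_div_cancel _ hq.pos]
    have hy : orderOf (g ^ p) = q := by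
      rw [orderOf_pow_of_dvd hp.ne_zero (hg ▸ Dvd.intro q rfl), hg,
        Nat.mul_div_cancel_left _ hp.pos]
    have hpH : ¬ p ∣ Nat.card H := fun h =>
      hp.one_lt.ne' (Nat.eq_one_of_dvd_coprimes hcop1 hpB h)
    have hpC : ¬ p ∣ Nat.card C2 := fun h =>
      hp.one_lt.ne' (Nat.eq_one_of_dvd_coprimes hcop2 hpB h)
    have hxK : g ^ q ∈ K := by
      rw [← QuotientGroup.eq_one_iff, ← orderOf_eq_one_iff]
      have h1 : orderOf ((g ^ q : G) : G ⧸ K) ∣ p := hx ▸ orderOf_map_dvd (QuotientGroup.mk' K) (g ^ q)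
      have h2 : orderOf ((g ^ q : G) : G ⧸ K) ∣ Nat.card C2 := hnC ▸ orderOf_dvd_natCard _
      rcases (Nat.dvd_prime hp).1 h1 with h | h
      · exact h
      · exact absurd (h ▸ h2) hpC
    have hxH : g ^ q ∉ H := by
      intro h
      apply hpH
      have := Subgroup.orderOf_dvd_natCard H h
      rwa [hx] at this
    have hcomm : g ^ q * g ^ p = g ^ p * g ^ q := by rw [← pow_add, ← pow_add, add_comm]
    have hyK : g ^ p ∈ K := L2 _ hxK hxH _ hcomm
    have hy1 : g ^ p ≠ 1 := by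
      intro h; rw [h, orderOf_one] at hy; exact hq.one_lt.ne hy
    have hyH : g ^ p ∉ H := fun h => hy1 (L1 _ hxK hxH _ h hcomm)
    have h1 : orderOf (QuotientGroup.mk' H (g ^ p)) ∣ q := hy ▸ orderOf_map_dvd _ _
    have h2 : orderOf (QuotientGroup.mk' H (g ^ p)) ∣ Nat.card K2 :=
      Subgroup.orderOf_dvd_natCard K2 ((hmemK2 _).2 hyK)
    rcases (Nat.dvd_prime hq).1 h1 with h | h
    · exact absurd ((QuotientGroup.eq_one_iff _).1 (orderOf_eq_one_iff.1 h)) hyH
    · rw [h, hcardK2] at h2; exact h2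
  rw [hnB, hnC]
  refine ⟨hGsolv, hodd, Nat.Coprime.mul_right hcop1 hcop2, hGKcyc, ?_⟩
  intro p q hp hq hpq hpG hqG
  constructor
  · intro hg
    constructor
    · exact key p q hp hq hpq hg
    · obtain ⟨g, hg⟩ := hg
      exact key q p hq hp hpq.symm ⟨g, by rw [hg, mul_comm]⟩
  · intro hiff
    have hcopq : Nat.Coprime p q := (Nat.coprime_primes hp hq).2 hpq
    by_cases hpB : p ∣ Nat.card C1
    · have hqB := hiff.1 hpB
      obtain ⟨c, hc⟩ := exists_orderOf_of_cyclic (L := C1) (p * q)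
        (hcopq.mul_dvd_of_dvd_of_dvd hpB hqB)
      exact ⟨((c : ↥K) : G), by rw [Subgroup.orderOf_coe, Subgroup.orderOf_coe, hc]⟩
    · have hqB : ¬ q ∣ Nat.card C1 := fun h => hpB (hiff.2 h)
      have hsplit : ∀ r : ℕ, r.Prime → r ∣ Nat.card G → ¬ r ∣ Nat.card C1 →
          r ∣ Nat.card H ∨ r ∣ Nat.card C2 := by
        intro r hr hrG hrB
        rw [hcardG] at hrG
        rcases (Nat.Prime.dvd_mul hr).1 hrG with h | h
        · rcases (Nat.Prime.dvd_mul hr).1 h with h | h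
          · exact Or.inl h
          · exact absurd h hrB
        · exact Or.inr h
      have hC1card1 : Nat.card C1 ≠ 1 := fun h => hC1.1 (Subgroup.card_eq_one.mp h)
      obtain ⟨s, hs, hsd⟩ := Nat.exists_prime_and_dvd hC1card1
      have hcardK : Nat.card K = Nat.card H * Nat.card C1 := by
        rw [← Subgroup.card_mul_index K1, hcardK1, hK1c.symm.index_eq_card]
      have mixed : ∀ p q : ℕ, p.Prime → q.Prime → p ≠ q → ¬ p ∣ Nat.card C1 → ¬ q ∣ Nat.card C1 →
          p ∣ Nat.card H → q ∣ Nat.card C2 → ∃ g : G, orderOf g = p * q := by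
        intro p q hp hq hpq hpB hqB hpH hqC
        have hps : p ≠ s := fun h => hpB (h ▸ hsd)
        have hqs : q ≠ s := fun h => hqB (h ▸ hsd)
        rcases Lib.Helper64.solvable_normal_adj (Nat.card K) K inferInstance hKsolv rfl p s q hp hs hq
          hps hpq hqs.symm (hcardK ▸ Dvd.dvd.mul_right hpH _) (hcardK ▸ Dvd.dvd.mul_left hsd _)
          (hcardG ▸ Dvd.dvd.mul_left hqC _) with h | h | h
        · obtain ⟨g, hg⟩ := h
          exact absurd (key s p hs hp hps.symm ⟨g, by rw [hg, mul_comm]⟩ hsd) hpB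
        · exact h
        · exact absurd (key s q hs hq hqs.symm h hsd) hqB
      rcases hsplit p hp hpG hpB with hpH | hpC <;> rcases hsplit q hq hqG hqB with hqH | hqC
      · have := Fact.mk hp
        have := Fact.mk hq
        obtain ⟨x, hx⟩ := exists_prime_orderOf_dvd_card' (G := H) p hpH
        obtain ⟨y, hy⟩ := exists_prime_orderOf_dvd_card' (G := H) q hqH
        have hx' : orderOf (x : G) = p := by rw [Subgroup.orderOf_coe, hx]
        have hy' : orderOf (y : G) = q := by rw [Subgroup.orderOf_coe, hy]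
        have hc : (x : G) * y = y * x :=
          Lib.Helper74.commute_of_mem_isNilpotent hHnil x.2 y.2 (by rw [hx', hy']; exact hcopq)
        refine ⟨(x : G) * y, ?_⟩
        rw [Commute.orderOf_mul_eq_mul_orderOf_of_coprime hc (by rw [hx', hy']; exact hcopq), hx', hy']
      · exact mixed p q hp hq hpq hpB hqB hpH hqC
      · obtain ⟨g, hg⟩ := mixed q p hq hp hpq.symm hqB hpB hqH hpC
        exact ⟨g, by rw [hg, mul_comm]⟩
      · obtain ⟨y, hy⟩ := exists_orderOf_of_cyclic (L := G ⧸ K) (p * q)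
          (hcopq.mul_dvd_of_dvd_of_dvd (hnC ▸ hpC) (hnC ▸ hqC))
        exact exists_orderOf_of_quot (QuotientGroup.mk' K) (QuotientGroup.mk'_surjective K) _ y hy

end Cfsg.Agent.S4001
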