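import Cfsg.Statements.S4039
import Cfsg.Agent.Lib.Helper71.NilMax
import Cfsg.Agent.Lib.Helper71.Class2

set_option autoImplicit false
open Cfsg

namespace Cfsg.Agent.S4039

/-- A finite group possessing a maximal subgroup that is nilpotent of class at most 2 is solvable. -/
theorem result {G : Type*} [Group G] [Finite G]
    (M : Subgroup G) (hmax : IsCoatom M) (hnil : Group.IsNilpotent M) (hcl : Group.nilpotencyClass ↥M ≤ 2) :
    Group.IsSolvable G := by
  apply Cfsg.Agent.Lib.Helper71.isSolvable_of_nilMax M hmax hnil 1 odd_one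
  intro x hx y hy z hz
  have h1 := Cfsg.Agent.Lib.Helper71.commutator_mem_center_of_class_le_two hcl
    (⟨x, hx⟩ : M) ⟨y, hy⟩
  have h2 := (Subgroup.mem_center_iff.mp h1) ⟨z, hz⟩
  have h3 : z * (x * y * x⁻¹ * y⁻¹) = x * y * x⁻¹ * y⁻¹ * z := congrArg Subtype.val h2
  rw [pow_one, pow_one, pow_one, commutatorElement_eq_one_iff_mul_comm, commutatorElement_def]
  exact h3.symm

end Cfsg.Agent.S4039
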