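import Cfsg.Statements.S4040
import Cfsg.Agent.Lib.Helper71.NilMax

set_option autoImplicit false
open Cfsg

namespace Cfsg.Agent.S4040

/-- A finite group possessing a maximal subgroup that is nilpotent of odd order is solvable. -/
theorem result {G : Type*} [Group G] [Finite G]
    (M : Subgroup G) (hmax : IsCoatom M) (hnil : Group.IsNilpotent M) (hodd : Odd (Nat.card M)) :
    Group.IsSolvable G := by
  apply Cfsg.Agent.Lib.Helper71.isSolvable_of_nilMax M hmax hnil (Nat.card M) hodd
  have h1 : ∀ x ∈ M, x ^ Nat.card M = 1 := by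
    intro x hx
    have := pow_card_eq_one' (x := (⟨x, hx⟩ : M))
    exact congrArg Subtype.val this
  intro x hx y hy z hz
  rw [h1 x hx, h1 y hy, h1 z hz]
  simp

end Cfsg.Agent.S4040
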