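import Cfsg.Statements.S4049
import Mathlib
import Cfsg.Agent.Lib.Helper71.TwoClosed

set_option autoImplicit false
open Cfsg

namespace Cfsg.Agent.S4049

open Cfsg.Agent.Lib.Helper71

/-- Let G be a finite group such that N_G(H)/C_G(H) has odd order for every nontrivial subgroup H of odd order. Then the Sylow 2-subgroups of G are normal. -/
theorem result {G : Type*} [Group G] [Finite G]
    (hhom : ∀ H : Subgroup G, H ≠ ⊥ → ¬ 2 ∣ Nat.card ↥H →
        ¬ 2 ∣ (Subgroup.centralizer (H : Set G)).relIndex (Subgroup.normalizer (H : Set G))) (P : Sylow 2 G) :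
    (P : Subgroup G).Normal := by
  apply sylow_two_normal
  intro t y ⟨a, ha⟩ hodd hinv
  by_contra hy1
  have hH : Subgroup.zpowers y ≠ ⊥ := by rwa [Ne, Subgroup.zpowers_eq_bot]
  have hcard : ¬ 2 ∣ Nat.card (Subgroup.zpowers y) := by
    rw [Nat.card_zpowers]
    intro h2
    exact (Nat.not_even_iff_odd.mpr hodd) (even_iff_two_dvd.mpr h2)
  have hrel := hhom _ hH hcard
  have htN : t ∈ Subgroup.normalizer ((Subgroup.zpowers y : Subgroup G) : Set G) := by
    rw [mem_normalizer_zpowers_iff, hinv]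
    exact Subgroup.inv_mem _ (Subgroup.mem_zpowers y)
  have h1 : t ^ (Subgroup.centralizer ((Subgroup.zpowers y : Subgroup G) : Set G)).relIndex
      (Subgroup.normalizer ((Subgroup.zpowers y : Subgroup G) : Set G))
      ∈ Subgroup.centralizer ((Subgroup.zpowers y : Subgroup G) : Set G) :=
    Subgroup.pow_index_mem ((Subgroup.centralizer ((Subgroup.zpowers y : Subgroup G) : Set G)).subgroupOf
      (Subgroup.normalizer ((Subgroup.zpowers y : Subgroup G) : Set G))) ⟨t, htN⟩
  have h2 : t ^ 2 ^ a ∈ Subgroup.centralizer ((Subgroup.zpowers y : Subgroup G) : Set G) := by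
    rw [← ha, pow_orderOf_eq_one]; exact Subgroup.one_mem _
  have h3 := mem_of_pow_mem_of_coprime _ t
    (Nat.Coprime.pow_left a ((Nat.Prime.coprime_iff_not_dvd Nat.prime_two).mpr hrel)) h2 h1
  rw [Subgroup.mem_centralizer_iff] at h3
  have h4 := h3 y (Subgroup.mem_zpowers y)
  have h5 : y = y⁻¹ := by rw [← hinv, ← h4]; group
  have h6 : y ^ 2 = 1 := by
    rw [pow_two]; nth_rewrite 1 [h5]; group
  have h7 := pow_gcd_eq_one.mpr ⟨h6, pow_orderOf_eq_one y⟩
  rw [(Nat.coprime_two_left.mpr hodd).gcd_eq_one, pow_one] at h7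
  exact hy1 h7

end Cfsg.Agent.S4049
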