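import Cfsg.Statements.S4064
import Cfsg.Agent.Lib.Helper37.CTI.Cases
import Cfsg.Agent.Lib.Helper80.CTIMain

set_option autoImplicit false
open Cfsg

namespace Cfsg.Agent.S4064

/-- Let G be a finite group in which the centralizer of every element meets each of its conjugates by elements outside its normalizer trivially. Then G is nilpotent; or G is a Frobenius group with a complement that is cyclic or isomorphic to the direct product of a cyclic group of odd order and the quaternion group of order 8; or G is isomorphic to PSL₂(2ⁿ) for some n ≥ 2. -/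
theorem result {G : Type*} [Group G] [Finite G] (hTI : ∀ x : G, Cfsg.IsTISubset (Subgroup.centralizer ({x} : Set G) : Set G)) :
    Group.IsNilpotent G ∨
    (∃ H : Subgroup G, Cfsg.IsFrobeniusComplement H ∧
      (IsCyclic H ∨ ∃ m : ℕ, Odd m ∧ Nonempty (H ≃* Multiplicative (ZMod m) × QuaternionGroup 2))) ∨
    (∃ n : ℕ, 2 ≤ n ∧ Nonempty (G ≃* Matrix.ProjectiveSpecialLinearGroup (Fin 2) (GaloisField 2 n))) := by
  by_cases hnn : Group.IsNilpotent G
  · exact Or.inl hnn
  right
  by_cases h1 : ∃ x : G, x ≠ 1 ∧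
      Subgroup.normalizer ((Subgroup.centralizer ({x} : Set G) : Subgroup G) : Set G)
        = Subgroup.centralizer ({x} : Set G)
  · obtain ⟨x, hx, hN⟩ := h1
    exact Or.inl (Cfsg.Agent.Lib.Helper37.CTI.case1 hTI hnn x hx hN)
  by_cases h2 : ∃ x : G, x ≠ 1 ∧ (Subgroup.centralizer ({x} : Set G)).Normal
  · obtain ⟨x, hx, hN⟩ := h2
    exact Or.inl (Cfsg.Agent.Lib.Helper37.CTI.case2 hTI hnn x hx hN)
  right
  have hnt : Nontrivial G := by
    by_contra hcon
    rw [not_nontrivial_iff_subsingleton] at hcon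
    exact hnn inferInstance
  exact Cfsg.Agent.Lib.Helper80.CTI.case3 hTI
    (fun x hx => ⟨fun h => h2 ⟨x, hx, h⟩, fun h => h1 ⟨x, hx, h⟩⟩) hnt

end Cfsg.Agent.S4064
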