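import Cfsg.Statements.S4073
import Cfsg.Agent.Lib.Helper73.SNN.ODD
import Cfsg.Agent.Lib.Helper73.SNN.NA
import Cfsg.Agent.Lib.Helper73.SNN.AB
import Cfsg.Agent.Lib.Helper73.SNN.BOR
import Cfsg.Agent.Lib.Helper73.SNN.ISO
import Cfsg.Agent.Lib.Helper73.SNN.CONV
import Cfsg.Agent.S2202
import Cfsg.Agent.Lib.Helper11.TwoComplement

set_option autoImplicit false
open Cfsg

namespace Cfsg.Agent.S4073

open Cfsg.Agent.Lib.Helper73.SNN

theorem not_solvable {G : Type*} [Group G] [IsSimpleGroup G] (hna : ¬ IsMulCommutative G) :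
    ¬ Group.IsSolvable G := by
  intro hs
  apply hna
  have := IsSimpleGroup.comm_iff_isSolvable (G := G)
  exact ⟨⟨this.mpr hs⟩⟩

theorem result {G : Type*} [Group G] [Finite G] [IsSimpleGroup G]
    (hna : ¬ IsMulCommutative G) :
    (∀ H : Subgroup G, ¬ IsMulCommutative H → Subgroup.normalizer (H : Set G) = H) ↔
    ∃ n : ℕ, 2 ≤ n ∧ (2 ^ n - 1).Prime ∧ Nonempty (G ≃* Matrix.ProjectiveSpecialLinearGroup (Fin 2) (GaloisField 2 n)) := by
  constructor
  · intro h
    have hsn : SN G := h
    have heven : Even (Nat.card G) := by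
      by_contra hodd
      exact not_solvable hna (solvable_of_odd hsn (Nat.not_even_iff_odd.mp hodd))
    have hS := sylow_comm hna hsn
    have hC := centralizer_comm hna hsn hS
    rcases Cfsg.Agent.S2202.result heven hC with h1 | h1 | ⟨F, i1, i2, A, i3, i4, hch, -, ⟨e⟩⟩
    · -- cyclic Sylow 2
      exfalso
      obtain ⟨S⟩ : Nonempty (Sylow 2 G) := inferInstance
      obtain ⟨N, hN, hNodd, k, hk⟩ := Cfsg.Agent.Lib.Helper11.NC_of_cyclic_sylow S (h1 S)
      rcases hN.eq_bot_or_eq_top with rfl | rfl
      · -- G is a 2-group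
        have hcard : Nat.card G = 2 ^ k := by
          rw [← hk, Subgroup.index_bot]
        have hp : IsPGroup 2 G := IsPGroup.of_card hcard
        haveI := hp.isNilpotent
        exact not_solvable hna IsNilpotent.to_isSolvable
      · have : Nat.card (⊤ : Subgroup G) = Nat.card G := Subgroup.card_top
        rw [this] at hNodd
        exact (Nat.not_even_iff_odd.mpr hNodd) heven
    · exfalso
      obtain ⟨S⟩ : Nonempty (Sylow 2 G) := inferInstance
      rcases (h1 S).eq_bot_or_eq_top with h0 | h0
      · have h2 : 2 ∣ Nat.card G := even_iff_two_dvd.mp heven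
        have := S.ne_bot_of_dvd_card h2
        exact this h0
      · have hp : IsPGroup 2 G := by
          have := S.isPGroup'
          rw [h0] at this
          exact this.of_equiv Subgroup.topEquiv
        haveI := hp.isNilpotent
        exact not_solvable hna IsNilpotent.to_isSolvable
    · obtain ⟨n, hn2, hcard, ⟨e1⟩, he2⟩ := iso hna F A e
      exact ⟨n, hn2, bor F (SN.of_equiv e1 hsn) n hcard hn2, he2⟩
  · rintro ⟨n, hn2, hp, ⟨e⟩⟩
    haveI : Fintype (GaloisField 2 n) := Fintype.ofFinite _
    have hcard : Fintype.card (GaloisField 2 n) = 2 ^ n := by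
      rw [← Nat.card_eq_fintype_card]
      exact GaloisField.card 2 n (by omega)
    obtain ⟨e2⟩ := sl2_equiv_psl2 (GaloisField 2 n)
    have := sn_sl2 (GaloisField 2 n) n hcard hn2 hp
    exact SN.of_equiv (e2.trans e.symm) this

end Cfsg.Agent.S4073
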