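import Cfsg.Statements.S4083
import Cfsg.Agent.S4082
import Cfsg.Agent.Lib.Helper11.DihedralAut
import Cfsg.Agent.Lib.Helper11.Four
import Cfsg.Agent.Lib.Helper47.Polyhedral
import Cfsg.Agent.Lib.Helper59.TwoGroupRecog

set_option autoImplicit false
open Cfsg

namespace Cfsg.Agent.S4083

open Cfsg.Agent.Lib.Helper71
open Cfsg.Agent.S4082 (comm_of_isCyclic isCyclic_of_central_cyclic)

/-- restricted `2`-by-cyclic subgroups -/
def Restr2 (G : Type*) [Group G] : Prop :=
  ∀ H : Subgroup G, (∀ S : Sylow 2 ↥H, (S : Subgroup ↥H).Normal) →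
        (∀ (S : Sylow 2 ↥H) [(S : Subgroup ↥H).Normal], IsCyclic (↥H ⧸ (S : Subgroup ↥H))) →
        IsCyclic H ∨ (∃ n : ℕ, Nonempty (H ≃* DihedralGroup (2 ^ n))) ∨
          Nonempty (H ≃* alternatingGroup (Fin 4))

theorem comm_of_sq {K : Type*} [Group K] (h : ∀ k : K, k ^ 2 = 1) (a b : K) : a * b = b * a := by
  have ha : a⁻¹ = a := inv_eq_of_mul_eq_one_left (by rw [← sq]; exact h a)
  have hb : b⁻¹ = b := inv_eq_of_mul_eq_one_left (by rw [← sq]; exact h b)
  have hab : (a * b)⁻¹ = a * b := inv_eq_of_mul_eq_one_left (by rw [← sq]; exact h (a * b))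
  rw [← hab, mul_inv_rev, ha, hb]

theorem forward {G : Type*} [Group G] [Finite G] (P : Sylow 2 G) (hR : Restr2 G) :
    (IsCyclic P ∨
      ((∃ n : ℕ, 1 ≤ n ∧ Nonempty ((P : Subgroup G) ≃* DihedralGroup (2 ^ n))) ∧
        ∀ K : Subgroup G, K ≤ P → Nat.card K = 4 → (∀ k ∈ K, k ^ 2 = 1) →
          Subgroup.centralizer (K : Set G) = K)) := by
  have : Fact (Nat.Prime 2) := ⟨Nat.prime_two⟩
  obtain ⟨h1, h2⟩ := pbc_sub (P : Subgroup G) P le_rfl P.isPGroup' Subgroup.le_normalizer 1
      (one_mem _) (fun h hh => ⟨h, hh, 0, by simp⟩)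
  rcases hR P h1 h2 with hc | ⟨n, ⟨e⟩⟩ | ⟨⟨e⟩⟩
  · left; exact hc
  · rcases Nat.eq_zero_or_pos n with rfl | hn
    · left
      have hcard : Nat.card (P : Subgroup G) = 2 := by
        rw [Nat.card_congr e.toEquiv, DihedralGroup.nat_card]; norm_num
      exact isCyclic_of_prime_card hcard
    · right
      refine ⟨⟨n, hn, ⟨e⟩⟩, ?_⟩
      intro K hKP hK4 hK2
      have hKp : IsPGroup 2 K := P.isPGroup'.to_le hKP
      have hKcomm : ∀ a ∈ K, ∀ b ∈ K, a * b = b * a := by
        intro a ha b hb
        exact congrArg Subtype.val (comm_of_sq (K := K) (fun k => Subtype.ext (hK2 k.1 k.2)) ⟨a, ha⟩ ⟨b, hb⟩)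
      apply le_antisymm
      · intro c hc
        have hcK : ∀ k ∈ K, k * c = c * k := Subgroup.mem_centralizer_iff.mp hc
        set H := Subgroup.zpowers c ⊔ K with hH
        have hzN : Subgroup.zpowers c ≤ Subgroup.normalizer (K : Set G) := by
          rw [Subgroup.zpowers_le]; exact Subgroup.centralizer_le_normalizer _ hc
        have hKH : K ≤ H := le_sup_right
        have hcH : c ∈ H := Subgroup.mem_sup_left (Subgroup.mem_zpowers c)
        have hHN : H ≤ Subgroup.normalizer (K : Set G) := sup_le hzN Subgroup.le_normalizer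
        have hdec : ∀ h ∈ H, ∃ n ∈ K, ∃ k : ℤ, h = c ^ k * n := by
          intro h hh
          obtain ⟨a, ha, n, hn, rfl⟩ := (Cfsg.Agent.Lib.Helper1.mem_sup_of_le_normalizer hzN).mp hh
          obtain ⟨k, rfl⟩ := Subgroup.mem_zpowers_iff.mp ha
          exact ⟨n, hn, k, rfl⟩
        obtain ⟨h3, h4⟩ := pbc_sub H K hKH hKp hHN c hcH hdec
        have hHcomm : ∀ a b : H, a * b = b * a := by
          intro a b
          apply Subtype.ext
          obtain ⟨n₁, hn₁, k₁, e₁⟩ := hdec a.1 a.2
          obtain ⟨n₂, hn₂, k₂, e₂⟩ := hdec b.1 b.2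
          change a.1 * b.1 = b.1 * a.1
          rw [e₁, e₂]
          have c1 : Commute n₁ (c ^ k₂) := (show Commute n₁ c from hcK n₁ hn₁).zpow_right k₂
          have c2 : Commute n₂ (c ^ k₁) := (show Commute n₂ c from hcK n₂ hn₂).zpow_right k₁
          have c3 : Commute (c ^ k₁) (c ^ k₂) := (Commute.refl c).zpow_zpow k₁ k₂
          calc c ^ k₁ * n₁ * (c ^ k₂ * n₂) = c ^ k₁ * (n₁ * c ^ k₂) * n₂ := by group
            _ = c ^ k₁ * (c ^ k₂ * n₁) * n₂ := by rw [c1.eq]
            _ = (c ^ k₁ * c ^ k₂) * (n₁ * n₂) := by group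
            _ = (c ^ k₂ * c ^ k₁) * (n₂ * n₁) := by rw [c3.eq, hKcomm n₁ hn₁ n₂ hn₂]
            _ = c ^ k₂ * (c ^ k₁ * n₂) * n₁ := by group
            _ = c ^ k₂ * (n₂ * c ^ k₁) * n₁ := by rw [c2.eq]
            _ = c ^ k₂ * n₂ * (c ^ k₁ * n₁) := by group
        have hKnc : ¬ IsCyclic K := by
          intro hcyc
          obtain ⟨g, hg⟩ := IsCyclic.exists_generator (α := K)
          have h5 : orderOf g = 4 := by rw [orderOf_eq_card_of_forall_mem_zpowers hg, hK4]
          have h6 : g ^ 2 = 1 := Subtype.ext (hK2 g.1 g.2)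
          have h7 := orderOf_dvd_of_pow_eq_one h6
          rw [h5] at h7
          omega
        rcases hR H h3 h4 with hc' | ⟨n', ⟨e'⟩⟩ | ⟨⟨e'⟩⟩
        · exfalso
          apply hKnc
          exact isCyclic_of_injective (Subgroup.inclusion hKH) (Subgroup.inclusion_injective hKH)
        · obtain ⟨A, hAc, hAi, hA⟩ :=
            Cfsg.Agent.Lib.Helper11.dihedral_structure e'.toMonoidHom e'.injective
          -- some element of `K` lies outside `A`
          obtain ⟨b, hbK, hbA⟩ : ∃ b, ∃ hb : b ∈ K, (⟨b, hKH hb⟩ : H) ∉ A := by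
            by_contra hcon
            push Not at hcon
            apply hKnc
            let f : K →* A :=
              { toFun := fun k => ⟨⟨k.1, hKH k.2⟩, hcon k.1 k.2⟩
                map_one' := rfl
                map_mul' := fun _ _ => rfl }
            apply isCyclic_of_injective f
            intro x y hxy
            have : x.1 = y.1 := congrArg (fun z : A => (z.1.1 : G)) hxy
            exact Subtype.ext this
          have hA2 : ∀ a : A, a ^ 2 = 1 := by
            intro a
            have h5 := (hA _ hbA).2 a.1 a.2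
            rw [hHcomm ⟨b, hKH hbK⟩ a.1, mul_inv_cancel_right] at h5
            apply Subtype.ext
            change a.1 ^ 2 = 1
            rw [sq]
            nth_rewrite 1 [h5]
            exact inv_mul_cancel _
          have hA2' := Cfsg.Agent.Lib.Helper11.card_le_two_of_cyclic_of_sq hA2
          have hHle : Nat.card H ≤ 4 := by
            have h6 := A.card_mul_index
            rcases hAi with rfl | hi
            · rw [Subgroup.index_top] at h6; omega
            · rw [hi] at h6; omega
          have hKeq : K = H := Subgroup.eq_of_le_of_card_ge hKH (by rw [hK4]; exact hHle)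
          rw [hKeq]; exact hcH
        · exfalso
          have key : ∃ σ τ : alternatingGroup (Fin 4), σ * τ ≠ τ * σ := by decide
          obtain ⟨σ, τ, hστ⟩ := key
          apply hστ
          have := hHcomm (e'.symm σ) (e'.symm τ)
          rw [← map_mul, ← map_mul] at this
          exact e'.symm.injective this
      · intro k hk
        rw [Subgroup.mem_centralizer_iff]
        intro y hy
        exact hKcomm y hy k hk
  · exfalso
    have hcard : Nat.card (P : Subgroup G) = 12 := by
      rw [Nat.card_congr e.toEquiv, Nat.card_eq_fintype_card]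
      rfl
    obtain ⟨k, hk⟩ := P.isPGroup'.exists_card_eq
    have h3 : 3 ∣ 2 ^ k := by rw [← hk, hcard]; norm_num
    have := Nat.prime_three.dvd_of_dvd_pow h3
    omega

theorem coprime_two_of_mem_sylow {H : Type*} [Group H] {q : ℕ} [Fact q.Prime] (hq : q ≠ 2)
    (R : Sylow q H) (y : H) (hy : y ∈ R) : (orderOf y).Coprime 2 := by
  obtain ⟨k, hk⟩ := (IsPGroup.iff_orderOf.mp R.isPGroup') ⟨y, hy⟩
  rw [Subgroup.orderOf_mk] at hk
  rw [hk]
  exact Nat.Coprime.pow_left k ((Nat.coprime_primes Fact.out Nat.prime_two).mpr hq)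

theorem coprime_two_map {H K : Type*} [Group H] [Group K] (f : H →* K) (y : H)
    (hy : (orderOf y).Coprime 2) : (orderOf (f y)).Coprime 2 :=
  Nat.Coprime.coprime_dvd_left (orderOf_map_dvd f y) hy

theorem commute_of_conjNormal_eq_one {H : Type*} [Group H] (S : Subgroup H) [S.Normal] (y : H)
    (h : (MulAut.conjNormal y : MulAut S) = 1) (s : H) (hs : s ∈ S) : y * s = s * y := by
  have h1 := congrArg (fun β : MulAut S => ((β ⟨s, hs⟩ : S) : H)) h
  simp only [MulAut.conjNormal_apply, MulAut.one_apply] at h1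
  calc y * s = (y * s * y⁻¹) * y := by group
    _ = s * y := by rw [h1]

theorem eq_one_of_coprime_two_of_mem {H : Type*} [Group H] (S : Subgroup H) (hS : IsPGroup 2 S)
    (y : H) (hy : y ∈ S) (ho : (orderOf y).Coprime 2) : y = 1 := by
  obtain ⟨k, hk⟩ := (IsPGroup.iff_orderOf.mp hS) ⟨y, hy⟩
  rw [Subgroup.orderOf_mk] at hk
  rw [hk] at ho
  have hk0 : k = 0 := by
    by_contra hk0
    have := (Nat.coprime_pow_left_iff (Nat.pos_of_ne_zero hk0) 2 2).mp ho
    norm_num at this
  rw [hk0, pow_zero, orderOf_eq_one_iff] at hk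
  exact hk

/-- if the normal Sylow 2-subgroup is cyclic, the group is cyclic -/
theorem cyclic_case {H : Type*} [Group H] [Finite H] (S : Sylow 2 H) [(S : Subgroup H).Normal]
    [IsCyclic (H ⧸ (S : Subgroup H))] [IsCyclic (S : Subgroup H)] : IsCyclic H := by
  have : Fact (Nat.Prime 2) := ⟨Nat.prime_two⟩
  apply isCyclic_of_central_cyclic (S : Subgroup H) _ S.card_coprime_index
  intro s hs
  have htop : Subgroup.centralizer ({s} : Set H) = ⊤ := by
    apply eq_top_of_forall_sylow_le
    intro q _ hq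
    by_cases hq2 : q = 2
    · subst hq2
      refine ⟨S, fun y hy => ?_⟩
      rw [Subgroup.mem_centralizer_singleton_iff]
      exact congrArg Subtype.val (comm_of_isCyclic (⟨y, hy⟩ : (S : Subgroup H)) ⟨s, hs⟩)
    · obtain ⟨R⟩ : Nonempty (Sylow q H) := inferInstance
      refine ⟨R, fun y hy => ?_⟩
      have hβ : (MulAut.conjNormal y : MulAut (S : Subgroup H)) = 1 :=
        Cfsg.Agent.Lib.Helper11.aut_eq_one_of_cyclic_two S.isPGroup' _
          (coprime_two_map _ y (coprime_two_of_mem_sylow hq2 R y hy))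
      rw [Subgroup.mem_centralizer_singleton_iff]
      exact commute_of_conjNormal_eq_one _ y hβ s hs
  intro h
  have : h ∈ Subgroup.centralizer ({s} : Set H) := by rw [htop]; trivial
  exact Subgroup.mem_centralizer_singleton_iff.mp this

/-- the four-group case -/
theorem kf_case {H : Type*} [Group H] [Finite H] (S : Sylow 2 H) [(S : Subgroup H).Normal]
    [IsCyclic (H ⧸ (S : Subgroup H))] [hKF : IsKleinFour (S : Subgroup H)]
    (hCS : ∀ c : H, (∀ k ∈ (S : Subgroup H), k * c = c * k) → c ∈ (S : Subgroup H)) :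
    (S : Subgroup H).index = 1 ∨ Nonempty (H ≃* alternatingGroup (Fin 4)) := by
  have : Fact (Nat.Prime 2) := ⟨Nat.prime_two⟩
  have hS4 : Nat.card (S : Subgroup H) = 4 := hKF.card_four
  have h3 : ∀ y : H, (orderOf y).Coprime 2 → y ^ 3 = 1 := by
    intro y hy
    set β : MulAut (S : Subgroup H) := MulAut.conjNormal y with hβ
    have hβo : (orderOf β).Coprime 2 := coprime_two_map _ y hy
    have hβ24 : orderOf β ∣ 24 := by
      have h1 : orderOf (MulAut.toPerm (S : Subgroup H) β) = orderOf β :=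
        orderOf_injective _ (fun a b hab => MulEquiv.ext (fun x => by
          have := congrArg (fun σ : Equiv.Perm (S : Subgroup H) => σ x) hab
          exact this)) β
      rw [← h1]
      have h2 := orderOf_dvd_natCard (MulAut.toPerm (S : Subgroup H) β)
      have h4 : Nat.card (Equiv.Perm (S : Subgroup H)) = 24 := by
        rw [Nat.card_perm, hS4]; rfl
      rwa [h4] at h2
    have hβ3 : orderOf β ∣ 3 := by
      have h5 : orderOf β ∣ 8 * 3 := hβ24
      exact Nat.Coprime.dvd_of_dvd_mul_left (Nat.Coprime.pow_right 3 hβo) h5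
    have hβ1 : (MulAut.conjNormal (y ^ 3) : MulAut (S : Subgroup H)) = 1 := by
      rw [map_pow]
      exact orderOf_dvd_iff_pow_eq_one.mp hβ3
    have hyS : y ^ 3 ∈ (S : Subgroup H) := by
      apply hCS
      intro k hk
      exact (commute_of_conjNormal_eq_one _ _ hβ1 k hk).symm
    exact eq_one_of_coprime_two_of_mem _ S.isPGroup' _ hyS
      (Nat.Coprime.coprime_dvd_left (orderOf_pow_dvd 3) hy)
  obtain ⟨w, hw⟩ := IsCyclic.exists_generator (α := H ⧸ (S : Subgroup H))
  obtain ⟨h, rfl⟩ := QuotientGroup.mk'_surjective (S : Subgroup H) w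
  have how : orderOf (QuotientGroup.mk' (S : Subgroup H) h) = (S : Subgroup H).index :=
    orderOf_eq_card_of_forall_mem_zpowers hw
  have hcop : Nat.Coprime 4 (S : Subgroup H).index := by
    rw [← hS4]; exact S.card_coprime_index
  set y := h ^ 4 with hy
  have hyo : orderOf y ∣ (S : Subgroup H).index := by
    apply orderOf_dvd_of_pow_eq_one
    rw [hy, ← pow_mul, ← hS4, (S : Subgroup H).card_mul_index, pow_card_eq_one']
  have hy2 : (orderOf y).Coprime 2 := by
    apply Nat.Coprime.coprime_dvd_left hyo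
    have : Nat.Coprime (2 ^ 2) (S : Subgroup H).index := hcop
    exact ((Nat.coprime_pow_left_iff (by norm_num) 2 _).mp this).symm
  have hy3 := h3 y hy2
  have hoy : orderOf (QuotientGroup.mk' (S : Subgroup H) y) = (S : Subgroup H).index := by
    rw [hy, map_pow, Nat.Coprime.orderOf_pow (by rw [how]; exact hcop.symm), how]
  have hr3 : (S : Subgroup H).index ∣ 3 := by
    rw [← hoy]
    apply orderOf_dvd_of_pow_eq_one
    rw [← map_pow, hy3, map_one]
  rcases (Nat.dvd_prime Nat.prime_three).mp hr3 with h1 | hr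
  · left; exact h1
  right
  have hH12 : Nat.card H = 12 := by rw [← (S : Subgroup H).card_mul_index, hS4, hr]
  have hyS : y ∉ (S : Subgroup H) := by
    intro hyS
    have : QuotientGroup.mk' (S : Subgroup H) y = 1 := (QuotientGroup.eq_one_iff y).mpr hyS
    rw [this, orderOf_one, hr] at hoy
    omega
  obtain ⟨s, hsS, hsy⟩ : ∃ s ∈ (S : Subgroup H), s * y ≠ y * s := by
    by_contra hcon
    push Not at hcon
    exact hyS (hCS y hcon)
  have hn : (S : Subgroup H).Normal := inferInstance
  have hsq : ∀ k ∈ (S : Subgroup H), k * k = 1 := fun k hk =>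
    congrArg Subtype.val (IsKleinFour.mul_self (⟨k, hk⟩ : (S : Subgroup H)))
  have hcomm : ∀ a ∈ (S : Subgroup H), ∀ b ∈ (S : Subgroup H), a * b = b * a := by
    intro a ha b hb
    exact congrArg Subtype.val
      (comm_of_sq (K := (S : Subgroup H)) (fun k => by rw [sq]; exact IsKleinFour.mul_self k)
        ⟨a, ha⟩ ⟨b, hb⟩)
  set y₁ := y * s * y⁻¹ with hy₁
  set y₂ := y * y₁ * y⁻¹ with hy₂
  have hy₁S : y₁ ∈ (S : Subgroup H) := hn.conj_mem s hsS y
  have hy₂S : y₂ ∈ (S : Subgroup H) := hn.conj_mem y₁ hy₁S y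
  have hs1 : s ≠ 1 := by
    rintro rfl
    exact hsy (by simp)
  have hy₁1 : y₁ ≠ 1 := by
    intro h
    apply hs1
    calc s = y⁻¹ * y₁ * y := by rw [hy₁]; group
      _ = 1 := by rw [h]; group
  have hsy₁ : s ≠ y₁ := by
    intro h
    apply hsy
    calc s * y = y₁ * y := by rw [← h]
      _ = y * s := by rw [hy₁]; group
  have hy₂1 : y₂ ≠ 1 := by
    intro h
    apply hy₁1
    calc y₁ = y⁻¹ * y₂ * y := by rw [hy₂]; group
      _ = 1 := by rw [h]; group
  have hy₂y₁ : y₂ ≠ y₁ := by
    intro h
    apply hsy₁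
    calc s = y⁻¹ * y₁ * y := by rw [hy₁]; group
      _ = y⁻¹ * y₂ * y := by rw [h]
      _ = y₁ := by rw [hy₂]; group
  have hy₃ : y * y₂ * y⁻¹ = s := by
    calc y * y₂ * y⁻¹ = y ^ 3 * s * (y ^ 3)⁻¹ := by
          rw [hy₂, hy₁]; simp only [pow_succ, pow_zero, one_mul, mul_inv_rev, mul_assoc]
      _ = s := by rw [hy3]; group
  have hy₂s : y₂ ≠ s := by
    intro h
    apply hsy₁
    calc s = y * y₂ * y⁻¹ := hy₃.symm
      _ = y₁ := by rw [h]
  have hy₂eq : y₂ = s * y₁ := by
    have := IsKleinFour.eq_mul_of_ne_all (G := (S : Subgroup H)) (x := ⟨s, hsS⟩) (y := ⟨y₁, hy₁S⟩)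
      (z := ⟨y₂, hy₂S⟩) (fun h => hs1 (congrArg Subtype.val h))
      (fun h => hy₁1 (congrArg Subtype.val h)) (fun h => hsy₁ (congrArg Subtype.val h))
      (fun h => hy₂1 (congrArg Subtype.val h)) (fun h => hy₂s (congrArg Subtype.val h))
      (fun h => hy₂y₁ (congrArg Subtype.val h))
    exact congrArg Subtype.val this
  have hys3 : (y * s) ^ 3 = 1 := by
    calc (y * s) ^ 3 = y₁ * y₂ * (y * y₂ * y⁻¹) * y ^ 3 := by
          rw [hy₂, hy₁]
          simp only [pow_succ, pow_zero, one_mul, mul_assoc, inv_mul_cancel_left, inv_mul_cancel,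
            mul_one]
      _ = y₁ * (s * y₁) * s := by rw [hy₃, hy3, hy₂eq, mul_one]
      _ = y₁ * (y₁ * s) * s := by rw [hcomm s hsS y₁ hy₁S]
      _ = (y₁ * y₁) * (s * s) := by group
      _ = 1 := by rw [hsq _ hy₁S, hsq _ hsS, one_mul]
  obtain ⟨f, hf, -, -⟩ := Cfsg.Agent.Lib.Helper47.exists_injective_hom_A4 y s hy3
    (by rw [sq]; exact hsq s hsS) hys3 hs1
  have hA12 : Nat.card (alternatingGroup (Fin 4)) = 12 := by
    rw [Nat.card_eq_fintype_card]; rfl
  have hbij : Function.Bijective f := by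
    rw [Nat.bijective_iff_injective_and_card]
    exact ⟨hf, by rw [hA12, hH12]⟩
  exact ⟨(MulEquiv.ofBijective f hbij).symm⟩

/-- type-level main step -/
theorem main_type {H : Type*} [Group H] [Finite H] (S : Sylow 2 H) [(S : Subgroup H).Normal]
    [IsCyclic (H ⧸ (S : Subgroup H))] {n : ℕ} (f : (S : Subgroup H) →* DihedralGroup n)
    (hf : Function.Injective f)
    (hK : ∀ K : Subgroup H, K ≤ S → Nat.card K = 4 → (∀ k ∈ K, k ^ 2 = 1) →
       ∀ c : H, (∀ k ∈ K, k * c = c * k) → c ∈ K) :
    IsCyclic H ∨ (∃ n : ℕ, Nonempty (H ≃* DihedralGroup (2 ^ n))) ∨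
          Nonempty (H ≃* alternatingGroup (Fin 4)) := by
  have : Fact (Nat.Prime 2) := ⟨Nat.prime_two⟩
  by_cases hSc : IsCyclic (S : Subgroup H)
  · left; exact cyclic_case S
  obtain ⟨A, hAc, hAi, hA⟩ := Cfsg.Agent.Lib.Helper11.dihedral_structure f hf
  have hAi2 : A.index = 2 := by
    rcases hAi with rfl | h
    · exfalso
      apply hSc
      exact isCyclic_of_surjective (Subgroup.topEquiv (G := (S : Subgroup H))).toMonoidHom
        (Subgroup.topEquiv (G := (S : Subgroup H))).surjective
    · exact h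
  have hSp : IsPGroup 2 (S : Subgroup H) := S.isPGroup'
  have hAp : IsPGroup 2 A := hSp.to_subgroup A
  obtain ⟨j, hj⟩ := hAp.exists_card_eq
  have hScard : Nat.card (S : Subgroup H) = 2 * 2 ^ j := by
    rw [← A.card_mul_index, hAi2, hj, mul_comm]
  obtain ⟨b, hb⟩ : ∃ b : (S : Subgroup H), b ∉ A := by
    by_contra hcon
    push Not at hcon
    have : A = ⊤ := (Subgroup.eq_top_iff' A).mpr hcon
    rw [this, Subgroup.index_top] at hAi2
    omega
  obtain ⟨a, ha⟩ := IsCyclic.exists_generator (α := A)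
  have hao : orderOf (a : (S : Subgroup H)) = 2 ^ j := by
    rw [Subgroup.orderOf_coe, orderOf_eq_card_of_forall_mem_zpowers ha, hj]
  have hzA : Subgroup.zpowers (a : (S : Subgroup H)) ≤ A := by
    rw [Subgroup.zpowers_le]; exact a.2
  obtain ⟨eS⟩ : Nonempty ((S : Subgroup H) ≃* DihedralGroup (2 ^ j)) :=
    Cfsg.Agent.Lib.Helper59.dihedral_recog (2 ^ j) (by positivity) (a : (S : Subgroup H)) b hao
      (hA b hb).1 ((hA b hb).2 a a.2) (fun h => hb (hzA h)) hScard
  have hidx : (S : Subgroup H).index = 1 ∨ Nonempty (H ≃* alternatingGroup (Fin 4)) := by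
    by_cases hKF : IsKleinFour (S : Subgroup H)
    · apply kf_case S
      apply hK S le_rfl hKF.card_four
      intro k hk
      rw [sq]
      exact congrArg Subtype.val (IsKleinFour.mul_self (⟨k, hk⟩ : (S : Subgroup H)))
    · left
      have hj0 : j ≠ 0 := by
        rintro rfl
        apply hSc
        exact isCyclic_of_prime_card (p := 2) (by rw [hScard]; norm_num)
      have h2A : 2 ∣ Nat.card A := by rw [hj]; exact dvd_pow_self 2 hj0
      obtain ⟨z, hz⟩ := exists_prime_orderOf_dvd_card' 2 h2A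
      have hz1 : z ≠ 1 := by
        rintro rfl
        rw [orderOf_one] at hz
        omega
      have hzz : z * z = 1 := by
        rw [← sq]
        exact orderOf_dvd_iff_pow_eq_one.mp (by rw [hz])
      have hzz' : ((z : (S : Subgroup H)) : H) * ((z : (S : Subgroup H)) : H) = 1 :=
        congrArg (fun t : A => ((t : (S : Subgroup H)) : H)) hzz
      have hbb' : (b : H) * (b : H) = 1 := congrArg Subtype.val (hA b hb).1
      have hzinv : (z : (S : Subgroup H))⁻¹ = z := by
        have : z⁻¹ = z := inv_eq_of_mul_eq_one_left hzz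
        exact congrArg Subtype.val this
      have hzb : ((z : (S : Subgroup H)) : H) * (b : H) = (b : H) * ((z : (S : Subgroup H)) : H) := by
        have h1 := (hA b hb).2 z z.2
        rw [hzinv] at h1
        have h2 : b * (z : (S : Subgroup H)) = z * b := by
          calc b * (z : (S : Subgroup H)) = (b * z * b⁻¹) * b := by group
            _ = z * b := by rw [h1]
        exact (congrArg Subtype.val h2).symm
      have hKk := Cfsg.Agent.Lib.Helper11.isKleinFour_fourSub _ _ hzb hzz' hbb'
        (fun h => hz1 (Subtype.ext (Subtype.ext h)))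
        (fun h => hb (by
          have : b = 1 := Subtype.ext h
          rw [this]; exact one_mem _))
        (fun h => hb (by
          have : (z : (S : Subgroup H)) = b := Subtype.ext h
          rw [← this]; exact z.2))
      set K := Cfsg.Agent.Lib.Helper11.fourSub _ _ hzb hzz' hbb' with hKdef
      have hKS : K ≤ S := by
        intro x hx
        rcases Cfsg.Agent.Lib.Helper11.mem_fourSub.mp hx with rfl | rfl | rfl | rfl
        · exact one_mem _
        · exact (z : (S : Subgroup H)).2
        · exact b.2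
        · exact mul_mem (z : (S : Subgroup H)).2 b.2
      have hodd : ∀ y : H, (orderOf y).Coprime 2 → y = 1 := by
        intro y hy
        have hβ : (MulAut.conjNormal y : MulAut (S : Subgroup H)) = 1 := by
          rcases Cfsg.Agent.Lib.Helper11.aut_eq_one_or_kleinFour hSp A (Or.inr hAi2)
            (fun x hx => (hA x hx).1) (MulAut.conjNormal y) (coprime_two_map _ y hy) with h | h
          · exact h
          · exact absurd h hKF
        have hyK : y ∈ K := by
          apply hK K hKS hKk.card_four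
          · intro k hk
            rw [sq]
            exact congrArg Subtype.val (IsKleinFour.mul_self (⟨k, hk⟩ : K))
          · intro k hk
            exact (commute_of_conjNormal_eq_one _ y hβ k (hKS hk)).symm
        exact eq_one_of_coprime_two_of_mem _ hSp y (hKS hyK) hy
      rw [Subgroup.index_eq_one]
      apply eq_top_of_forall_sylow_le
      intro q _ hq
      by_cases hq2 : q = 2
      · subst hq2
        exact ⟨S, le_rfl⟩
      · obtain ⟨R⟩ : Nonempty (Sylow q H) := inferInstance
        refine ⟨R, fun y hy => ?_⟩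
        rw [hodd y (coprime_two_of_mem_sylow hq2 R y hy)]
        exact one_mem _
  rcases hidx with h1 | h1
  · right; left
    rw [Subgroup.index_eq_one] at h1
    refine ⟨j, ⟨?_⟩⟩
    exact ((Subgroup.topEquiv (G := H)).symm.trans (MulEquiv.subgroupCongr h1.symm)).trans eS
  · right; right; exact h1

theorem backward {G : Type*} [Group G] [Finite G] (P : Sylow 2 G)
    (hcase : IsCyclic P ∨
      ((∃ n : ℕ, 1 ≤ n ∧ Nonempty ((P : Subgroup G) ≃* DihedralGroup (2 ^ n))) ∧
        ∀ K : Subgroup G, K ≤ P → Nat.card K = 4 → (∀ k ∈ K, k ^ 2 = 1) →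
          Subgroup.centralizer (K : Set G) = K)) : Restr2 G := by
  have : Fact (Nat.Prime 2) := ⟨Nat.prime_two⟩
  intro H h1 h2
  obtain ⟨S⟩ : Nonempty (Sylow 2 H) := inferInstance
  have hSn := h1 S
  have hSq := h2 S
  set S₀ : Subgroup G := (S : Subgroup H).map H.subtype with hS₀
  have hS₀p : IsPGroup 2 S₀ := S.isPGroup'.map _
  obtain ⟨g, hg⟩ := exists_conj_mem_sylow P S₀ hS₀p
  let f : (S : Subgroup H) →* (P : Subgroup G) :=
      { toFun := fun y => ⟨g * (y.1.1 : G) * g⁻¹, hg _ ⟨y.1, y.2, rfl⟩⟩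
        map_one' := by
          apply Subtype.ext
          simp
        map_mul' := by
          intro a b
          apply Subtype.ext
          simp }
  have hfinj : Function.Injective f := by
    intro a b hab
    have h3 : g * (a.1.1 : G) * g⁻¹ = g * (b.1.1 : G) * g⁻¹ := congrArg Subtype.val hab
    have h4 : (a.1.1 : G) = b.1.1 := by
      have := mul_right_cancel h3
      exact mul_left_cancel this
    exact Subtype.ext (Subtype.ext h4)
  rcases hcase with hPc | ⟨⟨n, -, ⟨e⟩⟩, hKP⟩
  · left
    have : IsCyclic (S : Subgroup H) := isCyclic_of_injective f hfinj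
    exact cyclic_case S
  · apply main_type S (e.toMonoidHom.comp f) (e.injective.comp hfinj)
    intro K hKS hK4 hK2 c hc
    -- transport `K` into `P`
    set K₁ : Subgroup G := (K.map H.subtype).map (MulAut.conj g).toMonoidHom with hK₁
    have hmemK₁ : ∀ x : G, x ∈ K₁ ↔ ∃ k ∈ K, x = g * (k : G) * g⁻¹ := by
      intro x
      constructor
      · rintro ⟨y, ⟨k, hk, rfl⟩, rfl⟩
        exact ⟨k, hk, rfl⟩
      · rintro ⟨k, hk, rfl⟩
        exact ⟨k, ⟨k, hk, rfl⟩, rfl⟩
    have hK₁P : K₁ ≤ P := by
      intro x hx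
      obtain ⟨k, hk, rfl⟩ := (hmemK₁ x).mp hx
      exact hg _ ⟨k, hKS hk, rfl⟩
    have hK₁4 : Nat.card K₁ = 4 := by
      rw [hK₁, Subgroup.card_map_of_injective (MulAut.conj g).injective,
        Subgroup.card_map_of_injective H.subtype_injective, hK4]
    have hK₁2 : ∀ k ∈ K₁, k ^ 2 = 1 := by
      intro x hx
      obtain ⟨k, hk, rfl⟩ := (hmemK₁ x).mp hx
      have h5 : (k : G) ^ 2 = 1 := congrArg Subtype.val (hK2 k hk)
      rw [conj_pow, h5]
      group
    have h6 := hKP K₁ hK₁P hK₁4 hK₁2
    have h7 : g * (c : G) * g⁻¹ ∈ Subgroup.centralizer (K₁ : Set G) := by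
      rw [Subgroup.mem_centralizer_iff]
      intro x hx
      obtain ⟨k, hk, rfl⟩ := (hmemK₁ x).mp hx
      have h8 : (k : G) * (c : G) = (c : G) * (k : G) := congrArg Subtype.val (hc k hk)
      calc g * (k : G) * g⁻¹ * (g * (c : G) * g⁻¹) = g * ((k : G) * (c : G)) * g⁻¹ := by group
        _ = g * ((c : G) * (k : G)) * g⁻¹ := by rw [h8]
        _ = g * (c : G) * g⁻¹ * (g * (k : G) * g⁻¹) := by group
    rw [h6] at h7
    obtain ⟨k, hk, hkc⟩ := (hmemK₁ _).mp h7
    have h9 : (c : G) = k := mul_left_cancel (mul_right_cancel hkc)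
    have : c = k := Subtype.ext h9
    rw [this]; exact hk

/-- Let G be a finite group with Sylow 2-subgroup P. Every subgroup H of G whose Sylow 2-subgroup is normal in H with cyclic quotient is cyclic, dihedral of 2-power order, or isomorphic to the alternating group of degree 4, if and only if either P is cyclic, or P is dihedral (of order at least 4) and every elementary abelian subgroup K of order 4 of P satisfies C_G(K) = K. -/
theorem result {G : Type*} [Group G] [Finite G] (P : Sylow 2 G) :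
    (∀ H : Subgroup G, (∀ S : Sylow 2 ↥H, (S : Subgroup ↥H).Normal) →
        (∀ (S : Sylow 2 ↥H) [(S : Subgroup ↥H).Normal], IsCyclic (↥H ⧸ (S : Subgroup ↥H))) →
        IsCyclic H ∨ (∃ n : ℕ, Nonempty (H ≃* DihedralGroup (2 ^ n))) ∨ Nonempty (H ≃* alternatingGroup (Fin 4))) ↔
    (IsCyclic P ∨
      ((∃ n : ℕ, 1 ≤ n ∧ Nonempty ((P : Subgroup G) ≃* DihedralGroup (2 ^ n))) ∧
        ∀ K : Subgroup G, K ≤ P → Nat.card K = 4 → (∀ k ∈ K, k ^ 2 = 1) → Subgroup.centralizer (K : Set G) = K)) := by
  constructor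
  · exact forward P
  · exact backward P

end Cfsg.Agent.S4083
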