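import Cfsg.Statements.S4112
-- import your own Cfsg.Agent.* helpers here

set_option autoImplicit false
open Cfsg

namespace Cfsg.Agent.S4112

theorem exists_ne_top_supp {G : Type*} [Group G] [Finite G] (N : Subgroup G) [N.Normal] (p : ℕ)
    [hpp : Fact p.Prime] (hp : p ∣ Nat.card G) (hpN : ¬ p ∣ N.index) :
    ∃ L : Subgroup G, L ≠ ⊤ ∧ L ⊔ N = ⊤ := by
  obtain ⟨P⟩ : Nonempty (Sylow p N) := inferInstance
  have hfr := Sylow.normalizer_sup_eq_top P
  by_cases hn : Subgroup.normalizer (((P : Subgroup N).map N.subtype : Subgroup G) : Set G) = ⊤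
  · set Q : Subgroup G := (P : Subgroup N).map N.subtype with hQ
    have hQn : Q.Normal := Subgroup.normalizer_eq_top_iff.mp hn
    have hidx : ¬ p ∣ Q.index := by
      rw [hQ, Subgroup.index_map_subtype]
      intro h
      rcases (Nat.Prime.dvd_mul hpp.out).1 h with h | h
      · exact P.not_dvd_index h
      · exact hpN h
    have hQp : IsPGroup p Q := by
      rw [hQ]; exact P.isPGroup'.map _
    obtain ⟨n, hn'⟩ := IsPGroup.iff_card.mp hQp
    have hcop : Nat.Coprime (Nat.card Q) Q.index := by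
      rw [hn']
      exact Nat.Coprime.pow_left _ ((Nat.Prime.coprime_iff_not_dvd hpp.out).2 hidx)
    obtain ⟨K, hK⟩ := Subgroup.exists_left_complement'_of_coprime hcop
    refine ⟨K, ?_, ?_⟩
    · rintro rfl
      have hb : Q = ⊥ := Subgroup.isComplement'_top_left.mp hK
      have h1 : Q.index = Nat.card G := by rw [hb]; exact Subgroup.index_bot
      exact hidx (h1 ▸ hp)
    · have h1 : K ⊔ Q = ⊤ := hK.sup_eq_top
      have h2 : Q ≤ N := by
        rw [hQ]; exact Subgroup.map_subtype_le _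
      exact top_le_iff.mp (h1 ▸ sup_le_sup_left h2 K)
  · exact ⟨_, hn, hfr⟩

theorem exists_supp {G : Type*} [Group G] [Finite G] (N : Subgroup G) [N.Normal] :
    ∃ H : Subgroup G, H ⊔ N = ⊤ ∧ ∀ p : ℕ, p.Prime → p ∣ Nat.card H → p ∣ N.index := by
  classical
  have hne : {H : Subgroup G | H ⊔ N = ⊤}.Nonempty := ⟨⊤, by simp⟩
  obtain ⟨H, hH, hmin⟩ := (Set.toFinite {H : Subgroup G | H ⊔ N = ⊤}).exists_minimal hne
  refine ⟨H, hH, ?_⟩
  intro p hp hpH
  by_contra hpN
  have : Fact p.Prime := ⟨hp⟩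
  have hidx : (N.subgroupOf H).index = N.index := by
    have h1 : N.relIndex (H ⊔ N) = N.relIndex H := Subgroup.relIndex_sup_right H N
    rw [hH, Subgroup.relIndex_top_right] at h1
    exact h1.symm
  obtain ⟨L, hL1, hL2⟩ := exists_ne_top_supp (N.subgroupOf H) p hpH (by rw [hidx]; exact hpN)
  have hLle : L.map H.subtype ≤ H := Subgroup.map_subtype_le _
  have hsup : L.map H.subtype ⊔ N = ⊤ := by
    have h1 : (L ⊔ N.subgroupOf H).map H.subtype = H := by
      rw [hL2, ← MonoidHom.range_eq_map, Subgroup.range_subtype]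
    rw [Subgroup.map_sup, Subgroup.subgroupOf_map_subtype] at h1
    apply top_le_iff.mp
    rw [← hH]
    apply sup_le _ le_sup_right
    calc H = L.map H.subtype ⊔ N ⊓ H := h1.symm
      _ ≤ L.map H.subtype ⊔ N := sup_le_sup_left inf_le_left _
  have hle : H ≤ L.map H.subtype := hmin hsup hLle
  apply hL1
  apply top_le_iff.mp
  intro x _
  obtain ⟨y, hy, hyx⟩ := hle x.2
  have : y = x := Subtype.ext hyx
  exact this ▸ hy

theorem cop_of_cent {G : Type*} [Group G] [Finite G] (N M : Subgroup G) [N.Normal] [M.Normal]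
    (h : ∀ x ∈ M, x ≠ 1 → Subgroup.centralizer ({x} : Set G) ≤ N) :
    N.index.Coprime (Nat.card M) := by
  apply Nat.Coprime.symm
  apply Nat.coprime_of_dvd
  intro p hp hpM hpN
  have : Fact p.Prime := ⟨hp⟩
  obtain ⟨P⟩ : Nonempty (Sylow p G) := inferInstance
  let _ : MulAction (P : Subgroup G) M :=
    MulAction.compHom M ((MulAut.conjNormal (H := M)).comp (P : Subgroup G).subtype)
  have hone : (1 : M) ∈ MulAction.fixedPoints (P : Subgroup G) M := by
    intro g
    change (MulAut.conjNormal (H := M) (g : G)) 1 = 1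
    simp
  obtain ⟨b, hb, hb1⟩ := P.isPGroup'.exists_fixed_point_of_prime_dvd_card_of_fixed_point M hpM hone
  have hPle : (P : Subgroup G) ≤ N := by
    refine le_trans ?_ (h b b.2 (fun hh => hb1 (Subtype.ext hh.symm)))
    intro g hg
    rw [Subgroup.mem_centralizer_singleton_iff]
    have h1 : (MulAut.conjNormal (H := M) (g : G)) b = b := hb ⟨g, hg⟩
    have h2 := congrArg Subtype.val h1
    rw [MulAut.conjNormal_apply] at h2
    exact mul_inv_eq_iff_eq_mul.mp h2
  exact P.not_dvd_index (dvd_trans hpN (Subgroup.index_dvd_of_le hPle))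

theorem cent_of_cop {G : Type*} [Group G] [Finite G] (N M : Subgroup G) [N.Normal] [M.Normal]
    (hcam : ∀ g : G, g ∉ N → ∀ m ∈ M, ∃ x : G, x * g * x⁻¹ = g * m)
    (hcop : N.index.Coprime (Nat.card M)) :
    ∀ x ∈ M, x ≠ 1 → Subgroup.centralizer ({x} : Set G) ≤ N := by
  intro x hx hx1 g hg
  by_contra hgN
  rw [Subgroup.mem_centralizer_singleton_iff] at hg
  -- a prime dividing the order of x
  have hox : orderOf x ≠ 1 := by
    rw [Ne, orderOf_eq_one_iff]; exact hx1
  obtain ⟨p, hp, hpx⟩ := Nat.exists_prime_and_dvd hox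
  have : Fact p.Prime := ⟨hp⟩
  obtain ⟨k, hk⟩ := hpx
  set y := x ^ k with hy
  have hyM : y ∈ M := M.pow_mem hx k
  have hoy : orderOf y = p := by
    rw [hy]
    have hk0 : k ≠ 0 := by
      rintro rfl
      exact (orderOf_pos x).ne' (by simpa using hk)
    rw [orderOf_pow_of_dvd hk0 ⟨p, by rw [hk, mul_comm]⟩, hk]
    exact Nat.mul_div_cancel _ (Nat.pos_of_ne_zero hk0)
  have hpM : p ∣ Nat.card M := by
    have h1 : orderOf (⟨y, hyM⟩ : M) = p := by
      rw [← hoy]; exact Subgroup.orderOf_mk y hyM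
    rw [← h1]; exact orderOf_dvd_natCard _
  have hpN : (N.index).Coprime p := Nat.Coprime.coprime_dvd_right hpM hcop
  have hgy : Commute g y := (Commute.pow_right hg k)
  obtain ⟨e, m, hm, hn⟩ := Nat.exists_eq_pow_mul_and_not_dvd (orderOf_pos g).ne' p hp.ne_one
  set g' := g ^ p ^ e with hg'
  have hog' : orderOf g' = m := by
    rw [hg', orderOf_pow_of_dvd (pow_ne_zero _ hp.ne_zero) ⟨m, hn⟩, hn]
    exact Nat.mul_div_cancel_left _ (pow_pos hp.pos _)
  have hg'N : g' ∉ N := by
    intro h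
    apply hgN
    have h1 : g ^ N.index ∈ N := N.pow_index_mem g
    have h2 : (N.index).Coprime (p ^ e) := Nat.Coprime.pow_right e hpN
    have h3 : g ^ (Nat.gcd N.index (p ^ e)) ∈ N := by
      have : (g ^ (Nat.gcd N.index (p ^ e)) : G) = g ^ ((Nat.gcd N.index (p ^ e) : ℕ) : ℤ) := by
        rw [zpow_natCast]
      rw [this, Nat.gcd_eq_gcd_ab, zpow_add, zpow_mul, zpow_mul, zpow_natCast, zpow_natCast]
      exact N.mul_mem (N.zpow_mem h1 _) (N.zpow_mem h _)
    rw [h2, pow_one] at h3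
    exact h3
  obtain ⟨c, hc⟩ := hcam g' hg'N y hyM
  have ho1 : orderOf (g' * y) = orderOf g' := by
    rw [← hc]
    exact (SemiconjBy.orderOf_eq (a := c) (x := g') (y := c * g' * c⁻¹) (by
      unfold SemiconjBy; group)).symm
  have hcomm : Commute g' y := Commute.pow_left hgy _
  have ho2 : orderOf (g' * y) = orderOf g' * orderOf y := by
    apply hcomm.orderOf_mul_eq_mul_orderOf_of_coprime
    rw [hog', hoy]
    exact ((Nat.Prime.coprime_iff_not_dvd hp).2 hm).symm
  rw [ho1, hoy] at ho2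
  have hpos : 0 < orderOf g' := orderOf_pos g'
  have := hp.one_lt
  nlinarith

/-- Let G be a finite group and M ≤ N non-trivial proper normal subgroups such that for every g outside N the conjugacy class of g is a union of cosets of M (equivalently gm is conjugate to g for every m ∈ M). Then (1) and (2) below are equivalent, and they imply (3): (1) every g outside N acts fixed-point-freely on M, that is C_G(x) ≤ N for every x ∈ M, x ≠ 1; (2) the index of N in G is coprime to the order of M; (3) there is a subgroup H of G with HN = G and H ∩ M = 1. -/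
theorem result {G : Type*} [Group G] [Finite G] (N M : Subgroup G) [N.Normal] [M.Normal] (hMN : M ≤ N) (hM1 : M ≠ ⊥) (hN2 : N ≠ ⊤)
    (hcam : ∀ g : G, g ∉ N → ∀ m ∈ M, ∃ x : G, x * g * x⁻¹ = g * m) :
    ((∀ x ∈ M, x ≠ 1 → Subgroup.centralizer ({x} : Set G) ≤ N) ↔ N.index.Coprime (Nat.card M)) ∧
    ((∀ x ∈ M, x ≠ 1 → Subgroup.centralizer ({x} : Set G) ≤ N) → ∃ H : Subgroup G, H ⊔ N = ⊤ ∧ H ⊓ M = ⊥) := by
  refine ⟨⟨cop_of_cent N M, cent_of_cop N M hcam⟩, fun h => ?_⟩
  have hcop := cop_of_cent N M h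
  obtain ⟨H, hH, hpr⟩ := exists_supp N
  refine ⟨H, hH, ?_⟩
  rw [← Subgroup.card_eq_one]
  by_contra hne
  obtain ⟨p, hp, hpd⟩ := Nat.exists_prime_and_dvd hne
  have h1 : p ∣ N.index := hpr p hp (dvd_trans hpd (Subgroup.card_dvd_of_le inf_le_left))
  have h2 : p ∣ Nat.card M := dvd_trans hpd (Subgroup.card_dvd_of_le inf_le_right)
  exact hp.one_lt.ne' (Nat.dvd_one.mp (hcop ▸ Nat.dvd_gcd h1 h2))

end Cfsg.Agent.S4112
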