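import Cfsg.Statements.S4113
-- import your own Cfsg.Agent.* helpers here

set_option autoImplicit false
open Cfsg

namespace Cfsg.Agent.S4113

/-- Let G be a finite group, M ≤ N non-trivial proper normal subgroups, and H a subgroup with HM = G and H ∩ M = 1. Then every element of G outside N acts fixed-point-freely on M (C_G(x) ≤ N for every x ∈ M, x ≠ 1) if and only if H ∩ gHg⁻¹ ≤ H ∩ N for every g outside H, with H proper and non-trivial and H ∩ N proper in H. -/
theorem result {G : Type*} [Group G] [Finite G] (N M : Subgroup G) [N.Normal] [M.Normal] (hMN : M ≤ N) (hM1 : M ≠ ⊥) (hN2 : N ≠ ⊤)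
    (H : Subgroup G) (hHM : H ⊔ M = ⊤) (hHM' : H ⊓ M = ⊥) :
    (∀ x ∈ M, x ≠ 1 → Subgroup.centralizer ({x} : Set G) ≤ N) ↔
      (H ≠ ⊥ ∧ H ≠ ⊤ ∧ H ⊓ N < H ∧ ∀ g : G, g ∉ H → H ⊓ H.map (MulAut.conj g).toMonoidHom ≤ N) := by
  have hdec : ∀ g : G, ∃ m ∈ M, ∃ h ∈ H, m * h = g := by
    intro g
    have hg : g ∈ M ⊔ H := by rw [sup_comm, hHM]; trivial
    exact Subgroup.mem_sup_of_normal_left.mp hg
  have hdisj : ∀ g : G, g ∈ H → g ∈ M → g = 1 := by
    intro g h1 h2
    have : g ∈ H ⊓ M := ⟨h1, h2⟩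
    rw [hHM'] at this
    exact Subgroup.mem_bot.mp this
  constructor
  · intro hfix
    refine ⟨?_, ?_, ?_, ?_⟩
    · rintro rfl
      apply hN2
      rw [bot_sup_eq] at hHM
      rw [hHM] at hMN
      exact top_le_iff.mp hMN
    · rintro rfl
      apply hM1
      rw [top_inf_eq] at hHM'
      exact hHM'
    · refine lt_of_le_of_ne inf_le_left ?_
      intro h
      have hHN : H ≤ N := inf_eq_left.mp h
      apply hN2
      apply top_le_iff.mp
      rw [← hHM]
      exact sup_le hHN hMN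
    · rintro g hg y ⟨hy1, hy2⟩
      obtain ⟨h', hh', rfl⟩ := Subgroup.mem_map.mp hy2
      obtain ⟨m, hm, h, hh, rfl⟩ := hdec g
      have hm1 : m ≠ 1 := by
        rintro rfl
        apply hg
        simpa using hh
      simp only [MulEquiv.coe_toMonoidHom, MulAut.conj_apply] at hy1 ⊢
      set h'' := h * h' * h⁻¹ with hh''
      have hh''H : h'' ∈ H := H.mul_mem (H.mul_mem hh hh') (H.inv_mem hh)
      have e1 : m * h * h' * (m * h)⁻¹ = m * h'' * m⁻¹ := by
        rw [hh'']; group
      rw [e1] at hy1 ⊢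
      have e2 : m * h'' * m⁻¹ * h''⁻¹ = 1 := by
        apply hdisj
        · exact H.mul_mem hy1 (H.inv_mem hh''H)
        · have : m * h'' * m⁻¹ * h''⁻¹ = m * (h'' * m⁻¹ * h''⁻¹) := by group
          rw [this]
          exact M.mul_mem hm (Subgroup.Normal.conj_mem inferInstance _ (M.inv_mem hm) _)
      have e3 : m * h'' * m⁻¹ = h'' := by
        rw [mul_inv_eq_one] at e2
        exact e2
      rw [e3]
      apply hfix m hm hm1
      rw [Subgroup.mem_centralizer_singleton_iff]
      rw [mul_inv_eq_iff_eq_mul] at e3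
      exact e3.symm
  · rintro ⟨_, _, _, hTI⟩ x hx hx1 c hc
    by_contra hcN
    obtain ⟨m, hm, h, hh, rfl⟩ := hdec c
    have hhN : h ∉ N := by
      intro hhN
      exact hcN (N.mul_mem (hMN hm) hhN)
    have hCM : ∀ m' ∈ M, m' * h = h * m' → m' = 1 := by
      intro m' hm' hcomm
      by_contra hm'1
      have hm'H : m' ∉ H := fun hmH => hm'1 (hdisj m' hmH hm')
      apply hhN
      apply hTI m' hm'H
      refine ⟨hh, Subgroup.mem_map.mpr ⟨h, hh, ?_⟩⟩
      simp only [MulEquiv.coe_toMonoidHom, MulAut.conj_apply]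
      rw [hcomm]; group
    let φ : M → M := fun m' => ⟨(m' : G)⁻¹ * (h * m' * h⁻¹),
      M.mul_mem (M.inv_mem m'.2) (Subgroup.Normal.conj_mem inferInstance _ m'.2 _)⟩
    have hφinj : Function.Injective φ := by
      intro a b hab
      have hab' : (a : G)⁻¹ * (h * a * h⁻¹) = (b : G)⁻¹ * (h * b * h⁻¹) := congrArg Subtype.val hab
      have h1 : (b : G) * (a : G)⁻¹ = 1 := by
        apply hCM _ (M.mul_mem b.2 (M.inv_mem a.2))
        have h2 : (a : G)⁻¹ * h * a = (b : G)⁻¹ * h * b := by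
          have := congrArg (· * h) hab'
          simpa [mul_assoc] using this
        calc (b : G) * (a : G)⁻¹ * h = b * ((a : G)⁻¹ * h * a) * (a : G)⁻¹ := by group
          _ = b * ((b : G)⁻¹ * h * b) * (a : G)⁻¹ := by rw [h2]
          _ = h * (b * (a : G)⁻¹) := by group
      apply Subtype.ext
      rw [mul_inv_eq_one] at h1
      exact h1.symm
    have hφsurj : Function.Surjective φ := Finite.injective_iff_surjective.mp hφinj
    obtain ⟨m', hm'⟩ := hφsurj ⟨m, hm⟩
    have hm'' : (m' : G)⁻¹ * (h * m' * h⁻¹) = m := congrArg Subtype.val hm'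
    have hc' : m * h = (m' : G)⁻¹ * h * m' := by
      rw [← hm'']; group
    rw [Subgroup.mem_centralizer_singleton_iff, hc'] at hc
    have hx' : (m' : G) * x * (m' : G)⁻¹ = 1 := by
      apply hCM _ (Subgroup.Normal.conj_mem inferInstance _ hx _)
      calc (m' : G) * x * (m' : G)⁻¹ * h = m' * (x * ((m' : G)⁻¹ * h * m')) * (m' : G)⁻¹ := by group
        _ = m' * ((m' : G)⁻¹ * h * m' * x) * (m' : G)⁻¹ := by rw [hc]
        _ = h * (m' * x * (m' : G)⁻¹) := by group
    apply hx1
    rw [mul_inv_eq_one] at hx'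
    exact mul_eq_left.mp hx'

end Cfsg.Agent.S4113
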