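import Cfsg.Statements.S4118
-- import your own Cfsg.Agent.* helpers here
import Cfsg.Agent.Lib.Helper42.TIHall3
import Cfsg.Agent.S3359
import Cfsg.Agent.Lib.Helper66.ZassC
import Cfsg.Agent.Lib.Helper38.ZassD
import Cfsg.Agent.Lib.Helper44.LawBounds

set_option autoImplicit false
open Cfsg

namespace Cfsg.Agent.S4118

/-- Let G be a finite group and H a non-normal subgroup meeting each of its conjugates by elements outside N_G(H) trivially, with the order of H coprime to its index in N_G(H); let π be the set of primes dividing the order of H and suppose G is π-separable (it has a chain of normal subgroups from 1 to G each of whose factors has order divisible only by primes in π or coprime to the order of H). Let O be the largest normal subgroup of G of order coprime to the order of H. Then G = O·N_G(H), O·H is normal in G, and G is solvable if and only if O is solvable and H has no subgroup isomorphic to SL₂(5). -/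
theorem result {G : Type*} [Group G] [Finite G] (H : Subgroup G)
    (hTI : Cfsg.IsTISubset (H : Set G)) (hnn : ¬ H.Normal)
    (hHall : (Nat.card H).Coprime (H.subgroupOf (Subgroup.normalizer (H : Set G))).index)
    (hsep : ∃ (n : ℕ) (M : Fin (n + 1) → Subgroup G), M 0 = ⊥ ∧ M (Fin.last n) = ⊤ ∧ Monotone M ∧ (∀ i, (M i).Normal) ∧
      ∀ i : Fin n, (∀ q : ℕ, q.Prime → q ∣ (M i.castSucc).relIndex (M i.succ) → q ∣ Nat.card H) ∨
        ((M i.castSucc).relIndex (M i.succ)).Coprime (Nat.card H))
    (O : Subgroup G) (hO : O = sSup {K : Subgroup G | K.Normal ∧ (Nat.card K).Coprime (Nat.card H)}) :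
    O ⊔ Subgroup.normalizer (H : Set G) = ⊤ ∧ (O ⊔ H).Normal ∧
    (Group.IsSolvable G ↔ Group.IsSolvable O ∧
      ∀ K : Subgroup G, K ≤ H → ¬ Nonempty (K ≃* Matrix.SpecialLinearGroup (Fin 2) (ZMod 5))) := by
  obtain ⟨hOn, hOc, hOmax⟩ := Cfsg.Agent.Lib.Helper42.TIHall.core_spec (Nat.card H) O hO
  have c : Cfsg.Agent.Lib.Helper42.TIHall.Ctx H := ⟨fun g x hx hx1 hg => by
      by_contra hgN
      exact hx1 (hTI g hgN x hx hg), hHall⟩
  have hH : H ≠ ⊥ := by
    rintro rfl
    exact hnn inferInstance
  have htop := Cfsg.Agent.Lib.Helper42.TIHall.part1 c hH hsep O hOn hOc hOmax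
  refine ⟨htop, Cfsg.Agent.Lib.Helper42.TIHall.part2 hOn htop, ?_, ?_⟩
  · intro hG
    refine ⟨inferInstance, ?_⟩
    rintro K hK ⟨e⟩
    have : Fact (Nat.Prime 5) := ⟨by norm_num⟩
    have h1 : Group.IsSolvable K := inferInstance
    have h2 : Group.IsSolvable (Matrix.SpecialLinearGroup (Fin 2) (ZMod 5)) :=
      Group.isSolvable_of_surjective (f := e.toMonoidHom) e.surjective
    have hnt : Nontrivial (Matrix.SpecialLinearGroup (Fin 2) (ZMod 5)) :=
      ⟨⟨⟨!![1, 1; 0, 1], by simp [Matrix.det_fin_two]⟩, 1, by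
        intro h0
        have h5 := congrArg (fun A : Matrix.SpecialLinearGroup (Fin 2) (ZMod 5) => A.1 0 1) h0
        simp at h5⟩⟩
    have h3 := Group.IsSolvable.commutator_lt_top_of_nontrivial
      (Matrix.SpecialLinearGroup (Fin 2) (ZMod 5))
    have h4 := Cfsg.Agent.Lib.Helper44.sl2_perfect (ZMod 5) (by rw [ZMod.card]; norm_num)
    rw [h4] at h3
    exact lt_irrefl _ h3
  · rintro ⟨hOs, hno⟩
    apply Cfsg.Agent.Lib.Helper42.TIHall.solvable_main c hH hnn hOn hOc hOmax htop hOs
    intro hFC
    have hfr := Cfsg.Agent.Lib.Helper66.Zass.hasFreeRep_of_frobenius hFC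
    refine ⟨?_, fun s t hs ht => Cfsg.Agent.Lib.Helper38.Zass.D1 hfr s t hs ht,
      fun p _ P => Cfsg.Agent.Lib.Helper38.Zass.D3 hfr p P⟩
    by_contra hns
    obtain ⟨G₀, -, -, S, M, -, -, -, ⟨e⟩, -⟩ := Cfsg.Agent.S3359.result hns hFC
    exact hno (S.map H.subtype) (Subgroup.map_subtype_le _)
      ⟨((S.equivMapOfInjective H.subtype H.subtype_injective).symm).trans e⟩

end Cfsg.Agent.S4118
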