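import Cfsg.Statements.S4140
import Cfsg.Agent.S4112

set_option autoImplicit false
open Cfsg

namespace Cfsg.Agent.S4140

/-- the Camina condition -/
def Cam {G : Type*} [Group G] (N : Subgroup G) : Prop :=
  ∀ g : G, g ∉ N → ∀ n ∈ N, ∃ x : G, x * g * x⁻¹ = g * n

theorem mem_of_pow_mem_of_coprime {G : Type*} [Group G] (T : Subgroup G) (x : G) {a b : ℕ}
    (hab : Nat.Coprime a b) (ha : x ^ a ∈ T) (hb : x ^ b ∈ T) : x ∈ T := by
  obtain ⟨u, v, huv⟩ := Nat.isCoprime_iff_coprime.mpr hab
  have h1 : x = (x ^ a) ^ u * (x ^ b) ^ v := by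
    rw [← zpow_natCast, ← zpow_natCast, ← zpow_mul, ← zpow_mul, ← zpow_add,
      mul_comm (a : ℤ), mul_comm (b : ℤ), huv, zpow_one]
  rw [h1]
  exact T.mul_mem (T.zpow_mem ha _) (T.zpow_mem hb _)

theorem card_eq_mul_of_fibers {α β : Type*} [Finite α] [Finite β] (f : α → β) (A : α → Prop)
    (B : β → Prop) (c : ℕ) (hmaps : ∀ a, A a → B (f a))
    (hfib : ∀ b, B b → Nat.card {a // A a ∧ f a = b} = c) :
    Nat.card {a // A a} = Nat.card {b // B b} * c := by
  classical
  have := Fintype.ofFinite {b // B b}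
  let e : {a // A a} ≃ Σ b : {b // B b}, {a // A a ∧ f a = b.1} :=
    { toFun := fun a => ⟨⟨f a.1, hmaps a.1 a.2⟩, ⟨a.1, a.2, rfl⟩⟩
      invFun := fun x => ⟨x.2.1, x.2.2.1⟩
      left_inv := fun a => rfl
      right_inv := by
        rintro ⟨⟨b, hb⟩, ⟨a, ha, hab⟩⟩
        dsimp only at hab
        subst hab
        rfl }
  rw [Nat.card_congr e, Nat.card_sigma, Finset.sum_congr rfl (fun b _ => hfib b.1 b.2)]
  simp [Nat.card_eq_fintype_card]

section basic

variable {G : Type*} [Group G] [Finite G] (N : Subgroup G) [hN : N.Normal]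

include hN in
/-- if `g ∉ N` commutes with `x ∈ N` of prime order `s` then `g` is an `s`-element modulo `N` -/
theorem factB (hcam : Cam N) {g x : G} (hg : g ∉ N) (hx : x ∈ N) {s : ℕ} (hs : s.Prime)
    (hox : orderOf x = s) (hcomm : Commute g x) : ∃ k : ℕ, g ^ s ^ k ∈ N := by
  obtain ⟨e, m, hm, hn⟩ := Nat.exists_eq_pow_mul_and_not_dvd (orderOf_pos g).ne' s hs.ne_one
  refine ⟨e, ?_⟩
  by_contra hg'N
  set g' := g ^ s ^ e with hg'
  have hog' : orderOf g' = m := by
    rw [hg', orderOf_pow_of_dvd (pow_ne_zero _ hs.ne_zero) ⟨m, hn⟩, hn]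
    exact Nat.mul_div_cancel_left _ (pow_pos hs.pos _)
  obtain ⟨c, hc⟩ := hcam g' hg'N x hx
  have ho1 : orderOf (g' * x) = orderOf g' := by
    rw [← hc]
    exact (SemiconjBy.orderOf_eq (a := c) (x := g') (y := c * g' * c⁻¹) (by
      unfold SemiconjBy; group)).symm
  have hcomm' : Commute g' x := Commute.pow_left hcomm _
  have ho2 : orderOf (g' * x) = orderOf g' * orderOf x := by
    apply hcomm'.orderOf_mul_eq_mul_orderOf_of_coprime
    rw [hog', hox]
    exact ((Nat.Prime.coprime_iff_not_dvd hs).2 hm).symm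
  rw [ho1, hox] at ho2
  have hpos : 0 < orderOf g' := orderOf_pos g'
  have := hs.one_lt
  nlinarith

include hN in
theorem factB' (hcam : Cam N) {p : ℕ} (hp : p.Prime) {g x : G} (hg : g ∉ N) {k : ℕ}
    (hgk : g ^ p ^ k ∈ N) (hx : x ∈ N) (hcomm : Commute g x) {s : ℕ} (hs : s.Prime)
    (hsx : s ∣ orderOf x) : s = p := by
  by_contra hne
  have h1 : orderOf (x ^ (orderOf x / s)) = s :=
    orderOf_pow_orderOf_div (orderOf_pos x).ne' hsx
  obtain ⟨j, hj⟩ := factB N hcam hg (N.pow_mem hx _) hs h1 (hcomm.pow_right _)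
  apply hg
  apply mem_of_pow_mem_of_coprime N g _ hj hgk
  exact Nat.Coprime.pow _ _ ((Nat.coprime_primes hs hp).2 hne)

include hN in
/-- an element outside `N` which is a `q`-element mod `N`, `q ∤ |N|`, acts fixed-point-freely -/
theorem eq_one_of_commute (hcam : Cam N) {q : ℕ} (hq : q.Prime) (hqN : ¬ q ∣ Nat.card N)
    {g x : G} (hg : g ∉ N) {k : ℕ} (hgk : g ^ q ^ k ∈ N) (hx : x ∈ N) (hcomm : Commute g x) :
    x = 1 := by
  by_contra hx1
  have hox : orderOf x ≠ 1 := by
    rw [Ne, orderOf_eq_one_iff]; exact hx1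
  obtain ⟨s, hs, hsx⟩ := Nat.exists_prime_and_dvd hox
  have := factB' N hcam hq hg hgk hx hcomm hs hsx
  subst this
  apply hqN
  have h1 : orderOf (⟨x, hx⟩ : N) = orderOf x := Subgroup.orderOf_mk x hx
  exact hsx.trans (h1 ▸ orderOf_dvd_natCard _)

include hN in
/-- coset counting -/
theorem coset_count (L : Subgroup G) (hL : L ⊔ N = ⊤) (X : G → Prop)
    (hX : ∀ x n, X x → n ∈ N → X (x * n)) :
    Nat.card {x // X x} * Nat.card (L ⊓ N : Subgroup G) =
      Nat.card {x // x ∈ L ∧ X x} * Nat.card N := by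
  let B : G ⧸ N → Prop := fun q => ∃ x : G, (x : G ⧸ N) = q ∧ X x
  have e1 : Nat.card {x // X x} = Nat.card {q // B q} * Nat.card N := by
    apply card_eq_mul_of_fibers (fun x : G => (x : G ⧸ N))
    · intro x hx
      exact ⟨x, rfl, hx⟩
    · rintro _ ⟨x0, rfl, hx0⟩
      apply Nat.card_congr
      refine Equiv.subtypeEquiv (Equiv.mulLeft x0⁻¹) ?_
      intro x
      simp only [Equiv.coe_mulLeft]
      constructor
      · rintro ⟨_, h⟩
        exact QuotientGroup.eq.mp h.symm
      · intro h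
        refine ⟨?_, (QuotientGroup.eq.mpr h).symm⟩
        have := hX x0 _ hx0 h
        simpa using this
  have e2 : Nat.card {x // x ∈ L ∧ X x} = Nat.card {q // B q} * Nat.card (L ⊓ N : Subgroup G) := by
    apply card_eq_mul_of_fibers (fun x : G => (x : G ⧸ N))
    · intro x hx
      exact ⟨x, rfl, hx.2⟩
    · rintro _ ⟨x0, rfl, hx0⟩
      have hx0' : x0 ∈ L ⊔ N := by rw [hL]; trivial
      obtain ⟨l, hl, n, hn, rfl⟩ := Subgroup.mem_sup_of_normal_right.mp hx0'
      have hXl : X l := by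
        have := hX _ _ hx0 (N.inv_mem hn)
        simpa using this
      have hmk : ((l * n : G) : G ⧸ N) = (l : G ⧸ N) := by
        rw [QuotientGroup.eq]
        have : (l * n)⁻¹ * l = n⁻¹ := by group
        rw [this]; exact N.inv_mem hn
      rw [hmk]
      apply Nat.card_congr
      refine Equiv.subtypeEquiv (Equiv.mulLeft l⁻¹) ?_
      intro x
      simp only [Equiv.coe_mulLeft]
      constructor
      · rintro ⟨⟨h1, _⟩, h⟩
        exact ⟨L.mul_mem (L.inv_mem hl) h1, QuotientGroup.eq.mp h.symm⟩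
      · rintro ⟨h1, h2⟩
        refine ⟨⟨?_, ?_⟩, (QuotientGroup.eq.mpr h2).symm⟩
        · have := L.mul_mem hl h1
          simpa using this
        · have := hX l _ hXl h2
          simpa using this
  rw [e1, e2]
  ring

omit [Finite G] in
/-- orbit-stabiliser for the `L`-class of `g` -/
theorem card_class [Finite G] (L : Subgroup G) (g : G) :
    Nat.card L = Nat.card {y : G // ∃ l ∈ L, l * g * l⁻¹ = y} *
      Nat.card (L ⊓ Subgroup.centralizer ({g} : Set G) : Subgroup G) := by
  have h := card_eq_mul_of_fibers (fun l : G => l * g * l⁻¹) (fun l => l ∈ L)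
    (fun y => ∃ l ∈ L, l * g * l⁻¹ = y)
    (Nat.card (L ⊓ Subgroup.centralizer ({g} : Set G) : Subgroup G))
    (fun l hl => ⟨l, hl, rfl⟩) (by
      rintro _ ⟨l0, hl0, rfl⟩
      apply Nat.card_congr
      refine Equiv.subtypeEquiv (Equiv.mulLeft l0⁻¹) ?_
      intro l
      simp only [Equiv.coe_mulLeft]
      rw [Subgroup.mem_inf, Subgroup.mem_centralizer_singleton_iff]
      constructor
      · rintro ⟨h1, h2⟩
        refine ⟨L.mul_mem (L.inv_mem hl0) h1, ?_⟩
        calc l0⁻¹ * l * g = l0⁻¹ * (l * g * l⁻¹) * l := by group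
          _ = l0⁻¹ * (l0 * g * l0⁻¹) * l := by rw [h2]
          _ = g * (l0⁻¹ * l) := by group
      · rintro ⟨h1, h2⟩
        refine ⟨?_, ?_⟩
        · have := L.mul_mem hl0 h1
          simpa using this
        · calc l * g * l⁻¹ = l0 * (l0⁻¹ * l * g) * l⁻¹ := by group
            _ = l0 * (g * (l0⁻¹ * l)) * l⁻¹ := by rw [h2]
            _ = l0 * g * l0⁻¹ := by group)
  exact h

end basic

section sub

variable {G : Type*} [Group G] [Finite G] (N : Subgroup G) [hN : N.Normal]

include hN in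
theorem subgroup_lemma (hcam : Cam N) (L : Subgroup G) (hL : L ⊔ N = ⊤) {g : G} (hgL : g ∈ L)
    (hgN : g ∉ N) :
    Subgroup.centralizer ({g} : Set G) ≤ L ∧ ∀ n ∈ L ⊓ N, ∃ x ∈ L, x * g * x⁻¹ = g * n := by
  set C := Subgroup.centralizer ({g} : Set G) with hC
  let X : G → Prop := fun x => ∃ u ∈ (⊤ : Subgroup G), u * g * u⁻¹ = x
  have hX : ∀ x n, X x → n ∈ N → X (x * n) := by
    rintro _ n ⟨u, _, rfl⟩ hn
    obtain ⟨v, hv⟩ := hcam g hgN (u⁻¹ * n * u⁻¹⁻¹) (hN.conj_mem n hn u⁻¹)
    refine ⟨u * v, trivial, ?_⟩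
    calc u * v * g * (u * v)⁻¹ = u * (v * g * v⁻¹) * u⁻¹ := by group
      _ = u * (g * (u⁻¹ * n * u⁻¹⁻¹)) * u⁻¹ := by rw [hv]
      _ = u * g * u⁻¹ * n := by group
  have h1 := coset_count N L hL X hX
  have h2 := coset_count N L hL (fun _ => True) (fun _ _ _ _ => trivial)
  have e1 : Nat.card {x : G // True} = Nat.card G :=
    Nat.card_congr (Equiv.subtypeUnivEquiv (fun _ => trivial))
  have e2 : Nat.card {x : G // x ∈ L ∧ True} = Nat.card L :=
    Nat.card_congr (Equiv.subtypeEquivRight (fun x => by simp))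
  rw [e1, e2] at h2
  have h3 := card_class (⊤ : Subgroup G) g
  rw [Subgroup.card_top, top_inf_eq, ← hC] at h3
  have h4 := card_class L g
  rw [← hC] at h4
  have hsub : {y : G | ∃ l ∈ L, l * g * l⁻¹ = y} ⊆ {x : G | x ∈ L ∧ X x} := by
    rintro _ ⟨l, hl, rfl⟩
    exact ⟨L.mul_mem (L.mul_mem hl hgL) (L.inv_mem hl), l, trivial, rfl⟩
  have h5 : Nat.card {y : G // ∃ l ∈ L, l * g * l⁻¹ = y} ≤ Nat.card {x : G // x ∈ L ∧ X x} :=
    Set.ncard_le_ncard hsub (Set.toFinite _)
  have h6 : Nat.card (L ⊓ C : Subgroup G) ≤ Nat.card C := Subgroup.card_le_of_le inf_le_right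
  set a := Nat.card {x : G // X x}
  set aL := Nat.card {x : G // x ∈ L ∧ X x}
  set y := Nat.card {y : G // ∃ l ∈ L, l * g * l⁻¹ = y}
  set c := Nat.card C
  set cL := Nat.card (L ⊓ C : Subgroup G)
  set n := Nat.card N
  set d := Nat.card (L ⊓ N : Subgroup G)
  have hn0 : 0 < n := Nat.card_pos
  have hcL0 : 0 < cL := Nat.card_pos
  have hc0 : 0 < c := Nat.card_pos
  have hy0 : 0 < y := by
    rcases Nat.eq_zero_or_pos y with h | h
    · rw [h, zero_mul] at h4
      exact absurd h4 Nat.card_pos.ne'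
    · exact h
  have h7 : aL * c = y * cL := by
    apply Nat.eq_of_mul_eq_mul_right hn0
    calc aL * c * n = (aL * n) * c := by ring
      _ = (a * d) * c := by rw [h1]
      _ = (a * c) * d := by ring
      _ = Nat.card G * d := by rw [h3]
      _ = Nat.card L * n := h2
      _ = y * cL * n := by rw [h4]
  have h8 : c = cL := by
    apply le_antisymm _ h6
    by_contra hlt
    push Not at hlt
    have : y * cL < aL * c := by
      calc y * cL < y * c := Nat.mul_lt_mul_of_pos_left hlt hy0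
        _ ≤ aL * c := Nat.mul_le_mul_right _ h5
    omega
  have h9 : aL = y := by
    rw [h8] at h7
    exact Nat.eq_of_mul_eq_mul_right hcL0 h7
  constructor
  · have : L ⊓ C = C := Subgroup.eq_of_le_of_card_ge inf_le_right h8.le
    rw [← this]
    exact inf_le_left
  · intro m hm
    have hset : {y : G | ∃ l ∈ L, l * g * l⁻¹ = y} = {x : G | x ∈ L ∧ X x} :=
      Set.eq_of_subset_of_ncard_le hsub h9.le (Set.toFinite _)
    have hmem : g * m ∈ {x : G | x ∈ L ∧ X x} := by
      refine ⟨L.mul_mem hgL hm.1, ?_⟩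
      obtain ⟨v, hv⟩ := hcam g hgN m hm.2
      exact ⟨v, trivial, hv⟩
    rw [← hset] at hmem
    exact hmem

include hN in
/-- `|C_G(g)|` divides `|G : N|` for `g ∉ N` -/
theorem card_centralizer_dvd (hcam : Cam N) {g : G} (hgN : g ∉ N) :
    Nat.card (Subgroup.centralizer ({g} : Set G)) ∣ N.index := by
  let X : G → Prop := fun x => ∃ u ∈ (⊤ : Subgroup G), u * g * u⁻¹ = x
  have hX : ∀ x n, X x → n ∈ N → X (x * n) := by
    rintro _ n ⟨u, _, rfl⟩ hn
    obtain ⟨v, hv⟩ := hcam g hgN (u⁻¹ * n * u⁻¹⁻¹) (hN.conj_mem n hn u⁻¹)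
    refine ⟨u * v, trivial, ?_⟩
    calc u * v * g * (u * v)⁻¹ = u * (v * g * v⁻¹) * u⁻¹ := by group
      _ = u * (g * (u⁻¹ * n * u⁻¹⁻¹)) * u⁻¹ := by rw [hv]
      _ = u * g * u⁻¹ * n := by group
  -- take `L = ⊥ ⊔ ...`: use a transversal-free count with `L = ⊤`
  let B : G ⧸ N → Prop := fun q => ∃ x : G, (x : G ⧸ N) = q ∧ X x
  have e1 : Nat.card {x // X x} = Nat.card {q // B q} * Nat.card N := by
    apply card_eq_mul_of_fibers (fun x : G => (x : G ⧸ N))
    · intro x hx
      exact ⟨x, rfl, hx⟩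
    · rintro _ ⟨x0, rfl, hx0⟩
      apply Nat.card_congr
      refine Equiv.subtypeEquiv (Equiv.mulLeft x0⁻¹) ?_
      intro x
      simp only [Equiv.coe_mulLeft]
      constructor
      · rintro ⟨_, h⟩
        exact QuotientGroup.eq.mp h.symm
      · intro h
        refine ⟨?_, (QuotientGroup.eq.mpr h).symm⟩
        have := hX x0 _ hx0 h
        simpa using this
  have h3 := card_class (⊤ : Subgroup G) g
  rw [Subgroup.card_top, top_inf_eq] at h3
  have h4 := N.card_mul_index
  refine ⟨Nat.card {q // B q}, ?_⟩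
  apply Nat.eq_of_mul_eq_mul_left (Nat.card_pos (α := N))
  rw [h4, h3]
  change Nat.card {x // X x} * _ = _
  rw [e1]
  ring

end sub

section auto

variable {W : Type*} [CommGroup W]

/-- the norm of a fixed-point-free automorphism of order dividing `r` is trivial -/
theorem norm_eq_one (γ : MulAut W) (r : ℕ) (hγ : γ ^ r = 1)
    (hfpf : ∀ w : W, γ w = w → w = 1) (w : W) :
    ∏ i ∈ Finset.range r, (γ ^ i) w = 1 := by
  apply hfpf
  rw [map_prod]
  have e1 : ∀ i, γ ((γ ^ i) w) = (γ ^ (i + 1)) w := by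
    intro i
    rw [pow_succ', MulAut.mul_apply]
  simp only [e1]
  have e2 := Finset.prod_range_succ (fun i => (γ ^ i) w) r
  have e3 := Finset.prod_range_succ' (fun i => (γ ^ i) w) r
  rw [e2] at e3
  simp only [hγ, pow_zero, MulAut.one_apply] at e3
  exact (mul_right_cancel e3).symm

/-- no `E_{p^2}` acts semiregularly -/
theorem lemE {p : ℕ} (hp : p.Prime) (α β : MulAut W) (hc : Commute α β) (hα : α ^ p = 1)
    (hβ : β ^ p = 1) (hβf : ∀ w : W, β w = w → w = 1)
    (hαβ : ∀ j < p, ∀ w : W, (α * β ^ j) w = w → w = 1) (w : W) : w ^ p = 1 := by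
  have h1 : ∀ j ∈ Finset.range p, ∏ i ∈ Finset.range p, ((α * β ^ j) ^ i) w = 1 := by
    intro j hj
    apply norm_eq_one _ p _ (hαβ j (Finset.mem_range.mp hj))
    rw [(hc.pow_right j).mul_pow, hα, ← pow_mul, mul_comm j p, pow_mul, hβ, one_pow, one_mul]
  have h2 : ∏ j ∈ Finset.range p, ∏ i ∈ Finset.range p, ((α * β ^ j) ^ i) w = 1 :=
    Finset.prod_eq_one h1
  rw [Finset.prod_comm] at h2
  have h3 : ∀ i ∈ Finset.range p, i ≠ 0 → ∏ j ∈ Finset.range p, ((α * β ^ j) ^ i) w = 1 := by
    intro i hi hi0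
    have hip : i < p := Finset.mem_range.mp hi
    have e1 : ∀ j, ((α * β ^ j) ^ i) w = (α ^ i) (((β ^ i) ^ j) w) := by
      intro j
      rw [(hc.pow_right j).mul_pow, MulAut.mul_apply, ← pow_mul, ← pow_mul, mul_comm j i]
    simp only [e1]
    rw [← map_prod]
    have hfi : ∀ v : W, (β ^ i) v = v → v = 1 := by
      intro v hv
      apply hβf
      have hcop : Nat.Coprime i p :=
        ((Nat.Prime.coprime_iff_not_dvd hp).2
          (Nat.not_dvd_of_pos_of_lt (Nat.pos_of_ne_zero hi0) hip)).symm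
      have hmem : β ∈ MulAction.stabilizer (MulAut W) v := by
        apply mem_of_pow_mem_of_coprime _ β hcop
        · exact hv
        · rw [hβ]; exact Subgroup.one_mem _
      exact hmem
    rw [norm_eq_one (β ^ i) p (by rw [← pow_mul, mul_comm, pow_mul, hβ, one_pow]) hfi, map_one]
  rw [Finset.prod_eq_single_of_mem 0 (Finset.mem_range.mpr hp.pos) h3] at h2
  simpa using h2

end auto

/-- Partition argument for a Frobenius-like group `Q ⋊ ⟨x⟩` acting on an abelian group
(adapted from `Helper64.frob_core`): `v ^ |Q|` is fixed by `Q`. -/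
theorem frob_core' {A H : Type*} [CommGroup A] [Group H] (φ : H →* MulAut A)
    (Q : Subgroup H) [Finite Q] (x : H) (r : ℕ) (hx : x ^ r = 1) (hr : 0 < r)
    (hxQ : ∀ c ∈ Q, x * c * x⁻¹ ∈ Q)
    (h2 : ∀ w : A, φ x w = w → w = 1)
    (h3 : ∀ c ∈ Q, ∀ i, 0 < i → i < r → c * x ^ i = x ^ i * c → c = 1) (v : A) :
    ∀ d ∈ Q, φ d (v ^ (Nat.card Q)) = v ^ (Nat.card Q) := by
  classical
  have : Fintype Q := Fintype.ofFinite Q
  have hT : ∀ w : A, ∀ d ∈ Q, φ d (∏ c : Q, φ (c : H) w) = ∏ c : Q, φ (c : H) w := by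
    intro w d hd
    rw [map_prod]
    refine Fintype.prod_equiv (Equiv.mulLeft (⟨d, hd⟩ : Q)) _ _ ?_
    intro c
    simp [map_mul, MulAut.mul_apply]
  have hS : ∀ w : A, ∏ i ∈ Finset.range r, φ (x ^ i) w = 1 := by
    intro w
    have := norm_eq_one (φ x) r (by rw [← map_pow, hx, map_one]) h2 w
    simpa only [map_pow] using this
  have hxiQ : ∀ i : ℕ, ∀ c ∈ Q, x ^ i * c * (x ^ i)⁻¹ ∈ Q := by
    intro i
    induction i with
    | zero => intro c hc; simpa using hc
    | succ n ih =>
      intro c hc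
      have := hxQ _ (ih c hc)
      have e : x ^ (n + 1) * c * (x ^ (n + 1))⁻¹ = x * (x ^ n * c * (x ^ n)⁻¹) * x⁻¹ := by
        rw [pow_succ']; group
      rw [e]; exact this
  have hD1 : ∏ c : Q, ∏ i ∈ Finset.range r, φ ((c : H) * x ^ i * (c : H)⁻¹) v = 1 := by
    apply Finset.prod_eq_one
    intro c _
    have : ∀ i, φ ((c : H) * x ^ i * (c : H)⁻¹) v = φ (c : H) (φ (x ^ i) (φ (c : H)⁻¹ v)) := by
      intro i
      simp [map_mul, MulAut.mul_apply]
    simp only [this]
    rw [← map_prod, hS, map_one]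
  rw [Finset.prod_comm] at hD1
  have hi : ∀ i ∈ (Finset.range r).erase 0, ∏ c : Q, φ ((c : H) * x ^ i * (c : H)⁻¹) v =
      ∏ c : Q, φ (c : H) (φ (x ^ i) v) := by
    intro i hi
    have hi0 : i ≠ 0 := (Finset.mem_erase.mp hi).1
    have hir : i < r := Finset.mem_range.mp (Finset.mem_erase.mp hi).2
    let σ : Q → Q := fun c => ⟨(c : H) * x ^ i * (c : H)⁻¹ * (x ^ i)⁻¹, by
      have := Q.mul_mem c.2 (hxiQ i _ (Q.inv_mem c.2))
      have e : (c : H) * x ^ i * (c : H)⁻¹ * (x ^ i)⁻¹ = (c : H) * (x ^ i * (c : H)⁻¹ * (x ^ i)⁻¹) := by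
        group
      rw [e]; exact this⟩
    have hσinj : Function.Injective σ := by
      intro c d hcd
      have h : (c : H) * x ^ i * (c : H)⁻¹ * (x ^ i)⁻¹ = (d : H) * x ^ i * (d : H)⁻¹ * (x ^ i)⁻¹ :=
        congrArg Subtype.val hcd
      have h' : (c : H) * x ^ i * (c : H)⁻¹ = (d : H) * x ^ i * (d : H)⁻¹ := mul_right_cancel h
      have h4 : ((d : H)⁻¹ * c) * x ^ i = x ^ i * ((d : H)⁻¹ * c) := by
        calc ((d : H)⁻¹ * c) * x ^ i = (d : H)⁻¹ * ((c : H) * x ^ i * (c : H)⁻¹) * c := by group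
          _ = (d : H)⁻¹ * ((d : H) * x ^ i * (d : H)⁻¹) * c := by rw [h']
          _ = x ^ i * ((d : H)⁻¹ * c) := by group
      have h5 := h3 _ (Q.mul_mem (Q.inv_mem d.2) c.2) i (Nat.pos_of_ne_zero hi0) hir h4
      apply Subtype.ext
      have : (c : H) = d := by
        have := congrArg (fun z => (d : H) * z) h5
        simpa using this
      exact this
    have hσbij : Function.Bijective σ := Finite.injective_iff_bijective.mp hσinj
    have e1 : ∀ c : Q, φ ((c : H) * x ^ i * (c : H)⁻¹) v = φ ((σ c : Q) : H) (φ (x ^ i) v) := by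
      intro c
      rw [← MulAut.mul_apply, ← map_mul]
      congr 2
      simp [σ]
    simp only [e1]
    exact Function.Bijective.prod_comp hσbij (fun c : Q => φ (c : H) (φ (x ^ i) v))
  rw [← Finset.mul_prod_erase _ _ (Finset.mem_range.mpr hr), Finset.prod_congr rfl hi] at hD1
  have h0 : ∏ c : Q, φ ((c : H) * x ^ 0 * (c : H)⁻¹) v = v ^ (Nat.card Q) := by
    simp [Finset.prod_const, Nat.card_eq_fintype_card]
  rw [h0] at hD1
  intro d hd
  have h5 : v ^ (Nat.card Q) =
      (∏ i ∈ (Finset.range r).erase 0, ∏ c : Q, φ (c : H) (φ (x ^ i) v))⁻¹ :=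
    eq_inv_of_mul_eq_one_left hD1
  rw [h5, map_inv, map_prod]
  congr 1
  apply Finset.prod_congr rfl
  intro i _
  exact hT _ d hd

theorem lemPG {P W : Type*} [Group P] [Finite P] [CommGroup W] [Finite W] {p : ℕ}
    [hp : Fact p.Prime] (hP : IsPGroup p P) (P0 : Subgroup P) [hn : P0.Normal] (h0 : P0 ≠ ⊥)
    (h1 : P0 ≠ ⊤) (hW : Nontrivial W) (hWp : (Nat.card W).Coprime p) (φ : P →* MulAut W)
    (ha : ∀ u ∈ P0, φ u = 1) (hb : ∀ a, a ∉ P0 → ∀ w : W, φ a w = w → w = 1)
    (hc : ∀ c, c ∉ P0 →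
      Nat.card (Subgroup.centralizer ({c} : Set P)) * Nat.card P0 ≤ Nat.card P) : False := by
  classical
  -- a central element of order `p` in the quotient
  have hQnt : Nontrivial (P ⧸ P0) := by
    rw [← Finite.one_lt_card_iff_nontrivial, ← Subgroup.index_eq_card]
    have h2 : P0.index ≠ 1 := fun h => h1 (Subgroup.index_eq_one.mp h)
    have h3 : P0.index ≠ 0 := Subgroup.index_ne_zero_of_finite
    omega
  have hQp : IsPGroup p (P ⧸ P0) := hP.to_quotient P0
  have hcnt := hQp.center_nontrivial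
  obtain ⟨n, hn0, hn1⟩ := (hQp.to_subgroup (Subgroup.center (P ⧸ P0))).nontrivial_iff_card.mp hcnt
  obtain ⟨z, hz⟩ := exists_prime_orderOf_dvd_card' (G := Subgroup.center (P ⧸ P0)) p
    (by rw [hn1]; exact dvd_pow_self p hn0.ne')
  obtain ⟨g, hg⟩ := QuotientGroup.mk_surjective z.1
  have hz1 : (z : P ⧸ P0) ≠ 1 := by
    intro h
    have : z = 1 := Subtype.ext h
    rw [this, orderOf_one] at hz
    exact hp.out.one_lt.ne hz
  have hgP0 : g ∉ P0 := by
    intro h
    apply hz1
    rw [← hg]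
    exact (QuotientGroup.eq_one_iff g).mpr h
  have hgp : g ^ p ∈ P0 := by
    rw [← QuotientGroup.eq_one_iff, QuotientGroup.mk_pow, hg]
    have := pow_orderOf_eq_one z
    rw [hz] at this
    have h2 := congrArg Subtype.val this
    simpa using h2
  have hgc : ∀ u : P, u * g * u⁻¹ * g⁻¹ ∈ P0 := by
    intro u
    rw [← QuotientGroup.eq_one_iff]
    simp only [QuotientGroup.mk_mul, QuotientGroup.mk_inv, hg]
    have := Subgroup.mem_center_iff.mp z.2 (u : P ⧸ P0)
    rw [this]
    group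
  -- a central element in `P0`
  have hpP0 : p ∣ Nat.card P0 := by
    have hnt : Nontrivial P0 := (Subgroup.nontrivial_iff_ne_bot P0).mpr h0
    obtain ⟨m, hm0, hm1⟩ := (hP.to_subgroup P0).nontrivial_iff_card.mp hnt
    rw [hm1]; exact dvd_pow_self p hm0.ne'
  let _ : MulAction P P0 := MulAction.compHom P0 (MulAut.conjNormal (H := P0))
  have hone : (1 : P0) ∈ MulAction.fixedPoints P P0 := by
    intro u
    change (MulAut.conjNormal (H := P0) u) 1 = 1
    simp
  obtain ⟨b, hbf, hb1⟩ := hP.exists_fixed_point_of_prime_dvd_card_of_fixed_point P0 hpP0 hone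
  have hbc : ∀ u : P, Commute u (b : P) := by
    intro u
    have h2 : (MulAut.conjNormal (H := P0) u) b = b := hbf u
    have h3 := congrArg Subtype.val h2
    rw [MulAut.conjNormal_apply] at h3
    exact mul_inv_eq_iff_eq_mul.mp h3
  have hb1' : (b : P) ≠ 1 := fun h => hb1 (Subtype.ext h.symm)
  -- every element outside `P0` commutes with an element of `g P0`
  have hkey : ∀ a : P, a ∉ P0 → ∃ c : P, g⁻¹ * c ∈ P0 ∧ Commute a c := by
    intro a haP
    have hex : ∃ k : ℕ, a ^ p ^ k ∈ P0 := by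
      obtain ⟨k, hk⟩ := hP a
      exact ⟨k, by rw [hk]; exact P0.one_mem⟩
    set m := Nat.find hex with hm
    have hm1 : a ^ p ^ m ∈ P0 := Nat.find_spec hex
    have hm0 : m ≠ 0 := by
      intro h
      rw [h] at hm1
      simp at hm1
      exact haP hm1
    obtain ⟨m', hm'⟩ := Nat.exists_eq_succ_of_ne_zero hm0
    set b' := a ^ p ^ m' with hb'
    have hb'0 : b' ∉ P0 := Nat.find_min hex (by omega : m' < Nat.find hex)
    have hb'p : b' ^ p ∈ P0 := by
      rw [hb', ← pow_mul, ← pow_succ, ← Nat.succ_eq_add_one, ← hm']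
      exact hm1
    by_contra hno
    push Not at hno
    have hall : ∀ j < p, g * b' ^ j ∉ P0 := by
      intro j _ hj
      apply hno ((b' ^ j)⁻¹)
      · have h2 : g⁻¹ * (b' ^ j)⁻¹ = g⁻¹ * (g * b' ^ j)⁻¹ * g⁻¹⁻¹ := by group
        rw [h2]
        exact hn.conj_mem _ (P0.inv_mem hj) _
      · rw [hb', ← pow_mul]
        exact ((Commute.refl a).pow_right _).inv_right
    have hcomm : Commute (φ g) (φ b') := by
      have h2 := ha _ (hgc b')
      rw [map_mul, map_mul, map_mul, map_inv, map_inv] at h2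
      have h3 : φ b' * φ g = φ g * φ b' := by
        have := congrArg (fun t => t * φ g * φ b') h2
        simpa [mul_assoc] using this
      exact h3.symm
    have hwp := lemE hp.out (φ g) (φ b') hcomm (by rw [← map_pow]; exact ha _ hgp)
      (by rw [← map_pow]; exact ha _ hb'p) (hb _ hb'0)
      (fun j hj w hw => hb _ (hall j hj) w (by rw [map_mul, map_pow]; exact hw))
    obtain ⟨w, hw⟩ := exists_ne (1 : W)
    apply hw
    have h2 : orderOf w ∣ p := orderOf_dvd_of_pow_eq_one (hwp w)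
    have h3 : orderOf w ∣ Nat.card W := orderOf_dvd_natCard w
    have h4 : orderOf w ∣ 1 := by
      rw [← hWp]
      exact Nat.dvd_gcd h3 h2
    exact orderOf_eq_one_iff.mp (Nat.dvd_one.mp h4)
  -- the count
  have := Fintype.ofFinite P
  set S : Finset P := Finset.univ.filter (fun a => a ∉ P0) with hS
  set Idx : Finset P := Finset.univ.filter (fun c => g⁻¹ * c ∈ P0) with hIdx
  let T : P → Finset P := fun c => Finset.univ.filter (fun a => a ∉ P0 ∧ Commute a c)
  have hcover : S ⊆ Idx.biUnion T := by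
    intro a haS
    obtain ⟨c, hc1, hc2⟩ := hkey a (Finset.mem_filter.mp haS).2
    exact Finset.mem_biUnion.mpr ⟨c, Finset.mem_filter.mpr ⟨Finset.mem_univ _, hc1⟩,
      Finset.mem_filter.mpr ⟨Finset.mem_univ _, (Finset.mem_filter.mp haS).2, hc2⟩⟩
  have hle : S.card ≤ ∑ c ∈ Idx, (T c).card :=
    (Finset.card_le_card hcover).trans Finset.card_biUnion_le
  set m := Nat.card P0 with hm
  have hm0 : 0 < m := Nat.card_pos
  have hScard : S.card + m = Nat.card P := by
    have h2 : m = (Finset.univ.filter (fun a : P => a ∈ P0)).card := by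
      rw [hm, Nat.card_eq_fintype_card, Fintype.card_subtype]
    rw [h2, hS, add_comm, Nat.card_eq_fintype_card]
    exact Finset.card_filter_add_card_filter_not (s := Finset.univ) (fun a : P => a ∈ P0)
  have hIcard : Idx.card = m := by
    rw [hm, Nat.card_eq_fintype_card, Fintype.card_subtype, hIdx]
    apply Finset.card_bij (fun c _ => g⁻¹ * c)
    · intro c hc
      exact Finset.mem_filter.mpr ⟨Finset.mem_univ _, (Finset.mem_filter.mp hc).2⟩
    · intro c _ d _ h
      exact mul_left_cancel h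
    · intro d hd
      exact ⟨g * d, Finset.mem_filter.mpr ⟨Finset.mem_univ _, by
        simpa using (Finset.mem_filter.mp hd).2⟩, by simp⟩
  have hT : ∀ c ∈ Idx, ((T c).card + 2) * m ≤ Nat.card P := by
    intro c hcI
    have hcP0 : c ∉ P0 := by
      intro h
      apply hgP0
      have h2 := P0.mul_mem h (P0.inv_mem (Finset.mem_filter.mp hcI).2)
      simpa using h2
    refine le_trans (Nat.mul_le_mul_right _ ?_) (hc c hcP0)
    have h2 : Nat.card (Subgroup.centralizer ({c} : Set P)) =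
        (Finset.univ.filter (fun a : P => a ∈ Subgroup.centralizer ({c} : Set P))).card := by
      rw [Nat.card_eq_fintype_card, Fintype.card_subtype]
    rw [h2]
    have h3 : (T c) ∪ {1, (b : P)} ⊆
        Finset.univ.filter (fun a : P => a ∈ Subgroup.centralizer ({c} : Set P)) := by
      intro a haU
      rw [Finset.mem_filter]
      refine ⟨Finset.mem_univ _, ?_⟩
      rw [Subgroup.mem_centralizer_singleton_iff]
      rcases Finset.mem_union.mp haU with h | h
      · exact (Finset.mem_filter.mp h).2.2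
      · rcases Finset.mem_insert.mp h with h | h
        · rw [h]; simp
        · rw [Finset.mem_singleton.mp h]
          exact (hbc c).symm
    have h4 : Disjoint (T c) {1, (b : P)} := by
      rw [Finset.disjoint_left]
      intro a haT haB
      apply (Finset.mem_filter.mp haT).2.1
      rcases Finset.mem_insert.mp haB with h | h
      · rw [h]; exact P0.one_mem
      · rw [Finset.mem_singleton.mp h]; exact b.2
    have h5 : ({1, (b : P)} : Finset P).card = 2 := Finset.card_pair hb1'.symm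
    calc (T c).card + 2 = ((T c) ∪ {1, (b : P)}).card := by
          rw [Finset.card_union_of_disjoint h4, h5]
      _ ≤ _ := Finset.card_le_card h3
  have hsum : ∑ c ∈ Idx, ((T c).card + 2) * m ≤ Idx.card * Nat.card P := by
    have := Finset.sum_le_card_nsmul Idx (fun c => ((T c).card + 2) * m) (Nat.card P) hT
    simpa using this
  rw [← Finset.sum_mul, Finset.sum_add_distrib, Finset.sum_const, hIcard, smul_eq_mul,
    mul_comm m (Nat.card P)] at hsum
  have h6 := Nat.le_of_mul_le_mul_right hsum hm0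
  omega

universe u

/-- the conclusion of the theorem -/
def Concl {G : Type*} [Group G] (N : Subgroup G) : Prop :=
  (∀ x ∈ N, x ≠ 1 → Subgroup.centralizer ({x} : Set G) ≤ N) ∨ IsPrimePow (Nat.card N) ∨
    IsPrimePow N.index

/-- a `p`-element acting on `N` with `p ∣ |N|` has a nontrivial fixed point -/
theorem exists_commute {G : Type*} [Group G] [Finite G] (N : Subgroup G) [N.Normal] {p : ℕ}
    [hp : Fact p.Prime] (hpN : p ∣ Nat.card N) (A : Subgroup G) (hA : IsPGroup p A) :
    ∃ b ∈ N, b ≠ 1 ∧ ∀ a ∈ A, Commute a b := by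
  let _ : MulAction A N := MulAction.compHom N ((MulAut.conjNormal (H := N)).comp A.subtype)
  have hone : (1 : N) ∈ MulAction.fixedPoints A N := by
    intro u
    change (MulAut.conjNormal (H := N) (u : G)) 1 = 1
    simp
  obtain ⟨b, hbf, hb1⟩ := hA.exists_fixed_point_of_prime_dvd_card_of_fixed_point N hpN hone
  refine ⟨b, b.2, fun h => hb1 (Subtype.ext h.symm), ?_⟩
  intro a ha
  have h2 : (MulAut.conjNormal (H := N) a) b = b := hbf ⟨a, ha⟩
  have h3 := congrArg Subtype.val h2
  rw [MulAut.conjNormal_apply] at h3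
  exact mul_inv_eq_iff_eq_mul.mp h3

theorem step1 {G : Type u} [Group G] [Finite G] (N : Subgroup G) [hN : N.Normal] (hcam : Cam N)
    (IH : ∀ (L : Type u) [Group L] [Finite L], Nat.card L < Nat.card G →
      ∀ (M : Subgroup L) [M.Normal], M ≠ ⊥ → M ≠ ⊤ → Cam M → Concl M)
    (hidx : ¬ IsPrimePow N.index) {p r : ℕ} [hp : Fact p.Prime] [hr : Fact r.Prime] (hpr : r ≠ p)
    (hpN : p ∣ Nat.card N) (hpI : p ∣ N.index) (R : Sylow r N) :
    ((R : Subgroup N).map N.subtype).Normal := by
  by_contra hnn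
  set R' := (R : Subgroup N).map N.subtype with hR'
  set L := Subgroup.normalizer (R' : Set G) with hL
  have hLtop : L ≠ ⊤ := fun h => hnn (Subgroup.normalizer_eq_top_iff.mp h)
  have hsup : L ⊔ N = ⊤ := Sylow.normalizer_sup_eq_top R
  have hR'ne : R' ≠ ⊥ := by
    intro h
    apply hnn
    rw [h]
    infer_instance
  have hR'L : R' ≤ L := Subgroup.le_normalizer
  have hR'N : R' ≤ N := Subgroup.map_subtype_le _
  have hR'p : IsPGroup r R' := R.isPGroup'.map _
  have hNtop : N ≠ ⊤ := by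
    intro h
    rw [h, Subgroup.index_top] at hpI
    exact hp.out.one_lt.ne' (Nat.dvd_one.mp hpI)
  obtain ⟨x, hxR, hx1⟩ : ∃ x : G, x ∈ R' ∧ x ≠ 1 := by
    by_contra hno
    push Not at hno
    exact hR'ne ((Subgroup.eq_bot_iff_forall _).mpr hno)
  set M := N.subgroupOf L with hM
  have hord : ∀ b : G, b ∈ L → b ∈ N → orderOf b ∣ Nat.card M := by
    intro b hbL hbN
    have hbM : (⟨b, hbL⟩ : L) ∈ M := hbN
    have h1 : orderOf (⟨⟨b, hbL⟩, hbM⟩ : M) = orderOf b := by
      rw [Subgroup.orderOf_mk, Subgroup.orderOf_mk]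
    rw [← h1]
    exact orderOf_dvd_natCard _
  have hMbot : M ≠ ⊥ := by
    intro h
    have h1 : (⟨x, hR'L hxR⟩ : L) ∈ M := hR'N hxR
    rw [h, Subgroup.mem_bot] at h1
    exact hx1 (congrArg Subtype.val h1)
  have hMtop : M ≠ ⊤ := by
    intro h
    rw [hM, Subgroup.subgroupOf_eq_top] at h
    apply hNtop
    rw [← hsup]
    exact (sup_eq_right.mpr h).symm
  have hMcam : Cam M := by
    intro g hg n hn
    obtain ⟨y, hyL, hy⟩ := (subgroup_lemma N hcam L hsup g.2 hg).2 n ⟨n.2, hn⟩
    exact ⟨⟨y, hyL⟩, Subtype.ext hy⟩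
  have hcard : Nat.card L < Nat.card G := by
    have h1 : L < ⊤ := lt_top_iff_ne_top.2 hLtop
    have h2 : Nat.card L < Nat.card (⊤ : Subgroup G) :=
      Set.ncard_lt_ncard (s := (L : Set G)) (SetLike.coe_ssubset_coe.2 h1) (Set.toFinite _)
    rwa [Subgroup.card_top] at h2
  have hidxM : M.index = N.index := by
    have h1 : N.relIndex (L ⊔ N) = N.relIndex L := Subgroup.relIndex_sup_right L N
    rw [hsup, Subgroup.relIndex_top_right] at h1
    exact h1.symm
  have hrM : r ∣ Nat.card M := by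
    have h1 : orderOf x ≠ 1 := by
      rw [Ne, orderOf_eq_one_iff]; exact hx1
    obtain ⟨k, hk⟩ := hR'p ⟨x, hxR⟩
    have hk' : x ^ r ^ k = 1 := by
      have := congrArg Subtype.val hk
      simpa using this
    obtain ⟨j, _, hj⟩ := (Nat.dvd_prime_pow hr.out).1 (orderOf_dvd_of_pow_eq_one hk')
    have hj0 : j ≠ 0 := by
      rintro rfl
      exact h1 (by simpa using hj)
    exact (hj ▸ dvd_pow_self r hj0 : r ∣ orderOf x).trans (hord x (hR'L hxR) (hR'N hxR))
  have hpM : ¬ p ∣ Nat.card M := by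
    rcases IH L hcard M hMbot hMtop hMcam with hF | hPP | hPI
    · have h1 := S4112.cop_of_cent M M hF
      rw [hidxM] at h1
      intro h2
      exact hp.out.one_lt.ne' (Nat.dvd_one.mp (h1 ▸ Nat.dvd_gcd hpI h2))
    · obtain ⟨s, k, hs, _, hsk⟩ := (isPrimePow_nat_iff _).mp hPP
      intro h2
      rw [← hsk] at h2 hrM
      have e1 := (Nat.prime_dvd_prime_iff_eq hp.out hs).mp (hp.out.dvd_of_dvd_pow h2)
      have e2 := (Nat.prime_dvd_prime_iff_eq hr.out hs).mp (hr.out.dvd_of_dvd_pow hrM)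
      exact hpr (e2.trans e1.symm)
    · rw [hidxM] at hPI
      exact absurd hPI hidx
  have hpL : p ∣ Nat.card L := by
    rw [← M.card_mul_index, hidxM]
    exact Dvd.dvd.mul_left hpI _
  obtain ⟨g, hg⟩ := exists_prime_orderOf_dvd_card' (G := L) p hpL
  have hog : orderOf (g : G) = p := by rw [Subgroup.orderOf_coe, hg]
  have hgN : (g : G) ∉ N := by
    intro h
    exact hpM (hog ▸ hord g g.2 h)
  have hZ : IsPGroup p (Subgroup.zpowers (g : G)) := by
    apply IsPGroup.of_card (n := 1)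
    rw [Nat.card_zpowers, hog, pow_one]
  obtain ⟨b, hbN, hb1, hbc⟩ := exists_commute N hpN _ hZ
  have hgb : Commute (g : G) b := hbc _ (Subgroup.mem_zpowers _)
  have hob : orderOf b ≠ 1 := by
    rw [Ne, orderOf_eq_one_iff]; exact hb1
  obtain ⟨s, hs, hsb⟩ := Nat.exists_prime_and_dvd hob
  have hsp : s = p := factB' N hcam hp.out hgN (k := 1)
    (by rw [pow_one, ← hog, pow_orderOf_eq_one]; exact N.one_mem) hbN hgb hs hsb
  have hbL : b ∈ L := by
    apply (subgroup_lemma N hcam L hsup g.2 hgN).1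
    rw [Subgroup.mem_centralizer_singleton_iff]
    exact hgb.symm
  exact hpM ((hsp ▸ hsb).trans (hord b hbL hbN))

theorem exists_prime_ne {n p : ℕ} (hn : ¬ IsPrimePow n) (hp : p.Prime) (hpn : p ∣ n)
    (hn0 : n ≠ 0) : ∃ r, r.Prime ∧ r ≠ p ∧ r ∣ n := by
  by_contra hno
  push Not at hno
  apply hn
  have h := Nat.eq_prime_pow_of_unique_prime_dvd hn0 (p := p)
    (fun {d} hd hdn => by_contra (fun hne => hno d hd hne hdn))
  rw [h]
  apply hp.isPrimePow.pow
  intro h0
  rw [h0, pow_zero] at h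
  rw [h] at hpn
  exact hp.one_lt.ne' (Nat.dvd_one.mp hpn)

theorem final {G : Type*} [Group G] [Finite G] (N : Subgroup G) [hN : N.Normal] (hcam : Cam N)
    {p : ℕ} [hp : Fact p.Prime] (hpI : p ∣ N.index)
    (W : Subgroup G) [hWn : W.Normal] (hWN : W ≤ N) (hW1 : W ≠ ⊥)
    (hWc : ∀ a ∈ W, ∀ b ∈ W, a * b = b * a) (hWp : (Nat.card W).Coprime p) (P : Sylow p G)
    (h0 : (P : Subgroup G) ⊓ N ≠ ⊥)
    (hcent : ∀ u ∈ (P : Subgroup G) ⊓ N, ∀ w ∈ W, u * w = w * u) : False := by
  let _ : CommGroup W :=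
    { (inferInstance : Group W) with mul_comm := fun a b => Subtype.ext (hWc a a.2 b b.2) }
  have hWnt : Nontrivial W := (Subgroup.nontrivial_iff_ne_bot W).mpr hW1
  refine lemPG (P := (P : Subgroup G)) (W := W) (p := p) P.isPGroup' (N.subgroupOf (P : Subgroup G))
    ?_ ?_ hWnt hWp ((MulAut.conjNormal (H := W)).comp (P : Subgroup G).subtype) ?_ ?_ ?_
  · intro h
    apply h0
    rw [Subgroup.subgroupOf_eq_bot, disjoint_iff] at h
    rw [inf_comm]; exact h
  · intro h
    rw [Subgroup.subgroupOf_eq_top] at h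
    exact P.not_dvd_index (dvd_trans hpI (Subgroup.index_dvd_of_le h))
  · intro u hu
    ext w
    simp only [MonoidHom.comp_apply, Subgroup.coe_subtype, MulAut.conjNormal_apply,
      MulAut.one_apply]
    rw [hcent u ⟨u.2, hu⟩ w w.2]
    group
  · intro a ha w hw
    have haN : (a : G) ∉ N := ha
    obtain ⟨k, hk⟩ := P.isPGroup' a
    have hk' : (a : G) ^ p ^ k ∈ N := by
      have := congrArg Subtype.val hk
      simp only [Subgroup.coe_pow, Subgroup.coe_one] at this
      rw [this]; exact N.one_mem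
    have hcomm : Commute (a : G) (w : G) := by
      have h3 := congrArg Subtype.val hw
      simp only [MonoidHom.comp_apply, Subgroup.coe_subtype, MulAut.conjNormal_apply] at h3
      exact mul_inv_eq_iff_eq_mul.mp h3
    by_contra hw1
    have how : orderOf (w : G) ≠ 1 := by
      rw [Ne, orderOf_eq_one_iff]
      exact fun h => hw1 (Subtype.ext h)
    obtain ⟨s, hs, hsw⟩ := Nat.exists_prime_and_dvd how
    have hsp := factB' N hcam hp.out haN hk' (hWN w.2) hcomm hs hsw
    subst hsp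
    have h4 : s ∣ Nat.card W := by
      rw [Subgroup.orderOf_coe] at hsw
      exact hsw.trans (orderOf_dvd_natCard w)
    exact hs.one_lt.ne' (Nat.dvd_one.mp (hWp ▸ Nat.dvd_gcd h4 dvd_rfl))
  · intro c hc
    have hcN : (c : G) ∉ N := hc
    have h1 : Nat.card (Subgroup.centralizer ({c} : Set (P : Subgroup G))) ∣ N.index := by
      refine dvd_trans ?_ (card_centralizer_dvd N hcam hcN)
      let f : Subgroup.centralizer ({c} : Set (P : Subgroup G)) →*
          Subgroup.centralizer ({(c : G)} : Set G) :=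
        { toFun := fun x => ⟨((x : (P : Subgroup G)) : G), by
            rw [Subgroup.mem_centralizer_singleton_iff]
            have := Subgroup.mem_centralizer_singleton_iff.mp x.2
            exact congrArg Subtype.val this⟩
          map_one' := rfl
          map_mul' := fun _ _ => rfl }
      apply Subgroup.card_dvd_of_injective f
      intro x y hxy
      apply Subtype.ext
      apply Subtype.ext
      have h9 : ((f x).1 : G) = (f y).1 := by rw [hxy]
      exact h9
    have h2 : Nat.card (N.subgroupOf (P : Subgroup G)) ∣ Nat.card N := by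
      let f : N.subgroupOf (P : Subgroup G) →* N :=
        { toFun := fun x => ⟨((x : (P : Subgroup G)) : G), x.2⟩
          map_one' := rfl
          map_mul' := fun _ _ => rfl }
      apply Subgroup.card_dvd_of_injective f
      intro x y hxy
      apply Subtype.ext
      apply Subtype.ext
      have h9 : ((f x).1 : G) = (f y).1 := by rw [hxy]
      exact h9
    have h3 : Nat.card (Subgroup.centralizer ({c} : Set (P : Subgroup G))) *
        Nat.card (N.subgroupOf (P : Subgroup G)) ∣ Nat.card G := by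
      rw [← N.index_mul_card]
      exact mul_dvd_mul h1 h2
    obtain ⟨e, he⟩ := IsPGroup.iff_card.mp (P.isPGroup'.to_subgroup
      (Subgroup.centralizer ({c} : Set (P : Subgroup G))))
    obtain ⟨f, hf⟩ := IsPGroup.iff_card.mp (P.isPGroup'.to_subgroup
      (N.subgroupOf (P : Subgroup G)))
    rw [he, hf, ← pow_add] at h3 ⊢
    rw [P.card_eq_multiplicity]
    exact Nat.pow_le_pow_right hp.out.pos
      ((Nat.Prime.pow_dvd_iff_le_factorization hp.out Nat.card_pos.ne').mp h3)

/-- the centre of a nontrivial normal `r`-subgroup, in the ambient group -/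
theorem exists_W {G : Type*} [Group G] [Finite G] {r : ℕ} [hr : Fact r.Prime] (R : Subgroup G)
    [hRn : R.Normal] (hR : IsPGroup r R) (hR1 : R ≠ ⊥) :
    ∃ W : Subgroup G, W.Normal ∧ W ≤ R ∧ W ≠ ⊥ ∧ ∀ a ∈ W, ∀ b ∈ W, a * b = b * a := by
  refine ⟨R ⊓ Subgroup.centralizer (R : Set G), inferInstance, inf_le_left, ?_, ?_⟩
  · have hnt : Nontrivial R := (Subgroup.nontrivial_iff_ne_bot R).mpr hR1
    have hc := hR.center_nontrivial
    obtain ⟨z, hz⟩ := exists_ne (1 : Subgroup.center R)
    intro h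
    have hmem : ((z : R) : G) ∈ R ⊓ Subgroup.centralizer (R : Set G) := by
      refine Subgroup.mem_inf.mpr ⟨(z : R).2, ?_⟩
      rw [Subgroup.mem_centralizer_iff]
      intro x hx
      have := Subgroup.mem_center_iff.mp z.2 ⟨x, hx⟩
      exact congrArg Subtype.val this
    rw [h, Subgroup.mem_bot] at hmem
    apply hz
    apply Subtype.ext
    apply Subtype.ext
    exact hmem
  · intro a ha b hb
    exact (Subgroup.mem_centralizer_iff.mp hb.2 a ha.1)

theorem main_aux (n : ℕ) : ∀ (G : Type u) [Group G] [Finite G], Nat.card G = n →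
    ∀ (N : Subgroup G) [N.Normal], N ≠ ⊥ → N ≠ ⊤ → Cam N → Concl N := by
  induction n using Nat.strong_induction_on with
  | _ n IHn =>
  intro G _ _ hG N hN hN1 hN2 hcam
  have IH : ∀ (L : Type u) [Group L] [Finite L], Nat.card L < Nat.card G →
      ∀ (M : Subgroup L) [M.Normal], M ≠ ⊥ → M ≠ ⊤ → Cam M → Concl M :=
    fun L _ _ hL M _ h1 h2 h3 => IHn (Nat.card L) (hG ▸ hL) L rfl M h1 h2 h3
  by_contra hcon
  unfold Concl at hcon
  rw [not_or, not_or] at hcon
  obtain ⟨hF, hPN, hPI⟩ := hcon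
  have hncop : ¬ N.index.Coprime (Nat.card N) := fun h => hF (S4112.cent_of_cop N N hcam h)
  obtain ⟨p, hp, hpI, hpN⟩ := Nat.Prime.not_coprime_iff_dvd.mp hncop
  have : Fact p.Prime := ⟨hp⟩
  obtain ⟨PN⟩ : Nonempty (Sylow p N) := inferInstance
  obtain ⟨P, hP⟩ := Sylow.exists_comap_subtype_eq PN
  have hP0 : (P : Subgroup G) ⊓ N = (PN : Subgroup N).map N.subtype := by
    rw [← hP]
    exact (Subgroup.subgroupOf_map_subtype _ _).symm
  have hP0ne : (P : Subgroup G) ⊓ N ≠ ⊥ := by
    rw [hP0]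
    intro h
    exact PN.ne_bot_of_dvd_card hpN ((Subgroup.map_eq_bot_iff_of_injective _
      N.subtype_injective).mp h)
  have hP0p : IsPGroup p ((P : Subgroup G) ⊓ N : Subgroup G) := P.isPGroup'.to_le inf_le_left
  -- common part: from a prime `r ≠ p` dividing `|N|`
  have common : ∀ r : ℕ, r.Prime → r ≠ p → r ∣ Nat.card N →
      (∀ (R W : Subgroup G), R.Normal → IsPGroup r R → R ≤ N → W ≤ R → W.Normal →
        (∀ a ∈ W, ∀ b ∈ W, a * b = b * a) →
        ∀ u ∈ (P : Subgroup G) ⊓ N, ∀ w ∈ W, u * w = w * u) → False := by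
    intro r hr hrp hrN hcent
    have : Fact r.Prime := ⟨hr⟩
    obtain ⟨RN⟩ : Nonempty (Sylow r N) := inferInstance
    have hRn := step1 N hcam IH hPI hrp hpN hpI RN
    set R := (RN : Subgroup N).map N.subtype with hR
    have hRp : IsPGroup r R := RN.isPGroup'.map _
    have hR1 : R ≠ ⊥ := by
      intro h
      exact RN.ne_bot_of_dvd_card hrN ((Subgroup.map_eq_bot_iff_of_injective _
        N.subtype_injective).mp h)
    obtain ⟨W, hWn, hWR, hW1, hWc⟩ := exists_W R hRp hR1
    have hWp : (Nat.card W).Coprime p := by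
      obtain ⟨k, hk⟩ := IsPGroup.iff_card.mp (hRp.to_le hWR)
      rw [hk]
      exact Nat.Coprime.pow_left _ ((Nat.coprime_primes hr hp).mpr hrp)
    exact final N hcam hpI W (hWR.trans (Subgroup.map_subtype_le _)) hW1 hWc hWp P hP0ne
      (hcent R W hRn hRp (Subgroup.map_subtype_le _) hWR hWn hWc)
  by_cases hex : ∃ r, r.Prime ∧ r ≠ p ∧ r ∣ Nat.card N ∧ r ∣ N.index
  · obtain ⟨r, hr, hrp, hrN, hrI⟩ := hex
    have : Fact r.Prime := ⟨hr⟩
    apply common r hr hrp hrN
    intro R W hRn hRp _ hWR _ _ u hu w hw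
    have hPn : ((P : Subgroup G) ⊓ N).Normal := by
      rw [hP0]
      exact step1 N hcam IH hPI hrp.symm hrN hrI PN
    have hdis := IsPGroup.disjoint_of_ne p r hrp.symm _ _ hP0p hRp
    have h1 : u * w * u⁻¹ * w⁻¹ ∈ (P : Subgroup G) ⊓ N := by
      have h2 := hPn.conj_mem _ (Subgroup.inv_mem _ hu) w
      have h3 := Subgroup.mul_mem _ hu h2
      simpa [mul_assoc] using h3
    have h2 : u * w * u⁻¹ * w⁻¹ ∈ R :=
      R.mul_mem (hRn.conj_mem _ (hWR hw) u) (R.inv_mem (hWR hw))
    have h3 : u * w * u⁻¹ * w⁻¹ = 1 := by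
      have := (Subgroup.disjoint_def.mp hdis) h1 h2
      exact this
    calc u * w = (u * w * u⁻¹ * w⁻¹) * (w * u) := by group
      _ = w * u := by rw [h3, one_mul]
  · push Not at hex
    obtain ⟨r, hr, hrp, hrN⟩ := exists_prime_ne hPN hp hpN Nat.card_pos.ne'
    obtain ⟨q, hq, hqp, hqI⟩ := exists_prime_ne hPI hp hpI Subgroup.index_ne_zero_of_finite
    have hqN : ¬ q ∣ Nat.card N := fun h => hex q hq hqp h hqI
    have : Fact q.Prime := ⟨hq⟩
    have : Fact r.Prime := ⟨hr⟩
    apply common r hr hrp hrN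
    intro R W hRn hRp hRN hWR hWn hWc u hu w hw
    have hWN : W ≤ N := hWR.trans hRN
    set P0 := (P : Subgroup G) ⊓ N with hP0def
    set L0 := Subgroup.normalizer (P0 : Set G) with hL0
    have hsup : L0 ⊔ N = ⊤ := by
      rw [hL0, hP0]
      exact Sylow.normalizer_sup_eq_top PN
    have hqL : q ∣ Nat.card L0 := by
      have h1 : N.relIndex (L0 ⊔ N) = N.relIndex L0 := Subgroup.relIndex_sup_right L0 N
      rw [hsup, Subgroup.relIndex_top_right] at h1
      rw [h1] at hqI
      exact hqI.trans (Subgroup.index_dvd_card _)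
    obtain ⟨y, hy⟩ := exists_prime_orderOf_dvd_card' (G := L0) q hqL
    have hoy : orderOf (y : G) = q := by rw [Subgroup.orderOf_coe, hy]
    have hyq : (y : G) ^ q = 1 := by rw [← hoy]; exact pow_orderOf_eq_one _
    have hyN : (y : G) ∉ N := by
      intro h
      apply hqN
      have h1 : orderOf (⟨(y : G), h⟩ : N) = q := by rw [Subgroup.orderOf_mk, hoy]
      rw [← h1]; exact orderOf_dvd_natCard _
    let _ : CommGroup W :=
      { (inferInstance : Group W) with mul_comm := fun a b => Subtype.ext (hWc a a.2 b b.2) }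
    have hfix := frob_core' (A := W) (H := G) (MulAut.conjNormal (H := W)) P0 (y : G) q hyq hq.pos
      (fun c hc => (Subgroup.mem_normalizer_iff.mp y.2 c).mp hc)
      (fun v hv => by
        have h3 := congrArg Subtype.val hv
        rw [MulAut.conjNormal_apply] at h3
        have hcomm : Commute (y : G) (v : G) := mul_inv_eq_iff_eq_mul.mp h3
        exact Subtype.ext (eq_one_of_commute N hcam hq hqN hyN (k := 1)
          (by rw [pow_one, hyq]; exact N.one_mem) (hWN v.2) hcomm))
      (fun c hc i hi0 hiq hcomm => by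
        have hyi : (y : G) ^ i ∉ N := by
          intro h
          apply hyN
          apply mem_of_pow_mem_of_coprime N (y : G) _ h (by rw [hyq]; exact N.one_mem : (y : G) ^ q ∈ N)
          exact ((Nat.Prime.coprime_iff_not_dvd hq).2 (Nat.not_dvd_of_pos_of_lt hi0 hiq)).symm
        exact eq_one_of_commute N hcam hq hqN hyi (k := 1)
          (by rw [pow_one, ← pow_mul, mul_comm, pow_mul, hyq, one_pow]; exact N.one_mem)
          hc.2 hcomm.symm)
      ⟨w, hw⟩ u hu
    have hcop : (Nat.card P0).Coprime (orderOf (⟨w, hw⟩ : W)) := by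
      obtain ⟨k, hk⟩ := IsPGroup.iff_card.mp hP0p
      obtain ⟨j, hj⟩ := IsPGroup.iff_card.mp (hRp.to_le hWR)
      rw [hk]
      apply Nat.Coprime.coprime_dvd_right (orderOf_dvd_natCard _)
      rw [hj]
      exact Nat.Coprime.pow _ _ ((Nat.coprime_primes hp hr).mpr hrp.symm)
    obtain ⟨m, hm⟩ := exists_pow_eq_self_of_coprime hcop
    have h5 : (MulAut.conjNormal (H := W) u) ⟨w, hw⟩ = ⟨w, hw⟩ := by
      conv_lhs => rw [← hm]
      rw [map_pow, hfix, hm]
    have h6 := congrArg Subtype.val h5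
    rw [MulAut.conjNormal_apply] at h6
    exact mul_inv_eq_iff_eq_mul.mp h6

/-- Let G be a finite group and N a proper non-trivial normal subgroup such that for every g outside N the conjugacy class of g is a union of cosets of N (equivalently gn is conjugate to g for every n ∈ N). Then either every element of G outside N acts fixed-point-freely on N (C_G(x) ≤ N for all x ∈ N, x ≠ 1, so G is a Frobenius group with kernel N), or N has prime-power order, or G/N has prime-power order. -/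
theorem result {G : Type*} [Group G] [Finite G] (N : Subgroup G) [N.Normal] (hN1 : N ≠ ⊥) (hN2 : N ≠ ⊤)
    (hcam : ∀ g : G, g ∉ N → ∀ n ∈ N, ∃ x : G, x * g * x⁻¹ = g * n) :
    (∀ x ∈ N, x ≠ 1 → Subgroup.centralizer ({x} : Set G) ≤ N) ∨ IsPrimePow (Nat.card N) ∨ IsPrimePow N.index := by
  exact main_aux _ G rfl N hN1 hN2 hcam

end Cfsg.Agent.S4140
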