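import Cfsg.Statements.S4145
import Cfsg.Agent.S2970
import Cfsg.Agent.S0072
import Cfsg.Agent.Lib.Helper2.PResidual

set_option autoImplicit false
open Cfsg

namespace Cfsg.Agent.S4145

open Cfsg.Agent.Lib.Helper77

theorem npc_of_cyclic {G : Type*} [Group G] [Finite G] {p : ℕ} [Fact p.Prime] (P : Sylow p G)
    (hP : IsCyclic (P : Subgroup G)) (B : Subgroup G) (hPB : (P : Subgroup G) ≤ B)
    (x : G) (hxP : x ∈ (P : Subgroup G)) (hx1 : x ≠ 1)
    (hw : ∀ w ∈ B, w ∈ Subgroup.normalizer ((P : Subgroup G) : Set G) → w * x = x * w) :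
    NPC p B := by
  rw [← Cfsg.Agent.S0072.hasNPC_iff]
  have hcyc : IsCyclic ↥((P.subtype hPB : Sylow p B) : Subgroup B) := by
    rw [Sylow.coe_subtype]
    exact isCyclic_of_surjective (Subgroup.subgroupOfEquivOfLe hPB).symm (MulEquiv.surjective _)
  apply Cfsg.Agent.Lib.Helper2.hasNormalPComplement_of_normalizer_le_centralizer (P.subtype hPB)
  apply Cfsg.Agent.S2970.normalizer_le_centralizer_of_cyclic (P.subtype hPB) hcyc
    (x := ⟨x, hPB hxP⟩)
  · rw [Sylow.coe_subtype, Subgroup.mem_subgroupOf]; exact hxP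
  · intro h; exact hx1 (congrArg Subtype.val h)
  · intro w hwn
    rw [Subgroup.mem_centralizer_singleton_iff]
    apply Subtype.ext
    simp only [Subgroup.coe_mul]
    apply hw w w.2
    rw [Subgroup.mem_normalizer_iff]
    rw [Sylow.coe_subtype, Subgroup.mem_normalizer_iff] at hwn
    intro h
    constructor
    · intro hh
      have := (hwn ⟨h, hPB hh⟩).mp (by rw [Subgroup.mem_subgroupOf]; exact hh)
      rw [Subgroup.mem_subgroupOf] at this
      simpa using this
    · intro hh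
      have hB : h ∈ B := by
        have h1 : h = (w : G)⁻¹ * ((w : G) * h * (w : G)⁻¹) * w := by group
        rw [h1]
        exact B.mul_mem (B.mul_mem (B.inv_mem w.2) (hPB hh)) w.2
      have := (hwn ⟨h, hB⟩).mpr (by rw [Subgroup.mem_subgroupOf]; simpa using hh)
      rw [Subgroup.mem_subgroupOf] at this
      exact this

theorem frobCond_of_le {G : Type*} [Group G] {p : ℕ} (A B : Subgroup G) (hAB : A ≤ B)
    (h : FrobCond p B) : FrobCond p A := by
  intro Q hQ g hg hgo
  have h1 := h (Q.map (Subgroup.inclusion hAB)) (hQ.map _) (Subgroup.inclusion hAB g)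
    (Subgroup.le_normalizer_map _ (Subgroup.mem_map_of_mem _ hg))
    (by rw [orderOf_injective _ (Subgroup.inclusion_injective hAB)]; exact hgo)
  rw [Subgroup.mem_centralizer_iff] at h1 ⊢
  intro q hq
  apply Subgroup.inclusion_injective hAB
  rw [map_mul, map_mul]
  exact h1 _ (Subgroup.mem_map_of_mem _ hq)

theorem isPSolvable_of_chain {G : Type*} [Group G] (p : ℕ) (K C : Subgroup G) [K.Normal] [C.Normal]
    (hKC : K ≤ C) (h1 : (Nat.card K).Coprime p) (h2 : ∃ m : ℕ, K.relIndex C = p ^ m)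
    (h3 : C.index.Coprime p) : Cfsg.IsPSolvable p G := by
  refine ⟨3, ![⊥, K, C, ⊤], rfl, rfl, ?_, ?_, ?_⟩
  · rw [Fin.monotone_iff_le_succ]
    intro i
    fin_cases i
    · exact bot_le
    · exact hKC
    · exact le_top
  · intro i
    fin_cases i
    · exact (inferInstance : (⊥ : Subgroup G).Normal)
    · exact (inferInstance : K.Normal)
    · exact (inferInstance : C.Normal)
    · exact (inferInstance : (⊤ : Subgroup G).Normal)
  · intro i
    fin_cases i
    · right
      change ((⊥ : Subgroup G).relIndex K).Coprime p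
      rw [Subgroup.relIndex_bot_left]; exact h1
    · left
      exact h2
    · right
      change (C.relIndex ⊤).Coprime p
      rw [Subgroup.relIndex_top_right]; exact h3

/-- the normal `p`-complement of a normal subgroup, as a normal subgroup of the whole group -/
theorem exists_normal_of_npc {G : Type*} [Group G] [Finite G] {p : ℕ} [Fact p.Prime] (B : Subgroup G)
    [B.Normal] (h : NPC p B) :
    ∃ K : Subgroup G, K.Normal ∧ K ≤ B ∧ (Nat.card K).Coprime p ∧ ∃ m : ℕ, K.relIndex B = p ^ m := by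
  obtain ⟨K, hKn, hKc, k, hk⟩ := h
  refine ⟨K.map B.subtype, ?_, ?_, ?_, k, ?_⟩
  · constructor
    intro n hn g
    obtain ⟨n', hn', rfl⟩ := Subgroup.mem_map.mp hn
    have hB : g * (n' : G) * g⁻¹ ∈ B := Subgroup.Normal.conj_mem inferInstance _ n'.2 _
    refine Subgroup.mem_map.mpr ⟨⟨_, hB⟩, ?_, rfl⟩
    apply mem_of_coprime_of_index_pow K hk
    have h1 : orderOf (⟨g * (n' : G) * g⁻¹, hB⟩ : B) = orderOf n' := by
      rw [← Subgroup.orderOf_coe, ← Subgroup.orderOf_coe]
      exact Cfsg.Agent.Lib.Helper2.orderOf_conj g (n' : G)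
    rw [h1]
    exact Nat.Coprime.coprime_dvd_left (Subgroup.orderOf_dvd_natCard K hn') hKc
  · exact Subgroup.map_subtype_le K
  · rw [Subgroup.card_map_of_injective B.subtype_injective]; exact hKc
  · rw [Subgroup.relIndex, Subgroup.subgroupOf, Subgroup.comap_map_eq_self_of_injective B.subtype_injective]
    exact hk

/-- Let G be a finite group with a cyclic Sylow p-subgroup and H a normal subgroup such that p divides both the order of H and the index of H. Then H has a normal p-complement and G is p-solvable. -/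
theorem result {G : Type*} [Group G] [Finite G] (p : ℕ) [Fact p.Prime]
    (P : Sylow p G) (hP : IsCyclic (P : Subgroup G)) (H : Subgroup G) [H.Normal] (h1 : p ∣ Nat.card H) (h2 : p ∣ H.index) :
    Cfsg.HasNormalPComplement p H ∧ Cfsg.IsPSolvable p G := by
  have hp : p.Prime := Fact.out
  obtain ⟨a, ha⟩ := IsCyclic.exists_generator (α := ↥(P : Subgroup G))
  have hgen : ∀ y ∈ (P : Subgroup G), ∃ s : ℤ, (a : G) ^ s = y := by
    intro y hy
    obtain ⟨s, hs⟩ := Subgroup.mem_zpowers_iff.1 (ha ⟨y, hy⟩)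
    exact ⟨s, by simpa using congrArg Subtype.val hs⟩
  obtain ⟨m, hm⟩ := P.2.exists_card_eq
  have hord : orderOf (a : G) = p ^ m := by
    rw [Subgroup.orderOf_coe, orderOf_eq_card_of_forall_mem_zpowers ha, hm]
  have hPH : ¬ (P : Subgroup G) ≤ H := by
    intro hle
    exact P.not_dvd_index (h2.trans (Subgroup.index_dvd_of_le hle))
  have haH : (a : G) ∉ H := by
    intro haH
    apply hPH
    intro y hy
    obtain ⟨s, rfl⟩ := hgen y hy
    exact H.zpow_mem haH s
  have hm0 : m ≠ 0 := by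
    rintro rfl
    rw [pow_zero, orderOf_eq_one_iff] at hord
    apply haH
    rw [hord]; exact H.one_mem
  obtain ⟨m', rfl⟩ := Nat.exists_eq_succ_of_ne_zero hm0
  set x : G := (a : G) ^ (p ^ m') with hx
  have hxP : x ∈ (P : Subgroup G) := Subgroup.pow_mem _ a.2 _
  have hxo : orderOf x = p := by
    rw [hx, orderOf_pow_of_dvd (pow_ne_zero _ hp.ne_zero) (by rw [hord]; exact pow_dvd_pow _ (Nat.le_succ _)),
      hord, pow_succ, Nat.mul_div_cancel_left _ (pow_pos hp.pos _)]
  have hx1 : x ≠ 1 := by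
    intro h
    rw [h, orderOf_one] at hxo
    exact hp.one_lt.ne hxo
  have hPcomm : ∀ u ∈ (P : Subgroup G), u * x = x * u := by
    intro u hu
    obtain ⟨s, rfl⟩ := hgen u hu
    rw [hx, ← zpow_natCast, ← zpow_add, ← zpow_add, add_comm]
  -- elements of `H` normalizing `P` centralize `x`
  have hHx : ∀ h ∈ H, h ∈ Subgroup.normalizer ((P : Subgroup G) : Set G) → h * x = x * h := by
    intro h hh hn
    obtain ⟨r, hr⟩ := hgen (h * a * h⁻¹) ((Subgroup.mem_normalizer_iff.mp hn a).mp a.2)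
    have hc : (a : G) ^ (r - 1) ∈ H := by
      rw [zpow_sub, zpow_one, hr]
      have : h * (a : G) * h⁻¹ * (a : G)⁻¹ = h * ((a : G) * h⁻¹ * (a : G)⁻¹) := by group
      rw [this]
      exact H.mul_mem hh (Subgroup.Normal.conj_mem inferInstance _ (H.inv_mem hh) _)
    have hdvd : (p : ℤ) ∣ r - 1 := by
      by_contra hnd
      have hcop : IsCoprime ((p : ℤ) ^ (m' + 1)) (r - 1) :=
        IsCoprime.pow_left ((Nat.prime_iff_prime_int.mp hp).coprime_iff_not_dvd.mpr hnd)
      obtain ⟨u, v, huv⟩ := hcop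
      apply haH
      have : (a : G) = ((a : G) ^ (r - 1)) ^ v := by
        have h3 : (a : G) ^ (u * (p : ℤ) ^ (m' + 1) + v * (r - 1)) = a := by rw [huv, zpow_one]
        rw [zpow_add, zpow_mul', mul_comm v, zpow_mul] at h3
        have h4 : (a : G) ^ ((p : ℤ) ^ (m' + 1)) = 1 := by
          have : ((p : ℤ) ^ (m' + 1)) = ((p ^ (m' + 1) : ℕ) : ℤ) := by push_cast; rfl
          rw [this, zpow_natCast, ← hord, pow_orderOf_eq_one]
        rw [h4, one_zpow, one_mul] at h3
        exact h3.symm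
      rw [this]
      exact H.zpow_mem hc v
    obtain ⟨t, ht⟩ := hdvd
    have hxr : x ^ r = x := by
      have : r = 1 + (p : ℤ) * t := by linarith
      rw [this, zpow_add, zpow_one, zpow_mul, zpow_natCast, ← hxo, pow_orderOf_eq_one, one_zpow, mul_one]
    have hconj : h * x * h⁻¹ = x := by
      calc h * x * h⁻¹ = (h * a * h⁻¹) ^ (p ^ m') := by rw [hx, conj_pow]
        _ = ((a : G) ^ r) ^ (p ^ m') := by rw [hr]
        _ = x ^ r := by
            rw [hx, ← zpow_natCast, ← zpow_natCast, ← zpow_mul, ← zpow_mul, mul_comm]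
        _ = x := hxr
    rw [mul_inv_eq_iff_eq_mul] at hconj
    exact hconj
  -- first part
  have hnpc1 : NPC p ↥(H ⊔ (P : Subgroup G)) := by
    apply npc_of_cyclic P hP _ le_sup_right x hxP hx1
    intro w hw hwn
    obtain ⟨h, hh, u, hu, rfl⟩ := Subgroup.mem_sup_of_normal_left.mp hw
    have hn : h ∈ Subgroup.normalizer ((P : Subgroup G) : Set G) := by
      have : h = h * u * u⁻¹ := by group
      rw [this]
      exact Subgroup.mul_mem _ hwn (Subgroup.inv_mem _ (Subgroup.le_normalizer hu))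
    rw [mul_assoc, hPcomm u hu, ← mul_assoc, hHx h hh hn, mul_assoc]
  have hnpcH : NPC p H := by
    rw [npc_iff_frobCond] at hnpc1 ⊢
    exact frobCond_of_le H _ le_sup_left hnpc1
  refine ⟨(Cfsg.Agent.S0072.hasNPC_iff p).mpr hnpcH, ?_⟩
  -- the normal p-complement of `H ⊔ P`, as a subgroup of `G`
  obtain ⟨K1, hK1n, hK1c, k1, hk1⟩ := hnpc1
  have hcompl := isComplement'_of_npc hK1c hk1 (P.subtype (le_sup_right : (P : Subgroup G) ≤ H ⊔ P))
  have hHidx : ∃ j : ℕ, (H.subgroupOf (H ⊔ (P : Subgroup G))).index = p ^ j := by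
    have h3 : (H.subgroupOf (H ⊔ (P : Subgroup G))).index ∣ p ^ (m' + 1) := by
      change H.relIndex (H ⊔ (P : Subgroup G)) ∣ _
      rw [Subgroup.relIndex_sup_left, ← hm]
      exact Subgroup.relIndex_dvd_card _ _
    obtain ⟨j, _, hj⟩ := (Nat.dvd_prime_pow hp).mp h3
    exact ⟨j, hj⟩
  obtain ⟨j, hj⟩ := hHidx
  set K : Subgroup G := K1.map (H ⊔ (P : Subgroup G)).subtype with hK
  have hKord : ∀ y ∈ K, (orderOf y).Coprime p := by
    intro y hy
    obtain ⟨y', hy', rfl⟩ := Subgroup.mem_map.mp hy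
    rw [Subgroup.coe_subtype, Subgroup.orderOf_coe]
    exact Nat.Coprime.coprime_dvd_left (Subgroup.orderOf_dvd_natCard K1 hy') hK1c
  have hKH : K ≤ H := by
    intro y hy
    have hyo := hKord y hy
    obtain ⟨y', hy', rfl⟩ := Subgroup.mem_map.mp hy
    have := mem_of_coprime_of_index_pow (H.subgroupOf (H ⊔ (P : Subgroup G))) hj y'
      (by rw [Subgroup.coe_subtype, Subgroup.orderOf_coe] at hyo; exact hyo)
    exact Subgroup.mem_subgroupOf.mp this
  have hKn : K.Normal := by
    constructor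
    intro y hy g
    have hyo := hKord y hy
    have hH : g * y * g⁻¹ ∈ H := Subgroup.Normal.conj_mem inferInstance _ (hKH hy) _
    refine Subgroup.mem_map.mpr ⟨⟨_, (le_sup_left : H ≤ H ⊔ (P : Subgroup G)) hH⟩, ?_, rfl⟩
    apply mem_of_coprime_of_index_pow K1 hk1
    rw [← Subgroup.orderOf_coe]
    change (orderOf (g * y * g⁻¹)).Coprime p
    rw [Cfsg.Agent.Lib.Helper2.orderOf_conj]
    exact hyo
  have hKP : ∀ y ∈ K, y ∈ (P : Subgroup G) → y = 1 := by
    intro y hyK hyP
    have h4 : orderOf y ∣ p ^ (m' + 1) := hm ▸ Subgroup.orderOf_dvd_natCard _ hyP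
    have h5 : orderOf y = 1 :=
      Nat.eq_one_of_dvd_coprimes (Nat.Coprime.pow_right _ (hKord y hyK)) (dvd_refl _) h4
    exact orderOf_eq_one_iff.mp h5
  have hdec : ∀ h ∈ H, ∃ k ∈ K, ∃ v ∈ (P : Subgroup G), k * v = h := by
    intro h hh
    have h3 : (⟨h, (le_sup_left : H ≤ H ⊔ (P : Subgroup G)) hh⟩ : ↥(H ⊔ (P : Subgroup G))) ∈
        K1 ⊔ ((P.subtype (le_sup_right : (P : Subgroup G) ≤ H ⊔ P) : Sylow p _) : Subgroup _) := by
      rw [hcompl.sup_eq_top]; trivial
    obtain ⟨k, hk, v, hv, hkv⟩ := Subgroup.mem_sup_of_normal_left.mp h3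
    refine ⟨k, Subgroup.mem_map_of_mem _ hk, v, ?_, congrArg Subtype.val hkv⟩
    rw [Sylow.coe_subtype, Subgroup.mem_subgroupOf] at hv
    exact hv
  -- a nontrivial element of `P ⊓ H`
  obtain ⟨z, hzP, hzH, hz1⟩ : ∃ z : G, z ∈ (P : Subgroup G) ∧ z ∈ H ∧ z ≠ 1 := by
    obtain ⟨z0, hz0⟩ := exists_prime_orderOf_dvd_card' p h1
    have hup : IsPGroup p (Subgroup.zpowers (z0 : G)) := by
      rw [IsPGroup.iff_card, Nat.card_zpowers, Subgroup.orderOf_coe, hz0]
      exact ⟨1, (pow_one p).symm⟩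
    obtain ⟨Q, hQ⟩ := hup.exists_le_sylow
    obtain ⟨g, hg⟩ := MulAction.exists_smul_eq G Q P
    refine ⟨g * z0 * g⁻¹, ?_, Subgroup.Normal.conj_mem inferInstance _ z0.2 _, ?_⟩
    · rw [← hg, Sylow.coe_subgroup_smul]
      have := Subgroup.smul_mem_pointwise_smul (z0 : G) (MulAut.conj g) (Q : Subgroup G)
        (hQ (Subgroup.mem_zpowers _))
      simpa using this
    · intro h
      have h3 : orderOf (g * (z0 : G) * g⁻¹) = p := by
        rw [Cfsg.Agent.Lib.Helper2.orderOf_conj, Subgroup.orderOf_coe, hz0]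
      rw [h, orderOf_one] at h3
      exact hp.one_lt.ne h3
  set C : Subgroup G := (Subgroup.centralizer ((H.map (QuotientGroup.mk' K) : Subgroup (G ⧸ K)) : Set (G ⧸ K))).comap
    (QuotientGroup.mk' K) with hC
  have hHbar : (H.map (QuotientGroup.mk' K)).Normal :=
    Subgroup.Normal.map inferInstance _ (QuotientGroup.mk'_surjective K)
  have hCn : C.Normal := by
    rw [hC]
    exact Subgroup.Normal.comap inferInstance _
  have hPC : (P : Subgroup G) ≤ C := by
    intro u hu
    rw [hC, Subgroup.mem_comap, Subgroup.mem_centralizer_iff]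
    intro y hy
    obtain ⟨h, hh, rfl⟩ := Subgroup.mem_map.mp hy
    obtain ⟨k, hk, v, hv, rfl⟩ := hdec h hh
    have hk1' : (QuotientGroup.mk' K) k = 1 := (QuotientGroup.eq_one_iff k).mpr hk
    rw [map_mul, hk1', one_mul, ← map_mul, ← map_mul]
    congr 1
    obtain ⟨s, rfl⟩ := hgen u hu
    obtain ⟨t, rfl⟩ := hgen v hv
    rw [← zpow_add, ← zpow_add, add_comm]
  have hnpcC : NPC p C := by
    apply npc_of_cyclic P hP C hPC z hzP hz1
    intro w hw hwn
    rw [hC, Subgroup.mem_comap, Subgroup.mem_centralizer_iff] at hw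
    have h3 := hw _ (Subgroup.mem_map_of_mem _ hzH)
    rw [← map_mul, ← map_mul] at h3
    have h4 : (z * w)⁻¹ * (w * z) ∈ K := QuotientGroup.eq.mp h3
    have h5 : (z * w)⁻¹ * (w * z) ∈ (P : Subgroup G) := by
      have : (z * w)⁻¹ * (w * z) = (w⁻¹ * z⁻¹ * w⁻¹⁻¹) * z := by group
      rw [this]
      refine Subgroup.mul_mem _ ?_ hzP
      exact (Subgroup.mem_normalizer_iff.mp (Subgroup.inv_mem _ hwn) _).mp (Subgroup.inv_mem _ hzP)
    have h6 := hKP _ h4 h5
    rw [inv_mul_eq_one] at h6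
    exact h6.symm
  obtain ⟨KC, hKCn, hKCC, hKCc, hrel⟩ := exists_normal_of_npc C hnpcC
  apply isPSolvable_of_chain p KC C hKCC hKCc hrel
  have h7 : ¬ p ∣ C.index := fun h => P.not_dvd_index (h.trans (Subgroup.index_dvd_of_le hPC))
  exact ((Nat.Prime.coprime_iff_not_dvd hp).mpr h7).symm

end Cfsg.Agent.S4145
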