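import Cfsg.Statements.S4231
import Mathlib
import Cfsg.Agent.Lib.Helper69.AutAlt
import Cfsg.Agent.S2466
import Cfsg.Agent.S2467

set_option autoImplicit false
open Cfsg

namespace Cfsg.Agent.S4231

open Equiv Equiv.Perm Cfsg.Agent.Lib.Helper69.AutAlt

theorem aux (n : ℕ) (hn : 5 ≤ n) (G : Subgroup (MulAut (alternatingGroup (Fin n))))
    (hG : (MulAut.conj : alternatingGroup (Fin n) →* MulAut (alternatingGroup (Fin n))).range ≤ G)
    (s r : ℕ) [hs : Fact s.Prime] [hr : Fact r.Prime] (hsr : s < r)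
    (h : ∀ g : G, orderOf g ≠ s * r) :
    ∀ Q : Sylow r G, IsMulCommutative (Q : Subgroup G) := by
  have hs2 : 2 ≤ s := hs.out.two_le
  have hr3 : 3 ≤ r := by omega
  have hinj := conjNormal_injective (n := n) (by omega)
  have hlt : n < r ^ 2 := by
    by_contra hcon
    have hle : r ^ 2 ≤ n := not_lt.1 hcon
    have hrn : r ≤ n := by nlinarith
    obtain ⟨x, hx⟩ : ∃ x : alternatingGroup (Fin n), orderOf x = s * r := by
      by_cases hs' : s = 2
      · have := (Cfsg.Agent.S2467.result n r (by omega) hr.out (by omega) hrn).2 (by nlinarith)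
        obtain ⟨x, hx⟩ := this
        exact ⟨x, by rw [hx, hs']⟩
      · have := (Cfsg.Agent.S2466.result n r s hr.out hs.out (by omega) hs' (by omega) hrn
          (by omega)).2 (by nlinarith)
        obtain ⟨x, hx⟩ := this
        exact ⟨x, by rw [hx, mul_comm]⟩
    apply h ⟨MulAut.conj x, hG ⟨x, rfl⟩⟩
    rw [← Subgroup.orderOf_coe]
    change orderOf (MulAut.conj x) = _
    rw [← MulAut.conjNormal_val, orderOf_injective _ hinj, Subgroup.orderOf_coe, hx]
  intro Q
  obtain ⟨R, hR⟩ : ∃ R : Subgroup (Perm (Fin n)), R = ((Q : Subgroup G).map G.subtype).comap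
      (MulAut.conjNormal : Perm (Fin n) →* MulAut (alternatingGroup (Fin n))) := ⟨_, rfl⟩
  have hRp : IsPGroup r R := by
    rw [hR]
    exact (Q.isPGroup'.map G.subtype).comap_of_injective _ hinj
  have hpre : ∀ a : G, a ∈ (Q : Subgroup G) → ∃ σ ∈ R, (MulAut.conjNormal σ : MulAut (alternatingGroup (Fin n))) = (a : MulAut (alternatingGroup (Fin n))) := by
    intro a ha
    obtain ⟨k, hk⟩ := Q.isPGroup' ⟨a, ha⟩
    have hk' : a ^ r ^ k = 1 := by
      have := congrArg Subtype.val hk
      simpa using this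
    have hodd : Odd (orderOf (a : MulAut (alternatingGroup (Fin n)))) := by
      rw [Subgroup.orderOf_coe]
      have hd : orderOf a ∣ r ^ k := orderOf_dvd_of_pow_eq_one hk'
      have : Odd (r ^ k) := (hr.out.odd_of_ne_two (by omega)).pow
      exact Odd.of_dvd_nat this hd
    obtain ⟨σ, hσ⟩ := mem_range_of_odd (by omega) _ hodd
    refine ⟨σ, ?_, hσ⟩
    rw [hR, Subgroup.mem_comap, hσ]
    exact ⟨a, ha, rfl⟩
  constructor
  constructor
  intro a b
  obtain ⟨σ, hσR, hσ⟩ := hpre a.1 a.2
  obtain ⟨τ, hτR, hτ⟩ := hpre b.1 b.2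
  apply Subtype.ext
  apply Subtype.ext
  simp only [Subgroup.coe_mul]
  rw [← hσ, ← hτ, ← map_mul, ← map_mul, comm_of_lt_sq r hlt R hRp σ τ hσR hτR]

/-- Let n ≥ 5 and let G be a group of automorphisms of the alternating group of degree n containing all inner automorphisms. If p ≠ q are primes and G has no element of order pq, then every Sylow p-subgroup of G is abelian or every Sylow q-subgroup of G is abelian. -/
theorem result (n : ℕ) (hn : 5 ≤ n) (G : Subgroup (MulAut (alternatingGroup (Fin n))))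
    (hG : (MulAut.conj : alternatingGroup (Fin n) →* MulAut (alternatingGroup (Fin n))).range ≤ G)
    (p q : ℕ) [Fact p.Prime] [Fact q.Prime] (hpq : p ≠ q) (h : ∀ g : G, orderOf g ≠ p * q) :
    (∀ P : Sylow p G, IsMulCommutative (P : Subgroup G)) ∨ (∀ Q : Sylow q G, IsMulCommutative (Q : Subgroup G)) := by
  rcases lt_or_gt_of_ne hpq with hlt | hlt
  · right
    exact aux n hn G hG p q hlt h
  · left
    exact aux n hn G hG q p hlt (fun g => by rw [mul_comm]; exact h g)

end Cfsg.Agent.S4231
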