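import Cfsg.Statements.S4234
import Cfsg.Agent.Lib.Helper7.PSL13C
import Cfsg.Agent.Lib.Helper7.NMaxGen
-- import your own Cfsg.Agent.* helpers here

set_option autoImplicit false
open Cfsg

namespace Cfsg.Agent.S4234

open Matrix MatrixGroups Subgroup Cfsg.Agent.Lib.Helper46 Cfsg.Agent.Lib.Helper18.SL2
open Cfsg.Agent.Lib.Helper7 Cfsg.Agent.Lib.Helper7.PMax Cfsg.Agent.Lib.Helper7.NMax

/-- Let K be isomorphic to PSL(2, 13) or to SL(2, 13) and let S be a finite abelian group of order coprime to the order of K. Then in the direct product K × S every subgroup that is not normal has a normalizer that is a maximal subgroup. -/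
theorem result {K S : Type*} [Group K] [CommGroup S] [Finite K] [Finite S]
    (hK : Nonempty (K ≃* Matrix.ProjectiveSpecialLinearGroup (Fin 2) (ZMod 13)) ∨
      Nonempty (K ≃* Matrix.SpecialLinearGroup (Fin 2) (ZMod 13)))
    (hKS : (Nat.card K).Coprime (Nat.card S)) (H : Subgroup (K × S)) (hH : ¬ H.Normal) :
    IsCoatom (Subgroup.normalizer (H : Set (K × S))) := by
  haveI : Fact (Nat.Prime 13) := ⟨by norm_num⟩
  have hF : Fintype.card (ZMod 13) = 13 := ZMod.card 13
  have h2 : (2 : ZMod 13) ≠ 0 := two_ne_zero_13 hF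
  have hP : NMax (Matrix.ProjectiveSpecialLinearGroup (Fin 2) (ZMod 13)) := nmax_psl13 hF
  have hK' : NMax K := by
    rcases hK with ⟨⟨e⟩⟩ | ⟨⟨e⟩⟩
    · exact nmax_congr e hP
    · apply nmax_congr e
      refine nmax_of_quot (center (Matrix.SpecialLinearGroup (Fin 2) (ZMod 13)))
        (zc_of_two_ne h2) ?_ hP
      intro x hx
      by_contra hxc
      exact mul_self_ne_one h2 hxc (by rw [← sq]; exact hx)
  exact nmax_prod hKS hK' H hH

end Cfsg.Agent.S4234
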