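import Cfsg.Statements.S4298
import Cfsg.Agent.Lib.Helper75.FrobConstruct

set_option autoImplicit false
open Cfsg

namespace Cfsg.Agent.S4298

/-- table of an embedding of SL(2,3) in SL(2,5), indexed by the base 3 digits of the entries -/
def tbl : List (ZMod 5 × ZMod 5 × ZMod 5 × ZMod 5) :=
  [(0, 0, 0, 0), (0, 0, 0, 0), (0, 0, 0, 0), (0, 0, 0, 0), (0, 0, 0, 0), (0, 0, 0, 0), (0, 0, 0, 0), (0, 0, 0, 0), (0, 0, 0, 0), (0, 0, 0, 0), (0, 0, 0, 0), (0, 0, 0, 0), (0, 0, 0, 0), (0, 0, 0, 0), (0, 0, 0, 0), (0, 4, 1, 0), (2, 4, 3, 4), (3, 2, 1, 1), (0, 0, 0, 0), (0, 0, 0, 0), (0, 0, 0, 0), (0, 1, 4, 0), (2, 3, 4, 4), (3, 1, 2, 1), (0, 0, 0, 0), (0, 0, 0, 0), (0, 0, 0, 0), (0, 0, 0, 0), (1, 0, 0, 1), (0, 0, 0, 0), (0, 0, 0, 0), (1, 2, 1, 3), (0, 0, 0, 0), (0, 0, 0, 0), (3, 3, 4, 1), (0, 0, 0, 0), (0, 0, 0, 0), (1, 1, 2, 3), (0, 0, 0, 0), (0, 0, 0, 0), (0,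 0, 0, 0), (0, 2, 2, 0), (4, 2, 1, 2), (0, 0, 0, 0), (0, 0, 0, 0), (0, 0, 0, 0), (3, 4, 3, 1), (0, 0, 0, 0), (4, 1, 2, 2), (0, 0, 0, 0), (0, 0, 0, 0), (0, 0, 0, 0), (0, 0, 0, 0), (3, 0, 0, 2), (0, 0, 0, 0), (0, 0, 0, 0), (4, 0, 0, 4), (0, 0, 0, 0), (0, 0, 0, 0), (2, 2, 1, 4), (0, 0, 0, 0), (0, 0, 0, 0), (4, 3, 4, 2), (0, 0, 0, 0), (0, 0, 0, 0), (2, 1, 2, 4), (0, 0, 0, 0), (2, 0, 0, 3), (0, 0, 0, 0), (1, 4, 3, 3), (0, 0, 0, 0), (0, 0, 0, 0), (0, 0, 0, 0), (0, 0, 0, 0), (4, 4, 3, 2), (1, 3, 4, 3), (0, 0, 0, 0), (0, 0, 0, 0), (0, 0, 0, 0), (0, 3, 3, 0), (0, 0, 0, 0)]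

def g (a b c d : ZMod 3) : ZMod 5 × ZMod 5 × ZMod 5 × ZMod 5 :=
  tbl.getD (27 * a.val + 9 * b.val + 3 * c.val + d.val) (0, 0, 0, 0)

def mul5 (x y : ZMod 5 × ZMod 5 × ZMod 5 × ZMod 5) : ZMod 5 × ZMod 5 × ZMod 5 × ZMod 5 :=
  (x.1 * y.1 + x.2.1 * y.2.2.1, x.1 * y.2.1 + x.2.1 * y.2.2.2,
   x.2.2.1 * y.1 + x.2.2.2 * y.2.2.1, x.2.2.1 * y.2.1 + x.2.2.2 * y.2.2.2)

theorem g_mul : ∀ a b c d a' b' c' d' : ZMod 3, a * d - b * c = 1 → a' * d' - b' * c' = 1 →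
    g (a * a' + b * c') (a * b' + b * d') (c * a' + d * c') (c * b' + d * d')
      = mul5 (g a b c d) (g a' b' c' d') := by
  decide +kernel

theorem g_one : g 1 0 0 1 = (1, 0, 0, 1) := by decide +kernel

theorem g_fpf : ∀ a b c d : ZMod 3, a * d - b * c = 1 → ¬ (a = 1 ∧ b = 0 ∧ c = 0 ∧ d = 1) →
    ∀ v w : ZMod 5, (g a b c d).1 * v + (g a b c d).2.1 * w = v →
      (g a b c d).2.2.1 * v + (g a b c d).2.2.2 * w = w → v = 0 ∧ w = 0 := by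
  decide +kernel

def toMat (t : ZMod 5 × ZMod 5 × ZMod 5 × ZMod 5) : Matrix (Fin 2) (Fin 2) (ZMod 5) :=
  !![t.1, t.2.1; t.2.2.1, t.2.2.2]

theorem toMat_mul5 (x y : ZMod 5 × ZMod 5 × ZMod 5 × ZMod 5) : toMat (mul5 x y) = toMat x * toMat y := by
  simp [toMat, mul5]

/-- the embedding as a monoid hom into matrices -/
def rho : Matrix.SpecialLinearGroup (Fin 2) (ZMod 3) →* Matrix (Fin 2) (Fin 2) (ZMod 5) where
  toFun x := toMat (g (x.1 0 0) (x.1 0 1) (x.1 1 0) (x.1 1 1))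
  map_one' := by
    have : g ((1 : Matrix.SpecialLinearGroup (Fin 2) (ZMod 3)).1 0 0)
        ((1 : Matrix.SpecialLinearGroup (Fin 2) (ZMod 3)).1 0 1)
        ((1 : Matrix.SpecialLinearGroup (Fin 2) (ZMod 3)).1 1 0)
        ((1 : Matrix.SpecialLinearGroup (Fin 2) (ZMod 3)).1 1 1) = g 1 0 0 1 := by
      simp
    rw [this, g_one]
    simp [toMat, Matrix.one_fin_two]
  map_mul' x y := by
    have hx : x.1 0 0 * x.1 1 1 - x.1 0 1 * x.1 1 0 = 1 := by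
      have := x.2; rwa [Matrix.det_fin_two] at this
    have hy : y.1 0 0 * y.1 1 1 - y.1 0 1 * y.1 1 0 = 1 := by
      have := y.2; rwa [Matrix.det_fin_two] at this
    rw [← toMat_mul5, ← g_mul _ _ _ _ _ _ _ _ hx hy]
    have h : (x * y).1 = x.1 * y.1 := rfl
    simp only [h, Matrix.mul_apply, Fin.sum_univ_two]

/-- The group SL(2,3) of order 24 (the binary tetrahedral group) occurs as a Frobenius complement of some finite Frobenius group. -/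
theorem result :
    ∃ (L : Type) (_ : Group L) (_ : Finite L) (H : Subgroup L), Cfsg.IsFrobeniusComplement H ∧ Nonempty (H ≃* Matrix.SpecialLinearGroup (Fin 2) (ZMod 3)) := by
  classical
  have : Fact (Nat.Prime 5) := ⟨by norm_num⟩
  let ι : Matrix.SpecialLinearGroup (Fin 2) (ZMod 3) →* Module.End (ZMod 5) (Fin 2 → ZMod 5) :=
    (MonoidHomClass.toMonoidHom (Matrix.toLinAlgEquiv' :
      Matrix (Fin 2) (Fin 2) (ZMod 5) ≃ₐ[ZMod 5] ((Fin 2 → ZMod 5) →ₗ[ZMod 5] (Fin 2 → ZMod 5)))).comp rho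
  have hι : ∀ x v, ι x • v = (rho x).mulVec v := fun x v => rfl
  have hnt : Nontrivial (Matrix.SpecialLinearGroup (Fin 2) (ZMod 3)) := by
    refine ⟨⟨1, -1, ?_⟩⟩
    intro h
    have := congrArg (fun z : Matrix.SpecialLinearGroup (Fin 2) (ZMod 3) => z.1 0 0) h
    revert this
    simp
    decide
  obtain ⟨L, h1, h2, C, hC, ⟨e⟩, -⟩ := Cfsg.Agent.Lib.Helper75.exists_frobenius_of_module
    (M := Fin 2 → ZMod 5) ι (by
    intro x hx v hv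
    rw [hι] at hv
    have hdet : x.1 0 0 * x.1 1 1 - x.1 0 1 * x.1 1 0 = 1 := by
      have := x.2; rwa [Matrix.det_fin_two] at this
    have hne : ¬ (x.1 0 0 = 1 ∧ x.1 0 1 = 0 ∧ x.1 1 0 = 0 ∧ x.1 1 1 = 1) := by
      rintro ⟨a, b, c, d⟩
      apply hx
      ext i j
      fin_cases i <;> fin_cases j <;> simp [a, b, c, d]
    have h0 := congrFun hv 0
    have h1 := congrFun hv 1
    simp only [rho, MonoidHom.coe_mk, OneHom.coe_mk, toMat, Matrix.mulVec, dotProduct, Fin.sum_univ_two,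
      Matrix.of_apply, Matrix.cons_val_zero, Matrix.cons_val_one, Matrix.cons_val', Matrix.cons_val_fin_one] at h0 h1
    obtain ⟨hv0, hv1⟩ := g_fpf _ _ _ _ hdet hne (v 0) (v 1) h0 h1
    ext i
    fin_cases i
    · exact hv0
    · exact hv1)
  exact ⟨L, h1, h2, C, hC, ⟨e.symm⟩⟩

end Cfsg.Agent.S4298
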