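import Cfsg.Statements.S4348
-- import your own Cfsg.Agent.* helpers here

set_option autoImplicit false
open Cfsg

namespace Cfsg.Agent.S4348

/-- Let G be a finite group, p a prime and P a Sylow p-subgroup of G, and let O_p(G) be the largest normal p-subgroup of G. If P/O_p(G) is cyclic, then some element of p-power order of G lies in exactly one Sylow p-subgroup. -/
theorem result {G : Type*} [Group G] [Finite G]
    (p : ℕ) [Fact p.Prime] (P : Sylow p G)
    [hn : ((Cfsg.pCore p G).subgroupOf (P : Subgroup G)).Normal]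
    (hc : IsCyclic ((P : Subgroup G) ⧸ (Cfsg.pCore p G).subgroupOf (P : Subgroup G))) :
    ∃ x : G, (∃ k : ℕ, orderOf x = p ^ k) ∧ ∃! Q : Sylow p G, x ∈ Q := by
  obtain ⟨gbar, hgbar⟩ := hc.exists_generator
  obtain ⟨x, rfl⟩ := QuotientGroup.mk_surjective gbar
  have hcore : ∀ Q : Sylow p G, Cfsg.pCore p G ≤ Q := by
    intro Q
    apply sSup_le
    rintro N ⟨hN1, hN2⟩
    exact hN2.le_sylow_of_normal Q
  refine ⟨(x : G), ?_, P, x.2, ?_⟩
  · obtain ⟨k, hk⟩ := P.isPGroup' x
    have h1 : (x : G) ^ p ^ k = 1 := by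
      have := congrArg Subtype.val hk
      simpa using this
    obtain ⟨j, _, hj⟩ := (Nat.dvd_prime_pow Fact.out).1 (orderOf_dvd_of_pow_eq_one h1)
    exact ⟨j, hj⟩
  · intro Q hxQ
    apply Sylow.ext
    apply P.is_maximal' Q.isPGroup'
    intro y hy
    have h1 := hgbar (QuotientGroup.mk (⟨y, hy⟩ : (P : Subgroup G)))
    obtain ⟨k, hk⟩ := Subgroup.mem_zpowers_iff.1 h1
    rw [← QuotientGroup.mk_zpow, QuotientGroup.eq] at hk
    rw [Subgroup.mem_subgroupOf] at hk
    have h2 := hcore Q hk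
    have h3 : (x : G) ^ k ∈ (Q : Subgroup G) := Subgroup.zpow_mem _ hxQ k
    have h4 := Subgroup.mul_mem _ h3 h2
    simpa using h4

end Cfsg.Agent.S4348
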