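import Cfsg.Statements.S4349
import Cfsg.Agent.Lib.Helper46.USyl.Main

set_option autoImplicit false
open Cfsg

namespace Cfsg.Agent.S4349

/-- Let n ≥ 2 and let x be an element of 2-power order of the symmetric group of degree n. Then x lies in exactly one Sylow 2-subgroup if and only if x has at most two fixed points and the nontrivial cycles of x have pairwise different lengths. -/
theorem result (n : ℕ) (hn : 2 ≤ n)
    (x : Equiv.Perm (Fin n)) (hx : ∃ k : ℕ, orderOf x = 2 ^ k) :
    (∃! P : Sylow 2 (Equiv.Perm (Fin n)), x ∈ P) ↔ (n ≤ x.support.card + 2 ∧ x.cycleType.Nodup) := by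
  classical
  constructor
  · intro h
    obtain ⟨h1, h2⟩ := Cfsg.Agent.Lib.Helper46.USyl.good_of_unique x hx h
    refine ⟨?_, (Cfsg.Agent.Lib.Helper46.USyl.g1_iff x).mp h1⟩
    have := (Cfsg.Agent.Lib.Helper46.USyl.g2_iff x).mp h2
    simpa using this
  · rintro ⟨h2, h1⟩
    have g1 := (Cfsg.Agent.Lib.Helper46.USyl.g1_iff x).mpr h1
    have g2 := (Cfsg.Agent.Lib.Helper46.USyl.g2_iff x).mpr (by simpa using h2)
    have hp : IsPGroup 2 (Subgroup.zpowers x) := by
      obtain ⟨k, hk⟩ := hx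
      apply IsPGroup.of_card (n := k)
      rw [Nat.card_zpowers, hk]
    obtain ⟨P, hP⟩ := hp.exists_le_sylow
    have hxP : x ∈ P := hP (Subgroup.mem_zpowers x)
    refine ⟨P, hxP, ?_⟩
    intro Q hQ
    exact Cfsg.Agent.Lib.Helper46.USyl.unique_aux n (Fin n) (Fintype.card_fin n) x g1 g2 Q P hQ hxP

end Cfsg.Agent.S4349
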