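import Cfsg.Statements.S4355
import Cfsg.Agent.S5274
import Cfsg.Agent.S5076

set_option autoImplicit false
open Cfsg

namespace Cfsg.Agent.S4355

theorem result {G : Type*} [Group G] [Finite G]
    (h : ∀ x : G, (∃ k : ℕ, orderOf x = 2 ^ k) → ¬ 2 ∣ (Subgroup.centralizer ({x} : Set G)).index) (P : Sylow 2 G) :
    IsMulCommutative P := by
  have : Fact (Nat.Prime 2) := ⟨Nat.prime_two⟩
  refine Cfsg.Agent.S5274.result (S := (P : Subgroup G)) P.2 (Cfsg.groupFusionSystem (P : Subgroup G))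
    (Cfsg.Agent.S5076.result 2 P) ?_
  intro x hx
  have hxo : ∃ k : ℕ, orderOf x = 2 ^ k := by
    obtain ⟨k, hk⟩ := (IsPGroup.iff_orderOf.1 P.2) ⟨x, hx⟩
    exact ⟨k, by rw [← hk, Subgroup.orderOf_mk]⟩
  have hodd := h x hxo
  obtain ⟨C, hC⟩ : ∃ C : Subgroup G, C = Subgroup.centralizer ({x} : Set G) := ⟨_, rfl⟩
  rw [← hC] at hodd
  have hfix := P.2.nonempty_fixed_point_of_prime_not_dvd_card (G ⧸ C) (by rwa [← Subgroup.index])
  obtain ⟨q, hq⟩ := hfix
  obtain ⟨g, rfl⟩ := QuotientGroup.mk_surjective q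
  have hg : ∀ s ∈ (P : Subgroup G), g⁻¹ * s * g ∈ C := by
    intro s hs
    have := hq ⟨s, hs⟩
    have e : ((s * g : G) : G ⧸ C) = (g : G ⧸ C) := this
    have := QuotientGroup.eq.1 e.symm
    rwa [← mul_assoc] at this
  have hz : ∀ s ∈ (P : Subgroup G), s * (g * x * g⁻¹) = (g * x * g⁻¹) * s := by
    intro s hs
    have := hg s hs
    rw [hC, Subgroup.mem_centralizer_singleton_iff] at this
    calc s * (g * x * g⁻¹) = g * (g⁻¹ * s * g * x) * g⁻¹ := by group
      _ = g * (x * (g⁻¹ * s * g)) * g⁻¹ := by rw [this]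
      _ = (g * x * g⁻¹) * s := by group
  obtain ⟨z, hzdef⟩ : ∃ z : G, z = g * x * g⁻¹ := ⟨_, rfl⟩
  rw [← hzdef] at hz
  have hzo : IsPGroup 2 (Subgroup.zpowers z) := by
    obtain ⟨k, hk⟩ := hxo
    rw [IsPGroup.iff_card]
    refine ⟨k, ?_⟩
    rw [Nat.card_zpowers, hzdef, ← hk]
    exact (MulAut.conj g).orderOf_eq x
  have hzN : Subgroup.zpowers z ≤ Subgroup.normalizer ((P : Subgroup G) : Set G) := by
    rw [Subgroup.zpowers_le, Subgroup.mem_normalizer_iff]
    intro s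
    constructor
    · intro hs
      rw [← hz s hs, mul_inv_cancel_right]; exact hs
    · intro hs
      have := hz _ hs
      have e : z * s * z⁻¹ * z = z * s := by group
      rw [e] at this
      have e2 : s = z * s * z⁻¹ := mul_left_cancel this
      rw [e2]; exact hs
  have hsup : IsPGroup 2 (Subgroup.zpowers z ⊔ (P : Subgroup G) : Subgroup G) :=
    IsPGroup.to_sup_of_normal_right' hzo P.2 hzN
  have hmax := P.is_maximal' hsup le_sup_right
  have hzP : z ∈ (P : Subgroup G) := by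
    rw [← hmax]
    exact (le_sup_left : Subgroup.zpowers z ≤ _) (Subgroup.mem_zpowers z)
  refine ⟨z, (Cfsg.Agent.S5274.mem_ZS_iff z).2 ⟨hzP, hz⟩, Cfsg.conjHom (Subgroup.zpowers x) g, ?_, ?_⟩
  · refine ⟨by rwa [Subgroup.zpowers_le], fun y => ?_, g, fun y => rfl⟩
    obtain ⟨n, hn⟩ := Subgroup.mem_zpowers_iff.1 y.2
    change g * (y : G) * g⁻¹ ∈ (P : Subgroup G)
    rw [← hn, ← conj_zpow, ← hzdef]
    exact Subgroup.zpow_mem _ hzP n
  · exact hzdef.symm

end Cfsg.Agent.S4355
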