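import Cfsg.Statements.S4356
import Cfsg.Agent.Lib.Helper7.SL2Red4
-- import your own Cfsg.Agent.* helpers here

set_option autoImplicit false
open Cfsg

namespace Cfsg.Agent.S4356

open Matrix MatrixGroups Subgroup Cfsg.Agent.Lib.Helper46 Cfsg.Agent.Lib.Helper18.SL2
open Cfsg.Agent.Lib.Helper7 Cfsg.Agent.Lib.Helper7.PMax

variable {F : Type*} [Field F] [Fintype F]

theorem center_le_sylow (P : Sylow 2 (SpecialLinearGroup (Fin 2) F)) :
    center (SpecialLinearGroup (Fin 2) F) ≤ P := by
  apply IsPGroup.le_sylow_of_normal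
  intro z
  refine ⟨1, ?_⟩
  apply Subtype.ext
  rw [pow_one, pow_two]
  show z.1 * z.1 = 1
  rcases Cfsg.Agent.Lib.Helper46.eq_one_or_negOne_of_mem_center z.1 z.2 with h | h
  · rw [h, one_mul]
  · rw [h, negOne_mul_self]

theorem mk_surj : Function.Surjective
    (QuotientGroup.mk' (center (SpecialLinearGroup (Fin 2) F))) := QuotientGroup.mk'_surjective _

/-- Let F be a finite field with q elements, p a prime and G = PSL(2, F). Say a Sylow p-subgroup Q of G is redundant when every element of p-power order lies in some Sylow p-subgroup other than Q. Then G has a redundant Sylow p-subgroup if and only if p = 2 and q is not of any of the forms 2ᵏ - 1, 2ᵏ, 2ᵏ + 1. -/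
theorem result {F : Type*} [Field F] [Fintype F] (p : ℕ) [Fact p.Prime] :
    (∃ Q : Sylow p (Matrix.ProjectiveSpecialLinearGroup (Fin 2) F), ∀ x : Matrix.ProjectiveSpecialLinearGroup (Fin 2) F,
        (∃ k : ℕ, orderOf x = p ^ k) → ∃ P : Sylow p (Matrix.ProjectiveSpecialLinearGroup (Fin 2) F), P ≠ Q ∧ x ∈ P) ↔
      (p = 2 ∧ (¬ ∃ k : ℕ, Fintype.card F + 1 = 2 ^ k) ∧ (¬ ∃ k : ℕ, Fintype.card F = 2 ^ k) ∧
        ¬ ∃ k : ℕ, Fintype.card F = 2 ^ k + 1) := by
  constructor
  · rintro ⟨Q', hQ⟩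
    obtain ⟨Q, rfl⟩ := Sylow.mapSurjective_surjective (mk_surj (F := F)) p Q'
    by_contra hcon
    have h : p ≠ 2 ∨ (∃ k : ℕ, Fintype.card F + 1 = 2 ^ k) ∨ (∃ k : ℕ, Fintype.card F = 2 ^ k) ∨
        ∃ k : ℕ, Fintype.card F = 2 ^ k + 1 := by
      by_contra h'
      push Not at h'
      apply hcon
      refine ⟨h'.1, ?_, ?_, ?_⟩
      · rintro ⟨k, hk⟩; exact h'.2.1 k hk
      · rintro ⟨k, hk⟩; exact h'.2.2.1 k hk
      · rintro ⟨k, hk⟩; exact h'.2.2.2 k hk
    obtain ⟨x, ⟨k, hk⟩, hpin⟩ := exists_pin h Q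
    have hord : ∃ j : ℕ, orderOf (QuotientGroup.mk' (center (SpecialLinearGroup (Fin 2) F)) x) =
        p ^ j := by
      have h1 := orderOf_map_dvd (QuotientGroup.mk' (center (SpecialLinearGroup (Fin 2) F))) x
      rw [hk] at h1
      obtain ⟨j, -, hj⟩ := (Nat.dvd_prime_pow (Fact.out : p.Prime)).1 h1
      exact ⟨j, hj⟩
    obtain ⟨P', hPQ, hxP⟩ := hQ _ hord
    obtain ⟨P, rfl⟩ := Sylow.mapSurjective_surjective (mk_surj (F := F)) p P'
    apply hPQ
    congr 1
    apply hpin
    obtain ⟨a, ha, hax⟩ : ∃ a ∈ P, QuotientGroup.mk' (center (SpecialLinearGroup (Fin 2) F)) a =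
        QuotientGroup.mk' (center (SpecialLinearGroup (Fin 2) F)) x := hxP
    have hz : a⁻¹ * x ∈ center (SpecialLinearGroup (Fin 2) F) := by
      rw [← QuotientGroup.eq_one_iff]
      have : (QuotientGroup.mk (a⁻¹ * x) : ProjectiveSpecialLinearGroup (Fin 2) F) =
          (QuotientGroup.mk' (center (SpecialLinearGroup (Fin 2) F)) a)⁻¹ *
            QuotientGroup.mk' (center (SpecialLinearGroup (Fin 2) F)) x := rfl
      rw [this, hax, inv_mul_cancel]
    have hxa : x = a * (a⁻¹ * x) := by group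
    by_cases hp2 : p = 2
    · subst hp2
      rw [hxa]
      exact mul_mem ha (center_le_sylow P hz)
    · by_cases hz1 : a⁻¹ * x = 1
      · rw [hxa, hz1, mul_one]; exact ha
      · exfalso
        obtain ⟨m, hm⟩ := exists_orderOf_of_mem ha
        have hc : Commute a⁻¹ x := by
          have h1 := mem_center_iff.1 hz a
          have h2 : a * a⁻¹ * x = a⁻¹ * x * a := by rw [mul_assoc]; exact h1
          rw [mul_inv_cancel, one_mul] at h2
          show a⁻¹ * x = x * a⁻¹
          have := congrArg (· * a⁻¹) h2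
          simpa [mul_assoc] using this.symm
        have hpow : (a⁻¹ * x) ^ p ^ (m + k) = 1 := by
          rw [hc.mul_pow, inv_pow, pow_add, pow_mul, ← hm, pow_orderOf_eq_one, one_pow, inv_one,
            one_mul, mul_comm, pow_mul, ← hk, pow_orderOf_eq_one, one_pow]
        exact not_mem_center_of_pow (Fact.out : p.Prime) (Or.inl hp2) hz1 hpow hz
  · rintro ⟨rfl, h1, h2', h3⟩
    have h2 : (2 : F) ≠ 0 := fun h => h2' (exists_two_pow_of_two_eq h)
    refine ⟨default, fun x hx => ?_⟩
    induction x using QuotientGroup.induction_on with | H x =>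
    obtain ⟨k, hk⟩ := hx
    have hx' : ∃ j : ℕ, orderOf x = 2 ^ j := by
      have h4 : x ^ 2 ^ k ∈ center (SpecialLinearGroup (Fin 2) F) := by
        rw [← QuotientGroup.eq_one_iff, QuotientGroup.mk_pow, ← hk]
        exact pow_orderOf_eq_one _
      have h5 : x ^ 2 ^ (k + 1) = 1 := by
        rw [pow_succ, pow_mul, pow_two]
        rcases Cfsg.Agent.Lib.Helper46.eq_one_or_negOne_of_mem_center _ h4 with h | h
        · rw [h, one_mul]
        · rw [h, negOne_mul_self]
      obtain ⟨j, -, hj⟩ := (Nat.dvd_prime_pow Nat.prime_two).1 (orderOf_dvd_of_pow_eq_one h5)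
      exact ⟨j, hj⟩
    obtain ⟨P₁, P₂, hne, m1, m2⟩ := two_sylows_all h2 h1 h3 x hx'
    have hne' : P₁.mapSurjective (mk_surj (F := F)) ≠ P₂.mapSurjective (mk_surj (F := F)) := by
      intro h
      apply hne
      have h4 : (P₁ : Subgroup (SpecialLinearGroup (Fin 2) F)).map
          (QuotientGroup.mk' (center (SpecialLinearGroup (Fin 2) F))) =
          (P₂ : Subgroup (SpecialLinearGroup (Fin 2) F)).map
          (QuotientGroup.mk' (center (SpecialLinearGroup (Fin 2) F))) := congrArg (·.1) h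
      have h5 := congrArg (Subgroup.comap
        (QuotientGroup.mk' (center (SpecialLinearGroup (Fin 2) F)))) h4
      rw [Subgroup.comap_map_eq, Subgroup.comap_map_eq, QuotientGroup.ker_mk',
        sup_eq_left.2 (center_le_sylow P₁), sup_eq_left.2 (center_le_sylow P₂)] at h5
      exact Sylow.ext h5
    have n1 : (QuotientGroup.mk x : ProjectiveSpecialLinearGroup (Fin 2) F) ∈
        P₁.mapSurjective (mk_surj (F := F)) := ⟨x, m1, rfl⟩
    have n2 : (QuotientGroup.mk x : ProjectiveSpecialLinearGroup (Fin 2) F) ∈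
        P₂.mapSurjective (mk_surj (F := F)) := ⟨x, m2, rfl⟩
    by_cases hP : P₁.mapSurjective (mk_surj (F := F)) = default
    · exact ⟨_, fun h => hne' (hP.trans h.symm), n2⟩
    · exact ⟨_, hP, n1⟩

end Cfsg.Agent.S4356
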