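import Cfsg.Statements.S4357
import Cfsg.Agent.Lib.Helper7.SL2Red4
-- import your own Cfsg.Agent.* helpers here

set_option autoImplicit false
open Cfsg

namespace Cfsg.Agent.S4357

open Matrix MatrixGroups Subgroup Cfsg.Agent.Lib.Helper46 Cfsg.Agent.Lib.Helper18.SL2
open Cfsg.Agent.Lib.Helper7 Cfsg.Agent.Lib.Helper7.PMax

/-- Let F be a finite field with q elements, p a prime and G = SL(2, F). Say a Sylow p-subgroup Q of G is redundant when every element of p-power order lies in some Sylow p-subgroup other than Q. Then G has a redundant Sylow p-subgroup if and only if p = 2 and q is not of any of the forms 2ᵏ - 1, 2ᵏ, 2ᵏ + 1. -/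
theorem result {F : Type*} [Field F] [Fintype F] (p : ℕ) [Fact p.Prime] :
    (∃ Q : Sylow p (Matrix.SpecialLinearGroup (Fin 2) F), ∀ x : Matrix.SpecialLinearGroup (Fin 2) F,
        (∃ k : ℕ, orderOf x = p ^ k) → ∃ P : Sylow p (Matrix.SpecialLinearGroup (Fin 2) F), P ≠ Q ∧ x ∈ P) ↔
      (p = 2 ∧ (¬ ∃ k : ℕ, Fintype.card F + 1 = 2 ^ k) ∧ (¬ ∃ k : ℕ, Fintype.card F = 2 ^ k) ∧
        ¬ ∃ k : ℕ, Fintype.card F = 2 ^ k + 1) := by
  constructor
  · rintro ⟨Q, hQ⟩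
    by_contra hcon
    have h : p ≠ 2 ∨ (∃ k : ℕ, Fintype.card F + 1 = 2 ^ k) ∨ (∃ k : ℕ, Fintype.card F = 2 ^ k) ∨
        ∃ k : ℕ, Fintype.card F = 2 ^ k + 1 := by
      by_contra h'
      push Not at h'
      apply hcon
      refine ⟨h'.1, ?_, ?_, ?_⟩
      · rintro ⟨k, hk⟩; exact h'.2.1 k hk
      · rintro ⟨k, hk⟩; exact h'.2.2.1 k hk
      · rintro ⟨k, hk⟩; exact h'.2.2.2 k hk
    obtain ⟨x, hx, hpin⟩ := exists_pin h Q
    obtain ⟨P, hPQ, hxP⟩ := hQ x hx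
    exact hPQ (hpin P hxP)
  · rintro ⟨rfl, h1, h2', h3⟩
    have h2 : (2 : F) ≠ 0 := fun h => h2' (exists_two_pow_of_two_eq h)
    refine ⟨default, fun x hx => ?_⟩
    obtain ⟨P₁, P₂, hne, m1, m2⟩ := two_sylows_all h2 h1 h3 x hx
    by_cases hP : P₁ = default
    · exact ⟨P₂, fun h => hne (hP.trans h.symm), m2⟩
    · exact ⟨P₁, hP, m1⟩

end Cfsg.Agent.S4357
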