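import Cfsg.Statements.S4398
import Cfsg.Agent.Lib.Helper68.MT6

set_option autoImplicit false
open Cfsg

namespace Cfsg.Agent.S4398

open Subgroup Cfsg.Agent.Lib.Helper68.MT Cfsg.Agent.Lib.Helper59

/-- Sections of exponent two have order at most four. -/
theorem card_le_of_sq' {P : Type*} [Group P] [Finite P] (hr : Cfsg.SectionalPRankLE 2 2 P)
    (E Z : Subgroup P) (hZE : Z ≤ E)
    (hn : ∀ e ∈ E, ∀ z ∈ Z, e * z * e⁻¹ ∈ Z) (hsq : ∀ e ∈ E, e ^ 2 ∈ Z) :
    Nat.card E ≤ 4 * Nat.card Z := by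
  have hnorm : (Z.subgroupOf E).Normal := by
    constructor
    intro z hz e
    rw [mem_subgroupOf] at hz ⊢
    exact hn e e.2 z hz
  have hexp : ∀ v : E ⧸ Z.subgroupOf E, v ^ 2 = 1 := by
    intro v
    induction v using QuotientGroup.induction_on with
    | H e =>
      rw [← QuotientGroup.mk_pow, QuotientGroup.eq_one_iff, mem_subgroupOf]
      exact hsq e e.2
  have hcomm : ∀ v w : E ⧸ Z.subgroupOf E, v * w = w * v := by
    intro v w
    have h1 := hexp (v * w)
    have h2 := hexp v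
    have h3 := hexp w
    calc v * w = w ^ 2 * (v * w) * v ^ 2 := by rw [h2, h3, one_mul, mul_one]
      _ = w * (w * v) ^ 2 * v := by simp only [pow_two]; group
      _ = w * v := by rw [hexp, mul_one]
  have h1 := hr E (Z.subgroupOf E) ⊤ ⟨⟨fun a b => Subtype.ext (hcomm a b)⟩⟩ (fun a _ => hexp a)
  rw [Subgroup.card_top] at h1
  have h2 := Subgroup.card_eq_card_quotient_mul_card_subgroup (Z.subgroupOf E)
  have h3 : Nat.card (Z.subgroupOf E) = Nat.card Z :=
    Nat.card_congr (Subgroup.subgroupOfEquivOfLe hZE).toEquiv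
  rw [h2, h3]
  exact Nat.mul_le_mul_right _ (by omega)

theorem centralizer_le' {P : Type*} [Group P] [Finite P] (hP : IsPGroup 2 P)
    (hr : Cfsg.SectionalPRankLE 2 2 P) (B : Subgroup P) (hB : Nat.card B = 2 ^ 3)
    (hna : ¬ IsMulCommutative B) : centralizer (B : Set P) ≤ B := by
  by_contra hcon
  obtain ⟨c0, hc0, hc0B⟩ := SetLike.not_le_iff_exists.1 hcon
  obtain ⟨c, hc, hcB, hc2⟩ : ∃ c ∈ centralizer (B : Set P), c ∉ B ∧ c ^ 2 ∈ B := by
    classical
    obtain ⟨m, hm'⟩ := hP c0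
    have hex : ∃ j, c0 ^ (2 ^ j) ∈ B := ⟨m, hm' ▸ one_mem B⟩
    have hj : c0 ^ (2 ^ (Nat.find hex)) ∈ B := Nat.find_spec hex
    have hj0 : Nat.find hex ≠ 0 := by
      intro h
      rw [h] at hj
      simp only [pow_zero, pow_one] at hj
      exact hc0B hj
    obtain ⟨j', hj'⟩ := Nat.exists_eq_succ_of_ne_zero hj0
    refine ⟨c0 ^ (2 ^ j'), pow_mem hc0 _, Nat.find_min hex (by omega), ?_⟩
    rw [← pow_mul, ← pow_succ]
    rw [hj'] at hj
    exact hj
  obtain ⟨hZ2, hZsq⟩ := center_of_order_eight hB hna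
  have hcc : ∀ x ∈ B, c * x = x * c := by
    intro x hx
    exact (mem_centralizer_iff.1 hc x hx).symm
  have hZcard : Nat.card ((center B).map B.subtype) = 2 := by
    rw [Subgroup.card_map_of_injective B.subtype_injective, hZ2]
  have hZB : (center B).map B.subtype ≤ B := by
    rintro _ ⟨z, -, rfl⟩
    exact z.2
  have hZc : ∀ z ∈ (center B).map B.subtype, ∀ b ∈ B, b * z = z * b := by
    rintro _ ⟨z, hz, rfl⟩ b hb
    exact congrArg Subtype.val (mem_center_iff.1 hz ⟨b, hb⟩)
  have hnorm : zpowers c ≤ normalizer (B : Set P) := zpowers_le_normalizer_of_commute hcc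
  have hc2Z : c ^ 2 ∈ (center B).map B.subtype := by
    refine ⟨⟨c ^ 2, hc2⟩, ?_, rfl⟩
    rw [SetLike.mem_coe, mem_center_iff]
    intro g
    apply Subtype.ext
    show (g : P) * c ^ 2 = c ^ 2 * g
    exact ((show Commute c (g : P) from hcc g g.2).pow_left 2).eq.symm
  have hle := card_le_of_sq' hr (B ⊔ zpowers c) ((center B).map B.subtype)
    (hZB.trans le_sup_left)
    (by
      intro e he z hz
      obtain ⟨b, hb, _, ⟨k, rfl⟩, rfl⟩ :=
        (Cfsg.Agent.Lib.Helper14.mem_sup_of_le_normalizer hnorm).1 he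
      have h1 : Commute (c ^ k) z := (show Commute c z from hcc z (hZB hz)).zpow_left k
      have h2 : Commute b z := hZc z hz b hb
      have h3 : Commute (b * c ^ k) z := h2.mul_left h1
      show b * c ^ k * z * (b * c ^ k)⁻¹ ∈ _
      rw [h3.eq, mul_inv_cancel_right]
      exact hz)
    (by
      intro e he
      obtain ⟨b, hb, _, ⟨k, rfl⟩, rfl⟩ :=
        (Cfsg.Agent.Lib.Helper14.mem_sup_of_le_normalizer hnorm).1 he
      have h1 : Commute b (c ^ k) := ((show Commute c b from hcc b hb).zpow_left k).symm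
      show (b * c ^ k) ^ 2 ∈ _
      rw [h1.mul_pow]
      refine mul_mem ⟨⟨b, hb⟩ ^ 2, hZsq _, rfl⟩ ?_
      rw [← zpow_natCast, ← zpow_mul, mul_comm, zpow_mul, zpow_natCast]
      exact zpow_mem hc2Z k)
  rw [hZcard] at hle
  have heq : B = B ⊔ zpowers c := Subgroup.eq_of_le_of_card_ge le_sup_left (by rw [hB]; omega)
  apply hcB
  rw [heq]
  exact le_sup_right (a := B) (mem_zpowers c)

/-- Let S be a finite 2-group of sectional 2-rank at most 2 that contains a subgroup isomorphic to the dihedral group of order 8 or to the quaternion group of order 8. Then S is dihedral of order at least 8, semidihedral of order at least 16 (order 2^(k+4) with an element a of order 2^(k+3) and an involution b with b a b⁻¹ = a^(2^(k+2)−1)), or generalized quaternion of order at least 8. -/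
theorem result {S : Type*} [Group S] [Finite S] (h2 : IsPGroup 2 S) (hr : Cfsg.SectionalPRankLE 2 2 S)
    (hsub : ∃ H : Subgroup S, Nonempty (↥H ≃* DihedralGroup 4) ∨ Nonempty (↥H ≃* QuaternionGroup 2)) :
    ((∃ k : ℕ, Nonempty (S ≃* DihedralGroup (2 ^ (k + 2)))) ∨
      (∃ k : ℕ, Nat.card S = 2 ^ (k + 4) ∧ ∃ a b : S, orderOf a = 2 ^ (k + 3) ∧ orderOf b = 2 ∧ b * a * b⁻¹ = a ^ (2 ^ (k + 2) - 1)) ∨
      (∃ k : ℕ, Nonempty (S ≃* QuaternionGroup (2 ^ (k + 1))))) := by
  have : Fact (Nat.Prime 2) := ⟨Nat.prime_two⟩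
  obtain ⟨B, hB, hna⟩ : ∃ B : Subgroup S, Nat.card B = 2 ^ 3 ∧ ¬ IsMulCommutative B := by
    obtain ⟨H, ⟨⟨e⟩⟩ | ⟨⟨e⟩⟩⟩ := hsub
    · refine ⟨H, ?_, ?_⟩
      · rw [Nat.card_congr e.toEquiv, DihedralGroup.nat_card]; norm_num
      · intro hc
        have h1 := hc.is_comm.comm (e.symm (DihedralGroup.r 1)) (e.symm (DihedralGroup.sr 0))
        rw [← map_mul, ← map_mul] at h1
        have h2 := e.symm.injective h1
        revert h2
        decide
    · refine ⟨H, ?_, ?_⟩
      · rw [Nat.card_congr e.toEquiv, Nat.card_eq_fintype_card, QuaternionGroup.card]; norm_num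
      · intro hc
        have h1 := hc.is_comm.comm (e.symm (QuaternionGroup.a 1)) (e.symm (QuaternionGroup.xa 0))
        rw [← map_mul, ← map_mul] at h1
        have h2 := e.symm.injective h1
        revert h2
        decide
  have hC := centralizer_le' h2 hr B hB hna
  obtain ⟨n0, hn0⟩ := h2.exists_card_eq
  have hclass := Cfsg.Agent.S4143.result n0 hn0 B hB hna hC
  have hn3 : 3 ≤ n0 := by
    have : 2 ^ 3 ∣ 2 ^ n0 := by
      rw [← hB, ← hn0]; exact Subgroup.card_subgroup_dvd_card _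
    exact (Nat.pow_dvd_pow_iff_le_right (by norm_num)).mp this
  have hidx : (commutator S).index = 4 := by
    rw [index_commutator_of_maxClass n0 S (by omega) hn0 hclass]
    norm_num
  have hnaP : ∃ u v : S, u * v ≠ v * u := by
    by_contra hcon
    push Not at hcon
    exact hna ⟨⟨fun a b => Subtype.ext (hcon a b)⟩⟩
  obtain ⟨n, a, b, hn3', hn, ha, hb, hcase⟩ := taussky_classify h2 hidx hnaP
  obtain ⟨k, rfl⟩ : ∃ k, n = k + 3 := ⟨n - 3, by omega⟩
  rcases hcase with ⟨hbb, hba⟩ | ⟨hbb, hba⟩ | ⟨h4, hbb, hba⟩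
  · left
    refine ⟨k, dihedral_recog (2 ^ (k + 2)) (by positivity) a b ha (by rw [← pow_two, hbb]) hba hb ?_⟩
    rw [hn]; ring
  · right; right
    refine ⟨k, quaternion_recog (2 ^ (k + 1)) (by positivity) a b ?_ ?_ hba hb ?_⟩
    · rw [ha]
      show 2 ^ (k + 2) = _
      ring
    · rw [← pow_two, hbb]
      rfl
    · rw [hn]; ring
  · right; left
    obtain ⟨k', rfl⟩ : ∃ k', k = k' + 1 := ⟨k - 1, by omega⟩
    refine ⟨k', hn, a, b, ha, ?_, hba⟩
    apply orderOf_eq_prime hbb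
    rintro rfl
    exact hb (Subgroup.one_mem _)

end Cfsg.Agent.S4398
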