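import Cfsg.Statements.S4507
import Cfsg.Agent.Lib.Helper78.PConjMain
import Cfsg.Agent.Lib.Helper78.DefOneSetup

set_option autoImplicit false
open Cfsg

namespace Cfsg.Agent.S4507

/-- Let G be a finite group whose order g is divisible by the prime p exactly once, g′ = g/p, and fix a maximal ideal M of the algebraic integers containing p. Call two irreducible characters p-conjugate when a field automorphism of ℂ fixing the g′-th roots of unity carries one to the other. Let B be a p-block of positive defect (its defect group is a Sylow p-subgroup). Then B contains a subset Y (the exceptional family) such that: Y is a full p-conjugacy class (its members are pairwise p-conjugate and every p-conjugate of a member of Y lies in Y); every member of B outside Y is p-conjugate only to itself; the size t of Y divides p − 1 and B has exactly t + (p − 1)/t members; and there are signs δ_χ = ±1 (χ ∈ B) such that for every p-regular element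 x and every θ ∈ Y, Σ_{χ ∈ B ∖ Y} δ_χ χ(x) + δ_θ θ(x) = 0. -/
theorem result {G : Type*} [Group G] [Finite G] (p : ℕ) [Fact p.Prime] (M : Ideal Cfsg.AlgInt) (hM : Cfsg.IsPModular p M) (hdiv : p ∣ Nat.card G) (hsq : ¬ p ^ 2 ∣ Nat.card G) (B : Set (Cfsg.IrrCharacter G)) (hB : Cfsg.IsPBlock M B) (hd : 0 < Cfsg.blockDefect p B) : ∃ Y : Set (Cfsg.IrrCharacter G), Y ⊆ B ∧ Y.Nonempty ∧ (∀ θ ∈ Y, ∀ ψ : Cfsg.IrrCharacter G, (∃ σ : ℂ ≃+* ℂ, σ (Complex.exp (2 * Real.pi * Complex.I / ((Nat.card G / p ^ (Nat.card G).factorization p) : ℕ))) = Complex.exp (2 * Real.pi * Complex.I / ((Nat.card G / p ^ (Nat.card G).factorization p) : ℕ)) ∧ (ψ : G → ℂ) = fun g => σ ((θ : G → ℂ) g)) ↔ ψ ∈ Y) ∧ (∀ χ ∈ B, χ ∉ Y → ∀ ψ : Cfsg.IrrCharacter G, (∃ σ : ℂ ≃+* ℂ, σ (Complex.exp (2 * Real.pi * Complex.I / ((Nat.card G / p ^ (Nat.card G).factorization p) : ℕ))) = Complex.exp (2 * Real.pi * Complex.I / ((Nat.card G / p ^ (Nat.card G).factorization p) : ℕ)) ∧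 (ψ : G → ℂ) = fun g => σ ((χ : G → ℂ) g)) → ψ = χ) ∧ Nat.card Y ∣ p - 1 ∧ Nat.card B = Nat.card Y + (p - 1) / Nat.card Y ∧ ∃ δ : Cfsg.IrrCharacter G → ℤ, (∀ χ ∈ B, δ χ = 1 ∨ δ χ = -1) ∧ ∀ x : G, ¬ p ∣ orderOf x → ∀ θ ∈ Y, (∑ᶠ χ ∈ B \ Y, (δ χ : ℂ) * (χ : G → ℂ) x) + (δ θ : ℂ) * (θ : G → ℂ) x = 0 := by
  classical
  obtain ⟨P, hP, hBP, b, hind, θ, hθ, hθP⟩ :=
    Cfsg.Agent.Lib.Helper78.exists_defone_setup p M hM hsq B hB hd
  obtain ⟨T, hT⟩ := Cfsg.Agent.Lib.Helper78.exists_stab (P : Subgroup G)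
    (θ : Subgroup.centralizer ((P : Subgroup G) : Set G) → ℂ)
  obtain ⟨hZC, hcent, r, hr, hTI, hSR, ctx⟩ :=
    Cfsg.Agent.Lib.Helper25.exists_ctx p M hM P hP B hB hBP b hind θ hθ hθP
  have : Fintype G := Fintype.ofFinite _
  have : Fintype (Subgroup.centralizer ((P : Subgroup G) : Set G)) := Fintype.ofFinite _
  have : Fintype (Cfsg.Agent.Lib.Helper98.BL.Data.N
    (⟨_, _, hZC, hcent, r, hr, hTI, hSR⟩ : Cfsg.Agent.Lib.Helper98.BL.Data G)) := Fintype.ofFinite _
  have : Finite (Cfsg.Agent.Lib.Helper98.BL.Data.X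
    (⟨_, _, hZC, hcent, r, hr, hTI, hSR⟩ : Cfsg.Agent.Lib.Helper98.BL.Data G)) :=
    Cfsg.Agent.Lib.Helper46.finite_hom (Cfsg.Agent.Lib.Helper25.Z_comm _)
  have : Fintype (Cfsg.Agent.Lib.Helper98.BL.Data.X
    (⟨_, _, hZC, hcent, r, hr, hTI, hSR⟩ : Cfsg.Agent.Lib.Helper98.BL.Data G)) := Fintype.ofFinite _
  have : Finite (IrrCharacter (Subgroup.centralizer ((P : Subgroup G) : Set G))) :=
    Cfsg.Agent.Lib.Helper20.finite_irrCharacter
  have : Fintype (IrrCharacter (Subgroup.centralizer ((P : Subgroup G) : Set G))) :=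
    Fintype.ofFinite _
  have : Finite (IrrCharacter G) := Cfsg.Agent.Lib.Helper20.finite_irrCharacter
  have : Fintype (IrrCharacter G) := Fintype.ofFinite _
  have he' := Cfsg.Agent.Lib.Helper25.card_stab_eq _ ctx.E θ T hT
  exact Cfsg.Agent.Lib.Helper78.bctx_pconj ctx _ he'
    (Cfsg.Agent.Lib.Helper80.le_blockRank p M hM P hP B b hind θ hθ hθP T hT)

end Cfsg.Agent.S4507
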