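import Cfsg.Statements.S4551
import Cfsg.Agent.Lib.Helper82.ADFinal

set_option autoImplicit false
open Cfsg

namespace Cfsg.Agent.S4551


open Cfsg.Agent.Lib.Helper20 Cfsg.Agent.Lib.Helper81 Cfsg.Agent.Lib.Helper21 Cfsg.Agent.Lib.Helper82

/-- Let N be a normal subgroup of the finite group G of index prime to p, P a Sylow p-subgroup of G with G = N·C_G(P), and M a maximal ideal of the algebraic integers containing p. Then restriction to N is a bijection from the principal p-block of G onto the principal p-block of N: every member of the principal block of G restricts to a member of the principal block of N, and every member of the principal block of N is the restriction of exactly one member of the principal block of G. -/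
theorem result {G : Type*} [Group G] [Finite G] (p : ℕ) [Fact p.Prime] (M : Ideal Cfsg.AlgInt) (hM : Cfsg.IsPModular p M) (N : Subgroup G) [N.Normal] (hidx : ¬ p ∣ N.index) (P : Sylow p G) (hsup : N ⊔ Subgroup.centralizer ((P : Subgroup G) : Set G) = ⊤) : (∀ χ ∈ Cfsg.principalBlock M G, ∃ θ ∈ Cfsg.principalBlock M ↥N, ∀ n : N, (χ : G → ℂ) n = (θ : N → ℂ) n) ∧ ∀ θ ∈ Cfsg.principalBlock M ↥N, ∃! χ : Cfsg.IrrCharacter G, χ ∈ Cfsg.principalBlock M G ∧ ∀ n : N, (χ : G → ℂ) n = (θ : N → ℂ) n := by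
  classical
  have : Fintype G := Fintype.ofFinite G
  have : Fintype N := Fintype.ofFinite N
  have : Finite (Cfsg.IrrCharacter G) := Cfsg.Agent.Lib.Helper20.finite_irrCharacter
  have : Fintype (Cfsg.IrrCharacter G) := Fintype.ofFinite _
  have hdeg : ∀ χ : Cfsg.IrrCharacter G,
      Cfsg.charDegree (fun n : N => (χ : G → ℂ) n) = Cfsg.charDegree (χ : G → ℂ) := by
    intro χ; simp [Cfsg.charDegree]
  have hres : ∀ χ : Cfsg.IrrCharacter G, Cfsg.IsCharacter N (fun n : N => (χ : G → ℂ) n) :=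
    fun χ => isCharacter_restrict (isCharacter_of_isIrrCharacter χ.2) N
  have hex : ∀ θ : Cfsg.IrrCharacter N, ∃ m : Cfsg.IrrCharacter G → ℕ, ∀ χ : Cfsg.IrrCharacter G,
      Cfsg.classInner (fun n : N => (χ : G → ℂ) n) (θ : N → ℂ) = (m χ : ℂ) := by
    intro θ
    choose m hm using fun χ : Cfsg.IrrCharacter G => isCharacter_classInner_nat (hres χ) θ.2
    exact ⟨m, hm⟩
  have core : ∀ θ ∈ Cfsg.principalBlock M ↥N, ∀ χ ∈ Cfsg.principalBlock M G,
      Cfsg.classInner (fun n : N => (χ : G → ℂ) n) (θ : N → ℂ) ≠ 0 →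
      (fun n : N => (χ : G → ℂ) n) = (θ : N → ℂ) := by
    intro θ hθ χ hχ hne
    obtain ⟨m, hm⟩ := hex θ
    have hS := sum_degree_mul_mult hM hidx P hsup θ hθ m hm
    have h1 : (if χ ∈ Cfsg.principalBlock M G then Cfsg.charDegree (χ : G → ℂ) * m χ else 0)
        ≤ Cfsg.charDegree (θ : N → ℂ) := by
      rw [← hS]
      exact Finset.single_le_sum (f := fun χ : Cfsg.IrrCharacter G =>
        (if χ ∈ Cfsg.principalBlock M G then Cfsg.charDegree (χ : G → ℂ) * m χ else 0))
        (fun _ _ => Nat.zero_le _) (Finset.mem_univ χ)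
    rw [if_pos hχ] at h1
    have hm1 : 1 ≤ m χ := by
      rcases Nat.eq_zero_or_pos (m χ) with h0 | h0
      · exfalso; apply hne; rw [hm χ, h0]; simp
      · exact h0
    apply eq_of_constituent_of_degree_le (hres χ) θ.2 hne
    rw [hdeg χ]
    calc Cfsg.charDegree (χ : G → ℂ) = Cfsg.charDegree (χ : G → ℂ) * 1 := (mul_one _).symm
      _ ≤ Cfsg.charDegree (χ : G → ℂ) * m χ := Nat.mul_le_mul_left _ hm1
      _ ≤ _ := h1
  constructor
  · intro χ hχ
    obtain ⟨θ, hθ⟩ := exists_constituent_res N χ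
    have hθB := Cfsg.Agent.S4520.mem_principalBlock_of_constituent hM inferInstance χ θ hθ hχ
    exact ⟨θ, hθB, fun n => congrFun (core θ hθB χ hχ hθ) n⟩
  · intro θ hθ
    obtain ⟨m, hm⟩ := hex θ
    have hS := sum_degree_mul_mult hM hidx P hsup θ hθ m hm
    have hpos : 0 < Cfsg.charDegree (θ : N → ℂ) := isIrr_charDegree_pos θ.2
    have hexχ : ∃ χ : Cfsg.IrrCharacter G,
        (if χ ∈ Cfsg.principalBlock M G then Cfsg.charDegree (χ : G → ℂ) * m χ else 0) ≠ 0 := by
      by_contra hcon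
      push Not at hcon
      rw [Finset.sum_eq_zero (fun χ _ => hcon χ)] at hS
      omega
    obtain ⟨χ, hχ⟩ := hexχ
    have hχB : χ ∈ Cfsg.principalBlock M G := by
      by_contra h; rw [if_neg h] at hχ; exact hχ rfl
    rw [if_pos hχB] at hχ
    have hmne : m χ ≠ 0 := fun h => hχ (by rw [h, mul_zero])
    have hne : Cfsg.classInner (fun n : N => (χ : G → ℂ) n) (θ : N → ℂ) ≠ 0 := by
      rw [hm χ]; exact_mod_cast hmne
    refine ⟨χ, ⟨hχB, fun n => congrFun (core θ hθ χ hχB hne) n⟩, ?_⟩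
    rintro χ' ⟨hχ'B, hχ'⟩
    by_contra hne'
    have hval : ∀ ψ : Cfsg.IrrCharacter G, (∀ n : N, (ψ : G → ℂ) n = (θ : N → ℂ) n) →
        Cfsg.charDegree (ψ : G → ℂ) * m ψ = Cfsg.charDegree (θ : N → ℂ) := by
      intro ψ hψ
      have e1 : (fun n : N => (ψ : G → ℂ) n) = (θ : N → ℂ) := funext hψ
      have e2 : m ψ = 1 := by
        have := hm ψ
        rw [e1, classInner_irr_self θ.2] at this
        exact_mod_cast this.symm
      rw [e2, mul_one, ← hdeg ψ, e1]
    have h2 : ∑ ψ ∈ ({χ', χ} : Finset (Cfsg.IrrCharacter G)),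
        (if ψ ∈ Cfsg.principalBlock M G then Cfsg.charDegree (ψ : G → ℂ) * m ψ else 0)
        ≤ Cfsg.charDegree (θ : N → ℂ) := by
      rw [← hS]
      exact Finset.sum_le_sum_of_subset (Finset.subset_univ _)
    rw [Finset.sum_pair hne', if_pos hχ'B, if_pos hχB, hval χ' hχ',
      hval χ (fun n => congrFun (core θ hθ χ hχB hne) n)] at h2
    omega

end Cfsg.Agent.S4551
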