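import Cfsg.Statements.S4565
import Cfsg.Agent.Lib.Helper79.ExtCyclicChar
import Cfsg.Agent.Lib.Helper79.GoodElement
import Cfsg.Agent.Lib.Helper79.FullyRamified

set_option autoImplicit false
open Cfsg

namespace Cfsg.Agent.S4565

/-- Let χ be an irreducible character of the finite group H that is fully ramified over the normal subgroup Z: the restriction of χ to Z is e times an irreducible character of Z with e ^ 2 equal to the index of Z. If Z ≠ H, then H/Z has no cyclic subgroup that is its own centralizer. -/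
theorem result {H : Type*} [Group H] [Finite H] (Z : Subgroup H) [Z.Normal] (χ : Cfsg.IrrCharacter H) (hfr : ∃ (θ : Cfsg.IrrCharacter ↥Z) (e : ℕ), e ^ 2 = Z.index ∧ ∀ z : ↥Z, (χ : H → ℂ) z = (e : ℂ) * (θ : ↥Z → ℂ) z) (hZ : Z ≠ ⊤) (C : Subgroup (H ⧸ Z)) (hC : IsCyclic C) : Subgroup.centralizer (C : Set (H ⧸ Z)) ≠ C := by
  classical
  obtain ⟨θ, e, he, hχθ⟩ := hfr
  intro hcent
  have := Fintype.ofFinite H
  have := Fintype.ofFinite Z
  have he0 : (e : ℂ) ≠ 0 := by
    have : e ≠ 0 := by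
      rintro rfl
      exact Z.index_ne_zero_of_finite (by simpa using he.symm)
    exact_mod_cast this
  have hχc : Cfsg.IsCharacter H (χ : H → ℂ) := Lib.Helper79.IsIrrCharacter.isCharacter χ.2
  have hvan := Lib.Helper79.vanish_off_of_fully_ramified Z χ.2 θ.2 e he hχθ
  have hθinv := Lib.Helper79.invariant_of_restrict_eq_mul Z hχc (e : ℂ) he0 hχθ
  let K : Subgroup H := C.comap (QuotientGroup.mk' Z)
  have hZK : Z ≤ K := by
    intro z hz
    show (QuotientGroup.mk' Z z) ∈ C
    rw [show QuotientGroup.mk' Z z = 1 from (QuotientGroup.eq_one_iff z).2 hz]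
    exact C.one_mem
  let M : Subgroup K := Z.subgroupOf K
  have := Fintype.ofFinite M
  let f : K →* C := ((QuotientGroup.mk' Z).comp K.subtype).codRestrict C (fun k => k.2)
  have hf : Function.Surjective f := by
    rintro ⟨c, hc⟩
    obtain ⟨h, rfl⟩ := QuotientGroup.mk_surjective c
    exact ⟨⟨h, hc⟩, rfl⟩
  have hker : f.ker = M := by
    ext k
    rw [MonoidHom.mem_ker, Subgroup.mem_subgroupOf, Subtype.ext_iff]
    exact QuotientGroup.eq_one_iff _
  have hcyc : IsCyclic (K ⧸ M) := by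
    let E : C ≃* K ⧸ M := (QuotientGroup.quotientKerEquivOfSurjective f hf).symm.trans
      (QuotientGroup.quotientMulEquivOfEq hker)
    exact isCyclic_of_surjective E.toMonoidHom E.surjective
  let θK : M → ℂ := fun n => (θ : Z → ℂ) ⟨((n : K) : H), n.2⟩
  have hθK : Cfsg.IsIrrCharacter M θK :=
    Lib.Helper82.isIrr_comp_surj θ.2 (Subgroup.subgroupOfEquivOfLe hZK).toMonoidHom
      (Subgroup.subgroupOfEquivOfLe hZK).surjective
  obtain ⟨η, hη, hηM⟩ := Lib.Helper79.exists_irr_ext_of_cyclic M hcyc θK hθK (by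
    intro k n
    exact hθinv (k : H) ⟨((n : K) : H), n.2⟩)
  obtain ⟨c0, hc0⟩ := hC.exists_generator
  obtain ⟨g, hg⟩ := hf c0
  have hmkg : ((g : H) : H ⧸ Z) = (c0 : H ⧸ Z) := congrArg Subtype.val hg
  have hgZ : (g : H) ∉ Z := by
    intro hgz
    have h1 : (c0 : H ⧸ Z) = 1 := by rw [← hmkg]; exact (QuotientGroup.eq_one_iff _).2 hgz
    have h2 : c0 = 1 := Subtype.ext h1
    have h3 : C = ⊥ := by
      rw [Subgroup.eq_bot_iff_forall]
      intro x hx
      have := hc0 ⟨x, hx⟩
      rw [h2, Subgroup.zpowers_one_eq_bot, Subgroup.mem_bot] at this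
      exact congrArg Subtype.val this
    apply hZ
    rw [Subgroup.eq_top_iff']
    intro h
    rw [← QuotientGroup.eq_one_iff]
    have h4 : ((h : H) : H ⧸ Z) ∈ Subgroup.centralizer (C : Set (H ⧸ Z)) := by
      rw [h3, Subgroup.mem_centralizer_iff]
      intro y hy
      have hy1 : y = 1 := by simpa using hy
      rw [hy1, one_mul, mul_one]
    rw [hcent, h3, Subgroup.mem_bot] at h4
    exact h4
  have hηc : Cfsg.IsCharacter K η := Lib.Helper79.IsIrrCharacter.isCharacter hη
  have hfus : ∀ n n' : M, IsConj (((n : K) * g : K) : H) (((n' : K) * g : K) : H) →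
      η (n * g) = η (n' * g) := by
    intro n n' hconj
    obtain ⟨x, hx⟩ := isConj_iff.mp hconj
    have hn : (((n : K) : H) : H ⧸ Z) = 1 := (QuotientGroup.eq_one_iff _).2 n.2
    have hn' : (((n' : K) : H) : H ⧸ Z) = 1 := (QuotientGroup.eq_one_iff _).2 n'.2
    have h1 : (x : H ⧸ Z) * (c0 : H ⧸ Z) * (x : H ⧸ Z)⁻¹ = (c0 : H ⧸ Z) := by
      have := congrArg (QuotientGroup.mk : H → H ⧸ Z) hx
      simp only [Subgroup.coe_mul, QuotientGroup.mk_mul, QuotientGroup.mk_inv, hn, hn', one_mul,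
        hmkg] at this
      exact this
    have hxK : x ∈ K := by
      show (x : H ⧸ Z) ∈ C
      rw [← hcent, Subgroup.mem_centralizer_iff]
      intro y hy
      obtain ⟨i, hi⟩ := Subgroup.mem_zpowers_iff.mp (hc0 ⟨y, hy⟩)
      have hy' : y = (c0 : H ⧸ Z) ^ i := by
        have := congrArg Subtype.val hi
        rw [Subgroup.coe_zpow] at this
        exact this.symm
      have hcomm : Commute (x : H ⧸ Z) (c0 : H ⧸ Z) := by
        show (x : H ⧸ Z) * (c0 : H ⧸ Z) = (c0 : H ⧸ Z) * (x : H ⧸ Z)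
        rw [← mul_inv_eq_iff_eq_mul]
        exact h1
      rw [hy']
      exact (hcomm.zpow_right i).eq.symm
    have h2 : (n' : K) * g = ⟨x, hxK⟩ * ((n : K) * g) * ⟨x, hxK⟩⁻¹ := by
      apply Subtype.ext
      exact hx.symm
    rw [h2]
    exact (Lib.Helper20.isClassFunction_of_isCharacter hηc _ _).symm
  obtain ⟨ψ, hψ⟩ := Lib.Helper79.exists_irr_sum_coset_ne_zero K M η hη (by
    have : (fun n : M => η n) = θK := funext hηM
    rw [this]; exact hθK) g hfus
  apply hψ
  by_cases hψχ : ψ = χ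
  · subst hψχ
    apply Finset.sum_eq_zero
    intro n _
    have : (((n : K) * g : K) : H) ∉ Z := by
      intro hmem
      apply hgZ
      have := Z.mul_mem (Z.inv_mem n.2) hmem
      simpa using this
    rw [hvan _ this]
    simp
  · have hψc : Cfsg.IsCharacter H (ψ : H → ℂ) := Lib.Helper79.IsIrrCharacter.isCharacter ψ.2
    refine Lib.Helper79.sum_coset_eq_zero M hηc (Lib.Helper20.isCharacter_restrict hψc K) ?_ g
    have h0 : Cfsg.classInner (χ : H → ℂ) (ψ : H → ℂ) = 0 :=
      Lib.Helper20.classInner_irr_ne χ.2 ψ.2 (fun h => hψχ (Subtype.ext h).symm)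
    unfold Cfsg.classInner at h0 ⊢
    have hH : (Nat.card H : ℂ)⁻¹ ≠ 0 := inv_ne_zero (by exact_mod_cast Nat.card_pos.ne')
    have h1 := (mul_eq_zero.mp h0).resolve_left hH
    have h2 : ∑ z : Z, (χ : H → ℂ) z * (starRingEnd ℂ) ((ψ : H → ℂ) z) = 0 := by
      rw [Lib.Helper79.sum_subgroup_eq_filter Z
        (fun h => (χ : H → ℂ) h * (starRingEnd ℂ) ((ψ : H → ℂ) h)), Finset.sum_filter]
      refine Eq.trans ?_ h1
      apply Finset.sum_congr rfl
      intro h _
      split_ifs with hh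
      · rfl
      · rw [hvan h hh, zero_mul]
    simp_rw [hχθ, mul_assoc] at h2
    rw [← Finset.mul_sum] at h2
    have h3 := (mul_eq_zero.mp h2).resolve_left he0
    rw [← Equiv.sum_comp (Subgroup.subgroupOfEquivOfLe hZK).toEquiv] at h3
    simp_rw [hηM]
    rw [show (∑ n : M, θK n * (starRingEnd ℂ) ((ψ : H → ℂ) ((n : K) : H))) = 0 from h3, mul_zero]

end Cfsg.Agent.S4565
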