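import Cfsg.Statements.S4580
import Cfsg.Agent.S4521
import Cfsg.Agent.Lib.Helper77.CoprimeDeg
import Cfsg.Agent.Lib.Helper4.CharConj
-- import your own Cfsg.Agent.* helpers here

set_option autoImplicit false
open Cfsg
open scoped ComplexConjugate
open Cfsg.Agent.Lib.Helper20 Cfsg.Agent.Lib.Helper81 Cfsg.Agent.Lib.Helper84 Cfsg.Agent.Lib.Helper19

namespace Cfsg.Agent.S4580

/-- An irreducible character of odd degree which is real on the elements of odd order lies in the
principal 2-block. -/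
theorem mem_principal_of_real {G : Type*} [Group G] [Fintype G] {M : Ideal AlgInt}
    (hM : IsPModular 2 M) (χ : IrrCharacter G) (hodd : Odd (charDegree (χ : G → ℂ)))
    (hreal : ∀ g : G, ¬ 2 ∣ orderOf g → conj ((χ : G → ℂ) g) = (χ : G → ℂ) g) :
    χ ∈ principalBlock M G := by
  classical
  have : Fact (Nat.Prime 2) := ⟨Nat.prime_two⟩
  rw [Cfsg.Agent.S4521.mem_principalBlock_iff_ne_zero hM]
  intro h0
  have hχc := isCharacter_of_isIrrCharacter χ.2
  have h1 : (χ : G → ℂ) 1 ≠ 0 := by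
    rw [Cfsg.Agent.Lib.Helper82.isChar_one_eq hχc]
    exact_mod_cast (Cfsg.Agent.Lib.Helper82.isIrr_charDegree_pos χ.2).ne'
  unfold omega at h0
  rw [← Finset.sum_div, div_eq_zero_iff] at h0
  have hS := h0.resolve_right h1
  let F : G → AlgInt := fun g => ⟨(χ : G → ℂ) g, isCharacter_isIntegral hχc g⟩
  set s : Finset G := Finset.univ.filter (fun g : G => ¬ 2 ∣ orderOf g) with hs
  have hS2 : ∑ g ∈ s, F g = 0 := by
    apply Subtype.ext
    rw [AddSubmonoidClass.coe_finsetSum, ZeroMemClass.coe_zero]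
    rw [← hS, hs, Finset.sum_filter]
    apply Finset.sum_congr rfl
    intro g _
    simp only [pRegInd, F]
    split_ifs <;> simp_all
  have h1s : (1 : G) ∈ s := by simp [hs]
  have hS3 : ∑ g ∈ s, Ideal.Quotient.mk M (F g) = 0 := by
    rw [← map_sum, hS2, map_zero]
  rw [← Finset.add_sum_erase s _ h1s] at hS3
  have h2M : (2 : AlgInt) ∈ M := by exact_mod_cast hM.2.2
  have hinv : ∑ g ∈ s.erase 1, Ideal.Quotient.mk M (F g) = 0 := by
    apply Finset.sum_involution (fun g _ => g⁻¹)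
    · intro a ha
      have ha2 : ¬ 2 ∣ orderOf a := by
        have := (Finset.mem_erase.1 ha).2
        simpa [hs] using this
      have : F a⁻¹ = F a := by
        apply Subtype.ext
        show (χ : G → ℂ) a⁻¹ = (χ : G → ℂ) a
        rw [isCharacter_inv hχc, hreal a ha2]
      rw [this, ← map_add, ← two_mul]
      exact Ideal.Quotient.eq_zero_iff_mem.2 (M.mul_mem_right _ h2M)
    · intro a ha _ hcon
      have ha1 := (Finset.mem_erase.1 ha).1
      have ha2 : ¬ 2 ∣ orderOf a := by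
        have := (Finset.mem_erase.1 ha).2
        simpa [hs] using this
      have h3 : a ^ 2 = 1 := by
        rw [pow_two]
        nth_rewrite 1 [← hcon]
        simp
      have h4 := orderOf_dvd_of_pow_eq_one h3
      rcases (Nat.dvd_prime Nat.prime_two).1 h4 with h5 | h5
      · exact ha1 (orderOf_eq_one_iff.1 h5)
      · exact ha2 (by rw [h5])
    · intro a _
      simp
    · intro a ha
      have ha1 := (Finset.mem_erase.1 ha).1
      have ha2 : ¬ 2 ∣ orderOf a := by
        have := (Finset.mem_erase.1 ha).2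
        simpa [hs] using this
      rw [Finset.mem_erase]
      refine ⟨by simpa using ha1, ?_⟩
      rw [hs, Finset.mem_filter, orderOf_inv]
      exact ⟨Finset.mem_univ _, ha2⟩
  rw [hinv, add_zero, Ideal.Quotient.eq_zero_iff_mem] at hS3
  obtain ⟨k, hk⟩ := hodd
  have hF1 : F 1 = 2 * (k : AlgInt) + 1 := by
    apply Subtype.ext
    show (χ : G → ℂ) 1 = _
    rw [Cfsg.Agent.Lib.Helper82.isChar_one_eq hχc, hk]
    push_cast
    rfl
  have h1M : (1 : AlgInt) ∈ M := by
    have := M.sub_mem hS3 (M.mul_mem_right (k : AlgInt) h2M)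
    rwa [hF1, add_sub_cancel_left] at this
  exact hM.2.1.ne_top ((Ideal.eq_top_iff_one M).2 h1M)



/-- Let N be a normal subgroup of the finite group G, M a maximal ideal of the algebraic integers containing 2, and θ a real-valued irreducible character of N of odd degree that extends to G (some irreducible character of G restricts to θ). Then θ has an extension to G lying in the principal 2-block of G. -/
theorem result {G : Type*} [Group G] [Finite G] (N : Subgroup G) [N.Normal] (M : Ideal Cfsg.AlgInt) (hM : Cfsg.IsPModular 2 M) (θ : Cfsg.IrrCharacter N) (hreal : ∀ n : N, ((θ : N → ℂ) n).im = 0) (hodd : Odd (Cfsg.charDegree (θ : N → ℂ))) (hext : ∃ η : Cfsg.IrrCharacter G, ∀ n : N, (η : G → ℂ) n = (θ : N → ℂ) n) :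
    ∃ η : Cfsg.IrrCharacter G, (∀ n : N, (η : G → ℂ) n = (θ : N → ℂ) n) ∧ η ∈ Cfsg.principalBlock M G := by
  classical
  have := Fintype.ofFinite G
  obtain ⟨η, hη⟩ := hext
  have hc : IsIrrCharacter G (fun g => conj ((η : G → ℂ) g)) :=
    Cfsg.Agent.Lib.Helper4.isIrrCharacter_conj η.2
  have hθN : IsIrrCharacter N (fun n : N => (η : G → ℂ) n) := by
    rw [funext hη]; exact θ.2
  have hres : ∀ n : N, conj ((η : G → ℂ) n) = (η : G → ℂ) n := by
    intro n
    rw [hη]
    exact Complex.conj_eq_iff_im.2 (hreal n)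
  obtain ⟨f, hfN, hf⟩ := Cfsg.Agent.Lib.Helper77.exists_twist N hc η.2 hθN hres
  -- the odd part of the group order
  set m : ℕ := ordCompl[2] (Nat.card G) with hm
  have hm2 : ¬ 2 ∣ m := Nat.not_dvd_ordCompl Nat.prime_two Nat.card_pos.ne'
  have hmodd : Odd m := by
    rw [← Nat.not_even_iff_odd, even_iff_two_dvd]; exact hm2
  obtain ⟨k, hk⟩ := hmodd
  have hm0 : m ≠ 0 := by omega
  have hord : ∀ g : G, ¬ 2 ∣ orderOf g → g ^ m = 1 := by
    intro g hg
    apply orderOf_dvd_iff_pow_eq_one.1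
    have h1 : orderOf g ∣ 2 ^ (Nat.card G).factorization 2 * m := by
      rw [hm, Nat.ordProj_mul_ordCompl_eq_self]
      exact orderOf_dvd_natCard g
    have h2 : (orderOf g).Coprime (2 ^ (Nat.card G).factorization 2) := by
      apply Nat.Coprime.pow_right
      exact ((Nat.Prime.coprime_iff_not_dvd Nat.prime_two).2 hg).symm
    exact h2.dvd_of_dvd_mul_left h1
  have hirr : IsIrrCharacter G (homFun (f ^ (k + 1)) * (η : G → ℂ)) :=
    Cfsg.Agent.Lib.Helper82.isIrr_linear_mul (isCharacter_homFun _).1 (isCharacter_homFun _).2 η.2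
  refine ⟨⟨_, hirr⟩, ?_, ?_⟩
  · intro n
    show homFun (f ^ (k + 1)) (n : G) * (η : G → ℂ) n = _
    rw [homFun_apply, MonoidHom.pow_apply, hfN n n.2, hη]
    simp
  · apply mem_principal_of_real hM
    · have h1 : (homFun (f ^ (k + 1)) * (η : G → ℂ)) 1 = (θ : N → ℂ) 1 := by
        rw [Pi.mul_apply, homFun_apply, map_one, ← hη]
        simp
      unfold charDegree at hodd ⊢
      show Odd ⌊((homFun (f ^ (k + 1)) * (η : G → ℂ)) 1).re⌋₊
      rw [h1]
      exact hodd
    · intro g hg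
      show conj (homFun (f ^ (k + 1)) g * (η : G → ℂ) g) = homFun (f ^ (k + 1)) g * (η : G → ℂ) g
      have h1 : conj ((η : G → ℂ) g) = ((f g : ℂˣ) : ℂ) * (η : G → ℂ) g := congrFun hf g
      have hu : ((f g : ℂˣ) : ℂ) ^ m = 1 := by
        rw [← Units.val_pow_eq_pow_val, ← map_pow, hord g hg]
        simp
      have hn : ‖((f g : ℂˣ) : ℂ)‖ = 1 := Complex.norm_eq_one_of_pow_eq_one hu hm0
      have hcu : conj ((f g : ℂˣ) : ℂ) * ((f g : ℂˣ) : ℂ) = 1 := by
        rw [mul_comm, Complex.mul_conj, Complex.normSq_eq_norm_sq, hn]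
        simp
      rw [map_mul, h1, homFun_apply, MonoidHom.pow_apply, Units.val_pow_eq_pow_val, map_pow]
      have h2 : ((f g : ℂˣ) : ℂ) = ((f g : ℂˣ) : ℂ) ^ (k + 1) * ((f g : ℂˣ) : ℂ) ^ (k + 1) := by
        rw [← pow_add, show k + 1 + (k + 1) = m + 1 by omega, pow_succ, hu, one_mul]
      calc conj ((f g : ℂˣ) : ℂ) ^ (k + 1) * (((f g : ℂˣ) : ℂ) * (η : G → ℂ) g)
          = conj ((f g : ℂˣ) : ℂ) ^ (k + 1) * ((((f g : ℂˣ) : ℂ) ^ (k + 1) * ((f g : ℂˣ) : ℂ) ^ (k + 1)) * (η : G → ℂ) g) := by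
            rw [← h2]
        _ = (conj ((f g : ℂˣ) : ℂ) * ((f g : ℂˣ) : ℂ)) ^ (k + 1) * (((f g : ℂˣ) : ℂ) ^ (k + 1) * (η : G → ℂ) g) := by
            rw [mul_pow]; ring
        _ = ((f g : ℂˣ) : ℂ) ^ (k + 1) * (η : G → ℂ) g := by rw [hcu, one_pow, one_mul]

end Cfsg.Agent.S4580
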