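import Cfsg.Statements.S4587
import Cfsg.Agent.Lib.Helper55.TwoGenC

set_option autoImplicit false
open Cfsg

namespace Cfsg.Agent.S4587

/-- Let G be a finite group, p a prime and P a Sylow p-subgroup of order at least p². Assume that G has no nontrivial normal subgroup of order prime to p, that the derived subgroup P' of P contains no nontrivial normal subgroup of G, and that G is not almost simple (there is no non-abelian simple normal subgroup of G with trivial centralizer). Then [P : P'] = p² if and only if some p-element x of G has centralizer whose order has p-part exactly p². -/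
theorem result {G : Type*} [Group G] [Finite G] (p : ℕ) [Fact p.Prime] (P : Sylow p G) (hbig : p ^ 2 ∣ Nat.card G) (hcore : Cfsg.pPrimeCore p G = ⊥)
    (hcore' : (⁅(P : Subgroup G), (P : Subgroup G)⁆).normalCore = ⊥) (hnas : ¬ ∃ S : Subgroup G, S.Normal ∧ IsSimpleGroup S ∧ ¬ IsMulCommutative S ∧ Subgroup.centralizer (S : Set G) = ⊥) :
    (⁅(P : Subgroup G), (P : Subgroup G)⁆).relIndex (P : Subgroup G) = p ^ 2 ↔
      ∃ x : G, (∃ k : ℕ, orderOf x = p ^ k) ∧ (Nat.card (Subgroup.centralizer ({x} : Set G))).factorization p = 2 := by
  have hp : p.Prime := Fact.out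
  have hrel : (⁅(P : Subgroup G), (P : Subgroup G)⁆).relIndex (P : Subgroup G) =
      (commutator ↥(P : Subgroup G)).index := by
    rw [Subgroup.relIndex, Cfsg.Agent.Lib.Helper55.commutator_subgroupOf_self]
  rw [hrel]
  constructor
  · intro hidx
    by_cases hab : ∀ a b : ↥(P : Subgroup G), a * b = b * a
    · refine ⟨1, ⟨0, by simp⟩, ?_⟩
      rw [Cfsg.Agent.Lib.Helper55.commutator_eq_bot_of_comm hab, Subgroup.index_bot,
        P.card_eq_multiplicity] at hidx
      have h1 := Nat.pow_right_injective hp.two_le hidx
      have h2 : Subgroup.centralizer ({1} : Set G) = ⊤ := by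
        ext z
        simp [Subgroup.mem_centralizer_singleton_iff]
      rw [h2, Subgroup.card_top]
      exact h1
    · have hΦ := Cfsg.Agent.Lib.Helper55.frattini_eq_commutator P.2 hab hidx
      have h : Cfsg.Agent.Lib.Helper55.MaxHyp P :=
        { hna := fun hc => hab hc.is_comm.comm
          hgen := by rw [hΦ]; exact hidx
          hcore := hcore
          hfrat := by rw [hΦ, Subgroup.map_subtype_commutator]; exact hcore'
          hidx := hidx
          hnas := hnas }
      exact h.exists_elt
  · rintro ⟨x, hx, hc⟩
    exact Cfsg.Agent.Lib.Helper55.index_commutator_of_elt P hbig hx hc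

end Cfsg.Agent.S4587
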