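import Cfsg.Statements.S4607
import Cfsg.Agent.Lib.Helper82.BrMain
import Cfsg.Agent.Lib.Helper83.BrandtConv
import Cfsg.Agent.Lib.Helper21.DefectCard
import Cfsg.Agent.Lib.Helper81.BlockDim
import Cfsg.Agent.S4733

set_option autoImplicit false
open Cfsg

namespace Cfsg.Agent.S4607


/-- Let G be a finite group, p a prime, M a maximal ideal of the algebraic integers containing p, and B a p-block of G with defect group D. Then B contains exactly two irreducible characters if and only if D has order 2. -/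
theorem result {G : Type*} [Group G] [Finite G] (p : ℕ) [Fact p.Prime] (M : Ideal Cfsg.AlgInt) (hM : Cfsg.IsPModular p M) (B : Set (Cfsg.IrrCharacter G)) (hB : Cfsg.IsPBlock M B) (D : Subgroup G) (hD : Cfsg.IsDefectGroup p M B D) : Nat.card B = 2 ↔ Nat.card D = 2 := by
  classical
  have hp : p.Prime := Fact.out
  constructor
  · intro h
    have : Fintype G := Fintype.ofFinite G
    have : Finite (Cfsg.IrrCharacter G) := Cfsg.Agent.Lib.Helper20.finite_irrCharacter
    have : Fintype (Cfsg.IrrCharacter G) := Fintype.ofFinite _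
    obtain ⟨x, y, hxy, huniv⟩ := Nat.card_eq_two_iff.1 h
    obtain ⟨χ₁, h1⟩ := x
    obtain ⟨χ₂, h2⟩ := y
    have h12 : χ₁ ≠ χ₂ := fun h => hxy (Subtype.ext h)
    have hBeq : B = {χ₁, χ₂} := by
      ext ψ
      constructor
      · intro hψ
        have h3 : (⟨ψ, hψ⟩ : B) ∈ ({⟨χ₁, h1⟩, ⟨χ₂, h2⟩} : Set B) := by
          rw [huniv]; exact Set.mem_univ _
        rcases h3 with h3 | h3
        · left; exact congrArg Subtype.val h3
        · right; exact congrArg Subtype.val h3
      · rintro (rfl | rfl)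
        · exact h1
        · exact h2
    subst hBeq
    have hdeg := Cfsg.Agent.Lib.Helper82.brandt_degrees hM h12 hB
    have hcard := Cfsg.Agent.Lib.Helper21.card_defectGroup hM _ hB D hD
    set n := Cfsg.charDegree (χ₂ : G → ℂ) with hn
    have hn0 : n ≠ 0 := Cfsg.Agent.Lib.Helper81.charDegree_ne_zero χ₂
    have hdef : Cfsg.blockDefect p ({χ₁, χ₂} : Set (Cfsg.IrrCharacter G))
        = (Nat.card G).factorization p - n.factorization p := by
      unfold Cfsg.blockDefect
      rw [Set.image_pair, hdeg, Set.pair_eq_singleton, csInf_singleton]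
    have hvan : ∀ x : G, p ∣ orderOf x → ∑ ψ : Cfsg.IrrCharacter G,
        (((if ψ ∈ ({χ₁, χ₂} : Set (Cfsg.IrrCharacter G)) then 1 else 0 : ℤ) : ℂ)) *
          (ψ : G → ℂ) x = 0 := by
      intro x hx
      have h3 := Cfsg.Agent.Lib.Helper81.sum_degree_mul_eq_zero hM hB hx
      have h4 : ∑ ψ : Cfsg.IrrCharacter G,
          (if ψ ∈ ({χ₁, χ₂} : Set (Cfsg.IrrCharacter G)) then
            (Cfsg.charDegree (ψ : G → ℂ) : ℂ) * (ψ : G → ℂ) x else 0)
          = (n : ℂ) * ∑ ψ : Cfsg.IrrCharacter G,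
            (((if ψ ∈ ({χ₁, χ₂} : Set (Cfsg.IrrCharacter G)) then 1 else 0 : ℤ) : ℂ)) *
              (ψ : G → ℂ) x := by
        rw [Finset.mul_sum]
        refine Finset.sum_congr rfl (fun ψ _ => ?_)
        split_ifs with hψ
        · rcases hψ with rfl | hψ
          · rw [hdeg]; simp
          · rw [Set.mem_singleton_iff.1 hψ, ← hn]; simp
        · simp
      have h3' : (n : ℂ) * ∑ ψ : Cfsg.IrrCharacter G,
            (((if ψ ∈ ({χ₁, χ₂} : Set (Cfsg.IrrCharacter G)) then 1 else 0 : ℤ) : ℂ)) *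
              (ψ : G → ℂ) x = 0 := by
        rw [← h4]
        convert h3
      exact (mul_eq_zero.1 h3').resolve_left (by exact_mod_cast hn0)
    have hdvd := Cfsg.Agent.Lib.Helper81.pow_dvd_degree_of_vanish hp
      (fun ψ => if ψ ∈ ({χ₁, χ₂} : Set (Cfsg.IrrCharacter G)) then 1 else 0) hvan
    have hsum : ∑ ψ : Cfsg.IrrCharacter G,
        (if ψ ∈ ({χ₁, χ₂} : Set (Cfsg.IrrCharacter G)) then 1 else 0 : ℤ) *
          (Cfsg.charDegree (ψ : G → ℂ) : ℤ) = ((2 * n : ℕ) : ℤ) := by
      have h5 : ∀ ψ : Cfsg.IrrCharacter G,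
          (if ψ ∈ ({χ₁, χ₂} : Set (Cfsg.IrrCharacter G)) then 1 else 0 : ℤ) *
            (Cfsg.charDegree (ψ : G → ℂ) : ℤ)
          = (if ψ = χ₁ then (n : ℤ) else 0) + (if ψ = χ₂ then (n : ℤ) else 0) := by
        intro ψ
        by_cases ha : ψ = χ₁
        · subst ha
          simp [h12, hdeg]
        · by_cases hb : ψ = χ₂
          · subst hb
            simp [Ne.symm h12, hn]
          · simp [ha, hb]
      rw [Finset.sum_congr rfl (fun ψ _ => h5 ψ), Finset.sum_add_distrib]
      simp
      ring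
    rw [hsum] at hdvd
    have hdvd' : p ^ (Nat.card G).factorization p ∣ 2 * n := by exact_mod_cast hdvd
    have h6 := (hp.pow_dvd_iff_le_factorization (by omega : 2 * n ≠ 0)).1 hdvd'
    rw [Nat.factorization_mul (by norm_num) hn0, Finsupp.add_apply,
      Nat.prime_two.factorization, Finsupp.single_apply] at h6
    have hd0 : Cfsg.blockDefect p ({χ₁, χ₂} : Set (Cfsg.IrrCharacter G)) ≠ 0 := by
      intro h0
      have h7 := ((Cfsg.Agent.S4733.result p M hM _ hB).2.1.1 h0).1
      omega
    by_cases hp2 : 2 = p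
    · subst hp2
      rw [if_pos rfl] at h6
      have : Cfsg.blockDefect 2 ({χ₁, χ₂} : Set (Cfsg.IrrCharacter G)) = 1 := by omega
      rw [hcard, this, pow_one]
    · rw [if_neg hp2] at h6
      omega
  · intro h
    exact Cfsg.Agent.Lib.Helper83.card_block_eq_two_of_card_defectGroup p M hM B hB D hD h

end Cfsg.Agent.S4607
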