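import Cfsg.Statements.S4720
-- import your own Cfsg.Agent.* helpers here
import Cfsg.Agent.Lib.Helper51.BlockCol
import Cfsg.Agent.Lib.Helper81.PrincipalSection

set_option autoImplicit false
open Cfsg

namespace Cfsg.Agent.S4720

open scoped ComplexConjugate
open Cfsg.Agent.Lib.Helper20 Cfsg.Agent.Lib.Helper81 Cfsg.Agent.Lib.Helper51

theorem extendByZero_eq_sum {G : Type*} [Group G] [DecidableEq G] (P : Subgroup G) [Fintype P]
    (η : P → ℂ) (g : G) :
    extendByZero P η g = ∑ y' : P, if (y' : G) = g then η y' else 0 := by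
  by_cases hg : g ∈ P
  · have h1 : extendByZero P η g = η ⟨g, hg⟩ :=
      Function.Injective.extend_apply (Subtype.val_injective (p := (· ∈ P))) η 0 ⟨g, hg⟩
    rw [h1, Finset.sum_eq_single ⟨g, hg⟩]
    · simp
    · intro b _ hb; rw [if_neg]; intro h; exact hb (Subtype.ext h)
    · intro h; exact absurd (Finset.mem_univ _) h
  · have h1 : extendByZero P η g = 0 := by
      apply Function.extend_apply'
      rintro ⟨a, rfl⟩; exact hg a.2
    rw [h1]; symm; apply Finset.sum_eq_zero; intro b _; rw [if_neg]; rintro rfl; exact hg b.2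

theorem card_conj_fiber {G : Type*} [Group G] (N : Subgroup G) (y y' : G) (n₀ : G) (hn₀ : n₀ ∈ N)
    (h : n₀ * y * n₀⁻¹ = y') :
    Nat.card {n : N // (n : G) * y * (n : G)⁻¹ = y'}
      = Nat.card ↥(N ⊓ Subgroup.centralizer ({y} : Set G)) := by
  apply Nat.card_congr
  refine ⟨fun n => ⟨n₀⁻¹ * (n.1 : G), ?_⟩, fun c => ⟨⟨n₀ * c.1, ?_⟩, ?_⟩, ?_, ?_⟩
  · refine Subgroup.mem_inf.2 ⟨N.mul_mem (N.inv_mem hn₀) n.1.2, ?_⟩
    rw [Subgroup.mem_centralizer_iff]
    intro v hv
    rw [Set.mem_singleton_iff] at hv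
    subst hv
    have h2 : (n.1 : G) * v * (n.1 : G)⁻¹ = n₀ * v * n₀⁻¹ := n.2.trans h.symm
    have h3 : (n.1 : G) * v = n₀ * v * n₀⁻¹ * (n.1 : G) := by rw [← h2]; group
    calc v * (n₀⁻¹ * (n.1 : G)) = n₀⁻¹ * (n₀ * v * n₀⁻¹ * (n.1 : G)) := by group
      _ = n₀⁻¹ * (n.1 : G) * v := by rw [← h3]; group
  · exact N.mul_mem hn₀ c.2.1
  · have h2 : y * (c.1 : G) = (c.1 : G) * y := Subgroup.mem_centralizer_iff.1 c.2.2 y rfl
    show n₀ * c.1 * y * (n₀ * c.1)⁻¹ = y'
    rw [← h]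
    calc n₀ * c.1 * y * (n₀ * c.1)⁻¹ = n₀ * ((c.1 : G) * y) * (c.1 : G)⁻¹ * n₀⁻¹ := by group
      _ = n₀ * y * n₀⁻¹ := by rw [← h2]; group
  · intro n; ext; simp
  · intro c; ext; simp

open Classical in
theorem key_sum {G : Type*} [Group G] [Fintype G] [Fintype (IrrCharacter G)]
    (p : ℕ) (M : Ideal Cfsg.AlgInt)
    (hM : Cfsg.IsPModular p M) (P : Subgroup G) (hP : IsPGroup p P) (N : Subgroup G) [Fintype N]
    (y : G) (hyP : y ∈ P)
    (hfus : ∀ g : G, g * y * g⁻¹ ∈ (P : Set G) → ∃ n ∈ N, n * y * n⁻¹ = g * y * g⁻¹) (w : ℚ)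
    (hw : ((∑ᶠ ψ ∈ Cfsg.principalBlock M ↥(Subgroup.centralizer ({y} : Set G)),
      Cfsg.charDegree (ψ : ↥(Subgroup.centralizer ({y} : Set G)) → ℂ) ^ 2) : ℚ)
        = w * Nat.card ↥(N ⊓ Subgroup.centralizer ({y} : Set G)))
    (y' : G) (hy' : y' ∈ P) :
    ∑ χ : IrrCharacter G, (if χ ∈ principalBlock M G then
        conj ((χ : G → ℂ) y) * (χ : G → ℂ) y' else 0)
      = (w : ℂ) * ∑ n : N, if (y' : G) = (n : G) * y * (n : G)⁻¹ then (1 : ℂ) else 0 := by
  classical
  have : Fact p.Prime := ⟨hM.1⟩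
  have hord : ∀ v ∈ P, ∃ k : ℕ, orderOf v = p ^ k := by
    intro v hv
    obtain ⟨k, hk⟩ := (IsPGroup.iff_orderOf.1 hP) ⟨v, hv⟩
    exact ⟨k, by rw [← hk, ← Subgroup.orderOf_coe]⟩
  have hcnt : (∑ n : N, if (y' : G) = (n : G) * y * (n : G)⁻¹ then (1 : ℂ) else 0)
      = (Nat.card {n : N // (n : G) * y * (n : G)⁻¹ = y'} : ℂ) := by
    rw [Finset.sum_boole, Nat.card_eq_fintype_card, Fintype.card_subtype]
    congr 2
    ext n
    simp only [Finset.mem_filter, Finset.mem_univ, true_and]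
    exact eq_comm
  rw [hcnt]
  by_cases hconj : IsConj y y'
  · obtain ⟨g, hg⟩ := isConj_iff.1 hconj
    obtain ⟨n₀, hn₀, h⟩ := hfus g (by rw [hg]; exact hy')
    rw [card_conj_fiber N y y' n₀ hn₀ (h.trans hg)]
    have : Finite (IrrCharacter (Subgroup.centralizer ({y} : Set G))) :=
      Cfsg.Agent.Lib.Helper20.finite_irrCharacter
    have : Fintype (IrrCharacter (Subgroup.centralizer ({y} : Set G))) := Fintype.ofFinite _
    have h1reg : Cfsg.IsPRegular p (1 : Subgroup.centralizer ({y} : Set G)) := by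
      simp only [Cfsg.IsPRegular, orderOf_one, Nat.dvd_one]
      exact hM.1.one_lt.ne'
    have h2 := principal_section_orth hM y (hord y hyP) h1reg h1reg
    have h3 : ((w * Nat.card ↥(N ⊓ Subgroup.centralizer ({y} : Set G)) : ℚ) : ℂ)
        = (w : ℂ) * (Nat.card ↥(N ⊓ Subgroup.centralizer ({y} : Set G)) : ℂ) := by
      push_cast; rfl
    rw [← h3, ← hw, finsum_mem_irr]
    push_cast
    have h4 : ∑ χ : IrrCharacter G, (if χ ∈ principalBlock M G then
        conj ((χ : G → ℂ) y) * (χ : G → ℂ) y' else 0)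
        = ∑ χ : IrrCharacter G, (if χ ∈ principalBlock M G then
        (χ : G → ℂ) (y * ((1 : Subgroup.centralizer ({y} : Set G)) : G)) *
          conj ((χ : G → ℂ) (y * ((1 : Subgroup.centralizer ({y} : Set G)) : G))) else 0) := by
      apply Finset.sum_congr rfl; intro χ _
      split_ifs
      · rw [← hg, irr_classFunction χ y g, Subgroup.coe_one, mul_one, mul_comm]
      · rfl
    rw [h4, h2]
    apply Finset.sum_congr rfl; intro ψ _
    split_ifs
    · rw [Cfsg.Agent.Lib.Helper82.isChar_one_eq (isCharacter_of_isIrrCharacter ψ.2)]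
      simp [sq]
    · simp
  · have hemp : IsEmpty {n : N // (n : G) * y * (n : G)⁻¹ = y'} :=
      ⟨fun n => hconj (isConj_iff.2 ⟨n.1, n.2⟩)⟩
    rw [Nat.card_of_isEmpty, Nat.cast_zero, mul_zero]
    have h1 := orth_pelem hM _ (Cfsg.Agent.S0936.isPBlock_principal (G := G) M) (hord y' hy') y y
      (isPPart_self (hord y hyP) hM.1) (fun h => hconj h.symm)
    rw [finsum_mem_irr] at h1
    refine Eq.trans ?_ h1
    apply Finset.sum_congr rfl; intro χ _
    split_ifs
    · rw [isCharacter_inv (isCharacter_of_isIrrCharacter χ.2), mul_comm]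
    · rfl

/-- Let p be a prime, M a maximal ideal of the algebraic integers containing p, P a p-subgroup of the finite group G, N a subgroup with P ≤ N ≤ N_G(P), and U a nonempty subset of P normalized by N such that an element of U and an element of P that are conjugate in G are already conjugate in N, and such that λ(C_G(y)) = w·#C_N(y) for every y ∈ U with one rational number w, where λ(X) denotes the sum of the squares of the degrees of the irreducible characters in the principal p-block of X. For a complex function θ on P and χ in the principal block of G put a_χ(θ) = #P⁻¹ Σ_{y ∈ P} χ(y) θ(y⁻¹). Then for generalized characters θ, η of P with θ vanishing outside U, Σ_χ a_χ(θ)·conj(a_χ(η)) = (w/#P²)·Σ_{y ∈ P} θ(y)·conj(Σ_{x ∈ N} η(x y x⁻¹)) (η extended by zero off P; the conjugates lie in P), the first sum over the principal p-block of G. -/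
theorem result {G : Type*} [Group G] [Finite G] (p : ℕ) [Fact p.Prime] (M : Ideal Cfsg.AlgInt) (hM : Cfsg.IsPModular p M) (P : Subgroup G) (hP : IsPGroup p P) (N : Subgroup G) (hPN : P ≤ N) (hNN : N ≤ Subgroup.normalizer (P : Set G)) (U : Set G) (hUne : U.Nonempty) (hUP : U ⊆ (P : Set G)) (hUN : ∀ n ∈ N, ∀ u ∈ U, n * u * n⁻¹ ∈ U) (hfus : ∀ u ∈ U, ∀ g : G, g * u * g⁻¹ ∈ (P : Set G) → ∃ n ∈ N, n * u * n⁻¹ = g * u * g⁻¹) (w : ℚ) (hw : ∀ y ∈ U, ((∑ᶠ ψ ∈ Cfsg.principalBlock M ↥(Subgroup.centralizer ({y} : Set G)), Cfsg.charDegree (ψ : ↥(Subgroup.centralizer ({y} : Set G)) → ℂ) ^ 2) : ℚ) = w * Nat.card ↥(N ⊓ Subgroup.centralizer ({y} : Set G))) (θ η : ↥P → ℂ) (hθ : Cfsg.IsGeneralizedCharacter ↥P θ) (hη : Cfsg.IsGeneralizedCharacter ↥P η) (hθU : ∀ y : ↥P, (y : G) ∉ U → θ y = 0) : ∑ᶠ χ ∈ Cfsg.principalBlock M G, ((Nat.card ↥P : ℂ)⁻¹ * ∑ᶠ y : ↥P, (χ : G → ℂ) (y : G) * θ y⁻¹) * (starRingEnd ℂ) ((Nat.card ↥P : ℂ)⁻¹ * ∑ᶠ y : ↥P, (χ : G → ℂ) (y : G)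 * η y⁻¹) = ((w : ℂ) / ((Nat.card ↥P : ℂ) ^ 2)) * ∑ᶠ y : ↥P, θ y * (starRingEnd ℂ) (∑ᶠ x : ↥N, Cfsg.extendByZero P η ((x : G) * (y : G) * (x : G)⁻¹)) := by
  classical
  have := Fintype.ofFinite G
  have : Finite (IrrCharacter G) := Cfsg.Agent.Lib.Helper20.finite_irrCharacter
  have : Fintype (IrrCharacter G) := Fintype.ofFinite _
  have : Fintype P := Fintype.ofFinite _
  have : Fintype N := Fintype.ofFinite _
  rw [finsum_mem_irr]
  simp only [finsum_eq_sum_of_fintype]
  set c : ℂ := (Nat.card ↥P : ℂ)⁻¹ with hc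
  have hcc : conj c = c := by rw [hc, map_inv₀, Complex.conj_natCast]
  -- reindexing
  have h1 : ∀ (χ : IrrCharacter G) (ζ : P → ℂ), ∑ y : ↥P, (χ : G → ℂ) (y : G) * ζ y⁻¹
      = ∑ y : ↥P, conj ((χ : G → ℂ) (y : G)) * ζ y := by
    intro χ ζ
    rw [← Equiv.sum_comp (Equiv.inv P)]
    apply Finset.sum_congr rfl; intro y _
    simp only [Equiv.inv_apply, inv_inv, Subgroup.coe_inv]
    rw [isCharacter_inv (isCharacter_of_isIrrCharacter χ.2)]
  have h2 : ∀ χ : IrrCharacter G, (if χ ∈ principalBlock M G then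
      (c * ∑ y : ↥P, (χ : G → ℂ) (y : G) * θ y⁻¹) *
        conj (c * ∑ y : ↥P, (χ : G → ℂ) (y : G) * η y⁻¹) else 0)
      = ∑ y : P, ∑ y' : P, c * c * θ y * conj (η y') * (if χ ∈ principalBlock M G then
        conj ((χ : G → ℂ) (y : G)) * (χ : G → ℂ) (y' : G) else 0) := by
    intro χ
    split_ifs
    · rw [h1, h1, map_mul, hcc, map_sum]
      simp only [map_mul, Complex.conj_conj]
      rw [mul_mul_mul_comm, Finset.sum_mul_sum, Finset.mul_sum]
      apply Finset.sum_congr rfl; intro y _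
      rw [Finset.mul_sum]
      apply Finset.sum_congr rfl; intro y' _
      ring
    · simp
  rw [Finset.sum_congr rfl (fun χ _ => h2 χ), Finset.sum_comm, Finset.mul_sum]
  apply Finset.sum_congr rfl; intro y _
  rw [Finset.sum_comm]
  by_cases hyU : (y : G) ∈ U
  · have h3 : ∀ y' : P, ∑ χ : IrrCharacter G, c * c * θ y * conj (η y') *
        (if χ ∈ principalBlock M G then
          conj ((χ : G → ℂ) (y : G)) * (χ : G → ℂ) (y' : G) else 0)
        = c * c * θ y * conj (η y') * ((w : ℂ) *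
          ∑ n : N, if (y' : G) = (n : G) * y * (n : G)⁻¹ then (1 : ℂ) else 0) := by
      intro y'
      rw [← Finset.mul_sum, key_sum p M hM P hP N (y : G) y.2 (hfus y hyU) w (hw y hyU) y' y'.2]
    rw [Finset.sum_congr rfl (fun y' _ => h3 y')]
    simp only [extendByZero_eq_sum]
    rw [Finset.sum_comm, map_sum, Finset.mul_sum, Finset.mul_sum]
    apply Finset.sum_congr rfl; intro y' _
    have h4 : ∑ n : N, (if (y' : G) = (n : G) * y * (n : G)⁻¹ then η y' else 0)
        = η y' * ∑ n : N, if (y' : G) = (n : G) * y * (n : G)⁻¹ then (1 : ℂ) else 0 := by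
      rw [Finset.mul_sum]
      apply Finset.sum_congr rfl; intro n _
      split_ifs <;> simp
    rw [h4, map_mul, Finset.sum_boole, Complex.conj_natCast, hc]
    have := card_ne_zero_complex (G := P)
    field_simp
  · rw [hθU y hyU]; simp

end Cfsg.Agent.S4720
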