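import Cfsg.Statements.S4762
import Cfsg.Agent.Lib.Helper82.Central
import Cfsg.Agent.Lib.Helper92.ESSub
import Cfsg.Agent.S0136
import Cfsg.Agent.S0187

set_option autoImplicit false
open Cfsg

namespace Cfsg.Agent.S4762

open Cfsg.Agent.Lib.Helper82
open scoped ComplexConjugate commutatorElement

theorem two_elt {G : Type*} [Group G] {H : Subgroup G} (h : Nat.card H = 2) :
    ∃ z ∈ H, z ≠ 1 ∧ z * z = 1 ∧ ∀ x ∈ H, x = 1 ∨ x = z := by
  obtain ⟨z, hz1, hz2⟩ := (Nat.card_eq_two_iff' (1 : H)).1 h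
  refine ⟨z, z.2, fun hh => hz1 (Subtype.ext hh), ?_, ?_⟩
  · have h1 : z ^ 2 = 1 := by
      rw [← h]; exact pow_card_eq_one'
    have h2 : ((z ^ 2 : H) : G) = 1 := by rw [h1]; rfl
    rw [← h2, sq]; rfl
  · intro x hx
    by_cases hx1 : x = 1
    · exact Or.inl hx1
    · right
      have := hz2 ⟨x, hx⟩ (fun hh => hx1 (congrArg Subtype.val hh))
      exact congrArg Subtype.val this

theorem pgroup_degree {G : Type*} [Group G] [Finite G] {p : ℕ} [Fact p.Prime] (hG : IsPGroup p G)
    {χ : G → ℂ} (hχ : IsIrrCharacter G χ) : p ∣ charDegree χ ↔ χ 1 ≠ 1 := by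
  have hp : p.Prime := Fact.out
  obtain ⟨n, hn⟩ := IsPGroup.iff_card.1 hG
  have h1 := isIrr_charDegree_dvd_card hχ
  rw [hn] at h1
  obtain ⟨k, _, hk⟩ := (Nat.dvd_prime_pow hp).1 h1
  rw [isChar_one_eq (isIrr_isChar hχ), hk]
  constructor
  · intro h h2
    have h3 : p ^ k = 1 := by exact_mod_cast h2
    rw [h3] at h
    exact hp.one_lt.ne' (Nat.dvd_one.1 h)
  · intro h
    rcases Nat.eq_zero_or_pos k with rfl | hk0
    · simp at h
    · exact dvd_pow_self p hk0.ne'

theorem exists_nonlinear {G : Type*} [Group G] [Finite G] (h : ¬ ∀ a b : G, a * b = b * a) :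
    ∃ χ : IrrCharacter G, (χ : G → ℂ) 1 ≠ 1 := by
  by_contra hcon
  push Not at hcon
  exact h (Cfsg.Agent.S0187.result.2 hcon)

theorem backward {G : Type*} [Group G] [Finite G] (hG : IsExtraspecial 2 G) :
    Nat.card {χ : IrrCharacter G // 2 ∣ charDegree (χ : G → ℂ)} = 1 := by
  classical
  have := Fintype.ofFinite G
  have : Fact (Nat.Prime 2) := ⟨Nat.prime_two⟩
  obtain ⟨⟨h2, _, hcomm⟩, hcard⟩ := hG
  obtain ⟨z, hzZ, hz1, hzz, hZ⟩ := two_elt hcard
  have key : ∀ χ : IrrCharacter G, (χ : G → ℂ) 1 ≠ 1 →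
      (χ : G → ℂ) z = - (χ : G → ℂ) 1 ∧ ∀ g, g ≠ 1 → g ≠ z → (χ : G → ℂ) g = 0 := by
    intro χ hχ1
    have hne : (χ : G → ℂ) z ≠ (χ : G → ℂ) 1 := by
      intro he
      apply hχ1
      rw [isIrr_linear_iff χ.2]
      intro x hx
      rw [hcomm] at hx
      rcases hZ x hx with rfl | rfl
      · rfl
      · exact he
    have hz : (χ : G → ℂ) z = - (χ : G → ℂ) 1 := by
      have h := isIrr_central_mul χ.2 hzZ z
      rw [hzz] at h
      have h3 : ((χ : G → ℂ) z - (χ : G → ℂ) 1) * ((χ : G → ℂ) z + (χ : G → ℂ) 1) = 0 := by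
        linear_combination -h
      rcases mul_eq_zero.1 h3 with h4 | h4
      · exact absurd (sub_eq_zero.1 h4) hne
      · exact eq_neg_of_add_eq_zero_left h4
    refine ⟨hz, fun g hg1 hgz => ?_⟩
    have hgZ : g ∉ Subgroup.center G := fun hh => by
      rcases hZ g hh with h | h
      · exact hg1 h
      · exact hgz h
    rw [Subgroup.mem_center_iff] at hgZ
    push Not at hgZ
    obtain ⟨a, ha⟩ := hgZ
    have h5 : a * g * a⁻¹ * g⁻¹ ∈ Subgroup.center G := by
      rw [← hcomm]
      exact Subgroup.commutator_mem_commutator (Subgroup.mem_top a) (Subgroup.mem_top g)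
    have h6 : a * g * a⁻¹ * g⁻¹ = z := by
      rcases hZ _ h5 with h | h
      · exfalso
        apply ha
        have : a * g = (a * g * a⁻¹ * g⁻¹) * (g * a) := by group
        rw [this, h, one_mul]
      · exact h
    have h7 : a * g * a⁻¹ = z * g := by
      rw [← h6]; group
    have h8 := isIrr_central_mul χ.2 hzZ g
    rw [← h7, isChar_conj_eq (isIrr_isChar χ.2), hz] at h8
    have h9 := isIrr_one_ne_zero χ.2
    have h10 : (χ : G → ℂ) g * ((χ : G → ℂ) 1 * 2) = 0 := by linear_combination h8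
    rcases mul_eq_zero.1 h10 with h | h
    · exact h
    · exact absurd h (mul_ne_zero h9 two_ne_zero)
  rw [Nat.card_eq_one_iff_unique]
  constructor
  · constructor
    rintro ⟨χ, hχ⟩ ⟨ψ, hψ⟩
    rw [pgroup_degree h2 χ.2] at hχ
    rw [pgroup_degree h2 ψ.2] at hψ
    apply Subtype.ext
    by_contra hne
    have hne' : (χ : G → ℂ) ≠ (ψ : G → ℂ) := fun h => hne (Subtype.ext h)
    have h1 := Cfsg.Agent.Lib.Helper20.classInner_irr_ne χ.2 ψ.2 hne'
    unfold classInner at h1
    have h0 : (Nat.card G : ℂ) ≠ 0 := by exact_mod_cast Nat.card_pos.ne'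
    have h2' : ∑ g : G, (χ : G → ℂ) g * conj ((ψ : G → ℂ) g) = 0 := by
      rcases mul_eq_zero.1 h1 with h | h
      · exact absurd h (inv_ne_zero h0)
      · exact h
    have h3 : ∑ g : G, (χ : G → ℂ) g * conj ((ψ : G → ℂ) g) =
        ∑ g ∈ ({1, z} : Finset G), (χ : G → ℂ) g * conj ((ψ : G → ℂ) g) := by
      symm
      apply Finset.sum_subset (Finset.subset_univ _)
      intro g _ hg
      simp only [Finset.mem_insert, Finset.mem_singleton, not_or] at hg
      rw [(key χ hχ).2 g hg.1 hg.2, zero_mul]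
    rw [h3, Finset.sum_pair (Ne.symm hz1), (key χ hχ).1, (key ψ hψ).1, map_neg,
      isChar_conj_one (isIrr_isChar ψ.2)] at h2'
    have h4 : (χ : G → ℂ) 1 * ((ψ : G → ℂ) 1 * 2) = 0 := by linear_combination h2'
    rcases mul_eq_zero.1 h4 with h | h
    · exact isIrr_one_ne_zero χ.2 h
    · exact (mul_ne_zero (isIrr_one_ne_zero ψ.2) two_ne_zero) h
  · have hnc : ¬ ∀ a b : G, a * b = b * a := by
      intro hc
      have : commutator G = ⊥ := by
        rw [commutator_def, Subgroup.commutator_eq_bot_iff_le_centralizer]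
        intro x _
        rw [Subgroup.mem_centralizer_iff]
        intro y _
        exact hc y x
      rw [this] at hcomm
      rw [← hcomm] at hzZ
      exact hz1 (Subgroup.mem_bot.1 hzZ)
    obtain ⟨χ, hχ⟩ := exists_nonlinear hnc
    exact ⟨⟨χ, (pgroup_degree h2 χ.2).2 hχ⟩⟩

theorem charDegree_mul' {G : Type*} [Group G] {χ α β : G → ℂ} (hχ : IsCharacter G χ)
    (hα : IsCharacter G α) (hβ : IsCharacter G β) (h : χ 1 = α 1 * β 1) :
    charDegree χ = charDegree α * charDegree β := by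
  rw [isChar_one_eq hχ, isChar_one_eq hα, isChar_one_eq hβ] at h
  exact_mod_cast h

/-- A nilpotent group with a unique irreducible character of degree divisible by `p` is a
`p`-group. -/
theorem isPGroup_of_unique {G : Type*} [Group G] [Finite G] [Group.IsNilpotent G] (p : ℕ)
    [Fact p.Prime] (χ₀ : IrrCharacter G) (hχ₀ : p ∣ charDegree (χ₀ : G → ℂ))
    (huniq : ∀ χ ψ : IrrCharacter G, p ∣ charDegree (χ : G → ℂ) → p ∣ charDegree (ψ : G → ℂ) →
      χ = ψ) : IsPGroup p G := by
  classical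
  have hp : p.Prime := Fact.out
  have hpG : p ∣ Nat.card G := hχ₀.trans (isIrr_charDegree_dvd_card χ₀.2)
  obtain ⟨e⟩ := (Group.isNilpotent_of_finite_tfae (G := G)).out 0 4 rfl rfl |>.mp ‹_›
  have hpm : p ∈ (Nat.card G).primeFactors :=
    Nat.mem_primeFactors.2 ⟨hp, hpG, Nat.card_pos.ne'⟩
  let P : Sylow p G := default
  let φ : G →* ↥(P : Subgroup G) :=
    (Pi.evalMonoidHom (fun Q : Sylow p G => ↥(Q : Subgroup G)) P).comp
      ((Pi.evalMonoidHom (fun q : (Nat.card G).primeFactors =>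
        ∀ Q : Sylow q G, ↥(Q : Subgroup G)) ⟨p, hpm⟩).comp e.symm.toMonoidHom)
  have hφ : Function.Surjective φ := by
    intro y
    obtain ⟨f, hf⟩ := Function.surjective_eval (β := fun Q : Sylow p G => ↥(Q : Subgroup G)) P y
    obtain ⟨f', hf'⟩ := Function.surjective_eval (β := fun q : (Nat.card G).primeFactors =>
        ∀ Q : Sylow q G, ↥(Q : Subgroup G)) ⟨p, hpm⟩ f
    refine ⟨e f', ?_⟩
    show (e.symm (e f')) ⟨p, hpm⟩ P = y
    rw [MulEquiv.symm_apply_apply]
    have hf'' : f' ⟨p, hpm⟩ = f := hf'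
    rw [hf'']
    exact hf
  set K : Subgroup G := φ.ker with hK
  have hKP : Nat.card K * Nat.card (P : Subgroup G) = Nat.card G := by
    rw [← Subgroup.card_mul_index K, hK, Subgroup.index_ker, MonoidHom.range_eq_top.2 hφ,
      Subgroup.card_top]
  have hKidx : Nat.card K = (P : Subgroup G).index := by
    have h1 := Subgroup.card_mul_index (P : Subgroup G)
    have h2 : 0 < Nat.card (P : Subgroup G) := Nat.card_pos
    apply Nat.eq_of_mul_eq_mul_left h2
    rw [h1, mul_comm, hKP]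
  have hcop : Nat.Coprime (Nat.card K) (Nat.card (P : Subgroup G)) := by
    rw [hKidx]
    exact (Sylow.card_coprime_index P).symm
  have hbot : K ⊓ (P : Subgroup G) = ⊥ := (Subgroup.disjoint_of_coprime_natCard hcop).eq_bot
  have hnd : ¬ p ∣ (P : Subgroup G).index := Sylow.not_dvd_index P
  -- the quotient by K is not commutative
  have hnc : ¬ ∀ a b : G ⧸ K, a * b = b * a := by
    intro hc
    have hPZ : (P : Subgroup G) ≤ Subgroup.center G := by
      intro x hx
      rw [Subgroup.mem_center_iff]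
      intro g
      have h1 : g * x * g⁻¹ * x⁻¹ ∈ K := by
        rw [← QuotientGroup.eq_one_iff]
        have := hc (g : G ⧸ K) (x : G ⧸ K)
        rw [QuotientGroup.mk_mul, QuotientGroup.mk_mul, QuotientGroup.mk_mul, this,
          QuotientGroup.mk_inv, QuotientGroup.mk_inv]
        group
      have h2 : g * x * g⁻¹ * x⁻¹ ∈ (P : Subgroup G) :=
        mul_mem (Subgroup.Normal.conj_mem inferInstance x hx g) (inv_mem hx)
      have h3 : g * x * g⁻¹ * x⁻¹ ∈ K ⊓ (P : Subgroup G) := ⟨h1, h2⟩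
      rw [hbot, Subgroup.mem_bot] at h3
      have : g * x = (g * x * g⁻¹ * x⁻¹) * (x * g) := by group
      rw [this, h3, one_mul]
    exact hnd (hχ₀.trans ((isIrr_charDegree_dvd_index_center χ₀.2).trans
      (Subgroup.index_dvd_of_le hPZ)))
  obtain ⟨α, hα⟩ := exists_nonlinear hnc
  have hQp : IsPGroup p (G ⧸ K) := by
    have h1 : Nat.card (G ⧸ K) = Nat.card (P : Subgroup G) := by
      rw [← Subgroup.index_eq_card]
      have h2 : 0 < Nat.card K := Nat.card_pos
      apply Nat.eq_of_mul_eq_mul_left h2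
      rw [Subgroup.card_mul_index, hKP]
    obtain ⟨n, hn⟩ := IsPGroup.iff_card.1 P.2
    exact IsPGroup.of_card (n := n) (h1.trans hn)
  have hαp : p ∣ charDegree (α : G ⧸ K → ℂ) := (pgroup_degree hQp α.2).2 hα
  have hsurj := prodQuot_surjective K (P : Subgroup G) hbot hKP
  -- every irreducible character of the quotient by P is trivial
  have htriv : ∀ β : IrrCharacter (G ⧸ (P : Subgroup G)), (β : G ⧸ (P : Subgroup G) → ℂ) = fun _ => 1 := by
    intro β
    have hirr : ∀ γ : IrrCharacter (G ⧸ (P : Subgroup G)), IsIrrCharacter G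
        (fun g : G => (α : G ⧸ K → ℂ) (g : G ⧸ K) * (γ : G ⧸ (P : Subgroup G) → ℂ) (g : G ⧸ (P : Subgroup G))) :=
      fun γ => isIrr_prodQuot K (P : Subgroup G) hbot hKP α.2 γ.2
    have hdeg : ∀ γ : IrrCharacter (G ⧸ (P : Subgroup G)), p ∣ charDegree
        (fun g : G => (α : G ⧸ K → ℂ) (g : G ⧸ K) * (γ : G ⧸ (P : Subgroup G) → ℂ) (g : G ⧸ (P : Subgroup G))) := by
      intro γ
      rw [charDegree_mul' (isIrr_isChar (hirr γ)) (isIrr_isChar (isIrr_inflate α.2))
        (isIrr_isChar (isIrr_inflate γ.2)) rfl]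
      exact Dvd.dvd.mul_right hαp _
    have heq := huniq ⟨_, hirr β⟩ ⟨_, hirr (trivIrr _)⟩ (hdeg β) (hdeg (trivIrr _))
    have heq' := congrArg Subtype.val heq
    funext y
    obtain ⟨g, hg⟩ := hsurj (1, y)
    have hg1 : (g : G ⧸ K) = 1 := congrArg Prod.fst hg
    have hg2 : (g : G ⧸ (P : Subgroup G)) = y := congrArg Prod.snd hg
    have h3 := congrFun heq' g
    simp only [hg1, hg2, trivIrr_apply, mul_one] at h3
    have h4 := isIrr_one_ne_zero α.2
    exact mul_left_cancel₀ h4 (h3.trans (mul_one _).symm)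
  have hidx : (P : Subgroup G).index = 1 := by
    by_contra hne
    obtain ⟨q, hq, hqd⟩ := Nat.exists_prime_and_dvd hne
    rw [Subgroup.index_eq_card] at hqd
    obtain ⟨β, hβ, _⟩ := exists_nonprincipal_not_dvd hq hqd
    exact hβ (htriv β)
  have htop : (P : Subgroup G) = ⊤ := Subgroup.index_eq_one.1 hidx
  have := P.2
  rw [htop] at this
  exact IsPGroup.of_equiv this Subgroup.topEquiv

theorem arith {p a b e : ℕ} (hp : p.Prime) (he : 0 < e)
    (h : p ^ a * p ^ b = p ^ b + (p ^ e) ^ 2) : p = 2 ∧ a = 1 := by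
  have ha : 0 < a := by
    rcases Nat.eq_zero_or_pos a with rfl | h0
    · simp at h
      exact absurd h.1 hp.pos.ne'
    · exact h0
  have h1 : (p ^ a - 1) * p ^ b = p ^ (2 * e) := by
    rw [Nat.sub_mul, h, one_mul, Nat.add_sub_cancel_left, ← pow_mul, mul_comm]
  have h2 : p ^ a - 1 ∣ p ^ (2 * e) := ⟨_, h1.symm⟩
  obtain ⟨f, _, hf⟩ := (Nat.dvd_prime_pow hp).1 h2
  have h3 : 1 ≤ p ^ a := Nat.one_le_pow _ _ hp.pos
  rcases Nat.eq_zero_or_pos f with rfl | hf0
  · have h4 : p ^ a = 2 := by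
      rw [pow_zero] at hf; omega
    have h5 : p ∣ 2 := by rw [← h4]; exact dvd_pow_self p ha.ne'
    have h6 : p = 2 := (Nat.prime_dvd_prime_iff_eq hp Nat.prime_two).1 h5
    subst h6
    refine ⟨rfl, ?_⟩
    exact Nat.pow_right_injective (le_refl 2) (by simpa using h4)
  · exfalso
    have h4 : p ∣ p ^ a - 1 := by rw [hf]; exact dvd_pow_self p hf0.ne'
    have h5 : p ∣ p ^ a := dvd_pow_self p ha.ne'
    have h6 : p ∣ 1 := by
      have := (Nat.dvd_sub h5 h4)
      rwa [Nat.sub_sub_self h3] at this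
    exact hp.one_lt.ne' (Nat.dvd_one.1 h6)

theorem forward_pgroup {G : Type*} [Group G] [Finite G] (p : ℕ)
    [Fact p.Prime] (hG : IsPGroup p G) (χ₀ : IrrCharacter G) (hχ₀ : p ∣ charDegree (χ₀ : G → ℂ))
    (huniq : ∀ χ ψ : IrrCharacter G, p ∣ charDegree (χ : G → ℂ) → p ∣ charDegree (ψ : G → ℂ) →
      χ = ψ) : p = 2 ∧ IsExtraspecial 2 G := by
  classical
  have hp : p.Prime := Fact.out
  have := Fintype.ofFinite (IrrCharacter G)
  have hsum := sum_sq_charDegree (G := G)
  rw [← Finset.sum_filter_add_sum_filter_not Finset.univ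
    (fun χ : IrrCharacter G => (χ : G → ℂ) 1 = 1)] at hsum
  have h1 : ∑ χ ∈ Finset.univ.filter (fun χ : IrrCharacter G => (χ : G → ℂ) 1 = 1),
      charDegree (χ : G → ℂ) ^ 2 = (commutator G).index := by
    rw [← card_linear_eq_index, Nat.card_eq_fintype_card, Fintype.card_subtype, Finset.card_eq_sum_ones]
    apply Finset.sum_congr rfl
    intro χ hχ
    have h2 : (χ : G → ℂ) 1 = 1 := (Finset.mem_filter.1 hχ).2
    rw [isChar_one_eq (isIrr_isChar χ.2)] at h2
    have h3 : charDegree (χ : G → ℂ) = 1 := by exact_mod_cast h2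
    rw [h3, one_pow]
  have h2 : Finset.univ.filter (fun χ : IrrCharacter G => ¬ (χ : G → ℂ) 1 = 1) = {χ₀} := by
    ext χ
    simp only [Finset.mem_filter, Finset.mem_univ, true_and, Finset.mem_singleton]
    constructor
    · intro h
      exact huniq χ χ₀ ((pgroup_degree hG χ.2).2 h) hχ₀
    · rintro rfl
      exact (pgroup_degree hG χ.2).1 hχ₀
  rw [h1, h2, Finset.sum_singleton, ← Subgroup.card_mul_index (commutator G)] at hsum
  obtain ⟨n, hn⟩ := IsPGroup.iff_card.1 hG
  obtain ⟨a, _, ha⟩ := (Nat.dvd_prime_pow hp).1 (hn ▸ Subgroup.card_subgroup_dvd_card (commutator G))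
  obtain ⟨b, _, hb⟩ := (Nat.dvd_prime_pow hp).1 (hn ▸ Subgroup.index_dvd_card (commutator G))
  obtain ⟨e, _, he⟩ := (Nat.dvd_prime_pow hp).1 (hn ▸ isIrr_charDegree_dvd_card χ₀.2)
  have he0 : 0 < e := by
    rcases Nat.eq_zero_or_pos e with rfl | h0
    · rw [he, pow_zero] at hχ₀
      exact absurd (Nat.dvd_one.1 hχ₀) hp.one_lt.ne'
    · exact h0
  have hsum' := hsum
  rw [ha, hb, he] at hsum'
  obtain ⟨hp2, ha1⟩ := arith hp he0 hsum'.symm
  subst hp2
  subst ha1
  rw [pow_one] at ha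
  refine ⟨rfl, ?_⟩
  obtain ⟨z, hzC, hz1, hzz, hC⟩ := two_elt ha
  have hzc : ∀ g : G, Commute g z := by
    intro g
    have h3 : g * z * g⁻¹ ∈ commutator G := Subgroup.Normal.conj_mem inferInstance z hzC g
    rcases hC _ h3 with h | h
    · exfalso
      apply hz1
      have : z = g⁻¹ * (g * z * g⁻¹) * g := by group
      rw [this, h]; group
    · show g * z = z * g
      have : g * z = (g * z * g⁻¹) * g := by group
      rw [this, h]
  have hCZ : commutator G ≤ Subgroup.center G := by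
    intro x hx
    rw [Subgroup.mem_center_iff]
    intro g
    rcases hC x hx with rfl | rfl
    · simp
    · exact hzc g
  have hcardZ : Nat.card (Subgroup.center G) ≤ 2 := by
    have h3 := isIrr_sq_degree_mul_card_center_le χ₀.2
    rw [← Subgroup.card_mul_index (commutator G), ha] at h3
    rw [ha] at hsum
    have h4 : (commutator G).index = charDegree (χ₀ : G → ℂ) ^ 2 := by omega
    rw [h4, mul_comm] at h3
    exact Nat.le_of_mul_le_mul_right h3 (pow_pos (isIrr_charDegree_pos χ₀.2) 2)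
  have hZeq : commutator G = Subgroup.center G :=
    Subgroup.eq_of_le_of_card_ge hCZ (by rw [ha]; exact hcardZ)
  refine Cfsg.Agent.Lib.Helper92.isExtraspecial_of hz1 hzz ?_ hzc ?_ ?_ hG
  · intro x y
    exact hC _ (Subgroup.commutator_mem_commutator (Subgroup.mem_top x) (Subgroup.mem_top y))
  · intro c hc
    apply hC
    rw [hZeq, Subgroup.mem_center_iff]
    exact hc
  · by_contra hcon
    push Not at hcon
    have hle : (⊤ : Subgroup G) ≤ commutator G := by
      intro r _
      by_cases hr : r = 1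
      · rw [hr]; exact one_mem _
      · rw [hcon r hr]; exact hzC
    have htop : commutator G = ⊤ := top_le_iff.1 hle
    rw [ha, htop, Subgroup.index_top, he] at hsum
    have : 2 ≤ 2 ^ e := by
      calc 2 = 2 ^ 1 := rfl
        _ ≤ 2 ^ e := Nat.pow_le_pow_right (by norm_num) he0
    nlinarith

/-- Let p be a prime and G a finite nilpotent group. Then G has exactly one irreducible complex character of degree divisible by p if and only if p = 2 and G is an extraspecial 2-group. -/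
theorem result {G : Type*} [Group G] [Finite G] [Group.IsNilpotent G] (p : ℕ) [Fact p.Prime] : Nat.card {χ : Cfsg.IrrCharacter G // p ∣ Cfsg.charDegree (χ : G → ℂ)} = 1 ↔ (p = 2 ∧ Cfsg.IsExtraspecial 2 G) := by
  constructor
  · intro h
    rw [Nat.card_eq_one_iff_unique] at h
    obtain ⟨hs, ⟨χ₀, hχ₀⟩⟩ := h
    have huniq : ∀ χ ψ : IrrCharacter G, p ∣ charDegree (χ : G → ℂ) → p ∣ charDegree (ψ : G → ℂ) →
        χ = ψ := fun χ ψ h1 h2 => congrArg Subtype.val (hs.elim ⟨χ, h1⟩ ⟨ψ, h2⟩)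
    exact forward_pgroup p (isPGroup_of_unique p χ₀ hχ₀ huniq) χ₀ hχ₀ huniq
  · rintro ⟨rfl, h⟩
    exact backward h

end Cfsg.Agent.S4762
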