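import Cfsg.Statements.S4840
import Cfsg.Agent.Lib.Helper71.GS.Main
import Cfsg.Agent.Lib.Helper9.GSBRIDGE
import Cfsg.Agent.Lib.Helper9.GSCENT
import Cfsg.Agent.S4835
import Cfsg.Agent.Lib.Helper54.GagCH1
import Cfsg.Agent.Lib.Helper54.GagCH2
import Cfsg.Agent.Lib.Helper54.GagCHK
import Cfsg.Agent.Lib.Helper31.CNSolv

set_option autoImplicit false
open Cfsg

namespace Cfsg.Agent.S4840

/-- Let G be a finite solvable group of order greater than 2 with an irreducible character nonzero on exactly two conjugacy classes. Then there is exactly one prime p with O_p(G) ≠ 1, and the quotient G/O_p(G) has a normal p-complement and commutative Sylow p-subgroups. -/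
theorem result {G : Type*} [Group G] [Finite G] [hs : Group.IsSolvable G] (hG : 2 < Nat.card G) (χ : Cfsg.IrrCharacter G) (hχ : Nat.card {C : ConjClasses G // ∃ g ∈ C.carrier, (χ : G → ℂ) g ≠ 0} = 2) :
    ∃ p : ℕ, p.Prime ∧ (∀ q : ℕ, q.Prime → (Cfsg.pCore q G ≠ ⊥ ↔ q = p)) ∧
      Cfsg.HasNormalPComplement p (G ⧸ Cfsg.pCore p G) ∧ ∀ Q : Sylow p (G ⧸ Cfsg.pCore p G), IsMulCommutative (Q : Subgroup (G ⧸ Cfsg.pCore p G)) := by
  obtain ⟨N, hNn, hN1, hmin, ⟨p, hp, hel⟩, hN, -⟩ := Cfsg.Agent.S4835.result hG χ hχ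
  have := Fact.mk hp
  have hN' : ∀ g : G, g ∈ N ↔ (χ : G → ℂ) g ≠ 0 := fun g => (hN g).symm
  have hNp : IsPGroup p N := by
    intro x
    refine ⟨1, ?_⟩
    apply Subtype.ext
    rw [pow_one]
    exact hel.2 x x.2
  have c1 := Cfsg.Agent.Lib.Helper54.Gag.ch1 χ hχ N hN'
  have D : Cfsg.Agent.Lib.Helper71.Gag.Dat p N :=
    ⟨hNp, hN1, c1, Cfsg.Agent.Lib.Helper54.Gag.ch2 χ N hN'
      (fun ψ hψ => Cfsg.Agent.Lib.Helper54.Gag.chk hG χ p N hN' hNp hN1 c1 ψ hψ)⟩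
  obtain ⟨V, _, _, _, _, ρ, L⟩ := Cfsg.Agent.Lib.Helper9.GS.bridge D hel.2
    (Cfsg.Agent.Lib.Helper9.GS.core_eq D)
  have hC := Cfsg.Agent.Lib.Helper71.GS.main_abs L (Cfsg.Agent.Lib.Helper31.pCore_quotient_pCore p)
  exact ⟨p, hp, Cfsg.Agent.Lib.Helper71.GS.uniq N hN1 hNp hmin, hC.1, hC.2⟩

end Cfsg.Agent.S4840
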