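import Cfsg.Statements.S5001
import Cfsg.Agent.Lib.Helper21.FirstMain
import Cfsg.Agent.Lib.Helper20.HeightZero
import Cfsg.Agent.Lib.Helper19.LinChar
import Cfsg.Agent.S4762
-- import your own Cfsg.Agent.* helpers here

set_option autoImplicit false
open Cfsg
open scoped ComplexConjugate
open Cfsg.Agent.Lib.Helper20 Cfsg.Agent.Lib.Helper81 Cfsg.Agent.Lib.Helper21 Cfsg.Agent.Lib.Helper19

namespace Cfsg.Agent.S5001

/-- multiplying by a central element -/
theorem irr_mul_central {G : Type*} [Group G] [Fintype G] {χ : G → ℂ} (hχ : IsIrrCharacter G χ)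
    (g z : G) (hz : z ∈ Subgroup.center G) : χ (g * z) = χ g * (χ z / χ 1) := by
  have h1 := sum_char_conj_mul hχ g z
  have h2 : ∀ t : G, χ (g * (t * z * t⁻¹)) = χ (g * z) := by
    intro t
    have : t * z * t⁻¹ = z := by
      rw [Subgroup.mem_center_iff.1 hz t, mul_inv_cancel_right]
    rw [this]
  rw [Finset.sum_congr rfl (fun t _ => h2 t), Finset.sum_const, Finset.card_univ, nsmul_eq_mul,
    ← Nat.card_eq_fintype_card] at h1
  have hG : (Nat.card G : ℂ) ≠ 0 := card_ne_zero_complex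
  have h3 : (Nat.card G : ℂ) * χ (g * z) = (Nat.card G : ℂ) * (χ g * (χ z / χ 1)) := by
    rw [h1]; ring
  exact mul_left_cancel₀ hG h3

/-- The function `u ↦ χ(u g₀)` on a subgroup `D` centralizing `g₀` has locally integral
multiplicities. -/
theorem classInner_shift_memLocalRing {G : Type*} [Group G] [Fintype G] {p : ℕ} {M : Ideal AlgInt}
    (hM : IsPModular p M) {χ : G → ℂ} (hχ : IsCharacter G χ) (g₀ : G) (D : Subgroup G) [Fintype D]
    (hD : D ≤ Subgroup.centralizer ({g₀} : Set G)) {μ : D → ℂ} (hμ : IsIrrCharacter D μ) :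
    MemLocalRing M (classInner (fun u : D => χ ((u : G) * g₀)) μ) := by
  classical
  set H := Subgroup.centralizer ({g₀} : Set G) with hH
  have : Fintype H := Fintype.ofFinite _
  have : Finite (IrrCharacter H) := finite_irrCharacter
  have : Fintype (IrrCharacter H) := Fintype.ofFinite _
  have hg₀ : g₀ ∈ H := by
    rw [hH, Subgroup.mem_centralizer_singleton_iff]
  have hc : (⟨g₀, hg₀⟩ : H) ∈ Subgroup.center H := by
    rw [Subgroup.mem_center_iff]
    intro h
    apply Subtype.ext
    have := Subgroup.mem_centralizer_singleton_iff.1 h.2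
    exact this
  have hres : IsCharacter H (fun x : H => χ x) := isCharacter_restrict hχ H
  have h1 := eq_sum_classInner_smul (isClassFunction_of_isCharacter hres)
  have h2 : (fun u : D => χ ((u : G) * g₀)) = ∑ ξ : IrrCharacter H,
      (classInner (fun x : H => χ x) (ξ : H → ℂ) * ((ξ : H → ℂ) ⟨g₀, hg₀⟩ / (ξ : H → ℂ) 1)) •
        ((ξ : H → ℂ) ∘ (Subgroup.inclusion hD)) := by
    funext u
    have h3 := congrFun h1 (Subgroup.inclusion hD u * ⟨g₀, hg₀⟩)
    rw [Finset.sum_apply] at h3 ⊢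
    have h4 : χ ((u : G) * g₀) = χ ((Subgroup.inclusion hD u * ⟨g₀, hg₀⟩ : H) : G) := rfl
    rw [h4, h3]
    apply Finset.sum_congr rfl
    intro ξ _
    simp only [Pi.smul_apply, smul_eq_mul, Function.comp]
    rw [irr_mul_central ξ.2 _ _ hc]
    ring
  rw [h2, classInner_sum_left]
  apply memLocalRing_sum hM
  intro ξ _
  rw [classInner_smul_left]
  obtain ⟨n, hn⟩ := isCharacter_classInner_nat hres ξ.2
  obtain ⟨m, hm⟩ := isCharacter_classInner_nat
    (isCharacter_comp_hom (isCharacter_of_isIrrCharacter ξ.2) (Subgroup.inclusion hD)) hμ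
  rw [hn, hm]
  refine memLocalRing_mul hM (memLocalRing_mul hM (memLocalRing_natCast hM n) ?_)
    (memLocalRing_natCast hM m)
  have h5 := centralChar_memLocalRing hM ξ ⟨g₀, hg₀⟩
  have h6 : centralChar (ξ : H → ℂ) ⟨g₀, hg₀⟩ = (ξ : H → ℂ) ⟨g₀, hg₀⟩ / (ξ : H → ℂ) 1 := by
    have h7 : Subgroup.centralizer ({(⟨g₀, hg₀⟩ : H)} : Set H) = ⊤ := by
      rw [eq_top_iff]
      intro h _
      rw [Subgroup.mem_centralizer_singleton_iff]
      exact Subgroup.mem_center_iff.1 hc h
    rw [centralChar, h7, Subgroup.index_top]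
    simp
  rwa [h6] at h5


/-- Let p be a prime, G a finite group and B a p-block of G (relative to a maximal ideal M of the algebraic integers containing p) with defect group D. Let Z be a central p-subgroup of G contained in D and λ a linear character of Z (a homomorphism to the nonzero complex numbers). Say an irreducible character χ of G lies over λ when χ(z) = χ(1)λ(z) for all z ∈ Z. If some irreducible character in B lying over λ has height zero, then λ extends to a linear character of D. -/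
theorem result {G : Type*} [Group G] [Finite G] (p : ℕ) [Fact p.Prime] (M : Ideal Cfsg.AlgInt) (hM : Cfsg.IsPModular p M) (B : Set (Cfsg.IrrCharacter G)) (hB : Cfsg.IsPBlock M B) (D : Subgroup G) (hD : Cfsg.IsDefectGroup p M B D) (Z : Subgroup G) (hZc : Z ≤ Subgroup.center G) (hZp : IsPGroup p ↥Z) (hZD : Z ≤ D) (lam : ↥Z →* ℂˣ) (χ : Cfsg.IrrCharacter G) (hχ : χ ∈ B) (hover : (∀ z : ↥Z, (χ : G → ℂ) z = (χ : G → ℂ) 1 * (lam z : ℂ))) (h0 : Cfsg.blockHeight p B (χ : G → ℂ) = 0) : (∃ μ : ↥D →* ℂˣ, ∀ z : ↥Z, μ ⟨(z : G), hZD z.2⟩ = lam z) := by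
  classical
  have := Fintype.ofFinite G
  have : Fintype D := Fintype.ofFinite _
  have : Finite (IrrCharacter D) := finite_irrCharacter
  have : Fintype (IrrCharacter D) := Fintype.ofFinite _
  rw [isDefectGroup_iff] at hD
  obtain ⟨g₀, hg₀, hS⟩ := hD
  have hu := height_zero_apply_defectClass hM B hB χ hχ h0 hg₀
  have hDc : D ≤ Subgroup.centralizer ({g₀} : Set G) := hS.le
  set f : D → ℂ := fun u : D => (χ : G → ℂ) ((u : G) * g₀) with hf
  have hfc : IsClassFunction D f := by
    intro u v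
    simp only [hf]
    have h1 : ((v * u * v⁻¹ : D) : G) * g₀ = (v : G) * ((u : G) * g₀) * (v : G)⁻¹ := by
      have h2 := hDc v.2
      rw [Subgroup.mem_centralizer_singleton_iff] at h2
      have h3 : (v : G)⁻¹ * g₀ = g₀ * (v : G)⁻¹ := by
        rw [eq_mul_inv_iff_mul_eq, mul_assoc, ← h2, inv_mul_cancel_left]
      push_cast
      rw [mul_assoc, h3]
      group
    rw [h1, irr_classFunction χ]
  have h1 := congrFun (eq_sum_classInner_smul hfc) 1
  rw [Finset.sum_apply] at h1
  simp only [Pi.smul_apply, smul_eq_mul] at h1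
  have hf1 : f 1 = (χ : G → ℂ) g₀ := by simp [hf]
  -- some linear constituent
  have h2 : ∃ μ : IrrCharacter D, classInner f (μ : D → ℂ) ≠ 0 ∧ (μ : D → ℂ) 1 = 1 := by
    by_contra hcon
    push Not at hcon
    apply hu
    rw [← hf1, h1]
    apply memLocalIdeal_sum hM
    intro μ _
    by_cases hc : classInner f (μ : D → ℂ) = 0
    · rw [hc, zero_mul]; exact memLocalIdeal_zero hM
    · have h3 := (Cfsg.Agent.S4762.pgroup_degree hS.isPGroup μ.2).2 (hcon μ hc)
      apply memLocalIdeal_mul_left hM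
        (classInner_shift_memLocalRing hM (isCharacter_of_isIrrCharacter χ.2) g₀ D hDc μ.2)
      rw [irr_one_eq_charDegree]
      exact (memLocalIdeal_natCast_iff hM _).2 h3
  obtain ⟨μ, hμ0, hμ1⟩ := h2
  obtain ⟨φ, hφ⟩ := exists_hom_of_linear (μ : D → ℂ) ⟨isCharacter_of_isIrrCharacter μ.2, hμ1⟩
  refine ⟨φ, fun z => ?_⟩
  set z' : D := ⟨(z : G), hZD z.2⟩ with hz'
  -- shift the sum by `z`
  have h3 : ∑ u : D, f u * conj ((μ : D → ℂ) u) ≠ 0 := by
    intro h
    apply hμ0
    rw [classInner, h, mul_zero]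
  have h4 : ∑ u : D, f u * conj ((μ : D → ℂ) u)
      = ∑ u : D, f (u * z') * conj ((μ : D → ℂ) (u * z')) :=
    (Equiv.sum_comp (Equiv.mulRight z') (fun u => f u * conj ((μ : D → ℂ) u))).symm
  have h10 := irr_one_ne_zero χ.2
  have h5 : ∀ u : D, f (u * z') * conj ((μ : D → ℂ) (u * z'))
      = ((lam z : ℂ) * conj ((φ z' : ℂˣ) : ℂ)) * (f u * conj ((μ : D → ℂ) u)) := by
    intro u
    have h6 : f (u * z') = f u * (lam z : ℂ) := by
      simp only [hf]
      have h7 : ((u * z' : D) : G) * g₀ = ((u : G) * g₀) * (z : G) := by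
        have := Subgroup.mem_center_iff.1 (hZc z.2) g₀
        push_cast
        rw [mul_assoc, mul_assoc]
        congr 1
        exact this.symm
      rw [h7, irr_mul_central χ.2 _ _ (hZc z.2), hover z]
      field_simp
    rw [h6, hφ]
    simp only [homFun_apply, map_mul, Units.val_mul]
    ring
  rw [Finset.sum_congr rfl (fun u _ => h5 u), ← Finset.mul_sum] at h4
  have h6 : (lam z : ℂ) * conj ((φ z' : ℂˣ) : ℂ) = 1 := by
    have h7 : (1 - (lam z : ℂ) * conj ((φ z' : ℂˣ) : ℂ)) *
        ∑ u : D, f u * conj ((μ : D → ℂ) u) = 0 := by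
      rw [sub_mul, one_mul, ← h4, sub_self]
    rcases mul_eq_zero.1 h7 with h8 | h8
    · exact (sub_eq_zero.1 h8).symm
    · exact absurd h8 h3
  -- `conj (φ z') = (φ z')⁻¹`
  have h7 : conj ((φ z' : ℂˣ) : ℂ) = ((φ z' : ℂˣ) : ℂ)⁻¹ := by
    have h8 := isCharacter_inv (isCharacter_of_isIrrCharacter μ.2) z'
    rw [hφ] at h8
    simp only [homFun_apply, map_inv, Units.val_inv_eq_inv_val] at h8
    exact h8.symm
  rw [h7] at h6
  apply Units.ext
  have h9 : ((φ z' : ℂˣ) : ℂ) ≠ 0 := Units.ne_zero _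
  field_simp at h6
  exact h6.symm

end Cfsg.Agent.S5001
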