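import Cfsg.Statements.S5106
import Cfsg.Agent.Lib.Helper87.NormalCrit
open Cfsg.Agent.Lib.Helper87
open scoped commutatorElement

set_option autoImplicit false
open Cfsg

namespace Cfsg.Agent.S5106

/-- In a saturated fusion system over a finite p-group S, a subgroup R ≤ S is normal in the system if and only if every map of the system whose source is a subgroup of R is the restriction of an element of Aut_F(R). -/
theorem result {Ω : Type*} [Group Ω] {S : Subgroup Ω} [Finite S] (p : ℕ) [Fact p.Prime] (hS : IsPGroup p S) (F : Cfsg.FusionSystem S) (hF : F.IsSaturated p) (R : Subgroup Ω) (hRS : R ≤ S) : F.IsNormal R ↔ ∀ (P : Subgroup Ω) (hPR : P ≤ R) (φ : P →* Ω), φ ∈ F.Hom P → ∃ α ∈ F.autGroup R, ∀ x : P, ((α (Subgroup.inclusion hPR x) : R) : Ω) = φ x := by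
  constructor
  · intro h P hPR φ hφ
    obtain ⟨f', hf', hag, hR⟩ := ((isNormal_iff F R).1 h).2 P _ (Mor.of_hom hφ)
    rw [sup_eq_right.2 hPR] at hf'
    obtain ⟨α, hα, e⟩ := Iso.exists_aut (F := F) (P := R) (f := f') ⟨hf', hR⟩
    refine ⟨α, hα, fun x => ?_⟩
    rw [e]
    show f' x = φ x
    rw [hag x x.2, ext_coe]
  · intro h
    have : Finite R := finite_of_le hRS
    -- function form of the hypothesis
    have h' : ∀ (P : Subgroup Ω) (f : Ω → Ω), Mor F P f → ∃ α ∈ F.autGroup R,
        ∀ x (hx : x ∈ R), x ∈ P → ((α ⟨x, hx⟩ : R) : Ω) = f x := by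
      intro P f hf
      obtain ⟨φ, hφ, e⟩ := hf.mono (inf_le_left : P ⊓ R ≤ P)
      obtain ⟨α, hα, hc⟩ := h (P ⊓ R) inf_le_right φ hφ
      refine ⟨α, hα, fun x hx hxP => ?_⟩
      have := hc ⟨x, hxP, hx⟩
      rw [e] at this
      exact this
    have hchar : ∀ H : Subgroup R, H.Characteristic → F.StronglyClosed (H.map R.subtype) := by
      intro H hH
      rw [stronglyClosed_iff]
      refine ⟨?_, fun P f hf x hx hxH => ?_⟩
      · rintro _ ⟨z, -, rfl⟩
        exact hRS z.2
      · obtain ⟨z, hz, rfl⟩ := hxH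
        obtain ⟨α, -, hc⟩ := h' P f hf
        have h1 := hc z z.2 hx
        refine ⟨α z, ?_, h1⟩
        have h2 := hH.fixed α
        have h3 : z ∈ H.comap α.toMonoidHom := by rw [h2]; exact hz
        exact h3
    have hnil : Group.IsNilpotent R := (hS.to_le hRS).isNilpotent
    obtain ⟨c, hc⟩ := hnil.nilpotent'
    have hRc : (Subgroup.upperCentralSeries R c).map R.subtype = R := by
      rw [hc, ← MonoidHom.range_eq_map, Subgroup.range_subtype]
    have hRsc : F.StronglyClosed R := hRc ▸ hchar _ inferInstance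
    have hX0 : (Subgroup.upperCentralSeries R 0).map R.subtype = ⊥ := by
      rw [Subgroup.upperCentralSeries_zero, Subgroup.map_bot]
    refine isNormal_of_series hS hF hRsc
      (fun i => if i ≤ c then (Subgroup.upperCentralSeries R i).map R.subtype else S) ?_ (c + 1)
      (by simp) ?_ ?_ ?_
    · intro i
      by_cases hi : i ≤ c
      · simp only [hi, if_true]
        exact hchar _ inferInstance
      · simp only [hi, if_false]
        exact stronglyClosed_top F
    · simp only [Nat.zero_le, if_true, hX0]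
      exact isNormal_bot F
    · have h0 : (if 0 ≤ c then (Subgroup.upperCentralSeries R 0).map R.subtype else S) = ⊥ := by
        rw [if_pos (Nat.zero_le c), hX0]
      show IsPGroup p ↥(F.autGroup
        (if 0 ≤ c then (Subgroup.upperCentralSeries R 0).map R.subtype else S))
      rw [h0]
      exact isPGroup_autGroup_bot F p
    · intro i hi q hq x hx
      have hic : i ≤ c := by omega
      simp only [hic, if_true]
      by_cases hi1 : i + 1 ≤ c
      · simp only [hi1, if_true] at hx
        obtain ⟨z, hz, rfl⟩ := hx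
        have h1 := (Subgroup.mem_upperCentralSeries_succ_iff).1 (Subgroup.inv_mem _ hz) ⟨q, hq⟩
        refine ⟨_, h1, ?_⟩
        show (z : Ω)⁻¹ * q * ((z : Ω)⁻¹)⁻¹ * q⁻¹ = (z : Ω)⁻¹ * (q * z * q⁻¹)
        group
      · simp only [hi1, if_false] at hx
        have hic' : i = c := by omega
        rw [hic', hRc]
        have h1 : x⁻¹ * (q * x * q⁻¹) = (x⁻¹ * q * x⁻¹⁻¹) * q⁻¹ := by group
        rw [h1]
        exact R.mul_mem (StronglyClosed.conj_mem hRsc (S.inv_mem hx) hq) (R.inv_mem hq)

end Cfsg.Agent.S5106
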