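import Cfsg.Statements.S5178
import Cfsg.Agent.Lib.Helper16.Ess.Extra
import Cfsg.Agent.Lib.Helper16.CIOdd

set_option autoImplicit false
universe u
open Cfsg

namespace Cfsg.Agent.S5178

open Cfsg.Agent.Lib.Helper16.Ess Cfsg.Agent.Lib.Helper16.CenterIndex Cfsg.Agent.Lib.Helper86
open Cfsg.Agent.Lib.Helper16.CIFusion

/-- Let p be an odd prime, S a finite p-group containing an extraspecial subgroup Q of index p, and F a saturated fusion system over S whose largest subgroup normal in F is trivial. Then the centre of S equals the centre of Q. -/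
theorem result {Ω : Type u} [Group Ω] {S : Subgroup Ω} [Finite S] (p : ℕ) [Fact p.Prime] (hp : Odd p) (hS : IsPGroup p S)
    (Q : Subgroup Ω) (hQS : Q ≤ S) (hQ : Cfsg.IsExtraspecial p ↥Q) (hQi : (Q.subgroupOf S).index = p)
    (F : Cfsg.FusionSystem S) (hF : F.IsSaturated p) (hO : F.core = ⊥) :
    S ⊓ Subgroup.centralizer (S : Set Ω) = Q ⊓ Subgroup.centralizer (Q : Set Ω) := by
  have X := XData.of hS hQS hQ hQi
  have hp2 : p ≠ 2 := by
    rintro rfl
    exact absurd hp (by decide)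
  show ZS S = ZS Q
  refine le_antisymm ?_ X.ZQ_le
  intro c hc
  by_cases hcQ : c ∈ Q
  · exact mem_ZS.2 ⟨hcQ, fun q hq => ZS_comm hc (hQS hq)⟩
  exfalso
  -- all commutators of `S` lie in `Z(Q)`
  have hD : ∀ x ∈ S, ∀ y ∈ S, x * y * x⁻¹ * y⁻¹ ∈ ZS Q := by
    intro x hx y hy
    obtain ⟨a, ha, i, rfl⟩ := X.decomp (ZS_le hc) hcQ hx
    obtain ⟨b, hb, j, rfl⟩ := X.decomp (ZS_le hc) hcQ hy
    have hci : c ^ i ∈ ZS S := (ZS S).pow_mem hc i
    have hcj : c ^ j ∈ ZS S := (ZS S).pow_mem hc j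
    have e : a * c ^ i * (b * c ^ j) * (a * c ^ i)⁻¹ * (b * c ^ j)⁻¹ = a * b * a⁻¹ * b⁻¹ := by
      have e1 : b * c ^ i = c ^ i * b := ZS_comm hci (hQS hb)
      have e2 : a⁻¹ * c ^ j = c ^ j * a⁻¹ := ZS_comm hcj (hQS (Q.inv_mem ha))
      have e3 : a⁻¹ * c ^ i = c ^ i * a⁻¹ := ZS_comm hci (hQS (Q.inv_mem ha))
      calc a * c ^ i * (b * c ^ j) * (a * c ^ i)⁻¹ * (b * c ^ j)⁻¹
          = a * (c ^ i * b) * c ^ j * (c ^ i)⁻¹ * a⁻¹ * (c ^ j)⁻¹ * b⁻¹ := by group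
        _ = a * b * (c ^ i * c ^ j * (c ^ i)⁻¹) * a⁻¹ * (c ^ j)⁻¹ * b⁻¹ := by rw [← e1]; group
        _ = a * b * (c ^ j * a⁻¹) * (c ^ j)⁻¹ * b⁻¹ := by
            rw [← pow_add, add_comm, pow_add]; group
        _ = a * b * a⁻¹ * b⁻¹ := by rw [← e2]; group
    rw [e]
    exact X.hcomm a ha b hb
  have hZS : ∀ g ∈ S, ∀ z ∈ ZS Q, g * z = z * g := fun g hg z hz => ZS_comm (X.ZQ_le hz) hg
  have hnaS : ∃ x ∈ S, ∃ y ∈ S, x * y ≠ y * x := by
    obtain ⟨x, hx, y, hy, h⟩ := X.hna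
    exact ⟨x, hQS hx, y, hQS hy, h⟩
  by_cases hess : ∃ E : Subgroup Ω, F.IsEssential p E
  · obtain ⟨E, hE⟩ := hess
    have hES : E ≤ S := hE.1.1
    have hcomm : ∀ g ∈ S, ∀ e ∈ E, g * e * g⁻¹ * e⁻¹ ∈ ZS Q := fun g hg e he => hD g hg e (hES he)
    have hZE : ZS Q ≤ E := by
      intro z hz
      have h1 := X.ZQ_le hz
      apply hE.1.2 E (isConj_refl F hE.1.1)
      refine ⟨ZS_le h1, Subgroup.mem_centralizer_iff.2 ?_⟩
      intro e he
      exact ZS_comm h1 (hE.1.1 he)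
    by_cases hab : ∀ a ∈ E, ∀ b ∈ E, a * b = b * a
    · have h1 := card_le_of_transvections hS F hF hE hab hZE X.hZc hES le_rfl hZS hcomm
      have h2 := card_eq_of_abelian hS hES hab hnaS h1 X.hZc hcomm
      have H : Setup p F (ZS Q) := ⟨hS, hF, h2, X.ZQ_le, X.hZc, hD⟩
      exact hcQ (ZS_le (H.odd_ZS_le hp2 hO hc))
    · push Not at hab
      have h1 := le_of_nonabelian hS F hF hE hab X.hZc hES le_rfl hZS hcomm
      exact absurd (Oliver.essential_lt hS hF hE) (not_lt_of_ge h1)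
  · push Not at hess
    have hn : F.IsNormal S := by
      refine isNormal_of_invariant hS F hF (fun P hP => ?_)
      rcases hP with rfl | hP
      · refine ⟨le_rfl, fun α _ => ?_⟩
        rw [Subgroup.subgroupOf_self]
        exact Subgroup.map_top_of_surjective _ α.surjective
      · exact absurd hP (hess P)
    have h1 : S ≤ F.core := le_sSup hn
    rw [hO] at h1
    obtain ⟨x, hx, y, hy, h⟩ := hnaS
    apply h
    rw [Subgroup.mem_bot.1 (h1 hx), Subgroup.mem_bot.1 (h1 hy)]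

end Cfsg.Agent.S5178
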