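import Cfsg.Statements.S5179
import Cfsg.Agent.Lib.Helper16.Ess.Extra

set_option autoImplicit false
universe u
open Cfsg

namespace Cfsg.Agent.S5179

open Cfsg.Agent.Lib.Helper16.Ess Cfsg.Agent.Lib.Helper16.CenterIndex Cfsg.Agent.Lib.Helper86

/-- Let p be an odd prime, S a finite p-group of order at least p⁶ containing an extraspecial subgroup Q of index p, and F a saturated fusion system over S whose largest subgroup normal in F is trivial. Then no proper subgroup of Q is essential in F: an essential subgroup of F contained in Q equals Q. -/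
theorem result {Ω : Type u} [Group Ω] {S : Subgroup Ω} [Finite S] (p : ℕ) [Fact p.Prime] (hp : Odd p) (hS : IsPGroup p S)
    (Q : Subgroup Ω) (hQS : Q ≤ S) (hQ : Cfsg.IsExtraspecial p ↥Q) (hQi : (Q.subgroupOf S).index = p)
    (h6 : p ^ 6 ≤ Nat.card S)
    (F : Cfsg.FusionSystem S) (hF : F.IsSaturated p) (hO : F.core = ⊥)
    (E : Subgroup Ω) (hEQ : E ≤ Q) (hE : F.IsEssential p E) : E = Q := by
  have X := XData.of hS hQS hQ hQi
  have hfQ : Finite Q := Cfsg.Agent.Lib.Helper16.CenterIndex.finite_of_le hQS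
  have hZQ : ∀ g ∈ Q, ∀ z ∈ ZS Q, g * z = z * g := fun g hg z hz => ZS_comm hz hg
  have hcomm : ∀ g ∈ Q, ∀ e ∈ E, g * e * g⁻¹ * e⁻¹ ∈ ZS Q := fun g hg e he => X.hcomm g hg e (hEQ he)
  have hZE : ZS Q ≤ E := by
    intro z hz
    have h1 := X.ZQ_le hz
    apply hE.1.2 E (isConj_refl F hE.1.1)
    refine ⟨ZS_le h1, Subgroup.mem_centralizer_iff.2 ?_⟩
    intro e he
    exact ZS_comm h1 (hE.1.1 he)
  by_cases hab : ∀ a ∈ E, ∀ b ∈ E, a * b = b * a
  · exfalso
    have h1 := card_le_of_transvections hS F hF hE hab hZE X.hZc hEQ hQS hZQ hcomm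
    have h2 := card_eq_of_abelian (hS.to_le hQS) hEQ hab X.hna h1 X.hZc hcomm
    have h3 := X.card_S
    rw [h2, X.hZc] at h3
    rw [h3] at h6
    have h4 : p * (p ^ 2 * p) = p ^ 4 := by ring
    rw [h4] at h6
    have h5 : p ^ 4 < p ^ 6 := Nat.pow_lt_pow_right (Fact.out : p.Prime).one_lt (by norm_num)
    omega
  · push Not at hab
    exact le_antisymm hEQ (le_of_nonabelian hS F hF hE hab X.hZc hEQ hQS hZQ hcomm)

end Cfsg.Agent.S5179
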