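import Cfsg.Statements.S5191
-- import your own Cfsg.Agent.* helpers here

set_option autoImplicit false
open Cfsg

namespace Cfsg.Agent.S5191

/-- Fusion in a finite group G and in its quotient by O_{p'}(G) agree. Let S be a Sylow p-subgroup of G, N = O_{p'}(G) and P ≤ S. If an element of G/N conjugates the image of P into the image of S, then some element g of G conjugates P into S and induces the same map on P modulo N. (Together with the injectivity of S → G/N this says that g ↦ gN induces an isomorphism of the fusion system of G on S with that of G/N on SN/N.) -/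
theorem result {G : Type*} [Group G] [Finite G] {p : ℕ} [Fact p.Prime]
    [hN : (Cfsg.pPrimeCore p G).Normal] (S : Sylow p G) (P : Subgroup G) (hP : P ≤ (S : Subgroup G))
    (γ : G ⧸ Cfsg.pPrimeCore p G)
    (hγ : ∀ x ∈ P, γ * QuotientGroup.mk x * γ⁻¹ ∈ ((S : Subgroup G).map (QuotientGroup.mk' (Cfsg.pPrimeCore p G)))) :
    ∃ g : G, ∀ x ∈ P, g * x * g⁻¹ ∈ S ∧
      (QuotientGroup.mk (g * x * g⁻¹) : G ⧸ Cfsg.pPrimeCore p G) = γ * QuotientGroup.mk x * γ⁻¹ := by
  obtain ⟨g₀, rfl⟩ := QuotientGroup.mk_surjective γ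
  set N := Cfsg.pPrimeCore p G with hNdef
  set H : Subgroup G := (S : Subgroup G) ⊔ N with hH
  have hconj : ∀ x ∈ P, g₀ * x * g₀⁻¹ ∈ H := by
    intro x hx
    obtain ⟨s, hs, hse⟩ := hγ x hx
    have h1 : (QuotientGroup.mk s : G ⧸ N) = QuotientGroup.mk (g₀ * x * g₀⁻¹) := by
      simpa using hse
    have h2 : s⁻¹ * (g₀ * x * g₀⁻¹) ∈ N := QuotientGroup.eq.mp h1
    have h3 : g₀ * x * g₀⁻¹ = s * (s⁻¹ * (g₀ * x * g₀⁻¹)) := by group
    rw [h3]
    exact H.mul_mem (Subgroup.mem_sup_left hs) (Subgroup.mem_sup_right h2)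
  let P' : Subgroup G := P.map (MulAut.conj g₀).toMonoidHom
  have hP'H : P' ≤ H := by
    rintro _ ⟨x, hx, rfl⟩
    exact hconj x hx
  have hPp : IsPGroup p P := S.isPGroup'.to_le hP
  have hP'p : IsPGroup p P' := hPp.map _
  have hP'p2 : IsPGroup p (P'.subgroupOf H) :=
    hP'p.comap_of_injective H.subtype H.subtype_injective
  obtain ⟨Q, hQ⟩ := hP'p2.exists_le_sylow
  let SH : Sylow p H := S.subtype (le_sup_left : (S : Subgroup G) ≤ H)
  obtain ⟨h, hh⟩ := MulAction.exists_smul_eq H Q SH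
  obtain ⟨s, hs, n, hn, hsn⟩ := Subgroup.mem_sup_of_normal_right.mp h.2
  have key : ∀ x ∈ P, (h : G) * (g₀ * x * g₀⁻¹) * (h : G)⁻¹ ∈ S := by
    intro x hx
    have hx1 : (⟨g₀ * x * g₀⁻¹, hconj x hx⟩ : H) ∈ Q := by
      apply hQ
      rw [Subgroup.mem_subgroupOf]
      exact ⟨x, hx, rfl⟩
    have hx2 : h * (⟨g₀ * x * g₀⁻¹, hconj x hx⟩ : H) * h⁻¹ ∈ (h • Q : Sylow p H) := by
      rw [← SetLike.mem_coe, Sylow.coe_smul] 
      exact ⟨_, hx1, rfl⟩
    rw [hh] at hx2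
    have hx3 : h * (⟨g₀ * x * g₀⁻¹, hconj x hx⟩ : H) * h⁻¹ ∈ (S : Subgroup G).subgroupOf H := by
      rw [← Sylow.coe_subtype (P := S) (le_sup_left : (S : Subgroup G) ≤ H)]
      exact hx2
    exact Subgroup.mem_subgroupOf.mp hx3
  refine ⟨n * g₀, fun x hx => ⟨?_, ?_⟩⟩
  · have h1 := key x hx
    rw [← hsn] at h1
    have h2 : n * g₀ * x * (n * g₀)⁻¹ = s⁻¹ * (s * n * (g₀ * x * g₀⁻¹) * (s * n)⁻¹) * s := by group
    rw [h2]
    exact (S : Subgroup G).mul_mem ((S : Subgroup G).mul_mem ((S : Subgroup G).inv_mem hs) h1) hs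
  · have hn1 : (QuotientGroup.mk n : G ⧸ N) = 1 := (QuotientGroup.eq_one_iff n).mpr hn
    rw [QuotientGroup.mk_mul, QuotientGroup.mk_mul, QuotientGroup.mk_mul, QuotientGroup.mk_inv,
      QuotientGroup.mk_mul, hn1, one_mul]

end Cfsg.Agent.S5191
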