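import Cfsg.Statements.S5329
import Cfsg.Agent.Lib.Helper90.Biset.Transfer
import Cfsg.Agent.Lib.Helper88.NormalCentral
import Cfsg.Agent.Lib.Helper87.FusionMk
import Cfsg.Agent.S5092

set_option autoImplicit false
open Cfsg

namespace Cfsg.Agent.S5329

/-- For a saturated fusion system F over a finite p-group S, the focal subgroup and the derived subgroup of S meet the centre Z(F) of the system in the same subgroup: foc(F) ∩ Z(F) = S′ ∩ Z(F). -/
theorem result {Ω : Type*} [Group Ω] {S : Subgroup Ω} [Finite S] (p : ℕ) [Fact p.Prime] (hS : IsPGroup p S) (F : Cfsg.FusionSystem S) (hF : F.IsSaturated p) : F.focalSubgroup ⊓ F.center = ⁅(S : Subgroup Ω), (S : Subgroup Ω)⁆ ⊓ F.center := by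
  have hcen := (Cfsg.Agent.Lib.Helper87.isCentral_iff F F.center).1
    (Cfsg.Agent.Lib.Helper88.isCentral_center F)
  apply le_antisymm
  · rintro x ⟨hx1, hx2⟩
    refine ⟨?_, hx2⟩
    apply Cfsg.Agent.Lib.Helper90.Biset.mem_commutator_of_focal hS F hF x (hcen.1 hx2) _ hx1
    intro k f hf
    obtain ⟨f', _, h2, h3⟩ := hcen.2 _ f hf
    have h4 : f (x ^ k) = x ^ k := by
      rw [← h2 _ (Subgroup.mem_zpowers _)]
      exact h3 _ (Subgroup.pow_mem _ hx2 k)
    rw [h4, inv_mul_cancel]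
    exact Subgroup.one_mem _
  · rintro x ⟨hx1, hx2⟩
    refine ⟨?_, hx2⟩
    rw [Cfsg.Agent.S5092.result p hS F hF]
    exact (le_sup_right : ⁅(S : Subgroup Ω), (S : Subgroup Ω)⁆ ≤ _) hx1

end Cfsg.Agent.S5329
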