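import Cfsg.Statements.S5212
import Cfsg.Agent.S5235
import Cfsg.Agent.S1896
import Cfsg.Agent.Lib.Helper90.FusionInner
import Cfsg.Agent.Lib.Helper86.FusionFrobenius

set_option autoImplicit false
open Cfsg

namespace Cfsg.Agent.S5212

open Cfsg.FusionSystem Cfsg.Agent.Lib.Helper87 Cfsg.Agent.Lib.Helper90

/-- Let S be a finite metacyclic 2-group that is not homocyclic abelian (a direct product of cyclic groups of one common order), not dihedral, not semidihedral and not generalized quaternion. Then every saturated fusion system over S is the inner fusion system of S. -/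
theorem result {Ω : Type*} [Group Ω] {S : Subgroup Ω} [Finite S] (hS : IsPGroup 2 S) (F : Cfsg.FusionSystem S) (hF : F.IsSaturated 2) (hm : Cfsg.IsMetacyclic ↥S) (hh : ¬ ∃ n k : ℕ, Nonempty (↥S ≃* Multiplicative (Fin k → ZMod (2 ^ n)))) (hd : ¬ ∃ m : ℕ, Nonempty (↥S ≃* DihedralGroup m)) (hq : ¬ ∃ m : ℕ, Nonempty (↥S ≃* QuaternionGroup m)) (hsd : ¬ Cfsg.IsQuasiDihedral ↥S) : ∀ P : Subgroup Ω, F.Hom P = (Cfsg.innerFusionSystem S).Hom P := by
  have : Fact (Nat.Prime 2) := ⟨Nat.prime_two⟩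
  have hsc : F.StronglyClosed S := ⟨le_rfl, fun R _ φ hφ x => (F.le_of_mem hφ).2 x⟩
  have hN : F.IsNormal S := Cfsg.Agent.S5235.result 2 hS F hF S hsc rfl hm hd hq hsd
  have hA : IsPGroup 2 (MulAut S) := by
    by_contra hA
    rcases Cfsg.Agent.S1896.result hS hm hA with h | ⟨n, ⟨e⟩⟩
    · exact hq ⟨2, h⟩
    · apply hh
      refine ⟨n, 2, ⟨e.trans ?_⟩⟩
      exact (MulEquiv.prodMultiplicative (ZMod (2 ^ n)) (ZMod (2 ^ n))).symm.trans
        (AddEquiv.toMultiplicative (LinearEquiv.finTwoArrow ℤ (ZMod (2 ^ n))).symm.toAddEquiv)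
  have haut : IsPGroup 2 (F.autGroup S) := hA.to_subgroup _
  intro P
  apply Set.Subset.antisymm
  · intro φ hφ
    have hPS : P ≤ S := (F.le_of_mem hφ).1
    obtain ⟨α, hα, e⟩ := IsNormal.exists_aut hN hPS (Mor.of_hom hφ)
    obtain ⟨-, R, hR⟩ := Cfsg.Agent.Lib.Helper86.isFullyAutomized_self hS F hF
    have htop : (⊤ : Subgroup (F.autGroup S)) = R := R.3 (haut.to_subgroup ⊤) le_top
    have h1 : (⟨α, hα⟩ : F.autGroup S) ∈ (R : Subgroup (F.autGroup S)) := by
      rw [← htop]; exact Subgroup.mem_top _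
    rw [hR] at h1
    obtain ⟨s, hs, es⟩ := (mem_autInducedBy_iff S S α).1 (Subgroup.mem_subgroupOf.1 h1)
    refine ⟨hPS, s, hs, fun x => ?_⟩
    rw [← ext_coe, ← e x x.2, es]
  · exact Cfsg.Agent.Lib.Helper86.inner_le F P

end Cfsg.Agent.S5212
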