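import Cfsg.Statements.S5225
import Cfsg.Agent.Lib.Helper39.FusionTransferCore
import Cfsg.Agent.Lib.Helper87.NormCentSat

set_option autoImplicit false
open Cfsg

namespace Cfsg.Agent.S5225

open Cfsg.FusionSystem Cfsg.Agent.Lib.Helper87 Cfsg.Agent.Lib.Helper40 Cfsg.Agent.Lib.Helper39

/-- Yoshida's Theorem for fusion systems. Let F be a saturated fusion system over a finite p-group S and N the normalizer fusion system of S in F. If the focal subgroups of F and N differ (N does not control transfer in F), then S has a quotient isomorphic to the wreath product C_p ≀ C_p (realised as a Sylow p-subgroup of the symmetric group of degree p²). -/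
theorem result {Ω : Type*} [Group Ω] {S : Subgroup Ω} [Finite S] (p : ℕ) [Fact p.Prime] (hS : IsPGroup p S) (F : Cfsg.FusionSystem S) (hF : F.IsSaturated p) (N : Cfsg.FusionSystem (Cfsg.FusionSystem.normalizerIn S S)) (hN : F.IsNormalizerSystem S N) (hne : N.focalSubgroup ≠ F.focalSubgroup) : ∃ (W : Sylow p (Equiv.Perm (Fin (p ^ 2)))) (f : ↥S →* ↥(W : Subgroup (Equiv.Perm (Fin (p ^ 2))))), Function.Surjective f := by
  by_contra hno
  apply hne
  have hSN : normalizerIn S S = S := by
    unfold normalizerIn
    exact inf_eq_left.2 Subgroup.le_normalizer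
  symm
  apply fusion_transfer_core hS F hF
  · rw [FT.focal_le_iff]
    intro P f hf x hx
    exact FT.mem_focal ((mor_normalizerSystem_iff hN P f).1 hf).2.2.mor hx
  · apply FT.commutator_le_of_cl
    intro s hs x hx
    have h1 : Mor N S (fun x => s * x * s⁻¹) := mor_conj N hSN.ge (hSN.ge hs)
    exact FT.mem_focal h1 hx
  · intro Q b hb
    by_cases hQ : Q = ⊤
    · left
      subst hQ
      have hmap : (⊤ : Subgroup ↥S).map S.subtype = S := by
        rw [← MonoidHom.range_eq_map, Subgroup.range_subtype]
      rw [hmap] at hb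
      have hb' : Mor N S b := by
        rw [mor_normalizerSystem_iff hN]
        refine ⟨hSN.ge, fun x hx => hSN.ge (hb.mem hx), b, ?_, fun _ _ => rfl, ?_⟩
        · rw [sup_idem]; exact hb
        · exact (hb.iso_self (fun x hx => hb.mem hx)).2
      intro r _
      exact FT.mem_focal hb' r.2
    · right
      refine ⟨hQ, ?_⟩
      intro A _ _ ϕ hA x hK
      exact yoshida_bad hS hno hQ ϕ hA x hK

end Cfsg.Agent.S5225
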