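import Cfsg.Statements.S5243
import Cfsg.Agent.Lib.Helper87.KProduct3

set_option autoImplicit false
open Cfsg

namespace Cfsg.Agent.S5243

/-- Let F be a saturated fusion system over a finite p-group S, E a normal subsystem of F over T ≤ S, and χ a surjective homomorphism from Aut_F(T) onto a nontrivial finite group Δ of order prime to p whose kernel contains Aut_E(T). Then there is a proper normal subsystem F₀ of F over S containing E such that Aut_{F₀}(S) consists of those α ∈ Aut_F(S) whose restriction to T is an element of Aut_F(T) in the kernel of χ; moreover every p'-residual subsystem O^{p'}(F) of F is contained in F₀. -/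
theorem result {Ω : Type*} [Group Ω] {S : Subgroup Ω} [Finite S] (p : ℕ) [Fact p.Prime] (hS : IsPGroup p S) (F : Cfsg.FusionSystem S) (hF : F.IsSaturated p) {T : Subgroup Ω} (hTS : T ≤ S) (E : Cfsg.FusionSystem T) (hE : E.IsNormalIn F p) {Δ : Type*} [Group Δ] [Finite Δ] [Nontrivial Δ] (hΔ : (Nat.card Δ).Coprime p) (χ : ↥(F.autGroup T) →* Δ) (hχ : Function.Surjective χ) (hker : (E.autGroup T).subgroupOf (F.autGroup T) ≤ χ.ker) : ∃ F₀ : Cfsg.FusionSystem S, F₀.IsNormalIn F p ∧ ¬ (∀ P : Subgroup Ω, F₀.Hom P = F.Hom P) ∧ E.IsSubsystemOf F₀ ∧ (∀ α : MulAut ↥S, α ∈ F₀.autGroup S ↔ α ∈ F.autGroup S ∧ ∃ β : ↥(F.autGroup T), χ β = 1 ∧ ∀ t : ↥T, (((β : MulAut ↥T) t : ↥T) : Ω) = ((α ⟨(t : Ω), hTS t.2⟩ : ↥S) : Ω)) ∧ ∀ R : Cfsg.FusionSystem S, F.IsPPrimeResidual p R → R.IsSubsystemOf F₀ := by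
  classical
  open Cfsg.Agent.Lib.Helper87 in
  obtain ⟨h1, h2, h3, h4, h5, h6, h7⟩ := (isNormalIn_iff E F p).1 hE
  have hK : KData E F p (χ.ker.map (F.autGroup T).subtype) := by
    refine ⟨h1, h2, h3, h4, h5, h6, ?_, ?_, ?_, ?_⟩
    · rintro _ ⟨k, -, rfl⟩
      exact k.2
    · rintro α hα _ ⟨k, hk, rfl⟩
      refine ⟨⟨α, hα⟩ * k * ⟨α, hα⟩⁻¹, ?_, rfl⟩
      exact (MonoidHom.normal_ker χ).conj_mem k hk ⟨α, hα⟩
    · intro α hα
      have hαF : α ∈ F.autGroup T := autGroup_mono h3 T hα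
      exact ⟨⟨α, hαF⟩, hker (Subgroup.mem_subgroupOf.2 hα), rfl⟩
    · intro α hα k hk
      refine ⟨⟨α, hα⟩, ?_, rfl⟩
      refine MonoidHom.mem_ker.2 ?_
      have e1 : (χ ⟨α, hα⟩) ^ (p ^ k) = 1 := by
        rw [← map_pow]
        have : (⟨α, hα⟩ : F.autGroup T) ^ (p ^ k) = 1 := Subtype.ext hk
        rw [this, map_one]
      have e2 : (χ ⟨α, hα⟩) ^ (Nat.card Δ) = 1 := pow_card_eq_one'
      have hd1 := orderOf_dvd_of_pow_eq_one e1
      have hd2 := orderOf_dvd_of_pow_eq_one e2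
      have hcop : (Nat.card Δ).Coprime (p ^ k) := Nat.Coprime.pow_right k hΔ
      have := Nat.eq_one_of_dvd_coprimes hcop hd2 hd1
      exact orderOf_eq_one_iff.1 this
  refine ⟨hK.sys hS, hK.sys_normal hS, ?_, hK.E_le_sys hS h7, fun α => ?_, fun R hR => ?_⟩
  · obtain ⟨d, hd⟩ := exists_ne (1 : Δ)
    obtain ⟨β, rfl⟩ := hχ d
    refine hK.sys_ne hS β.2 ?_
    rintro ⟨k, hk, e⟩
    have : k = β := Subtype.ext e
    rw [this] at hk
    exact hd hk
  · rw [hK.mem_autGroup_sys_iff hS α]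
    constructor
    · rintro ⟨hα, _, ⟨k, hk, rfl⟩, e⟩
      refine ⟨hα, k, hk, fun t => ?_⟩
      have := e t t.2
      rw [autFun_coe, autFun_apply α (hTS t.2)] at this
      exact this.symm
    · rintro ⟨hα, β, hβ, e⟩
      refine ⟨hα, _, ⟨β, hβ, rfl⟩, fun x hx => ?_⟩
      rw [autFun_apply α (hTS hx), autFun_apply _ hx]
      exact (e ⟨x, hx⟩).symm
  · exact hR.2.2 _ (hK.sys_saturated hS) (hK.sys_primeIndex hS)
end Cfsg.Agent.S5243
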