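import Cfsg.Statements.S5244
import Cfsg.Agent.Lib.Helper16.AI.Main
import Cfsg.Agent.Lib.Helper16.AI.Lcs

set_option autoImplicit false
open Cfsg

namespace Cfsg.Agent.S5244

open Cfsg.Agent.Lib.Helper16.AI Cfsg.Agent.Lib.Helper16.CenterIndex
open scoped commutatorElement

/-- Let p be an odd prime, S a finite nonabelian p-group with a unique abelian subgroup A of index p, and F a saturated fusion system over S with no nontrivial normal subgroup (O_p(F) = 1) in which A is not F-essential. Then some subgroup Z(S)⟨x⟩ with x ∈ S outside A is F-essential, the centre Z(S) is contained in the commutator subgroup of S, and S has maximal nilpotency class (if S has order pⁿ with n ≥ 3, the term of index n − 2 of its lower central series, counting S itself as the term of index 0, is nontrivial). -/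
theorem result {Ω : Type*} [Group Ω] {S : Subgroup Ω} [Finite S] (p : ℕ) [Fact p.Prime] (hS : IsPGroup p S) (F : Cfsg.FusionSystem S) (hF : F.IsSaturated p) (hp : p ≠ 2) (hna : ¬ IsMulCommutative ↥S) (A : Subgroup Ω) (hA : A ≤ S ∧ IsMulCommutative ↥A ∧ (A.subgroupOf S).index = p) (huniq : ∀ B : Subgroup Ω, B ≤ S → IsMulCommutative ↥B → (B.subgroupOf S).index = p → B = A) (hcore : F.core = ⊥) (hAe : ¬ F.IsEssential p A) : (∃ x ∈ S, x ∉ A ∧ F.IsEssential p ((S ⊓ Subgroup.centralizer (S : Set Ω)) ⊔ Subgroup.zpowers x)) ∧ (S ⊓ Subgroup.centralizer (S : Set Ω)) ≤ (commutator ↥S).map S.subtype ∧ ∀ n : ℕ, Nat.card S = p ^ n → 3 ≤ n → Subgroup.lowerCentralSeries S (n - 2) ≠ ⊥ := by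
  have X : AData p S A := by
    refine ⟨hS, hA.1, fun a ha b hb => congrArg Subtype.val (hA.2.1.1.1 ⟨a, ha⟩ ⟨b, hb⟩), hA.2.2, ?_⟩
    by_contra h
    push Not at h
    exact hna ⟨⟨fun a b => Subtype.ext (h a a.2 b b.2)⟩⟩
  have G : Glob p F A := ⟨X, hF, hcore, hAe⟩
  obtain ⟨D, U₁, k₁, x₁, a₁, c₁, 𝒜⟩ := G.exists_act
  have hZD : ZS S ≤ D := 𝒜.ZS_le hp
  have hxS := 𝒜.T.hUS 𝒜.hx
  refine ⟨⟨x₁, hxS, 𝒜.hxA, ?_⟩, ?_, ?_⟩
  · have h1 := 𝒜.essential
    rw [𝒜.T.eq_sup X 𝒜.hx 𝒜.hxA] at h1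
    exact h1
  · intro z hz
    obtain ⟨m, rfl⟩ := exists_pow_eq 𝒜.B.hDc 𝒜.hcD 𝒜.hc1 (hZD hz)
    have haS : a₁ ∈ S := X.hAS 𝒜.ha
    refine ⟨⁅(⟨a₁, haS⟩ : S), ⟨x₁, hxS⟩⁆ ^ m, ?_, ?_⟩
    · rw [commutator_def]
      exact Subgroup.pow_mem _
        (Subgroup.commutator_mem_commutator (Subgroup.mem_top _) (Subgroup.mem_top _)) m
    · have e : c₁ ^ m = (a₁ * x₁ * a₁⁻¹ * x₁⁻¹) ^ m := by rw [← 𝒜.hc]
      rw [e]
      rfl
  · intro n hn h3
    have hZ : Nat.card (ZS S) = p := by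
      rw [le_antisymm hZD 𝒜.B.hDZ, 𝒜.B.hDc]
    exact X.lcs_ne_bot hZ hn (by omega)

end Cfsg.Agent.S5244
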