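import Cfsg.Statements.S5246
import Cfsg.Agent.Lib.Helper62.PSFusion
import Cfsg.Agent.Lib.Helper57.Quad7

set_option autoImplicit false
open Cfsg

namespace Cfsg.Agent.S5246

open scoped commutatorElement

theorem commute_comm_zpow {Ω : Type*} [Group Ω] (γ b : Ω)
    (h : Commute γ ⁅b, γ⁆) (k : ℤ) : Commute γ ⁅b, γ ^ k⁆ := by
  have hmul : ∀ z w : Ω, ⁅b, z * w⁆ = ⁅b, z⁆ * (z * ⁅b, w⁆ * z⁻¹) := by
    intro z w
    simp only [commutatorElement_def]; group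
  have hz : ∀ (j : ℤ) (c : Ω), Commute γ c → γ ^ j * c * (γ ^ j)⁻¹ = c := by
    intro j c hc
    have : Commute (γ ^ j) c := hc.zpow_left j
    rw [this.eq, mul_assoc, mul_inv_cancel, mul_one]
  have hinv : ⁅b, γ⁻¹⁆ = ⁅b, γ⁆⁻¹ := by
    have h1 : ⁅b, γ⁻¹⁆ = γ⁻¹ * ⁅b, γ⁆⁻¹ * γ := by
      simp only [commutatorElement_def]; group
    have h2 : Commute γ ⁅b, γ⁆⁻¹ := h.inv_right
    rw [h1, mul_assoc, ← h2.eq, ← mul_assoc, inv_mul_cancel, one_mul]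
  induction k using Int.induction_on with
  | zero => simp
  | succ i ih =>
    rw [zpow_add_one, hmul, hz _ _ h]
    exact ih.mul_right h
  | pred i ih =>
    rw [zpow_sub_one, hmul, hinv, hz _ _ h.inv_right]
    exact ih.mul_right h.inv_right

theorem quad_of_elementwise {Ω : Type*} [Group Ω] (Q : Subgroup Ω) (γ : Ω)
    (h : ∀ b ∈ Q, Commute γ ⁅b, γ⁆) :
    ⁅⁅Q, Subgroup.zpowers γ⁆, Subgroup.zpowers γ⁆ = ⊥ := by
  rw [Subgroup.commutator_eq_bot_iff_le_centralizer, Subgroup.commutator_le]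
  intro b hb z hz
  obtain ⟨k, rfl⟩ := Subgroup.mem_zpowers_iff.mp hz
  rw [Subgroup.mem_centralizer_iff]
  intro w hw
  obtain ⟨j, rfl⟩ := Subgroup.mem_zpowers_iff.mp hw
  exact ((commute_comm_zpow γ b (h b hb) k).zpow_left j).eq

theorem fusPS_of_ps {Ω : Type*} [Group Ω] [Finite Ω] {p : ℕ} [Fact p.Prime] (P : Sylow p Ω)
    (hps : Cfsg.Agent.Lib.Helper57.ZJ.PS p Ω) :
    Cfsg.Agent.Lib.Helper62.FusPS p (groupFusionSystem (P : Subgroup Ω)) := by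
  intro Q hfn χ hχ hquad
  have hQP : Q ≤ (P : Subgroup Ω) := hfn.1
  have hQp : IsPGroup p Q := P.2.to_le hQP
  set F := groupFusionSystem (P : Subgroup Ω) with hF
  let θ := Q.normalizerMonoidHom
  have hθF : ∀ x : Subgroup.normalizer (Q : Set Ω), θ x ∈ F.autGroup Q := by
    intro x
    apply Subgroup.subset_closure
    refine ⟨hQP, fun y => hQP (θ x y).2, (x : Ω), fun y => rfl⟩
  have hA : F.autGroup Q ≤ θ.range := by
    unfold FusionSystem.autGroup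
    rw [Subgroup.closure_le]
    rintro α ⟨-, -, g, hg⟩
    have hg' : ∀ x : Q, ((α x : Q) : Ω) = g * (x : Ω) * g⁻¹ := hg
    have hgN : g ∈ Subgroup.normalizer (Q : Set Ω) := by
      rw [Subgroup.mem_normalizer_iff]
      intro y
      constructor
      · intro hy
        rw [← hg' ⟨y, hy⟩]; exact (α ⟨y, hy⟩).2
      · intro hy
        obtain ⟨x, hx⟩ := α.surjective ⟨g * y * g⁻¹, hy⟩
        have h1 := hg' x
        rw [hx] at h1
        have h2 : y = (x : Ω) := mul_left_cancel (mul_right_cancel h1)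
        rw [h2]; exact x.2
    refine ⟨⟨g, hgN⟩, ?_⟩
    ext x
    exact (hg' x).symm
  obtain ⟨⟨γ, hγN⟩, rfl⟩ := hA hχ
  have hq : ⁅⁅Q, Subgroup.zpowers γ⁆, Subgroup.zpowers γ⁆ = ⊥ := by
    apply quad_of_elementwise
    intro b hb
    have h1 := congrArg Subtype.val (hquad ⟨b⁻¹, Q.inv_mem hb⟩)
    have h2 : (γ * (b⁻¹)⁻¹ * γ⁻¹) * b⁻¹ * (γ * (b⁻¹)⁻¹ * γ⁻¹) * (γ * (γ * b⁻¹ * γ⁻¹) * γ⁻¹) = 1 := h1
    rw [inv_inv] at h2
    change γ * ⁅b, γ⁆ = ⁅b, γ⁆ * γ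
    rw [commutatorElement_def]
    have h3 : (b * γ * b⁻¹ * γ⁻¹)⁻¹ * (γ * (b * γ * b⁻¹ * γ⁻¹) * γ⁻¹) = 1 := by
      rw [← h2]; group
    have h4 : γ * (b * γ * b⁻¹ * γ⁻¹) * γ⁻¹ = b * γ * b⁻¹ * γ⁻¹ := by
      rw [inv_mul_eq_one] at h3; exact h3.symm
    calc γ * (b * γ * b⁻¹ * γ⁻¹) = γ * (b * γ * b⁻¹ * γ⁻¹) * γ⁻¹ * γ := by group
      _ = b * γ * b⁻¹ * γ⁻¹ * γ := by rw [h4]
  obtain ⟨K, hγK, hNK, hpow⟩ := hps Q hQp γ hγN hq
  have hKn : (K.subgroupOf (Subgroup.normalizer (Q : Set Ω))).Normal := Subgroup.normal_subgroupOf_of_le_normalizer hNK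
  obtain ⟨K', hK'⟩ : ∃ K' : Subgroup (MulAut ↥Q), K' = (K.subgroupOf (Subgroup.normalizer (Q : Set Ω))).map θ := ⟨_, rfl⟩
  have hK'n : (K'.subgroupOf (F.autGroup Q)).Normal := by
    constructor
    rintro ⟨x, hx⟩ hxK ⟨y, hy⟩
    rw [Subgroup.mem_subgroupOf, hK'] at hxK ⊢
    obtain ⟨n, rfl⟩ := hA hy
    obtain ⟨k, hk, hkx⟩ := hxK
    refine ⟨n * k * n⁻¹, hKn.conj_mem k hk n, ?_⟩
    rw [map_mul, map_mul, map_inv, hkx]
    rfl
  have hK'p : IsPGroup p (K'.subgroupOf (F.autGroup Q)) := by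
    rintro ⟨⟨x, hx⟩, hxK⟩
    rw [Subgroup.mem_subgroupOf, hK'] at hxK
    obtain ⟨k, hk, hkx⟩ := hxK
    obtain ⟨n, hn⟩ := hpow k hk
    refine ⟨n, Subtype.ext (Subtype.ext ?_)⟩
    change x ^ (p ^ n) = 1
    have hkx' : θ k = x := hkx
    rw [← hkx', ← map_pow, ← MonoidHom.mem_ker, Subgroup.normalizerMonoidHom_ker,
      Subgroup.mem_subgroupOf]
    simpa using hn
  have hle := Cfsg.Agent.Lib.Helper14.le_pCore hK'n hK'p
  refine ⟨⟨θ ⟨γ, hγN⟩, hθF _⟩, hle ?_, rfl⟩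
  rw [Subgroup.mem_subgroupOf, hK']
  exact ⟨⟨γ, hγN⟩, hγK, rfl⟩

/-- Let p be an odd prime, G a finite group and P a Sylow p-subgroup. Call a fusion system F p-stable when, for every fully normalized subgroup Q and every χ ∈ Aut_F(Q) acting quadratically on Q (that is, χ fixes a⁻¹χ(a) for every a ∈ Q; equivalently χ(a⁻¹)·a·χ(a⁻¹)·χ(χ(a)) = 1), χ lies in O_p(Aut_F(Q)). Then G is p-stable in the normalizer form (for every p-subgroup Q and x ∈ N_G(Q) with [Q, x, x] = 1, the image of x lies in O_p(N_G(Q)/C_G(Q))) if and only if the fusion system of G on P is p-stable. -/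
theorem result {Ω : Type*} [Group Ω] [Finite Ω] {p : ℕ} [Fact p.Prime] (hp : p ≠ 2) (P : Sylow p Ω) : Cfsg.IsNormalizerPStable p Ω ↔ (∀ Q : Subgroup Ω, (Cfsg.groupFusionSystem (P : Subgroup Ω)).IsFullyNormalized Q → ∀ χ : MulAut ↥Q, χ ∈ (Cfsg.groupFusionSystem (P : Subgroup Ω)).autGroup Q → (∀ a : ↥Q, (χ a⁻¹) * a * (χ a⁻¹) * (χ (χ a)) = 1) → χ ∈ ((Cfsg.pCore p ↥((Cfsg.groupFusionSystem (P : Subgroup Ω)).autGroup Q)).map ((Cfsg.groupFusionSystem (P : Subgroup Ω)).autGroup Q).subtype : Subgroup (MulAut ↥Q))) := by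
  constructor
  · intro h
    exact fusPS_of_ps P (Cfsg.Agent.Lib.Helper57.ZJ.PS.of_isNormalizerPStable h)
  · intro h
    exact Cfsg.Agent.Lib.Helper57.Quad.isNormalizerPStable_of_ps
      (Cfsg.Agent.Lib.Helper62.ps_of_fusPS P h)

end Cfsg.Agent.S5246
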