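import Cfsg.Statements.S5256
import Cfsg.Agent.S5134
-- import your own Cfsg.Agent.* helpers here

set_option autoImplicit false
open Cfsg

namespace Cfsg.Agent.S5256

open Cfsg.FusionSystem Cfsg.Agent.Lib.Helper87 Cfsg.Agent.Lib.Helper89

section Ind

variable {Ω : Type*} [Group Ω] {S : Subgroup Ω} {Ω' : Type*} [Group Ω']

/-- `β'` on `P'` is induced along `θ` by `β` on `P`. -/
def Ind (θ : ↥S →* Ω') {P : Subgroup Ω} (hP : P ≤ S) {P' : Subgroup Ω'} (β : MulAut P)
    (β' : MulAut P') : Prop :=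
  ∀ (x : P) (h : θ ⟨x, hP x.2⟩ ∈ P'),
    ((β' ⟨θ ⟨x, hP x.2⟩, h⟩ : P') : Ω') = θ ⟨(β x : P), hP (β x).2⟩

variable {θ : ↥S →* Ω'} {P : Subgroup Ω} {hP : P ≤ S} {P' : Subgroup Ω'}

theorem Ind.one : Ind θ hP (1 : MulAut P) (1 : MulAut P') := fun _ _ => rfl

theorem Ind.mul (hmap : ∀ x : P, θ ⟨x, hP x.2⟩ ∈ P') {β γ : MulAut P} {β' γ' : MulAut P'}
    (h1 : Ind θ hP β β') (h2 : Ind θ hP γ γ') : Ind θ hP (β * γ) (β' * γ') := by
  intro x h
  have e : γ' ⟨θ ⟨x, hP x.2⟩, h⟩ = ⟨θ ⟨(γ x : P), hP (γ x).2⟩, hmap _⟩ := Subtype.ext (h2 x h)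
  rw [MulAut.mul_apply, e, h1 (γ x) (hmap _)]
  rfl

theorem Ind.inv (hmap : ∀ x : P, θ ⟨x, hP x.2⟩ ∈ P') {β : MulAut P} {β' : MulAut P'}
    (h1 : Ind θ hP β β') : Ind θ hP β⁻¹ β'⁻¹ := by
  intro x h
  have h2 := h1 (β⁻¹ x) (hmap _)
  have e : β' ⟨θ ⟨(β⁻¹ x : P), hP (β⁻¹ x).2⟩, hmap _⟩ = ⟨θ ⟨x, hP x.2⟩, h⟩ := by
    apply Subtype.ext
    rw [h2]
    simp
  rw [← e]
  simp

theorem Ind.pow (hmap : ∀ x : P, θ ⟨x, hP x.2⟩ ∈ P') {β : MulAut P} {β' : MulAut P'}
    (h1 : Ind θ hP β β') (n : ℕ) : Ind θ hP (β ^ n) (β' ^ n) := by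
  induction n with
  | zero => simpa using Ind.one
  | succ n ih =>
    rw [pow_succ, pow_succ]
    exact ih.mul hmap h1

theorem Ind.unique (hsurj : ∀ y ∈ P', ∃ x : P, θ ⟨x, hP x.2⟩ = y) {β : MulAut P}
    {β' γ' : MulAut P'} (h1 : Ind θ hP β β') (h2 : Ind θ hP β γ') : β' = γ' := by
  ext y
  obtain ⟨x, hx⟩ := hsurj y y.2
  have e : y = ⟨θ ⟨x, hP x.2⟩, hx ▸ y.2⟩ := Subtype.ext hx.symm
  rw [e, h1 x, h2 x]

end Ind

theorem coprime_orderOf_of_pow_eq_one {G : Type*} [Group G] {g : G} {n p : ℕ} (h : g ^ n = 1)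
    (hn : n.Coprime p) : (orderOf g).Coprime p :=
  Nat.Coprime.coprime_dvd_left (orderOf_dvd_of_pow_eq_one h) hn

/-- Let F be a saturated fusion system over a finite p-group S, T a subgroup of S strongly closed in F, and E a factor system F/T realised along a homomorphism θ of S with kernel T. Then the hyperfocal subgroup of E is the image under θ of the hyperfocal subgroup of F (hyp(F/T) = T·hyp(F)/T). -/
theorem result {Ω : Type*} [Group Ω] {S : Subgroup Ω} [Finite S] (p : ℕ) [Fact p.Prime] (hS : IsPGroup p S) (F : Cfsg.FusionSystem S) (hF : F.IsSaturated p) (T : Subgroup Ω) (hT : F.StronglyClosed T) {Ω' : Type*} [Group Ω'] {S' : Subgroup Ω'} (θ : ↥S →* Ω') (E : Cfsg.FusionSystem S') (hE : F.IsFactorSystem T θ E) : E.hyperfocalSubgroup p = ((F.hyperfocalSubgroup p).subgroupOf S).map θ := by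
  have hsm := Cfsg.Agent.S5134.result p hS F hF T hT θ E hE
  obtain ⟨hTS, hker, hrange, hhom⟩ := hE
  have hθS' : ∀ s : S, θ s ∈ S' := fun s => hrange ▸ ⟨s, rfl⟩
  have hS'fin : Finite S' := by
    rw [← hrange]
    exact Finite.of_surjective θ.rangeRestrict θ.rangeRestrict_surjective
  apply le_antisymm
  · -- hyp(E) ≤ θ(hyp F)
    unfold hyperfocalSubgroup
    rw [Subgroup.closure_le]
    rintro y' ⟨P', α', x', hP', hα', rfl⟩
    set P := preimageAlong θ P' with hPdef
    have hP : P ≤ S := preimageAlong_le θ P'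
    have hPfin : Finite P := finite_of_le hP
    have hP'fin : Finite P' := Cfsg.Agent.Lib.Helper89.finite_of_le hP'
    have hmap : ∀ x : P, θ ⟨x, hP x.2⟩ ∈ P' := fun x => ((mem_preimageAlong θ P' x).1 x.2).2
    have hsurj : ∀ y ∈ P', ∃ x : P, θ ⟨x, hP x.2⟩ = y := by
      intro y hy
      have h1 : y ∈ θ.range := hrange ▸ hP' hy
      obtain ⟨s, rfl⟩ := h1
      exact ⟨⟨s, (mem_preimageAlong θ P' s).2 ⟨s.2, hy⟩⟩, rfl⟩
    -- every element of Aut_E(P') is induced
    have hlift : ∀ β' : E.autGroup P', ∃ β : F.autGroup P, Ind θ hP (β : MulAut P) (β' : MulAut P') := by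
      intro β'
      have h1 := (mem_autGroup_iff' E hP' (β' : MulAut P')).1 β'.2
      obtain ⟨-, φ, hφ, hPS, hφS, hP'', hind⟩ := (hhom P' _).1 h1
      have hm : Mor F P (ext φ) := Mor.of_hom hφ
      have hself : ∀ x ∈ P, ext φ x ∈ P := by
        intro x hx
        rw [ext_apply φ hx]
        refine (mem_preimageAlong θ P' _).2 ⟨hφS _, ?_⟩
        rw [← hind ⟨x, hx⟩]
        exact ((β' : MulAut P') _).2
      obtain ⟨β, hβ, e⟩ := (hm.iso_self hself).exists_aut
      refine ⟨⟨β, hβ⟩, fun x h => ?_⟩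
      have h2 := hind x
      have h3 : (⟨((β x : P) : Ω), hP (β x).2⟩ : S) = ⟨φ x, hφS x⟩ := by
        apply Subtype.ext
        show ((β x : P) : Ω) = φ x
        rw [e, ext_coe]
      show (((β' : MulAut P') ⟨θ ⟨x, hP x.2⟩, h⟩ : P') : Ω') = θ ⟨((β x : P) : Ω), hP (β x).2⟩
      rw [h3, ← h2]
      rfl
    have hres : ∀ β' : E.autGroup P', β' ∈ pResidual p (E.autGroup P') →
        ∃ β : F.autGroup P, β ∈ pResidual p (F.autGroup P) ∧
          Ind θ hP (β : MulAut P) (β' : MulAut P') := by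
      intro β' hβ'
      induction hβ' using Subgroup.closure_induction with
      | mem g' hg' =>
        obtain ⟨β, hβ⟩ := hlift g'
        obtain ⟨e, m, hm, ho⟩ := Nat.exists_eq_pow_mul_and_not_dvd (orderOf_pos β).ne' p
          (Fact.out : p.Prime).ne_one
        have hcop : (p ^ e).Coprime (orderOf g') :=
          Nat.Coprime.pow_left e (Nat.Coprime.symm hg')
        obtain ⟨j, hj⟩ := exists_pow_eq_self_of_coprime hcop
        refine ⟨(β ^ p ^ e) ^ j, Subgroup.subset_closure ?_, ?_⟩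
        · show (orderOf ((β ^ p ^ e) ^ j)).Coprime p
          apply coprime_orderOf_of_pow_eq_one (n := m)
          · rw [← pow_mul, ← pow_mul, show p ^ e * (j * m) = (p ^ e * m) * j by ring, ← ho, pow_mul,
              pow_orderOf_eq_one, one_pow]
          · exact ((Nat.Prime.coprime_iff_not_dvd (Fact.out : p.Prime)).2 hm).symm
        · have h4 := (hβ.pow hmap (p ^ e)).pow hmap j
          have h5 : (((g' : MulAut P') ^ p ^ e) ^ j) = (g' : MulAut P') := by
            have := congrArg Subtype.val hj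
            simpa using this
          rw [h5] at h4
          simpa using h4
      | one => exact ⟨1, Subgroup.one_mem _, Ind.one⟩
      | mul a b _ _ ha hb =>
        obtain ⟨a1, ha1, ha2⟩ := ha
        obtain ⟨b1, hb1, hb2⟩ := hb
        exact ⟨a1 * b1, Subgroup.mul_mem _ ha1 hb1, ha2.mul hmap hb2⟩
      | inv a _ ha =>
        obtain ⟨a1, ha1, ha2⟩ := ha
        exact ⟨a1⁻¹, Subgroup.inv_mem _ ha1, ha2.inv hmap⟩
    obtain ⟨α, hα, hind⟩ := hres α' hα'
    obtain ⟨x, hx⟩ := hsurj x' x'.2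
    have hxe : x' = ⟨θ ⟨x, hP x.2⟩, hmap x⟩ := Subtype.ext hx.symm
    refine ⟨⟨(x : Ω)⁻¹ * (((α : MulAut P) x : P) : Ω),
      S.mul_mem (S.inv_mem (hP x.2)) (hP ((α : MulAut P) x).2)⟩, ?_, ?_⟩
    · apply Subgroup.subset_closure
      exact ⟨P, α, x, hP, hα, rfl⟩
    · have h6 : (⟨(x : Ω)⁻¹ * (((α : MulAut P) x : P) : Ω),
          S.mul_mem (S.inv_mem (hP x.2)) (hP ((α : MulAut P) x).2)⟩ : S)
          = ⟨x, hP x.2⟩⁻¹ * ⟨(((α : MulAut P) x : P) : Ω), hP ((α : MulAut P) x).2⟩ := rfl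
      rw [h6, map_mul, map_inv, ← hind x (hmap x), hxe]
  · -- θ(hyp F) ≤ hyp(E)
    rintro _ ⟨s, hs, rfl⟩
    have key : ∀ y ∈ F.hyperfocalSubgroup p, ∃ hy : y ∈ S, θ ⟨y, hy⟩ ∈ E.hyperfocalSubgroup p := by
      intro y hy
      unfold hyperfocalSubgroup at hy
      induction hy using Subgroup.closure_induction with
      | mem y hy =>
        obtain ⟨P, α, x, hP, hα, rfl⟩ := hy
        set P' := imageAlong θ P with hP'def
        have hPfin : Finite P := finite_of_le hP
        have hP' : P' ≤ S' := by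
          intro y hy
          obtain ⟨x, hxS, -, rfl⟩ := (mem_imageAlong θ _ y).1 hy
          exact hθS' _
        have hP'fin : Finite P' := Cfsg.Agent.Lib.Helper89.finite_of_le hP'
        have hmap : ∀ x : P, θ ⟨x, hP x.2⟩ ∈ P' :=
          fun x => (mem_imageAlong θ _ _).2 ⟨x, hP x.2, x.2, rfl⟩
        have hsurj : ∀ y ∈ P', ∃ x : P, θ ⟨x, hP x.2⟩ = y := by
          intro y hy
          obtain ⟨x, hxS, hx, rfl⟩ := (mem_imageAlong θ _ y).1 hy
          exact ⟨⟨x, hx⟩, rfl⟩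
        have hpush : ∀ β : F.autGroup P, ∃ β' : E.autGroup P',
            Ind θ hP (β : MulAut P) (β' : MulAut P') := by
          intro β
          have h1 := (mem_autGroup_iff' F hP (β : MulAut P)).1 β.2
          obtain ⟨φ', hφ', hPS, hφS, hP'', hind⟩ := hsm.1.2 P _ h1
          have hm : Mor E P' (ext φ') := Mor.of_hom hφ'
          have hself : ∀ y ∈ P', ext φ' y ∈ P' := by
            intro y hy
            obtain ⟨x, rfl⟩ := hsurj y hy
            rw [ext_apply φ' hy, hind x]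
            exact hmap ((β : MulAut P) x)
          obtain ⟨β', hβ', e⟩ := (hm.iso_self hself).exists_aut
          refine ⟨⟨β', hβ'⟩, fun x h => ?_⟩
          show ((β' ⟨θ ⟨x, hP x.2⟩, h⟩ : P') : Ω') = _
          rw [e, ext_apply φ' h, hind x]
          rfl
        have hres : ∀ β : F.autGroup P, β ∈ pResidual p (F.autGroup P) →
            ∃ β' : E.autGroup P', β' ∈ pResidual p (E.autGroup P') ∧
              Ind θ hP (β : MulAut P) (β' : MulAut P') := by
          intro β hβ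
          induction hβ using Subgroup.closure_induction with
          | mem g hg =>
            obtain ⟨g', hg'⟩ := hpush g
            refine ⟨g', Subgroup.subset_closure ?_, hg'⟩
            show (orderOf g').Coprime p
            apply coprime_orderOf_of_pow_eq_one (n := orderOf g) _ hg
            have h4 := hg'.pow hmap (orderOf g)
            have h5 : ((g : MulAut P) ^ orderOf g) = 1 := by
              rw [← Subgroup.orderOf_coe, pow_orderOf_eq_one]
            rw [h5] at h4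
            have h6 := h4.unique hsurj Ind.one
            apply Subtype.ext
            simpa using h6
          | one => exact ⟨1, Subgroup.one_mem _, Ind.one⟩
          | mul a b _ _ ha hb =>
            obtain ⟨a1, ha1, ha2⟩ := ha
            obtain ⟨b1, hb1, hb2⟩ := hb
            exact ⟨a1 * b1, Subgroup.mul_mem _ ha1 hb1, ha2.mul hmap hb2⟩
          | inv a _ ha =>
            obtain ⟨a1, ha1, ha2⟩ := ha
            exact ⟨a1⁻¹, Subgroup.inv_mem _ ha1, ha2.inv hmap⟩
        obtain ⟨α', hα', hind⟩ := hres α hα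
        refine ⟨S.mul_mem (S.inv_mem (hP x.2)) (hP ((α : MulAut P) x).2), ?_⟩
        apply Subgroup.subset_closure
        refine ⟨P', α', ⟨θ ⟨x, hP x.2⟩, hmap x⟩, hP', hα', ?_⟩
        have h6 : (⟨(x : Ω)⁻¹ * (((α : MulAut P) x : P) : Ω),
            S.mul_mem (S.inv_mem (hP x.2)) (hP ((α : MulAut P) x).2)⟩ : S)
            = ⟨x, hP x.2⟩⁻¹ * ⟨(((α : MulAut P) x : P) : Ω), hP ((α : MulAut P) x).2⟩ := rfl
        rw [h6, map_mul, map_inv, ← hind x (hmap x)]
      | one => exact ⟨S.one_mem, by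
          have : (⟨1, S.one_mem⟩ : S) = 1 := rfl
          rw [this, map_one]; exact Subgroup.one_mem _⟩
      | mul a b _ _ ha hb =>
        obtain ⟨ha1, ha2⟩ := ha
        obtain ⟨hb1, hb2⟩ := hb
        refine ⟨S.mul_mem ha1 hb1, ?_⟩
        have : (⟨a * b, S.mul_mem ha1 hb1⟩ : S) = ⟨a, ha1⟩ * ⟨b, hb1⟩ := rfl
        rw [this, map_mul]
        exact Subgroup.mul_mem _ ha2 hb2
      | inv a _ ha =>
        obtain ⟨ha1, ha2⟩ := ha
        refine ⟨S.inv_mem ha1, ?_⟩
        have : (⟨a⁻¹, S.inv_mem ha1⟩ : S) = ⟨a, ha1⟩⁻¹ := rfl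
        rw [this, map_inv]
        exact Subgroup.inv_mem _ ha2
    obtain ⟨_, h2⟩ := key s (Subgroup.mem_subgroupOf.1 hs)
    exact h2

end Cfsg.Agent.S5256
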