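import Cfsg.Statements.S5259
import Cfsg.Agent.S5090
import Cfsg.Agent.Lib.Helper89.HeisFusion
import Cfsg.Agent.Lib.Helper89.HeisSL3
-- import your own Cfsg.Agent.* helpers here

set_option autoImplicit false
open Cfsg

namespace Cfsg.Agent.S5259

open Cfsg.Agent.Lib.Helper89 in
theorem heisLike_of_heisT {Ω : Type*} [Group Ω] {S : Subgroup Ω} [Finite S] (h : HeisT ↥S) :
    HeisLike S := by
  have hmem : ∀ (g : Ω) (hg : g ∈ S), g ∈ S ⊓ Subgroup.centralizer (S : Set Ω) ↔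
      (⟨g, hg⟩ : S) ∈ Subgroup.center ↥S := by
    intro g hg
    rw [AbIdx.mem_Z_iff, Subgroup.mem_center_iff]
    constructor
    · intro h1 s
      exact Subtype.ext (h1.2 s s.2)
    · intro h1
      exact ⟨hg, fun s hs => congrArg Subtype.val (h1 ⟨s, hs⟩)⟩
  refine ⟨fun a ha b hb => ?_, fun x hx hxZ u hu v hv h1 h2 => ?_, fun x hx hxZ z hz => ?_⟩
  · have := h.cls ⟨a, ha⟩ ⟨b, hb⟩
    exact (hmem _ (S.mul_mem (S.mul_mem (S.mul_mem ha hb) (S.inv_mem ha)) (S.inv_mem hb))).2 this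
  · rw [hmem x hx] at hxZ
    exact congrArg Subtype.val (h.cab ⟨x, hx⟩ hxZ ⟨u, hu⟩ ⟨v, hv⟩ (Subtype.ext h1) (Subtype.ext h2))
  · rw [hmem x hx] at hxZ
    obtain ⟨s, hs⟩ := h.sur ⟨x, hx⟩ hxZ ⟨z, hz.1⟩ ((hmem z hz.1).1 hz)
    exact ⟨s, s.2, congrArg Subtype.val hs⟩

/-- Let p be a prime, K a finite field of characteristic p, and S a finite p-group isomorphic to a Sylow p-subgroup of SL₃(K). Then every exotic fusion system F over S (saturated but not the fusion system of a finite group on a Sylow p-subgroup) has no nontrivial normal subgroup: O_p(F) = 1. -/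
theorem result {Ω : Type*} [Group Ω] {S : Subgroup Ω} [Finite S] (p : ℕ) [Fact p.Prime] (hS : IsPGroup p S) (F : Cfsg.FusionSystem S) (hF : F.IsSaturated p) {K : Type*} [Field K] [Fintype K] [CharP K p] (T : Sylow p (Matrix.SpecialLinearGroup (Fin 3) K)) (e : ↥S ≃* ↥(T : Subgroup (Matrix.SpecialLinearGroup (Fin 3) K))) (hex : F.IsExotic p) : F.core = ⊥ := by
  by_contra hcore
  have hT := (Cfsg.Agent.Lib.Helper89.heisT_sylow_SL3 p T).of_equiv e.symm
  have hcon := (heisLike_of_heisT hT).constrained hS hF hcore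
  obtain ⟨G, hG, ι, hfin, hreal, hsyl, -⟩ := Cfsg.Agent.S5090.result p hS F hcon
  exact hex.2 ⟨G, hG, hfin, ι, hreal, hsyl⟩

end Cfsg.Agent.S5259
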