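import Cfsg.Statements.S5296
import Cfsg.Agent.Lib.Helper90.ControlSmall

set_option autoImplicit false
universe u
open Cfsg

namespace Cfsg.Agent.S5296


open Cfsg.FusionSystem Cfsg.Agent.Lib.Helper87 Cfsg.Agent.Lib.Helper90

/-- Small-exponent abelian subgroups of the hyperfocal subgroup control fusion. Let E and F be saturated fusion systems over the same finite p-group S with E contained in F. Suppose that E and F have the same maps between A and B for all subgroups A, B of the hyperfocal subgroup of F that are elementary abelian when p is odd, respectively abelian of exponent dividing 4 when p = 2. Then E = F. -/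
theorem result {Ω : Type u} [Group Ω] {S : Subgroup Ω} [Finite S] (p : ℕ) [Fact p.Prime] (hS : IsPGroup p S)
    (E F : Cfsg.FusionSystem S) (hE : E.IsSaturated p) (hF : F.IsSaturated p) (hEF : E.IsSubsystemOf F)
    (hodd : p ≠ 2 → ∀ A B : Subgroup Ω, A ≤ (F.hyperfocalSubgroup p) → B ≤ (F.hyperfocalSubgroup p) →
      Cfsg.IsElementaryAbelian p A → Cfsg.IsElementaryAbelian p B → E.homSet A B = F.homSet A B)
    (htwo : p = 2 → ∀ A B : Subgroup Ω, A ≤ (F.hyperfocalSubgroup p) → B ≤ (F.hyperfocalSubgroup p) →
      IsMulCommutative ↥A → IsMulCommutative ↥B → (∀ a ∈ A, a ^ 4 = 1) → (∀ b ∈ B, b ^ 4 = 1) → E.homSet A B = F.homSet A B) :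
    ∀ P : Subgroup Ω, E.Hom P = F.Hom P := by
  have hH := hyperfocal_stronglyClosed hS hF
  have main := subsystem_eq_of_small hS hE hF hEF hH
    (fun P hP γ hγ hco x hx => hyperfocal_comm hP hγ hco hx) (by
      intro A f hAH hAab hAs hf
      have hiso : Iso F A (img A f) f := hf.iso_img
      have hBH : img A f ≤ F.hyperfocalSubgroup p := by
        intro y hy
        obtain ⟨x, hx, rfl⟩ := hiso.surj hy
        exact stronglyClosed_mor hH hf hAH x hx
      have hAc : IsMulCommutative ↥A := ⟨⟨fun a b => Subtype.ext (hAab a a.2 b b.2)⟩⟩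
      have hBc : IsMulCommutative ↥(img A f) := ⟨⟨fun a b => by
        apply Subtype.ext
        obtain ⟨x, hx, hxa⟩ := hiso.surj a.2
        obtain ⟨y, hy, hyb⟩ := hiso.surj b.2
        show (a : Ω) * b = b * a
        rw [← hxa, ← hyb, ← hf.map_mul hx hy, ← hf.map_mul hy hx, hAab x hx y hy]⟩⟩
      have hBs : ∀ b ∈ img A f, Small p b := by
        intro b hb
        obtain ⟨x, hx, rfl⟩ := hiso.surj hb
        exact (hAs x hx).map hf hx
      obtain ⟨φ, hφ, hφf⟩ := hf
      have hmem : φ ∈ F.homSet A (img A f) := ⟨hφ, fun x => by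
        rw [hφf]; exact hiso.map_mem x.2⟩
      have heq : E.homSet A (img A f) = F.homSet A (img A f) := by
        by_cases hp : p = 2
        · have h4 : ∀ x : Ω, Small p x → x ^ 4 = 1 := by
            intro x hx
            rcases hx with hx | ⟨-, hx⟩
            · rw [hp] at hx
              rw [show 4 = 2 * 2 by norm_num, pow_mul, hx, one_pow]
            · exact hx
          exact htwo hp A _ hAH hBH hAc hBc (fun a ha => h4 a (hAs a ha))
            (fun b hb => h4 b (hBs b hb))
        · have hpp : ∀ x : Ω, Small p x → x ^ p = 1 := by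
            intro x hx
            rcases hx with hx | ⟨h2, -⟩
            · exact hx
            · exact absurd h2 hp
          exact hodd hp A _ hAH hBH ⟨hAc, fun a ha => hpp a (hAs a ha)⟩
            ⟨hBc, fun b hb => hpp b (hBs b hb)⟩
      rw [← heq] at hmem
      exact ⟨φ, hmem.1, hφf⟩)
  intro P
  apply Set.Subset.antisymm (hEF P)
  exact hom_subset_of_mor (main P)

end Cfsg.Agent.S5296
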