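import Cfsg.Statements.S5284
import Cfsg.Agent.Lib.Helper64.SuperSol
import Cfsg.Agent.Lib.Helper64.AbInv
import Cfsg.Agent.Lib.Helper87.Solvable

set_option autoImplicit false
open Cfsg Cfsg.Agent.Lib.Helper64

namespace Cfsg.Agent.S5284

/-- Let S be a finite abelian p-group. Every saturated fusion system over S is supersoluble (S has a chain of F-strongly closed subgroups from 1 to S with cyclic steps) if and only if the invariants of S are pairwise distinct, that is, S is not isomorphic to a direct product (Z/p^n × Z/p^n) × H with n ≥ 1. -/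
theorem result {Ω : Type*} [Group Ω] {S : Subgroup Ω} [Finite S] (p : ℕ) [Fact p.Prime] (hS : IsPGroup p ↥S) (hab : IsMulCommutative ↥S) : (∀ F : Cfsg.FusionSystem S, F.IsSaturated p → (∃ (m : ℕ) (c : Fin (m + 1) → Subgroup Ω), c 0 = ⊥ ∧ c (Fin.last m) = S ∧ (∀ i : Fin (m + 1), F.StronglyClosed (c i)) ∧ ∀ i : Fin m, c i.castSucc ≤ c i.succ ∧ ∃ x ∈ S, c i.succ = c i.castSucc ⊔ Subgroup.zpowers x)) ↔ ¬ ∃ (n : ℕ) (H : Type) (_ : CommGroup H), 0 < n ∧ Nonempty (↥S ≃* (Multiplicative (ZMod (p ^ n)) × Multiplicative (ZMod (p ^ n))) × H) := by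
  have hc : ∀ a b : S, a * b = b * a := fun a b => hab.is_comm.comm a b
  constructor
  · intro h
    rintro ⟨n, H, _, hn, ⟨E⟩⟩
    obtain ⟨γ, m, hm, h1, h2⟩ := exists_bad_aut p hn H
    have hα : (MulAut.congr E.symm γ) ^ m = 1 := by rw [← map_pow, h1, map_one]
    have hcard : (Nat.card (Subgroup.zpowers (MulAut.congr E.symm γ))).Coprime p := by
      rw [Nat.card_zpowers]
      exact Nat.Coprime.coprime_dvd_left (orderOf_dvd_of_pow_eq_one hα) hm
    have h3 := (coprime_aut_of_type hS h _ hcard).2 _ (Subgroup.mem_zpowers _)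
    apply h2
    apply (MulAut.congr E.symm).injective
    rw [map_pow, h3, map_one]
  · intro hno F hF
    have hD := dd_of_no_repeat hc hS hno
    have hN : F.IsNormal S := Cfsg.Agent.Lib.Helper87.isNormal_of_abelian hS hF
      (Cfsg.Agent.Lib.Helper87.stronglyClosed_top F)
      (fun a ha b hb => congrArg Subtype.val (hc ⟨a, ha⟩ ⟨b, hb⟩))
    exact (isSS_iff F).2 (char_chain_induction hc hS hD (SChain F) SChain.bot
      (fun T x hT hinv => SChain.step x hT
        (sc_of_aut_invariant hN (fun α _ y hy => hinv α y hy))))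

end Cfsg.Agent.S5284
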