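import Cfsg.Statements.S5287
import Cfsg.Agent.Lib.Helper64.SSMeta
import Cfsg.Agent.S5284
import Cfsg.Agent.S5234

set_option autoImplicit false
open Cfsg Cfsg.Agent.Lib.Helper64

namespace Cfsg.Agent.S5287

/-- Let S be a finite metacyclic p-group (an extension of a cyclic group by a cyclic group). Every saturated fusion system over S is supersoluble (S has a chain of F-strongly closed subgroups from 1 to S with cyclic steps) if and only if S is not homocyclic of rank two (isomorphic to Z/p^n × Z/p^n with n ≥ 1) and, when p = 2, S is not dihedral of order at least 4, not quasi-dihedral (semidihedral) and not generalized quaternion of order at least 8. -/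
theorem result {Ω : Type*} [Group Ω] {S : Subgroup Ω} [Finite S] (p : ℕ) [Fact p.Prime] (hS : IsPGroup p ↥S) (hm : Cfsg.IsMetacyclic ↥S) : (∀ F : Cfsg.FusionSystem S, F.IsSaturated p → (∃ (m : ℕ) (c : Fin (m + 1) → Subgroup Ω), c 0 = ⊥ ∧ c (Fin.last m) = S ∧ (∀ i : Fin (m + 1), F.StronglyClosed (c i)) ∧ ∀ i : Fin m, c i.castSucc ≤ c i.succ ∧ ∃ x ∈ S, c i.succ = c i.castSucc ⊔ Subgroup.zpowers x)) ↔ ¬ ((∃ n : ℕ, 0 < n ∧ Nonempty (↥S ≃* Multiplicative (ZMod (p ^ n)) × Multiplicative (ZMod (p ^ n)))) ∨ (p = 2 ∧ ((∃ n : ℕ, 2 ≤ n ∧ Nonempty (↥S ≃* DihedralGroup n)) ∨ Cfsg.IsQuasiDihedral ↥S ∨ (∃ n : ℕ, 2 ≤ n ∧ Nonempty (↥S ≃* QuaternionGroup n))))) := by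
  constructor
  · intro h
    rintro (⟨n, hn, ⟨E⟩⟩ | ⟨rfl, ⟨n, hn, ⟨E⟩⟩ | hqd | ⟨n, hn, ⟨E⟩⟩⟩)
    · have hab : IsMulCommutative ↥S := ⟨⟨fun a b => Homo2.comm ⟨n, hn, ⟨E⟩⟩ a b⟩⟩
      exact (Cfsg.Agent.S5284.result p hS hab).1 h
        ⟨n, Unit, inferInstance, hn, ⟨E.trans MulEquiv.prodUnique.symm⟩⟩
    · exact not_type_dih hS hn E h
    · exact not_type_qd hS hqd h
    · exact not_type_quat hS hn E h
  · intro hno
    by_cases hc : ∀ a b : S, a * b = b * a
    · exact (Cfsg.Agent.S5284.result p hS ⟨⟨hc⟩⟩).2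
        (fun h => hno (Or.inl (homo2_of_repeat hS hm h)))
    by_cases hp2 : p = 2
    · subst hp2
      exact type_two_of_meta hS hm hc (fun h => hno (Or.inr ⟨rfl, Or.inl h⟩))
        (fun h => hno (Or.inr ⟨rfl, Or.inr (Or.inl h)⟩))
        (fun h => hno (Or.inr ⟨rfl, Or.inr (Or.inr h)⟩))
    · intro F hF
      have hN := Cfsg.Agent.S5234.result p hS F hF S
        (Cfsg.Agent.Lib.Helper87.stronglyClosed_top F) hp2 hm
      exact (isSS_iff F).2 (sChain_of_charChain hN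
        (charChain_metacyclic p hp2 _ S rfl hS hm (fun h => hno (Or.inl h))))

end Cfsg.Agent.S5287
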