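import Cfsg.Statements.S5292
import Cfsg.Agent.Lib.Helper87.RealizedQuot
import Cfsg.Agent.Lib.Helper87.Solvable
import Cfsg.Agent.Lib.Helper80.PSolv
import Cfsg.Agent.Lib.Helper31.PSolv
import Cfsg.Agent.S5090

set_option autoImplicit false
universe u
open Cfsg Cfsg.FusionSystem Cfsg.Agent.Lib.Helper87

namespace Cfsg.Agent.S5292

/-- Let F be a saturated fusion system over a finite p-group S. Then F is the fusion system of some finite p-solvable group on a Sylow p-subgroup if and only if F is constrained (some subgroup normal in F is centric in F) and the group of automorphisms that F induces on its largest normal subgroup O_p(F) is p-solvable. -/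
theorem result {Ω : Type u} [Group Ω] {S : Subgroup Ω} [Finite S] (p : ℕ) [Fact p.Prime] (hS : IsPGroup p S)
    (F : Cfsg.FusionSystem S) (hF : F.IsSaturated p) :
    (∃ (G : Type u) (_ : Group G) (_ : Finite G) (ι : S →* G), Cfsg.IsPSolvable p G ∧ F.IsRealizedBy ι ∧
        ∃ T : Sylow p G, (T : Subgroup G) = ι.range) ↔
      (F.IsConstrained p ∧ Cfsg.IsPSolvable p ↥(F.autGroup F.core)) := by
  have hp : p.Prime := Fact.out
  have hQn := Cfsg.Agent.Lib.Helper88.isNormal_core F
  constructor
  · rintro ⟨G, _, hfin, ι, hsol, hr, T, hT⟩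
    have hHn : (pPrimeCore p G).Normal := (Cfsg.Agent.Lib.Helper80.pPrimeCore_spec p).1
    have hHc : (Nat.card (pPrimeCore p G)).Coprime p := (Cfsg.Agent.Lib.Helper80.pPrimeCore_spec p).2
    have hTH : ∀ x ∈ ι.range, x ∈ pPrimeCore p G → x = 1 := by
      intro x hx hxH
      rw [← hT] at hx
      obtain ⟨k, hk⟩ := T.isPGroup' ⟨x, hx⟩
      have h1 : x ^ (p ^ k) = 1 := congrArg Subtype.val hk
      have h2 : x ^ Nat.card (pPrimeCore p G) = 1 := by
        have := pow_card_eq_one' (G := pPrimeCore p G) (x := ⟨x, hxH⟩)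
        exact congrArg Subtype.val this
      have h3 : orderOf x ∣ Nat.gcd (Nat.card (pPrimeCore p G)) (p ^ k) :=
        Nat.dvd_gcd (orderOf_dvd_of_pow_eq_one h2) (orderOf_dvd_of_pow_eq_one h1)
      rw [Nat.Coprime.pow_right k hHc] at h3
      exact orderOf_eq_one_iff.1 (Nat.dvd_one.1 h3)
    obtain ⟨hr', hT'⟩ := isRealizedBy_quotient hr T hT (pPrimeCore p G) hTH
    have hsol' : IsPSolvable p (G ⧸ pPrimeCore p G) :=
      Cfsg.Agent.Lib.Helper80.isPSolvable_of_surjective hp (QuotientGroup.mk' _)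
        (QuotientGroup.mk'_surjective _) hsol
    have hmodel : F.IsModel p (G ⧸ pPrimeCore p G) ((QuotientGroup.mk' (pPrimeCore p G)).comp ι) :=
      ⟨inferInstance, hr', hT', Cfsg.Agent.Lib.Helper80.centralizer_pCore_le hsol'
        Cfsg.Agent.Lib.Helper80.pPrimeCore_quotient_eq_bot⟩
    refine ⟨constrained_of_model hmodel, ?_⟩
    obtain ⟨c, hc, -⟩ := exists_autHom hr' hQn.1 (IsModel.map_normal hmodel hQn)
    exact Cfsg.Agent.Lib.Helper80.isPSolvable_of_surjective hp c hc hsol'
  · rintro ⟨hcon, hsol⟩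
    obtain ⟨G, _, ι, hmodel⟩ := Cfsg.Agent.S5090.result p hS F hcon
    have hmodel' := hmodel
    obtain ⟨hfin, hr, hT, hcent⟩ := hmodel
    refine ⟨G, inferInstance, hfin, ι, ?_, hr, hT⟩
    obtain ⟨T, hT⟩ := hT
    obtain ⟨c, hc, hcg⟩ := exists_autHom hr hQn.1 (IsModel.map_normal hmodel' hQn)
    have hn := pCore_normal' p G
    have hle : pCore p G ≤ ι.range := hT ▸ pCore_le_sylow' T
    have hpre : pre ι (pCore p G) ≤ F.core := le_core (isNormal_pre hr (pCore p G) hle)
    have hker : c.ker ≤ pCore p G := by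
      intro g hg
      apply hcent
      rw [Subgroup.mem_centralizer_iff]
      intro y hy
      obtain ⟨x, rfl⟩ := hle hy
      have hxQ : (x : Ω) ∈ F.core := hpre ((mem_pre ι _ _).2 ⟨x.2, by rw [tf_coe]; exact hy⟩)
      have h1 := hcg g ⟨x, hxQ⟩
      rw [MonoidHom.mem_ker.1 hg] at h1
      have h2 : tf ι (x : Ω) = g * tf ι (x : Ω) * g⁻¹ := h1
      rw [tf_coe] at h2
      rw [eq_mul_inv_iff_mul_eq] at h2
      exact h2
    have hkp : IsPGroup p c.ker := (pCore_isPGroup' p G).to_le hker
    refine Cfsg.Agent.Lib.Helper31.isPSolvable_of_quotient p c.ker (Or.inl hkp.exists_card_eq) ?_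
    exact Cfsg.Agent.Lib.Helper80.isPSolvable_of_surjective hp
      (QuotientGroup.quotientKerEquivOfSurjective c hc).symm.toMonoidHom
      (QuotientGroup.quotientKerEquivOfSurjective c hc).symm.surjective hsol

end Cfsg.Agent.S5292
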