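import Cfsg.Statements.S5299
-- import your own Cfsg.Agent.* helpers here

set_option autoImplicit false
universe u
open Cfsg

namespace Cfsg.Agent.S5299

theorem involves_of_inj_surj {A B C : Type*} [Group A] [Group B] [Group C] (j : A →* B)
    (hj : Function.Injective j) (f : A →* C) (hf : Function.Surjective f) : Cfsg.Involves C B := by
  let g : j.range →* C := f.comp (MonoidHom.ofInjective hj).symm.toMonoidHom
  have hg : Function.Surjective g := hf.comp (MonoidHom.ofInjective hj).symm.surjective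
  have h : ((g.ker).map j.range.subtype).subgroupOf j.range = g.ker :=
    Subgroup.comap_map_eq_self_of_injective j.range.subtype_injective _
  have hn : (((g.ker).map j.range.subtype).subgroupOf j.range).Normal := by
    rw [h]; infer_instance
  exact ⟨j.range, (g.ker).map j.range.subtype, hn,
    ⟨(QuotientGroup.quotientMulEquivOfEq h).trans (QuotientGroup.quotientKerEquivOfSurjective g hg)⟩⟩

/-- Let F be a saturated fusion system over a finite p-group S, H a finite group and Q a p-subgroup of H. If Q is not involved in S (no section of S is isomorphic to Q), then F is H-free: H is involved in no model of the normalizer system of a fully normalized centric subgroup. -/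
theorem result {Ω : Type u} [Group Ω] {S : Subgroup Ω} [Finite S] (p : ℕ) [Fact p.Prime] (hS : IsPGroup p S)
    (F : Cfsg.FusionSystem S) (hF : F.IsSaturated p) (H : Type*) [Group H] [Finite H] (Q : Subgroup H) (hQ : IsPGroup p Q)
    (hfree : ¬ Cfsg.Involves (↥Q) (↥S)) : F.IsSectionFree p H := by
  intro Q' _ _ N _ L _ ι hmodel hinv
  obtain ⟨hfin, ⟨hι, -⟩, ⟨T, hT⟩, -⟩ := hmodel
  obtain ⟨K, R, hn, ⟨e⟩⟩ := hinv
  apply hfree
  let π : ↥K →* H := e.toMonoidHom.comp (QuotientGroup.mk' (R.subgroupOf K))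
  have hπ : Function.Surjective π := e.surjective.comp (QuotientGroup.mk'_surjective _)
  let π₁ : ↥(Q.comap π) →* ↥Q := π.subgroupComap Q
  have hπ₁ : Function.Surjective π₁ := MonoidHom.subgroupComap_surjective_of_surjective π Q hπ
  obtain ⟨P₁⟩ : Nonempty (Sylow p ↥(Q.comap π)) := inferInstance
  have htop : ((P₁.mapSurjective hπ₁ : Sylow p ↥Q) : Subgroup ↥Q) = ⊤ := by
    have h1 : IsPGroup p (⊤ : Subgroup ↥Q) := hQ.of_equiv Subgroup.topEquiv.symm
    exact ((P₁.mapSurjective hπ₁).3 h1 le_top).symm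
  have htop' : (P₁ : Subgroup ↥(Q.comap π)).map π₁ = ⊤ := htop
  let f : ↥(P₁ : Subgroup ↥(Q.comap π)) →* ↥Q := π₁.comp (P₁ : Subgroup ↥(Q.comap π)).subtype
  have hf : Function.Surjective f := by
    intro q
    have : q ∈ (P₁ : Subgroup ↥(Q.comap π)).map π₁ := by rw [htop']; trivial
    obtain ⟨a, ha, rfl⟩ := this
    exact ⟨⟨a, ha⟩, rfl⟩
  let j₀ : ↥(P₁ : Subgroup ↥(Q.comap π)) →* L :=
    K.subtype.comp ((Q.comap π).subtype.comp (P₁ : Subgroup ↥(Q.comap π)).subtype)
  have hj₀ : Function.Injective j₀ :=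
    K.subtype_injective.comp ((Q.comap π).subtype_injective.comp (Subgroup.subtype_injective _))
  have hp : IsPGroup p j₀.range := P₁.2.of_equiv (MonoidHom.ofInjective hj₀)
  obtain ⟨P', hP'⟩ := hp.exists_le_sylow
  obtain ⟨g, hg⟩ := MulAction.exists_smul_eq L P' T
  have hmem : ∀ a, ((MulAut.conj g).toMonoidHom.comp j₀) a ∈ ι.range := by
    intro a
    rw [← hT, ← hg]
    exact ⟨j₀ a, hP' ⟨a, rfl⟩, rfl⟩
  let j₁ : ↥(P₁ : Subgroup ↥(Q.comap π)) →* ι.range :=
    ((MulAut.conj g).toMonoidHom.comp j₀).codRestrict ι.range hmem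
  have hj₁ : Function.Injective j₁ := by
    intro a b hab
    have h2 : (MulAut.conj g) (j₀ a) = (MulAut.conj g) (j₀ b) := congrArg Subtype.val hab
    exact hj₀ ((MulAut.conj g).injective h2)
  let j : ↥(P₁ : Subgroup ↥(Q.comap π)) →* ↥S :=
    (Subgroup.inclusion (inf_le_left : Cfsg.FusionSystem.normalizerIn S Q' ≤ S)).comp
      ((MonoidHom.ofInjective hι).symm.toMonoidHom.comp j₁)
  have hj : Function.Injective j :=
    (Subgroup.inclusion_injective (inf_le_left : Cfsg.FusionSystem.normalizerIn S Q' ≤ S)).comp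
      ((MonoidHom.ofInjective hι).symm.injective.comp hj₁)
  exact involves_of_inj_surj j hj f hf

end Cfsg.Agent.S5299
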