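import Cfsg.Statements.S5315
import Cfsg.Agent.Lib.Helper87.Grun

set_option autoImplicit false
open Cfsg Cfsg.FusionSystem Cfsg.Agent.Lib.Helper87

namespace Cfsg.Agent.S5315

/-- An analogue of Grün's lemma for fusion systems. Let F be a saturated fusion system over a finite p-group S that is perfect in the sense that its hyperfocal subgroup is all of S (F coincides with its p-residual subsystem). Then the second centre of F equals its centre: every fusion system over S/(Z(F) ∩ S) that is the factor system of F modulo its centre Z(F), read through the quotient map, has trivial centre. -/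
theorem result {Ω : Type*} [Group Ω] {S : Subgroup Ω} [Finite S] (p : ℕ) [Fact p.Prime] (hS : IsPGroup p S) (F : Cfsg.FusionSystem S) (hF : F.IsSaturated p)
    (hperf : F.hyperfocalSubgroup p = S)
    (E : Cfsg.FusionSystem (⊤ : Subgroup (↥S ⧸ (F.center).subgroupOf S)))
    (hE : F.IsFactorSystem F.center (QuotientGroup.mk' ((F.center).subgroupOf S)) E) : E.center = ⊥ := by
  have hZc := Cfsg.Agent.Lib.Helper88.isCentral_center F
  have hZsc : F.StronglyClosed F.center :=
    Cfsg.Agent.Lib.Helper87.IsNormal.stronglyClosed (IsCentral.isNormal hZc)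
  have hsm := surjMor_of (Cfsg.Agent.S5134.result p hS F hF F.center hZsc _ E hE)
  have hkeq : hsm.ker = F.center := by
    ext x
    constructor
    · rintro ⟨hx, h1⟩
      exact (tf_eq_one_iff hE.2.1 hx).1 h1
    · intro hx
      exact ⟨hZc.1 hx, (tf_eq_one_iff hE.2.1 (hZc.1 hx)).2 hx⟩
  have hfinT : Finite (⊤ : Subgroup (S ⧸ (F.center).subgroupOf S)) := hsm.finite_target
  have hker : F.IsCentral hsm.ker := by rw [hkeq]; exact hZc
  have hmax : ∀ Q, F.IsCentral Q → Q ≤ hsm.ker := by
    intro Q hQ
    rw [hkeq]
    exact le_sSup (a := Q) (s := {Q : Subgroup Ω | F.IsCentral Q}) hQ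
  exact grun hS hF hperf hsm hker hmax (Cfsg.Agent.Lib.Helper88.isCentral_center E)

end Cfsg.Agent.S5315
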