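import Cfsg.Statements.S5332
import Cfsg.Agent.Lib.Helper89.NilZJ
import Cfsg.Agent.Lib.Helper87.NormRadical
import Cfsg.Agent.Lib.Helper86.SecFree2

set_option autoImplicit false
open Cfsg

namespace Cfsg.Agent.S5332

open Cfsg.FusionSystem Cfsg.Agent.Lib.Helper87 Cfsg.Agent.Lib.Helper89

theorem aux {Ω : Type*} [Group Ω] {S₁ S : Subgroup Ω} (h : S₁ = S) (p : ℕ) (N : Cfsg.FusionSystem S₁)
    (F : Cfsg.FusionSystem S) (hsub : N.IsSubsystemOf F) (hc : N.IsConstrained p)
    (hne : ∃ P : Subgroup Ω, N.Hom P ≠ (Cfsg.innerFusionSystem S₁).Hom P) :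
    ∃ E : Cfsg.FusionSystem S, E ≤ F ∧ E.IsConstrained p ∧
      ∃ P : Subgroup Ω, E.Hom P ≠ (Cfsg.innerFusionSystem S).Hom P := by
  subst h
  exact ⟨N, hsub, hc, hne⟩

/-- Let p be odd and F a saturated fusion system over a finite p-group S that is not the inner system of S. Then F contains a saturated constrained subsystem over S that is itself not the inner system. -/
theorem result {Ω : Type*} [Group Ω] {S : Subgroup Ω} [Finite S] (p : ℕ) [Fact p.Prime] (hS : IsPGroup p S) (F : Cfsg.FusionSystem S) (hF : F.IsSaturated p) (hp : p ≠ 2) (hne : ∃ P : Subgroup Ω, F.Hom P ≠ (Cfsg.innerFusionSystem S).Hom P) : ∃ E : Cfsg.FusionSystem S, E ≤ F ∧ E.IsConstrained p ∧ ∃ P : Subgroup Ω, E.Hom P ≠ (Cfsg.innerFusionSystem S).Hom P := by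
  have hnil : ¬ Nil F p := by
    intro h
    obtain ⟨P, hP⟩ := hne
    exact hP (by rw [h.eq_inner hS hF])
  obtain ⟨Q, N, hQS, hQ1, hNS, hN, hNsat, hNQ, hnp, -, -, hcent⟩ :=
    exists_local_obstruction hS (fun _ : Unit => isPFunctor_centerThompsonA p) hF
      (fun Ω' _ S' _ E hS' _ hE => gt_main (fun _ => isPFunctor_centerThompsonA p)
        (groupHyp_centerThompsonA p hp) _ Ω' S' E hS' rfl hE) hnil
  have hfin : Finite ↥(normalizerIn S Q) := Cfsg.Agent.Lib.Helper87.finite_of_le (normalizerIn_le S Q)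
  refine aux hNS p N F (Cfsg.Agent.Lib.Helper86.SecFree.normalizerSystem_sub hN)
    ⟨hNsat, Q, hNQ, hNQ.1, fun Q' hQ' => ?_⟩ ?_
  · rw [IsNormal.eq_of_isConj hNQ hQ']
    intro c hc
    exact hcent ⟨normalizerIn_le S Q hc.1, hc.2⟩
  · by_contra hcon
    push Not at hcon
    exact hnp (pAut_of_nil_normalizerSystem hN
      (nil_of_hom_eq_inner (hS.to_le (normalizerIn_le S Q)) hcon))

end Cfsg.Agent.S5332
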