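import Cfsg.Statements.S5343
import Cfsg.Agent.Lib.Helper87.NormalTransport
import Cfsg.Agent.Lib.Helper87.RealizedQuot
import Cfsg.Agent.Lib.Helper87.NormalSubgroupSystem

set_option autoImplicit false
universe u
open Cfsg Cfsg.FusionSystem Cfsg.Agent.Lib.Helper87

namespace Cfsg.Agent.S5343

/-- Let F be a simple saturated fusion system over a finite p-group S that is realized by some finite group on a Sylow p-subgroup. Then F is realized by a finite simple group on a Sylow p-subgroup. -/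
theorem result {Ω : Type u} [Group Ω] {S : Subgroup Ω} [Finite S] (p : ℕ) [Fact p.Prime] (hS : IsPGroup p S) (F : Cfsg.FusionSystem S) (hsimple : F.IsSimple p) (hreal : F.IsRealizable p) : ∃ (G : Type u) (_ : Group G) (_ : Finite G) (_ : IsSimpleGroup G) (ι : ↥S →* G), F.IsRealizedBy ι ∧ ∃ T : Sylow p G, (T : Subgroup G) = ι.range := by
  classical
  obtain ⟨hFs, hSne, hsimp⟩ := hsimple
  let Pr : ℕ → Prop := fun n => ∃ (G : Type u) (_ : Group G) (_ : Finite G) (ι : ↥S →* G),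
    Nat.card G = n ∧ F.IsRealizedBy ι ∧ ∃ T : Sylow p G, (T : Subgroup G) = ι.range
  have hex : ∃ n, Pr n := by
    obtain ⟨G, i1, i2, ι, h1, h2⟩ := hreal
    exact ⟨Nat.card G, G, i1, i2, ι, rfl, h1, h2⟩
  obtain ⟨G, _, hfin, ι, hcard, hr, T, hT⟩ := Nat.find_spec hex
  have hmin : ∀ m, m < Nat.card G → ¬ Pr m := fun m hm => Nat.find_min hex (hcard ▸ hm)
  have hnt : Nontrivial G := by
    obtain ⟨s, hs1⟩ := (Subgroup.ne_bot_iff_exists_ne_one).1 hSne
    exact ⟨ι s, 1, fun h => hs1 (hr.1 (h.trans (map_one ι).symm))⟩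
  refine ⟨G, inferInstance, hfin, ⟨fun N hN => ?_⟩, ι, hr, T, hT⟩
  by_contra hcon
  push Not at hcon
  obtain ⟨hN1, hN2⟩ := hcon
  have hsm := surjMor_of_realized hr
  rw [← hT] at hsm
  have hinj : ∀ x ∈ (T : Subgroup G), ∀ y ∈ (T : Subgroup G), tinv ι x = tinv ι y → x = y := by
    intro x hx y hy e
    rw [hT] at hx hy
    rw [← tf_tinv ι hx, ← tf_tinv ι hy, e]
  have hnorm := normal_subgroup_system T N
  have hTN : (T : Subgroup G) ⊓ N ≤ (T : Subgroup G) := inf_le_left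
  obtain ⟨E', hE'⟩ := exists_image_system (E := fusionSystemOfSubgroup N ((T : Subgroup G) ⊓ N) inf_le_right)
    (T' := hsm.image _ hTN) (θ := tinv ι) (T.isPGroup'.to_le hTN) hnorm.1.1
    (fun x hx y hy => hsm.map_mul x hx.1 y hy.1)
    (fun x hx h1 => hinj x hx.1 1 (Subgroup.one_mem _) (h1.trans hsm.map_one.symm))
    (hsm.mem_image hTN)
  have hn' := isNormalIn_transport T.isPGroup' hsm hinj hE' hnorm
  rcases hsimp _ E' hn' with h0 | ⟨h0, h1⟩
  · -- `T ∩ N = 1`
    have hTH : ∀ x ∈ ι.range, x ∈ N → x = 1 := by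
      intro x hx hxN
      rw [← hT] at hx
      have h2 : tinv ι x ∈ hsm.image _ hTN := (hsm.mem_image hTN _).2 ⟨x, ⟨hx, hxN⟩, rfl⟩
      rw [h0, Subgroup.mem_bot] at h2
      exact hinj x hx 1 (Subgroup.one_mem _) (h2.trans hsm.map_one.symm)
    obtain ⟨hr', hT'⟩ := isRealizedBy_quotient hr T hT N hTH
    refine hmin (Nat.card (G ⧸ N)) ?_ ⟨G ⧸ N, inferInstance, inferInstance, _, rfl, hr', hT'⟩
    have h3 := Subgroup.card_eq_card_quotient_mul_card_subgroup N
    have h4 : 1 < Nat.card N := by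
      have : Nontrivial N := (Subgroup.nontrivial_iff_ne_bot N).2 hN1
      exact Finite.one_lt_card
    have h5 : 0 < Nat.card (G ⧸ N) := Nat.card_pos
    rw [h3]
    nlinarith
  · -- `T ≤ N`
    have hTleN : (T : Subgroup G) ≤ N := by
      intro x hx
      have h2 : tinv ι x ∈ hsm.image _ hTN := by
        rw [h0]
        exact tinv_mem ι x
      obtain ⟨y, hy, e⟩ := (hsm.mem_image hTN _).1 h2
      rw [← hinj y hy.1 x hx e]
      exact hy.2
    have hιN : ∀ s : S, ι s ∈ N := fun s => hTleN (hT ▸ ⟨s, rfl⟩)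
    let ιN : S →* N := ι.codRestrict N hιN
    refine hmin (Nat.card N) ?_ ⟨N, inferInstance, inferInstance, ιN, rfl, ⟨?_, ?_⟩, ?_⟩
    · have h3 : Nat.card N ≤ Nat.card G := Subgroup.card_le_card_group N
      rcases h3.lt_or_eq with h4 | h4
      · exact h4
      · exact absurd ((Subgroup.card_eq_iff_eq_top N).1 h4) hN2
    · intro a b e
      exact hr.1 (congrArg Subtype.val e)
    · intro P hP φ hφ
      constructor
      · intro hφF
        rw [← h1 P] at hφF
        have hm : Mor E' P (ext φ) := Mor.of_hom hφF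
        obtain ⟨f, hf, e⟩ := hE'.lift P _ hm (hE'.preimage P) (hE'.mem_preimage P)
        obtain ⟨-, n, hn, hc⟩ := (mor_subgroup_iff _ _ _ _ _).1 hf
        refine ⟨⟨n, hn⟩, fun x => Subtype.ext ?_⟩
        show ι ⟨φ x, hφ x⟩ = n * ι ⟨x, hP x.2⟩ * n⁻¹
        have hy : ι ⟨x, hP x.2⟩ ∈ hE'.preimage P := by
          rw [hE'.mem_preimage]
          refine ⟨⟨hT ▸ ⟨_, rfl⟩, hιN _⟩, ?_⟩
          rw [← tf_apply ι (hP x.2), tinv_tf hr.1 (hP x.2)]
          exact x.2
        have e1 := e _ hy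
        rw [← tf_apply ι (hP x.2), tinv_tf hr.1 (hP x.2), ext_coe, tf_apply ι (hP x.2),
          (hc _ hy).1] at e1
        have h5 : n * ι ⟨x, hP x.2⟩ * n⁻¹ ∈ ι.range := hT ▸ (hc _ hy).2.1
        rw [← tf_tinv ι h5, ← e1, tf_apply ι (hφ x)]
      · rintro ⟨n, hn⟩
        exact (hr.2 P hP φ hφ).2 ⟨n, fun x => congrArg Subtype.val (hn x)⟩
    · refine ⟨T.subtype hTleN, ?_⟩
      rw [Sylow.coe_subtype]
      ext y
      rw [Subgroup.mem_subgroupOf, hT]
      constructor
      · rintro ⟨s, hs⟩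
        exact ⟨s, Subtype.ext hs⟩
      · rintro ⟨s, rfl⟩
        exact ⟨s, rfl⟩

end Cfsg.Agent.S5343
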