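import Cfsg.Statements.S5435
import Cfsg.Agent.S0215
import Cfsg.Agent.S2872
import Cfsg.Agent.Lib.Helper3.PGroup
import Cfsg.Agent.Lib.Helper52.Frat
import Cfsg.Agent.Lib.Helper5.DihedralIso

set_option autoImplicit false
open Cfsg Cfsg.Agent.Lib.Helper5
open scoped commutatorElement Pointwise

namespace Cfsg.Agent.S5435


theorem mem_zpowers_invol {L : Type*} [Group L] {z : L} (hzz : z * z = 1) (x : L) :
    x ∈ Subgroup.zpowers z ↔ x = 1 ∨ x = z := by
  constructor
  · intro h
    obtain ⟨k, rfl⟩ := Subgroup.mem_zpowers_iff.1 h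
    rcases Int.even_or_odd' k with ⟨m, rfl | rfl⟩
    · left
      rw [zpow_mul, zpow_two, hzz, one_zpow]
    · right
      rw [zpow_add, zpow_mul, zpow_two, hzz, one_zpow, one_mul, zpow_one]
  · rintro (rfl | rfl)
    · exact one_mem _
    · exact Subgroup.mem_zpowers _

/-- Let L be a finite non-abelian simple group with an involution z whose centralizer R is a Sylow 2-subgroup of L whose Frattini subgroup is the subgroup generated by z. Then R is dihedral of order 8. -/
theorem result {L : Type*} [Group L] [Finite L] [IsSimpleGroup L] (hL : ¬ IsMulCommutative L) (z : L) (hz : orderOf z = 2) (R : Sylow 2 L) (hR : (R : Subgroup L) = Subgroup.centralizer ({z} : Set L)) (hΦ : (frattini ↥(R : Subgroup L)).map (R : Subgroup L).subtype = Subgroup.zpowers z) : Nonempty (↥(R : Subgroup L) ≃* DihedralGroup 4) := by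
  classical
  have hz1 : z ≠ 1 := by
    intro h; rw [h, orderOf_one] at hz; omega
  have hzz : z * z = 1 := by
    rw [← pow_two, ← hz]; exact pow_orderOf_eq_one z
  have hzi : z⁻¹ = z := inv_eq_of_mul_eq_one_left hzz
  have hmemR : ∀ x, x ∈ (R : Subgroup L) ↔ x * z = z * x := by
    intro x; rw [hR, Subgroup.mem_centralizer_singleton_iff]
  have hzR : z ∈ (R : Subgroup L) := (hmemR z).2 rfl
  have hP : IsPGroup 2 (R : Subgroup L) := R.isPGroup'
  have hnc : ∀ N : Subgroup L, N.Normal → N = ⊥ ∨ N = ⊤ :=
    fun N hN => IsSimpleGroup.eq_bot_or_eq_top_of_normal N hN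
  -- squares and commutators
  have hsq : ∀ x ∈ (R : Subgroup L), x * x = 1 ∨ x * x = z := by
    intro x hx
    have h1 := Cfsg.Agent.Lib.Helper3.pow_p_mem_frattini hP (⟨x, hx⟩ : (R : Subgroup L))
    have h2 : x * x ∈ (frattini ↥(R : Subgroup L)).map (R : Subgroup L).subtype :=
      ⟨_, h1, by simp [pow_two]⟩
    rw [hΦ] at h2
    exact (mem_zpowers_invol hzz _).1 h2
  have hcm : ∀ x ∈ (R : Subgroup L), ∀ y ∈ (R : Subgroup L),
      x * y * x⁻¹ * y⁻¹ = 1 ∨ x * y * x⁻¹ * y⁻¹ = z := by
    intro x hx y hy
    have h0 : ⁅(⟨x, hx⟩ : (R : Subgroup L)), ⟨y, hy⟩⁆ ∈ commutator (R : Subgroup L) := by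
      rw [_root_.commutator_def]
      exact Subgroup.commutator_mem_commutator (Subgroup.mem_top _) (Subgroup.mem_top _)
    have h1 := Cfsg.Agent.Lib.Helper3.commutator_le_frattini hP h0
    have h2 : x * y * x⁻¹ * y⁻¹ ∈ (frattini ↥(R : Subgroup L)).map (R : Subgroup L).subtype :=
      ⟨_, h1, by simp [commutatorElement_def]⟩
    rw [hΦ] at h2
    exact (mem_zpowers_invol hzz _).1 h2
  -- the normalizer of R centralizes z
  have hN : ∀ n ∈ Subgroup.normalizer ((R : Subgroup L) : Set L), n * z * n⁻¹ = z := by
    intro n hn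
    have h1 := Cfsg.Agent.Lib.Helper52.normalizer_le_normalizer_frattini (R : Subgroup L) hn
    rw [hΦ] at h1
    have h2 := (Subgroup.mem_normalizer_iff.1 h1 z).1 (Subgroup.mem_zpowers z)
    rcases (mem_zpowers_invol hzz _).1 h2 with h | h
    · exfalso
      apply hz1
      have : z = n⁻¹ * (n * z * n⁻¹) * n := by group
      rw [this, h]; group
    · exact h
  -- Z*
  obtain ⟨g, hgR, hgz⟩ : ∃ g : L, g * z * g⁻¹ ∈ (R : Subgroup L) ∧ g * z * g⁻¹ ≠ z := by
    by_contra hcon
    push Not at hcon
    obtain ⟨N, hNn, hNodd, hNc⟩ := Cfsg.Agent.S0215.result R z hz hzR hcon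
    rcases hnc N hNn with h | h
    · -- z central
      have hzc : z ∈ Subgroup.center L := by
        rw [Subgroup.mem_center_iff]
        intro x
        have := hNc x
        rw [h, Subgroup.mem_bot] at this
        calc x * z = (z * x * z⁻¹ * x⁻¹)⁻¹ * (z * x) := by group
          _ = z * x := by rw [this]; group
      rcases hnc (Subgroup.center L) inferInstance with h' | h'
      · rw [h', Subgroup.mem_bot] at hzc
        exact hz1 hzc
      · apply hL
        constructor
        constructor
        intro a b
        have : a ∈ Subgroup.center L := by rw [h']; exact Subgroup.mem_top a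
        exact (Subgroup.mem_center_iff.1 this b).symm
    · rw [h] at hNodd
      have h2 : 2 ∣ Nat.card L := by rw [← hz]; exact orderOf_dvd_natCard z
      rw [Subgroup.card_top] at hNodd
      exact (Nat.not_even_iff_odd.2 hNodd) (even_iff_two_dvd.2 h2)
  set t : L := g * z * g⁻¹ with ht
  have htt : t * t = 1 := by
    rw [ht]
    calc g * z * g⁻¹ * (g * z * g⁻¹) = g * (z * z) * g⁻¹ := by group
      _ = 1 := by rw [hzz]; group
  have hti : t⁻¹ = t := inv_eq_of_mul_eq_one_left htt
  have ht1 : t ≠ 1 := by
    intro h
    apply hz1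
    have : z = g⁻¹ * t * g := by rw [ht]; group
    rw [this, h]; group
  have htz : t * z = z * t := (hmemR t).1 hgR
  -- centralizer of t
  have hCt : ∀ x, x * t = t * x → g⁻¹ * x * g ∈ (R : Subgroup L) := by
    intro x hx
    rw [hmemR]
    have e : z = g⁻¹ * t * g := by rw [ht]; group
    calc g⁻¹ * x * g * z = g⁻¹ * x * g * (g⁻¹ * t * g) := by rw [← e]
      _ = g⁻¹ * (x * t) * g := by group
      _ = g⁻¹ * (t * x) * g := by rw [hx]
      _ = (g⁻¹ * t * g) * (g⁻¹ * x * g) := by group
      _ = z * (g⁻¹ * x * g) := by rw [← e]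
  -- D is elementary abelian
  have hDsq : ∀ x ∈ (R : Subgroup L), x * t = t * x → x * x = 1 := by
    intro x hx hxt
    rcases hsq x hx with h | h
    · exact h
    · exfalso
      rcases hsq _ (hCt x hxt) with h' | h'
      · have : x * x = 1 := by
          calc x * x = g * (g⁻¹ * x * g * (g⁻¹ * x * g)) * g⁻¹ := by group
            _ = 1 := by rw [h']; group
        rw [this] at h
        exact hz1 h.symm
      · have : x * x = t := by
          calc x * x = g * (g⁻¹ * x * g * (g⁻¹ * x * g)) * g⁻¹ := by group
            _ = t := by rw [h']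
        rw [this] at h
        exact hgz h
  have hDcm : ∀ x ∈ (R : Subgroup L), x * t = t * x → ∀ y ∈ (R : Subgroup L), y * t = t * y →
      x * y = y * x := by
    intro x hx hxt y hy hyt
    have key : x * y * x⁻¹ * y⁻¹ = 1 := by
      rcases hcm x hx y hy with h | h
      · exact h
      · exfalso
        have e : x * y * x⁻¹ * y⁻¹
            = g * (g⁻¹ * x * g * (g⁻¹ * y * g) * (g⁻¹ * x * g)⁻¹ * (g⁻¹ * y * g)⁻¹) * g⁻¹ := by group
        rcases hcm _ (hCt x hxt) _ (hCt y hyt) with h' | h'
        · rw [h'] at e
          rw [e] at h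
          apply hz1
          rw [← h]; group
        · rw [h'] at e
          rw [e] at h
          exact hgz h
    calc x * y = (x * y * x⁻¹ * y⁻¹) * (y * x) := by group
      _ = y * x := by rw [key, one_mul]
  -- conjugates of t under R
  have hconj_t : ∀ x ∈ (R : Subgroup L), x * t = t * x ∨ x * t * x⁻¹ = t * z := by
    intro x hx
    rcases hcm x hx t hgR with h | h
    · left
      calc x * t = (x * t * x⁻¹ * t⁻¹) * (t * x) := by group
        _ = t * x := by rw [h, one_mul]
    · right
      calc x * t * x⁻¹ = (x * t * x⁻¹ * t⁻¹) * t := by group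
        _ = t * z := by rw [h, htz]
  -- some element of R moves t
  obtain ⟨r, hrR, hrt⟩ : ∃ r ∈ (R : Subgroup L), r * t * r⁻¹ = t * z := by
    by_contra hcon
    push Not at hcon
    have hall : ∀ x ∈ (R : Subgroup L), x * t = t * x := by
      intro x hx
      rcases hconj_t x hx with h | h
      · exact h
      · exact absurd h (hcon x hx)
    have hle : ((g⁻¹ • R : Sylow 2 L) : Subgroup L) ≤ (R : Subgroup L) := by
      intro x hx
      have hx' : x ∈ MulAut.conj g⁻¹ • (R : Subgroup L) := hx
      rw [Subgroup.mem_pointwise_smul_iff_inv_smul_mem] at hx'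
      simp only [map_inv, inv_inv, MulAut.smul_def, MulAut.conj_apply] at hx'
      replace hx := hx'
      have := hCt _ (hall _ hx)
      have e : g⁻¹ * (g * x * g⁻¹) * g = x := by group
      rwa [e] at this
    have heq := (g⁻¹ • R : Sylow 2 L).is_maximal' hP hle
    have h2 : (g⁻¹ • R : Sylow 2 L) = R := Sylow.ext heq.symm
    have h3 := hN _ (Sylow.smul_eq_iff_mem_normalizer.1 h2)
    apply hgz
    rw [ht]
    rw [inv_inv] at h3
    calc g * z * g⁻¹ = g * (g⁻¹ * z * g) * g⁻¹ := by rw [h3]
      _ = z := by group
  -- the centre of R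
  have hcenter : ∀ u ∈ (R : Subgroup L), (∀ s ∈ (R : Subgroup L), s * u = u * s) → u = 1 ∨ u = z := by
    intro u hu huc
    by_contra hcon
    have h1 : (⟨u, hu⟩ : (R : Subgroup L)) ∉ frattini ↥(R : Subgroup L) := by
      intro h
      have h2 : u ∈ (frattini ↥(R : Subgroup L)).map (R : Subgroup L).subtype := ⟨_, h, rfl⟩
      rw [hΦ] at h2
      exact hcon ((mem_zpowers_invol hzz _).1 h2)
    rw [Cfsg.Agent.Lib.Helper3.mem_frattini_iff] at h1
    push Not at h1
    obtain ⟨M0, hM0, huM0⟩ := h1
    have hidx := Cfsg.Agent.Lib.Helper3.coatom_index hP hM0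
    have hsub : (M0.map (R : Subgroup L).subtype).subgroupOf (R : Subgroup L) = M0 := by
      ext x
      rw [Subgroup.mem_subgroupOf]
      constructor
      · rintro ⟨y, hy, hxy⟩
        have : y = x := Subtype.ext hxy
        rwa [← this]
      · intro hx
        exact ⟨x, hx, rfl⟩
    have hrel : (M0.map (R : Subgroup L).subtype).relIndex (R : Subgroup L) = 2 := by
      rw [Subgroup.relIndex, hsub, hidx]
    have huM : u ∉ M0.map (R : Subgroup L).subtype := by
      rintro ⟨y, hy, hxy⟩
      have : y = ⟨u, hu⟩ := Subtype.ext hxy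
      rw [this] at hy
      exact huM0 hy
    have hu2 : u ^ 2 = 1 := by
      rw [pow_two]
      exact hDsq u hu (huc t hgR).symm
    obtain ⟨φ, hφ⟩ := Cfsg.Agent.S2872.exists_hom_neg_one R (M0.map (R : Subgroup L).subtype)
      (Subgroup.map_subtype_le _) hrel u hu2 huc huM (by
        intro n hn
        have hnR : n ∈ (R : Subgroup L) := by
          rw [hmemR]
          have := hN n hn
          calc n * z = n * z * n⁻¹ * n := by group
            _ = z * n := by rw [this]
        rw [huc n hnR]; group)
    rcases hnc φ.ker inferInstance with h | h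
    · apply hL
      constructor
      constructor
      intro a b
      have hinj : Function.Injective φ := (MonoidHom.ker_eq_bot_iff φ).1 h
      apply hinj
      rw [map_mul, map_mul, mul_comm]
    · have : u ∈ φ.ker := by rw [h]; exact Subgroup.mem_top u
      rw [MonoidHom.mem_ker, hφ] at this
      exact absurd this (by decide)
  -- an element of order four
  obtain ⟨A, hAR, hAt, hAA⟩ : ∃ A ∈ (R : Subgroup L), A * t * A⁻¹ = t * z ∧ A * A = z := by
    rcases hsq r hrR with h | h
    · refine ⟨r * t, mul_mem hrR hgR, ?_, ?_⟩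
      · calc r * t * t * (r * t)⁻¹ = r * t * r⁻¹ := by group
          _ = t * z := hrt
      · calc r * t * (r * t) = (r * t * r⁻¹) * (r * r) * t := by group
          _ = t * z * t := by rw [hrt, h, mul_one]
          _ = z * (t * t) := by rw [htz]; group
          _ = z := by rw [htt, mul_one]
    · exact ⟨r, hrR, hrt, h⟩
  have hAt' : A * t = t * z * A := by
    calc A * t = A * t * A⁻¹ * A := by group
      _ = t * z * A := by rw [hAt]
  have hAz : A * z = z * A := (hmemR A).1 hAR
  -- every element of R is in D or A D
  have hsplit : ∀ x ∈ (R : Subgroup L), x * t = t * x ∨ (A⁻¹ * x) * t = t * (A⁻¹ * x) := by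
    intro x hx
    rcases hconj_t x hx with h | h
    · exact Or.inl h
    · right
      have e1 : x * t = t * z * x := by
        calc x * t = x * t * x⁻¹ * x := by group
          _ = t * z * x := by rw [h]
      have e2 : A⁻¹ * (t * z) = t * A⁻¹ := by
        calc A⁻¹ * (t * z) = A⁻¹ * (t * z * A) * A⁻¹ := by group
          _ = A⁻¹ * (A * t) * A⁻¹ := by rw [hAt']
          _ = t * A⁻¹ := by group
      calc A⁻¹ * x * t = A⁻¹ * (x * t) := by group
        _ = A⁻¹ * (t * z * x) := by rw [e1]
        _ = (A⁻¹ * (t * z)) * x := by group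
        _ = t * A⁻¹ * x := by rw [e2]
        _ = t * (A⁻¹ * x) := by group
  -- elements of D
  have hcentral_of : ∀ d ∈ (R : Subgroup L), d * t = t * d → A * d = d * A →
      ∀ s ∈ (R : Subgroup L), s * d = d * s := by
    intro d hd hdt hdA s hs
    rcases hsplit s hs with h | h
    · exact hDcm s hs h d hd hdt
    · have h1 := hDcm _ (mul_mem (inv_mem hAR) hs) h d hd hdt
      calc s * d = A * ((A⁻¹ * s) * d) := by group
        _ = A * (d * (A⁻¹ * s)) := by rw [h1]
        _ = (A * d) * (A⁻¹ * s) := by group
        _ = (d * A) * (A⁻¹ * s) := by rw [hdA]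
        _ = d * s := by group
  have hD : ∀ d ∈ (R : Subgroup L), d * t = t * d → d = 1 ∨ d = z ∨ d = t ∨ d = z * t := by
    intro d hd hdt
    rcases hcm A hAR d hd with h | h
    · have hdA : A * d = d * A := by
        calc A * d = (A * d * A⁻¹ * d⁻¹) * (d * A) := by group
          _ = d * A := by rw [h, one_mul]
      rcases hcenter d hd (hcentral_of d hd hdt hdA) with h' | h'
      · exact Or.inl h'
      · exact Or.inr (Or.inl h')
    · have hdA : A * d = z * d * A := by
        calc A * d = (A * d * A⁻¹ * d⁻¹) * (d * A) := by group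
          _ = z * d * A := by rw [h]; group
      have hdz : d * z = z * d := (hmemR d).1 hd
      have h2 : A * (d * t) = (d * t) * A := by
        calc A * (d * t) = (A * d) * t := by group
          _ = z * d * (A * t) := by rw [hdA]; group
          _ = z * d * (t * z * A) := by rw [hAt']
          _ = z * (d * t) * z * A := by group
          _ = z * (z * (d * t)) * A := by
              have : (d * t) * z = z * (d * t) := (hmemR _).1 (mul_mem hd hgR)
              rw [mul_assoc z (d * t) z, this]
          _ = (z * z) * (d * t) * A := by group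
          _ = (d * t) * A := by rw [hzz, one_mul]
      have h3 : (d * t) * t = t * (d * t) := by
        calc (d * t) * t = (t * d) * t := by rw [hdt]
          _ = t * (d * t) := mul_assoc _ _ _
      rcases hcenter (d * t) (mul_mem hd hgR) (hcentral_of _ (mul_mem hd hgR) h3 h2) with h' | h'
      · right; right; left
        calc d = (d * t) * t⁻¹ := by group
          _ = t := by rw [h', hti, one_mul]
      · right; right; right
        calc d = (d * t) * t⁻¹ := by group
          _ = z * t := by rw [h', hti]
  -- the dihedral group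
  have hot : orderOf t = 2 := orderOf_eq_prime (by rw [pow_two, htt]) ht1
  have hyy : (t * A) * (t * A) = 1 := by
    calc t * A * (t * A) = t * (A * t) * A := by group
      _ = t * (t * z * A) * A := by rw [hAt']
      _ = (t * t) * z * (A * A) := by group
      _ = 1 := by rw [htt, hAA, one_mul, hzz]
  have hy1 : t * A ≠ 1 := by
    intro h
    have : A = t := by
      calc A = t⁻¹ * (t * A) := by group
        _ = t := by rw [h, hti, mul_one]
    rw [this, htt] at hAA
    exact hz1 hAA.symm
  have hoy : orderOf (t * A) = 2 := orderOf_eq_prime (by rw [pow_two, hyy]) hy1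
  have hmul : t * (t * A) = A := by rw [← mul_assoc, htt, one_mul]
  have hoA : orderOf A = 4 := by
    have := orderOf_eq_prime_pow (x := A) (p := 2) (n := 1) (by
      rw [pow_one, pow_two, hAA]; exact hz1) (by
      have : A ^ 2 ^ (1 + 1) = (A * A) * (A * A) := by
        norm_num
        rw [show (4 : ℕ) = 2 + 2 from rfl, pow_add, pow_two]
      rw [this, hAA, hzz])
    simpa using this
  have e := dihEquiv hot hoy
  rw [hmul, hoA] at e
  have hcl : (R : Subgroup L) = Subgroup.closure ({t, t * A} : Set L) := by
    have m1 : t ∈ Subgroup.closure ({t, t * A} : Set L) := Subgroup.subset_closure (by simp)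
    have m2 : t * A ∈ Subgroup.closure ({t, t * A} : Set L) := Subgroup.subset_closure (by simp)
    have m3 : A ∈ Subgroup.closure ({t, t * A} : Set L) := by
      have := mul_mem m1 m2
      rwa [hmul] at this
    have m4 : z ∈ Subgroup.closure ({t, t * A} : Set L) := by
      have := mul_mem m3 m3
      rwa [hAA] at this
    have hDle : ∀ d ∈ (R : Subgroup L), d * t = t * d → d ∈ Subgroup.closure ({t, t * A} : Set L) := by
      intro d hd hdt
      rcases hD d hd hdt with h | h | h | h
      · rw [h]; exact one_mem _
      · rw [h]; exact m4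
      · rw [h]; exact m1
      · rw [h]; exact mul_mem m4 m1
    apply le_antisymm
    · intro x hx
      rcases hsplit x hx with h | h
      · exact hDle x hx h
      · have := mul_mem m3 (hDle _ (mul_mem (inv_mem hAR) hx) h)
        have e2 : A * (A⁻¹ * x) = x := by group
        rwa [e2] at this
    · rw [Subgroup.closure_le]
      rintro x (rfl | hx)
      · exact hgR
      · rw [Set.mem_singleton_iff] at hx
        subst hx
        exact mul_mem hgR hAR
  exact ⟨(MulEquiv.subgroupCongr hcl).trans e⟩

end Cfsg.Agent.S5435
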