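import Cfsg.Statements.S5522
import Cfsg.Agent.Lib.Helper34.M11Elts

set_option autoImplicit false
open Cfsg

namespace Cfsg.Agent.S5522

open Cfsg.Agent.Lib.Helper33 Cfsg.Agent.Lib.Helper34
open Cfsg.Agent.Lib.Helper9 (D0 H12 fixL)
open scoped Pointwise

/-- kernel test: the packed permutation fixes a point outside the base dodecad -/
noncomputable def hasFixOut (P : ℕ) : Bool :=
  !(allBelow (fun x => Nat.testBit D0 x || !(Nat.beq (fld5 P x) x)) 24)

theorem hasFixOut_spec {P : ℕ} (hp : isPerm P = true) (h : hasFixOut P = true) :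
    ∃ x : GolayPt, x ∉ unmask D0 ∧ permOf P x = x := by
  rw [hasFixOut, Bool.not_eq_true', ← Bool.not_eq_true, allBelow_iff] at h
  push Not at h
  obtain ⟨x, hx, h1⟩ := h
  have h2 : D0.testBit x = false ∧ (fld5 P x).beq x = true := by
    cases ha : D0.testBit x <;> cases hb : (fld5 P x).beq x <;> simp [ha, hb] at h1 ⊢
  refine ⟨pt x, ?_, ?_⟩
  · rw [pt_mem_unmask hx, h2.1]; simp
  · rw [permOf_apply hp, idx_pt hx, Nat.eq_of_beq_eq_true h2.2]

set_option maxRecDepth 1000000 in
theorem invP_fix : hasFixOut invP = true := by decide +kernel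

set_option maxRecDepth 1000000 in
theorem ord3_fix : allBelow (fun y => !(Nat.testBit 0x53350 y) || hasFixOut (fldP ord3Tab y)) 24 = true := by
  decide +kernel

theorem sq_eq : Cfsg.Spor.squareDodecad = unmask D0 := by
  rw [Cfsg.Spor.squareDodecad, qrWord_eq, support_wordOf]
  rfl

theorem fix_of_conj {g u γ : Equiv.Perm GolayPt} (hu : u ∈ H12) (h : u * g * u⁻¹ = γ)
    (hγ : ∃ x : GolayPt, x ∉ unmask D0 ∧ γ x = x) : ∃ x : GolayPt, x ∉ unmask D0 ∧ g x = x := by
  obtain ⟨x, hx, hfx⟩ := hγ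
  refine ⟨u⁻¹ x, ?_, ?_⟩
  · intro hc
    apply hx
    have := (Cfsg.Agent.Lib.Helper9.H12_mem_iff hu (u⁻¹ x)).2 hc
    rwa [← Equiv.Perm.mul_apply, mul_inv_cancel, Equiv.Perm.one_apply] at this
  · have h2 : g = u⁻¹ * γ * u := by rw [← h]; group
    rw [h2, Equiv.Perm.mul_apply, Equiv.Perm.mul_apply, ← Equiv.Perm.mul_apply u, mul_inv_cancel,
      Equiv.Perm.one_apply, hfx]

theorem fix_of_not_dvd {g : Equiv.Perm GolayPt} (hg : g ∈ H12) {p : ℕ} (hp : p.Prime) (hgp : g ^ p = 1)
    (h12 : ¬ p ∣ 12) : ∃ x : GolayPt, x ∉ unmask D0 ∧ g x = x := by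
  by_contra hcon
  push Not at hcon
  apply h12
  have : Fact p.Prime := ⟨hp⟩
  have hiff : ∀ x, g x ∈ (unmask D0)ᶜ ↔ x ∈ (unmask D0)ᶜ := by
    intro x
    rw [Finset.mem_compl, Finset.mem_compl, Cfsg.Agent.Lib.Helper9.H12_mem_iff hg]
  set σ : Equiv.Perm ↥((unmask D0)ᶜ) := g.subtypePerm hiff with hσ
  have hσp : σ ^ p ^ 1 = 1 := by
    rw [pow_one, hσ, Equiv.Perm.subtypePerm_pow]
    apply Equiv.ext
    intro x
    apply Subtype.ext
    show (g ^ p) x.1 = x.1
    rw [hgp, Equiv.Perm.one_apply]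
  have h1 := Equiv.Perm.card_compl_support_modEq hσp
  have h2 : σ.supportᶜ = ∅ := by
    rw [Finset.compl_eq_empty_iff, Finset.eq_univ_iff_forall]
    intro x
    rw [Equiv.Perm.mem_support]
    intro hx
    exact hcon x.1 (Finset.mem_compl.1 x.2) (congrArg Subtype.val hx)
  rw [h2, Finset.card_empty, Fintype.card_coe,
    card_compl_dodecad Cfsg.Agent.Lib.Helper9.D0_mem] at h1
  exact (Nat.modEq_zero_iff_dvd.1 h1.symm)

/-- The Mathieu group M₁₁, realised as the stabiliser of one point of the dodecad of squares inside the stabiliser M₁₂ of that dodecad in M₂₄, acts on the twelve coordinate positions outside the dodecad of squares (its 3-transitive action of degree 12); in this action every element of prime order fixes a point, i.e. the action is elusive. -/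
theorem result (g : Equiv.Perm Cfsg.GolayPt) (hg : g ∈ Cfsg.Spor.M11) (hord : (orderOf g).Prime) :
    ∃ x : Cfsg.GolayPt, x ∉ Cfsg.Spor.squareDodecad ∧ g x = x := by
  have hg' : g ∈ fixL H12 [0] := by
    obtain ⟨⟨h1, h2⟩, h3⟩ := hg
    refine ⟨⟨h1, ?_⟩, ?_⟩
    · rw [← sq_eq]; exact h2
    · intro i hi
      simp only [List.mem_cons, List.not_mem_nil, or_false] at hi
      rw [hi]; exact h3
  rw [sq_eq]
  have hne : g ≠ 1 := by
    rintro rfl
    rw [orderOf_one] at hord
    exact Nat.not_prime_one hord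
  by_cases h2 : orderOf g = 2
  · have hsq : g * g = 1 := by rw [← pow_two, ← h2, pow_orderOf_eq_one]
    obtain ⟨u, hu, e⟩ := inv_conj hg' hsq hne
    exact fix_of_conj hu.1 e (hasFixOut_spec invP_spec.1 invP_fix)
  by_cases h3 : orderOf g = 3
  · have hcu : g * g * g = 1 := by
      have : g ^ 3 = 1 := by rw [← h3, pow_orderOf_eq_one]
      rw [← this, pow_succ, pow_two]
    obtain ⟨u, hu, y, hy, hbit, e⟩ := ord3_conj hg' hcu hne
    have h4 := (allBelow_iff _ _).1 ord3_fix y hy
    rw [hbit] at h4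
    simp only [Bool.not_true, Bool.false_or] at h4
    have h5 := (allBelow_iff _ _).1 ord3Tab_ok y hy
    rw [hbit] at h5
    simp only [Bool.not_true, Bool.false_or, Bool.and_eq_true] at h5
    exact fix_of_conj hu.1 e (hasFixOut_spec (inFix_spec (by decide) h5.1).1 h4)
  · refine fix_of_not_dvd hg'.1 hord (pow_orderOf_eq_one g) ?_
    intro hd
    have h12 : (12 : ℕ) = 2 ^ 2 * 3 := by norm_num
    rw [h12] at hd
    rcases (Nat.Prime.dvd_mul hord).1 hd with h | h
    · exact h2 ((Nat.prime_dvd_prime_iff_eq hord Nat.prime_two).1 (hord.dvd_of_dvd_pow h))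
    · exact h3 ((Nat.prime_dvd_prime_iff_eq hord Nat.prime_three).1 h)

end Cfsg.Agent.S5522
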