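import Cfsg.Statements.S5726
-- import your own Cfsg.Agent.* helpers here

set_option autoImplicit false
open Cfsg

namespace Cfsg.Agent.S5726

section aux

open MulAction

lemma stabilizer_sub_eq {G Ω : Type*} [Group G] [MulAction G Ω] (P : Subgroup G) (ω : Ω) :
    stabilizer P ω = (stabilizer G ω).subgroupOf P := by
  ext g
  simp only [Subgroup.mem_subgroupOf, mem_stabilizer_iff]
  rfl

/-- Orbits of a Sylow `p`-subgroup of a transitive group have length divisible by the `p`-part of the degree. -/
lemma pow_dvd_index_stabilizer {G Ω : Type*} [Group G] [Finite G] [MulAction G Ω]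
    (htr : IsPretransitive G Ω) (p k : ℕ) [Fact p.Prime] (hk : p ^ k ∣ Nat.card Ω) (P : Sylow p G) (ω : Ω) :
    p ^ k ∣ (stabilizer (P : Subgroup G) ω).index := by
  rw [stabilizer_sub_eq]
  change p ^ k ∣ (stabilizer G ω).relIndex P
  have h1 : (stabilizer G ω).relIndex P * (P : Subgroup G).index = (stabilizer G ω ⊓ P).index := by
    rw [← Subgroup.inf_relIndex_right]
    exact Subgroup.relIndex_mul_index inf_le_right
  have h2 : (stabilizer G ω).index ∣ (stabilizer G ω ⊓ P).index := Subgroup.index_dvd_of_le inf_le_left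
  rw [index_stabilizer_of_transitive, ← h1] at h2
  have h3 : p ^ k ∣ (stabilizer G ω).relIndex P * (P : Subgroup G).index := hk.trans h2
  have hcop : Nat.Coprime (p ^ k) (P : Subgroup G).index := by
    apply Nat.Coprime.pow_left
    exact (Nat.Prime.coprime_iff_not_dvd Fact.out).mpr P.not_dvd_index
  exact hcop.dvd_of_dvd_mul_right h3

end aux

/-- If a finite group acts faithfully and transitively on a set with p^k elements, p a prime and k ≥ 1, then some element of order p fixes no point. -/
theorem result {G Ω : Type*} [Group G] [Finite G] [MulAction G Ω] [FaithfulSMul G Ω] [Fintype Ω] (htr : MulAction.IsPretransitive G Ω)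
    (p k : ℕ) (hp : p.Prime) (hk : 1 ≤ k) (hΩ : Fintype.card Ω = p ^ k) :
    ∃ g : G, orderOf g = p ∧ ∀ ω : Ω, g • ω ≠ ω := by
  classical
  have : Fact p.Prime := ⟨hp⟩
  obtain ⟨P⟩ : Nonempty (Sylow p G) := inferInstance
  have hcard : Nat.card Ω = p ^ k := by rw [Nat.card_eq_fintype_card, hΩ]
  have hne : Nonempty Ω := Fintype.card_pos_iff.mp (by rw [hΩ]; exact pow_pos hp.pos k)
  -- P is transitive
  have horb : ∀ ω : Ω, MulAction.orbit (P : Subgroup G) ω = Set.univ := by
    intro ω
    have h1 := pow_dvd_index_stabilizer htr p k (by rw [hcard]) P ω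
    rw [MulAction.index_stabilizer] at h1
    have h2 : 0 < (MulAction.orbit (P : Subgroup G) ω).ncard := by
      rw [Set.ncard_pos]
      exact MulAction.nonempty_orbit ω
    have h3 := Nat.le_of_dvd h2 h1
    rw [← hcard, ← Set.ncard_univ] at h3
    exact Set.eq_of_subset_of_ncard_le (Set.subset_univ _) h3
  obtain ⟨ω₀⟩ := hne
  -- P is nontrivial
  have hPnt : Nontrivial (P : Subgroup G) := by
    by_contra hcon
    rw [not_nontrivial_iff_subsingleton] at hcon
    have h1 : MulAction.orbit (P : Subgroup G) ω₀ = {ω₀} := by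
      ext x
      constructor
      · rintro ⟨g, rfl⟩
        rw [Subsingleton.elim g 1]
        simp
      · rintro rfl
        exact MulAction.mem_orbit_self _
    rw [horb ω₀] at h1
    have h2 : (Set.univ : Set Ω).ncard = 1 := by rw [h1]; simp
    rw [Set.ncard_univ, hcard] at h2
    have h3 : p ^ 1 ≤ p ^ k := Nat.pow_le_pow_right hp.pos hk
    rw [pow_one] at h3
    have := hp.two_le
    omega
  have hZ : Nontrivial (Subgroup.center (P : Subgroup G)) := P.isPGroup'.center_nontrivial
  have hZp : IsPGroup p (Subgroup.center (P : Subgroup G)) := P.isPGroup'.to_subgroup _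
  have hdvd : p ∣ Nat.card (Subgroup.center (P : Subgroup G)) := by
    obtain ⟨j, hj⟩ := IsPGroup.iff_card.mp hZp
    have h1 : 1 < Nat.card (Subgroup.center (P : Subgroup G)) := Finite.one_lt_card
    rw [hj] at h1 ⊢
    have : j ≠ 0 := by
      rintro rfl
      simp at h1
    exact dvd_pow_self p this
  obtain ⟨z, hz⟩ := exists_prime_orderOf_dvd_card' p hdvd
  refine ⟨((z : (P : Subgroup G)) : G), ?_, ?_⟩
  · rw [Subgroup.orderOf_coe, Subgroup.orderOf_coe, hz]
  · intro ω hω
    have hz1 : ((z : (P : Subgroup G)) : G) = 1 := by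
      apply FaithfulSMul.eq_of_smul_eq_smul (α := Ω)
      intro x
      rw [one_smul]
      have hx : x ∈ MulAction.orbit (P : Subgroup G) ω := by rw [horb ω]; trivial
      obtain ⟨h, rfl⟩ := hx
      have hcomm : (z : (P : Subgroup G)) * h = h * z := (Subgroup.mem_center_iff.mp z.2 h).symm
      have hcomm' : ((z : (P : Subgroup G)) : G) * (h : G) = (h : G) * ((z : (P : Subgroup G)) : G) := by
        exact_mod_cast congrArg (Subtype.val) hcomm
      change ((z : (P : Subgroup G)) : G) • ((h : G) • ω) = (h : G) • ω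
      rw [← mul_smul, hcomm', mul_smul, hω]
    have : z = 1 := by
      apply Subtype.ext
      apply Subtype.ext
      exact hz1
    rw [this, orderOf_one] at hz
    exact hp.one_lt.ne hz

end Cfsg.Agent.S5726
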