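import Cfsg.Statements.S5729
-- import your own Cfsg.Agent.* helpers here

set_option autoImplicit false
open Cfsg

namespace Cfsg.Agent.S5729

section aux

open MulAction

variable {G Ω : Type*} [Group G] [Finite G] [MulAction G Ω] [Fintype Ω]

/-- number of fixed points -/
noncomputable def fx (G : Type*) (Ω : Type*) [Group G] [MulAction G Ω] (g : G) : ℕ := Nat.card (fixedBy Ω g)

lemma burnside_nat (G : Type*) (X : Type*) [Group G] [Fintype G] [MulAction G X] [Finite X] :
    ∑ g : G, fx G X g = Nat.card (Quotient (orbitRel G X)) * Nat.card G := by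
  classical
  have := Fintype.ofFinite X
  have h := MulAction.sum_card_fixedBy_eq_card_orbits_mul_card_group G X
  simp only [fx, Nat.card_eq_fintype_card]
  exact h

lemma sum_fx [Fintype G] (htr : IsPretransitive G Ω) (hne : Nonempty Ω) :
    ∑ g : G, fx G Ω g = Nat.card G := by
  rw [burnside_nat]
  have h1 : Subsingleton (Quotient (orbitRel G Ω)) :=
    (MulAction.pretransitive_iff_subsingleton_quotient G Ω).1 htr
  have h2 : Nonempty (Quotient (orbitRel G Ω)) := hne.map (Quotient.mk _)
  have : Nat.card (Quotient (orbitRel G Ω)) = 1 := by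
    rw [Nat.card_eq_one_iff_unique]
    exact ⟨h1, h2⟩
  rw [this, one_mul]

lemma fx_prod (g : G) : fx G (Ω × Ω) g = fx G Ω g * fx G Ω g := by
  unfold fx
  have : (fixedBy (Ω × Ω) g) = (fixedBy Ω g) ×ˢ (fixedBy Ω g) := by
    ext ⟨a, b⟩
    simp [MulAction.mem_fixedBy, Prod.ext_iff]
  rw [this, Nat.card_congr (Equiv.Set.prod _ _), Nat.card_prod]

lemma two_le_orbits (h2 : 2 ≤ Fintype.card Ω) : 2 ≤ Nat.card (Quotient (orbitRel G (Ω × Ω))) := by
  classical
  obtain ⟨a, b, hab⟩ := Fintype.one_lt_card_iff.mp h2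
  have : Fintype (Quotient (orbitRel G (Ω × Ω))) := Fintype.ofFinite _
  rw [Nat.card_eq_fintype_card]
  apply Fintype.one_lt_card_iff.mpr
  refine ⟨Quotient.mk _ (a, a), Quotient.mk _ (a, b), ?_⟩
  intro h
  have h' := Quotient.exact h
  change (a, a) ∈ orbit G (a, b) at h'
  obtain ⟨g, hg⟩ := h'
  simp only [Prod.smul_mk, Prod.mk.injEq] at hg
  exact hab (smul_left_cancel g (hg.1.trans hg.2.symm))

lemma sum_fx_sq [Fintype G] (h2 : 2 ≤ Fintype.card Ω) :
    2 * Nat.card G ≤ ∑ g : G, fx G Ω g * fx G Ω g := by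
  have h := burnside_nat G (Ω × Ω)
  simp only [fx_prod] at h
  rw [h]
  exact Nat.mul_le_mul_right _ (two_le_orbits h2)

lemma fx_le (g : G) : fx G Ω g ≤ Fintype.card Ω := by
  unfold fx
  rw [← Nat.card_eq_fintype_card]
  exact Nat.card_le_card_of_injective _ Subtype.val_injective

lemma fx_eq_zero_iff (g : G) : fx G Ω g = 0 ↔ ∀ ω : Ω, g • ω ≠ ω := by
  unfold fx
  rw [Nat.card_eq_zero]
  constructor
  · rintro (h | h)
    · intro ω hω
      exact h.false ⟨ω, hω⟩
    · exact absurd (inferInstance : Finite (fixedBy Ω g)) (not_finite_iff_infinite.mpr h)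
  · intro h
    left
    exact ⟨fun x => h x.1 x.2⟩

lemma fx_eq_card_iff [FaithfulSMul G Ω] (g : G) : fx G Ω g = Fintype.card Ω ↔ g = 1 := by
  classical
  constructor
  · intro h
    apply FaithfulSMul.eq_of_smul_eq_smul (α := Ω)
    intro ω
    rw [one_smul]
    unfold fx at h
    rw [Nat.card_eq_fintype_card] at h
    have : (fixedBy Ω g) = Set.univ := by
      rw [← Set.toFinset_inj]
      apply Finset.eq_of_subset_of_card_le
      · intro x _; simp
      · rw [Set.toFinset_card, Set.toFinset_card, h]; simp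
    have hω : ω ∈ fixedBy Ω g := by rw [this]; trivial
    exact hω
  · rintro rfl
    unfold fx
    have : (fixedBy Ω (1 : G)) = Set.univ := by ext; simp
    rw [this, Nat.card_univ, Nat.card_eq_fintype_card]

end aux

/-- Let a finite group G act faithfully and transitively on a set with n ≥ 3 points. Then either G is a Frobenius permutation group (Frobenius as a permutation group: transitive, some non-identity element fixes a point, and no non-identity element fixes two points) of order n(n − 1) and exactly |G|/n of its elements are derangements (fix no point), or the number of derangements is greater than |G|/n. -/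
theorem result {G Ω : Type*} [Group G] [Finite G] [MulAction G Ω] [FaithfulSMul G Ω] [Fintype Ω] (htr : MulAction.IsPretransitive G Ω) (hn : 3 ≤ Fintype.card Ω) :
    ((MulAction.IsPretransitive G Ω ∧ (∃ g : G, g ≠ 1 ∧ ∃ ω : Ω, g • ω = ω) ∧ ∀ g : G, g ≠ 1 → Nat.card (MulAction.fixedBy Ω g) ≤ 1) ∧ Nat.card G = Fintype.card Ω * (Fintype.card Ω - 1) ∧ Fintype.card Ω * Nat.card {g : G // ∀ ω : Ω, g • ω ≠ ω} = Nat.card G) ∨
    Nat.card G < Fintype.card Ω * Nat.card {g : G // ∀ ω : Ω, g • ω ≠ ω} := by
  classical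
  have : Fintype G := Fintype.ofFinite G
  have hne : Nonempty Ω := Fintype.card_pos_iff.mp (by omega)
  obtain ⟨n, hn_def⟩ : ∃ n, n = Fintype.card Ω := ⟨_, rfl⟩
  obtain ⟨N, hN_def⟩ : ∃ N, N = Nat.card G := ⟨_, rfl⟩
  obtain ⟨f, hf⟩ : ∃ f : G → ℕ, f = fx G Ω := ⟨_, rfl⟩
  have hfix : ∀ g : G, Nat.card (MulAction.fixedBy Ω g) = f g := fun g => by rw [hf]; rfl
  have hcardG : (Finset.univ : Finset G).card = N := by
    rw [Finset.card_univ, hN_def, Nat.card_eq_fintype_card]
  obtain ⟨d, hd_def⟩ : ∃ d, d = Nat.card {g : G // ∀ ω : Ω, g • ω ≠ ω} := ⟨_, rfl⟩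
  have hD : d = (Finset.univ.filter (fun g => f g = 0)).card := by
    rw [hd_def, Nat.card_eq_fintype_card, Fintype.card_subtype]
    congr 1
    ext g
    simp [hf, fx_eq_zero_iff]
  have hle : ∀ g, f g ≤ n := fun g => by rw [hf, hn_def]; exact fx_le g
  have hone : ∀ g, f g = n ↔ g = 1 := fun g => by rw [hf, hn_def]; exact fx_eq_card_iff g
  have hzero : ∀ g, f g = 0 ↔ ∀ ω : Ω, g • ω ≠ ω := fun g => by rw [hf]; exact fx_eq_zero_iff g
  have h1 : ∑ g, (f g : ℤ) = N := by
    rw [hf, hN_def]; exact_mod_cast sum_fx htr hne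
  have h2 : 2 * (N : ℤ) ≤ ∑ g, (f g : ℤ) * f g := by
    rw [hf, hN_def]; exact_mod_cast sum_fx_sq (G := G) (Ω := Ω) (by omega)
  simp only [hfix]
  rw [← hn_def, ← hN_def, ← hd_def]
  rw [← hn_def] at hn
  have key1 : ∑ g, ((f g : ℤ) - 1) * ((f g : ℤ) - n) = ∑ g, (f g : ℤ) * f g - (n + 1) * N + n * N := by
    have e : ∀ g, ((f g : ℤ) - 1) * ((f g : ℤ) - n) = (f g : ℤ) * f g - (n + 1) * f g + n := by
      intro g; ring
    rw [Finset.sum_congr rfl (fun g _ => e g)]
    simp only [Finset.sum_add_distrib, Finset.sum_sub_distrib, ← Finset.mul_sum, Finset.sum_const,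
      nsmul_eq_mul, h1, hcardG]
    ring
  have key2 : ∑ g, ((f g : ℤ) - 1) * ((f g : ℤ) - n)
      = n * d - ∑ g, (if f g = 0 then (0 : ℤ) else ((f g : ℤ) - 1) * (n - f g)) := by
    have e : ∀ g, ((f g : ℤ) - 1) * ((f g : ℤ) - n)
        = (if f g = 0 then (n : ℤ) else 0) - (if f g = 0 then (0 : ℤ) else ((f g : ℤ) - 1) * (n - f g)) := by
      intro g
      by_cases h : f g = 0
      · simp [h]
      · simp only [h, if_false]; ring
    rw [Finset.sum_congr rfl (fun g _ => e g), Finset.sum_sub_distrib, ← Finset.sum_filter,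
      Finset.sum_const, ← hD, nsmul_eq_mul]
    ring
  have hSnonneg : ∀ g ∈ (Finset.univ : Finset G),
      0 ≤ (if f g = 0 then (0 : ℤ) else ((f g : ℤ) - 1) * (n - f g)) := by
    intro g _
    by_cases h : f g = 0
    · simp [h]
    · simp only [h, if_false]
      have h1' : (1 : ℤ) ≤ f g := by exact_mod_cast Nat.one_le_iff_ne_zero.mpr h
      have h2' : (f g : ℤ) ≤ n := by exact_mod_cast hle g
      exact mul_nonneg (by linarith) (by linarith)
  have hS0 := Finset.sum_nonneg hSnonneg
  by_cases hlt : N < n * d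
  · right; exact hlt
  · left
    push Not at hlt
    have hlt' : (n : ℤ) * d ≤ N := by exact_mod_cast hlt
    have hSz : ∑ g, (if f g = 0 then (0 : ℤ) else ((f g : ℤ) - 1) * (n - f g)) = 0 := by
      nlinarith
    have hnd : (n : ℤ) * d = N := by nlinarith
    have hterm := (Finset.sum_eq_zero_iff_of_nonneg hSnonneg).mp hSz
    have hfr : ∀ g : G, g ≠ 1 → f g ≤ 1 := by
      intro g hg
      have := hterm g (Finset.mem_univ g)
      by_cases h : f g = 0
      · omega
      · simp only [h, if_false] at this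
        rcases mul_eq_zero.mp this with h' | h'
        · have : (f g : ℤ) = 1 := by linarith
          have : f g = 1 := by exact_mod_cast this
          omega
        · have : (f g : ℤ) = n := by linarith
          have : f g = n := by exact_mod_cast this
          exact absurd ((hone g).mp this) hg
    have hf1 : f 1 = n := (hone 1).mpr rfl
    have hdn : (d : ℤ) = n - 1 := by
      have e : ∀ g, (f g : ℤ) = (if g = 1 then ((n : ℤ) - 1) else 0) + 1 - (if f g = 0 then (1 : ℤ) else 0) := by
        intro g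
        by_cases hg : g = 1
        · subst hg
          have : n ≠ 0 := by omega
          simp [this, hf1]
        · have h3 := hfr g hg
          by_cases h : f g = 0
          · simp [hg, h]
          · have : f g = 1 := by omega
            simp [hg, this]
      rw [Finset.sum_congr rfl (fun g _ => e g)] at h1
      simp only [Finset.sum_add_distrib, Finset.sum_sub_distrib, Finset.sum_ite_eq', Finset.mem_univ, if_true,
        Finset.sum_const, nsmul_eq_mul, hcardG, ← Finset.sum_filter, ← hD, mul_one] at h1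
      linarith
    have hdn' : d = n - 1 := by omega
    have hNn : N = n * (n - 1) := by
      rw [← hdn']; exact_mod_cast hnd.symm
    refine ⟨⟨htr, ?_, hfr⟩, hNn, by rw [← hdn'] at hNn; exact hNn.symm⟩
    by_contra hcon
    push Not at hcon
    have hall : ∀ g : G, g ≠ 1 → f g = 0 := fun g hg => (hzero g).mpr (hcon g hg)
    have e : ∀ g : G, (1 : ℤ) = (if g = 1 then (1 : ℤ) else 0) + (if f g = 0 then (1 : ℤ) else 0) := by
      intro g
      by_cases hg : g = 1
      · subst hg
        have : f 1 ≠ 0 := by omega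
        simp [this]
      · simp [hg, hall g hg]
    have hsum : ∑ _g : G, (1 : ℤ) = 1 + d := by
      rw [Finset.sum_congr rfl (fun g _ => e g)]
      simp only [Finset.sum_add_distrib, Finset.sum_ite_eq', Finset.mem_univ, if_true,
        Finset.sum_const, nsmul_eq_mul, ← Finset.sum_filter, ← hD, mul_one]
    simp only [Finset.sum_const, nsmul_eq_mul, hcardG, mul_one] at hsum
    have : N = 1 + d := by exact_mod_cast hsum
    have h3 : N = n := by omega
    rw [hNn] at h3
    have : n * 2 ≤ n * (n - 1) := Nat.mul_le_mul_left n (by omega)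
    omega

end Cfsg.Agent.S5729
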