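import Cfsg.Statements.S5727
import Cfsg.Agent.S5726
import Cfsg.Agent.S5729

set_option autoImplicit false
open Cfsg

namespace Cfsg.Agent.S5727

section aux

open MulAction

/-- A finite group all of whose point stabilisers are normal of index `p`, acting on fewer than `p * p` points,
contains an element without fixed points. -/
lemma exists_derangement {P Ω : Type*} [Group P] [Finite P] [MulAction P Ω] [Fintype Ω] (p m : ℕ) (hp : 0 < p)
    (hmp : m < p) (hΩ : Fintype.card Ω = m * p)
    (hidx : ∀ ω : Ω, (stabilizer P ω).index = p) (hnorm : ∀ ω : Ω, (stabilizer P ω).Normal) :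
    ∃ g : P, ∀ ω : Ω, g • ω ≠ ω := by
  classical
  have : Fintype P := Fintype.ofFinite P
  -- number of orbits
  have hQ : Nat.card (Quotient (orbitRel P Ω)) * p = m * p := by
    have h := MulAction.card_eq_sum_card_group_div_card_stabilizer P Ω
    have h2 : ∀ q : Quotient (orbitRel P Ω), Fintype.card P / Fintype.card (stabilizer P q.out) = p := by
      intro q
      have h3 := (stabilizer P q.out).index_mul_card
      rw [hidx] at h3
      rw [← Nat.card_eq_fintype_card, ← Nat.card_eq_fintype_card, ← h3]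
      exact Nat.mul_div_cancel _ Nat.card_pos
    rw [Finset.sum_congr rfl (fun q _ => h2 q), Finset.sum_const, Finset.card_univ, smul_eq_mul, hΩ] at h
    rw [Nat.card_eq_fintype_card, ← h]
  have hQ' : Nat.card (Quotient (orbitRel P Ω)) = m := Nat.eq_of_mul_eq_mul_right hp hQ
  have hB := Cfsg.Agent.S5729.burnside_nat P Ω
  rw [hQ'] at hB
  -- an element with a fixed point has at least p of them
  have hge : ∀ g : P, Cfsg.Agent.S5729.fx P Ω g ≠ 0 → p ≤ Cfsg.Agent.S5729.fx P Ω g := by
    intro g hg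
    rw [Ne, Cfsg.Agent.S5729.fx_eq_zero_iff] at hg
    push Not at hg
    obtain ⟨ω, hω⟩ := hg
    have hsub : orbit P ω ⊆ fixedBy Ω g := by
      rintro _ ⟨h, rfl⟩
      have hn := hnorm ω
      have h1 : h⁻¹ * g * h⁻¹⁻¹ ∈ stabilizer P ω := hn.conj_mem g hω h⁻¹
      rw [inv_inv, mem_stabilizer_iff, mul_smul, mul_smul] at h1
      change g • h • ω = h • ω
      rw [inv_smul_eq_iff] at h1
      exact h1
    have h2 := Set.ncard_le_ncard hsub (Set.toFinite _)
    rw [← index_stabilizer, hidx] at h2
    unfold Cfsg.Agent.S5729.fx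
    rw [Nat.card_coe_set_eq]
    exact h2
  by_contra hcon
  push Not at hcon
  have hall : ∀ g : P, p ≤ Cfsg.Agent.S5729.fx P Ω g := by
    intro g
    apply hge
    rw [Ne, Cfsg.Agent.S5729.fx_eq_zero_iff]
    push Not
    exact hcon g
  have h3 : ∑ _g : P, p ≤ ∑ g : P, Cfsg.Agent.S5729.fx P Ω g := Finset.sum_le_sum (fun g _ => hall g)
  rw [hB, Finset.sum_const, Finset.card_univ, smul_eq_mul, ← Nat.card_eq_fintype_card, mul_comm] at h3
  have h4 : 0 < Nat.card P := Nat.card_pos
  have := Nat.le_of_mul_le_mul_right h3 h4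
  omega

end aux

/-- If a finite group acts faithfully and transitively on a set with m·p elements, where p is a prime and 1 ≤ m ≤ p, then some element of order p fixes no point. -/
theorem result {G Ω : Type*} [Group G] [Finite G] [MulAction G Ω] [FaithfulSMul G Ω] [Fintype Ω] (htr : MulAction.IsPretransitive G Ω)
    (p m : ℕ) (hp : p.Prime) (hm : 1 ≤ m) (hmp : m ≤ p) (hΩ : Fintype.card Ω = m * p) :
    ∃ g : G, orderOf g = p ∧ ∀ ω : Ω, g • ω ≠ ω := by
  classical
  rcases hmp.eq_or_lt with rfl | hlt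
  · exact Cfsg.Agent.S5726.result htr m 2 hp (by norm_num) (by rw [hΩ]; ring)
  have : Fact p.Prime := ⟨hp⟩
  obtain ⟨P⟩ : Nonempty (Sylow p G) := inferInstance
  have hcard : Nat.card Ω = m * p := by rw [Nat.card_eq_fintype_card, hΩ]
  have hne : Nonempty Ω := Fintype.card_pos_iff.mp (by rw [hΩ]; exact Nat.mul_pos hm hp.pos)
  obtain ⟨a, ha⟩ := IsPGroup.iff_card.mp P.isPGroup'
  have hidx : ∀ ω : Ω, (MulAction.stabilizer (P : Subgroup G) ω).index = p := by
    intro ω
    have h1 := Cfsg.Agent.S5726.pow_dvd_index_stabilizer htr p 1 (by rw [hcard, pow_one]; exact dvd_mul_left p m) P ω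
    rw [pow_one] at h1
    have h2 : (MulAction.stabilizer (P : Subgroup G) ω).index ∣ p ^ a := by
      rw [← ha]; exact Subgroup.index_dvd_card _
    obtain ⟨j, _, hj⟩ := (Nat.dvd_prime_pow hp).mp h2
    have h3 : (MulAction.stabilizer (P : Subgroup G) ω).index ≤ m * p := by
      rw [MulAction.index_stabilizer, ← hcard, ← Set.ncard_univ]
      exact Set.ncard_le_ncard (Set.subset_univ _) (Set.toFinite _)
    have h4 : m * p < p ^ 2 := by
      rw [pow_two]; exact Nat.mul_lt_mul_of_pos_right hlt hp.pos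
    rw [hj] at h1 h3 ⊢
    have h5 : j < 2 := (Nat.pow_lt_pow_iff_right hp.one_lt).mp (lt_of_le_of_lt h3 h4)
    have h6 : j ≠ 0 := by
      rintro rfl
      rw [pow_zero] at h1
      exact hp.one_lt.ne' (Nat.dvd_one.mp h1)
    have : j = 1 := by omega
    rw [this, pow_one]
  have ha0 : a ≠ 0 := by
    rintro rfl
    obtain ⟨ω⟩ := hne
    have h2 : (MulAction.stabilizer (P : Subgroup G) ω).index ∣ Nat.card (P : Subgroup G) := Subgroup.index_dvd_card _
    rw [hidx, ha, pow_zero] at h2
    exact hp.one_lt.ne' (Nat.dvd_one.mp h2)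
  have hnorm : ∀ ω : Ω, (MulAction.stabilizer (P : Subgroup G) ω).Normal := by
    intro ω
    apply Subgroup.normal_of_index_eq_minFac_card
    rw [hidx, ha, hp.pow_minFac ha0]
  obtain ⟨g, hg⟩ := exists_derangement (P := (P : Subgroup G)) p m hp.pos hlt hΩ hidx hnorm
  refine ⟨(g : G), ?_, fun ω => hg ω⟩
  apply orderOf_eq_prime
  · apply FaithfulSMul.eq_of_smul_eq_smul (α := Ω)
    intro ω
    rw [one_smul]
    have hn := hnorm ω
    have h1 := (MulAction.stabilizer (P : Subgroup G) ω).pow_index_mem g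
    rw [hidx] at h1
    exact h1
  · intro h1
    obtain ⟨ω⟩ := hne
    apply hg ω
    change (g : G) • ω = ω
    rw [h1, one_smul]

end Cfsg.Agent.S5727
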