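import Cfsg.Statements.S5728
-- import your own Cfsg.Agent.* helpers here

set_option autoImplicit false
open Cfsg

namespace Cfsg.Agent.S5728

section aux

/-- an element of a field of characteristic `p` with `a ^ (p - 1) = 1` lies in the prime field -/
lemma mem_prime_field {p : ℕ} [Fact p.Prime] {K : Type*} [Field K] [Algebra (ZMod p) K] (a : K)
    (ha : a ^ (p - 1) = 1) : ∃ a' : ZMod p, a' ≠ 0 ∧ algebraMap (ZMod p) K a' = a := by
  classical
  have hp : p.Prime := Fact.out
  have hpos : 0 < p - 1 := by have := hp.two_le; omega
  let S : Finset K := Finset.univ.image (fun u : (ZMod p)ˣ => algebraMap (ZMod p) K (u : ZMod p))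
  have hinj : Function.Injective (fun u : (ZMod p)ˣ => algebraMap (ZMod p) K (u : ZMod p)) := by
    intro u v h
    exact Units.ext ((algebraMap (ZMod p) K).injective h)
  have hS : S.card = p - 1 := by
    rw [Finset.card_image_of_injective _ hinj, Finset.card_univ, ZMod.card_units]
  have hsub : S ⊆ Polynomial.nthRootsFinset (p - 1) (1 : K) := by
    intro x hx
    obtain ⟨u, _, rfl⟩ := Finset.mem_image.mp hx
    rw [Polynomial.mem_nthRootsFinset hpos, ← map_pow, ← Units.val_pow_eq_pow_val, ZMod.units_pow_card_sub_one_eq_one]
    simp
  have hle : (Polynomial.nthRootsFinset (p - 1) (1 : K)).card ≤ S.card := by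
    rw [hS]
    exact (Multiset.toFinset_card_le _).trans (Polynomial.card_nthRoots _ _)
  have heq := Finset.eq_of_subset_of_card_le hsub hle
  have hmem : a ∈ S := by
    rw [heq, Polynomial.mem_nthRootsFinset hpos]
    exact ha
  obtain ⟨u, _, hu⟩ := Finset.mem_image.mp hmem
  exact ⟨u, u.ne_zero, hu⟩

/-- scaling by the inverse of `b` -/
def scalePerm {K : Type*} [Field K] (b : K) (hb : b ≠ 0) : Equiv.Perm K where
  toFun y := b⁻¹ * y
  invFun y := b * y
  left_inv y := by field_simp
  right_inv y := by field_simp

/-- translation by `-c` -/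
def shiftPerm {K : Type*} [Field K] (c : K) : Equiv.Perm K where
  toFun y := y - c
  invFun y := y + c
  left_inv y := by ring
  right_inv y := by ring

end aux

/-- An elusive transitive action. Let p = 2^s − 1 be a prime and let F be the field with p² elements. Inside the group of affine maps x ↦ a·x + b of F (a ≠ 0), consider the subgroup of maps with both coefficients in the prime field. Then every element of prime order of the affine group is conjugate, within the affine group, to an element of that subgroup; equivalently, in the transitive action of the affine group on the cosets of that subgroup (of degree p(p + 1)) every element of prime order fixes a point. -/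
theorem result (p s : ℕ) [Fact p.Prime] (hs : p = 2 ^ s - 1)
    (g : Equiv.Perm (GaloisField p 2)) (hg : g ∈ Cfsg.affineGroup (GaloisField p 2)) (hord : (orderOf g).Prime) :
    ∃ x ∈ Cfsg.affineGroup (GaloisField p 2), ∃ a b : ZMod p, a ≠ 0 ∧
      ∀ y : GaloisField p 2, (x * g * x⁻¹) y = algebraMap (ZMod p) (GaloisField p 2) a * y + algebraMap (ZMod p) (GaloisField p 2) b := by
  classical
  have hp : p.Prime := Fact.out
  obtain ⟨a, b, hab⟩ := hg
  by_cases ha : a = 1
  · subst ha
    have hb : b ≠ 0 := by
      rintro rfl
      have : g = 1 := by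
        ext x
        simp [hab]
      rw [this, orderOf_one] at hord
      exact Nat.not_prime_one hord
    refine ⟨scalePerm b hb, ⟨Units.mk0 b⁻¹ (inv_ne_zero hb), 0, fun x => by simp [scalePerm]⟩, 1, 1,
      one_ne_zero, fun y => ?_⟩
    change b⁻¹ * g (b * y) = _
    rw [hab]
    simp only [map_one, one_mul, Units.val_one]
    field_simp
  · have ha' : (1 : GaloisField p 2) - a ≠ 0 := by
      intro h
      apply ha
      apply Units.ext
      rw [Units.val_one]
      exact (sub_eq_zero.mp h).symm
    obtain ⟨c, hc⟩ : ∃ c : GaloisField p 2, (a : GaloisField p 2) * c + b = c := by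
      refine ⟨b / (1 - a), ?_⟩
      field_simp
      ring
    have hconj : ∀ y, (shiftPerm c * g * (shiftPerm c)⁻¹) y = (a : GaloisField p 2) * y := by
      intro y
      change g (y + c) - c = _
      rw [hab]
      linear_combination hc
    have hperm : shiftPerm c * g * (shiftPerm c)⁻¹ = MulAction.toPermHom (GaloisField p 2)ˣ (GaloisField p 2) a := by
      ext y
      rw [hconj]
      rfl
    have hord_a : orderOf a = orderOf g := by
      rw [← orderOf_injective (MulAction.toPermHom (GaloisField p 2)ˣ (GaloisField p 2)) MulAction.toPerm_injective a,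
        ← hperm]
      have := (MulAut.conj (shiftPerm c : Equiv.Perm (GaloisField p 2))).orderOf_eq g
      simpa using this
    have hdvd : orderOf g ∣ p ^ 2 - 1 := by
      rw [← hord_a, ← GaloisField.card p 2 (by norm_num), ← Nat.card_units]
      exact orderOf_dvd_natCard a
    have hps : p + 1 = 2 ^ s := by
      have : 0 < 2 ^ s := by positivity
      omega
    have hfac : p ^ 2 - 1 = (p - 1) * 2 ^ s := by
      rw [← hps]
      obtain ⟨k, rfl⟩ : ∃ k, p = k + 1 := ⟨p - 1, by have := hp.two_le; omega⟩
      simp only [Nat.add_sub_cancel]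
      have : (k + 1) ^ 2 = k * (k + 1 + 1) + 1 := by ring
      rw [this, Nat.add_sub_cancel]
    have hdvd' : orderOf g ∣ p - 1 := by
      rw [hfac] at hdvd
      rcases (Nat.Prime.dvd_mul hord).mp hdvd with h | h
      · exact h
      · have h2 : orderOf g ∣ 2 := hord.dvd_of_dvd_pow h
        have h3 : orderOf g = 2 := (Nat.prime_dvd_prime_iff_eq hord Nat.prime_two).mp h2
        rw [h3]
        have hs : s ≠ 0 := by
          rintro rfl
          have := hp.two_le
          simp at hps
          omega
        have h4 : 2 ∣ 2 ^ s := dvd_pow_self 2 hs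
        rw [← hps] at h4
        have := hp.two_le
        omega
    have hpow : (a : GaloisField p 2) ^ (p - 1) = 1 := by
      rw [← hord_a] at hdvd'
      have := orderOf_dvd_iff_pow_eq_one.mp hdvd'
      rw [← Units.val_pow_eq_pow_val, this, Units.val_one]
    obtain ⟨a', ha'0, ha'⟩ := mem_prime_field (p := p) (a : GaloisField p 2) hpow
    refine ⟨shiftPerm c, ⟨1, -c, fun x => by simp [shiftPerm, sub_eq_add_neg]⟩, a', 0, ha'0, fun y => ?_⟩
    rw [hconj, ha', map_zero, add_zero]

end Cfsg.Agent.S5728
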