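import Cfsg.Statements.S5904
-- import your own Cfsg.Agent.* helpers here
import Cfsg.Agent.Lib.Helper98.Partition

set_option autoImplicit false
open scoped Pointwise
open Cfsg

namespace Cfsg.Agent.S5904

open Equiv Cfsg.Agent.Lib.Helper98 in
theorem exists_flip {Ω : Type*} [Finite Ω] (O : Set Ω) (hO : Nat.card O = Nat.card ↥Oᶜ) :
    ∃ σ : Perm Ω, ∀ x, x ∈ O ↔ σ x ∉ O := by
  classical
  let e : O ≃ ↥Oᶜ := (Finite.equivFinOfCardEq hO).trans (Finite.equivFin ↥Oᶜ).symm
  let σ : Perm Ω := (Equiv.Set.sumCompl O).symm.trans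
    (((Equiv.sumCongr e e.symm).trans (Equiv.sumComm _ _)).trans (Equiv.Set.sumCompl O))
  refine ⟨σ, fun x => ?_⟩
  by_cases hx : x ∈ O
  · have : σ x = (e ⟨x, hx⟩ : Ω) := by
      simp [σ, Equiv.Set.sumCompl_symm_apply_of_mem hx]
    rw [this]
    exact iff_of_true hx (e ⟨x, hx⟩).2
  · have : σ x = (e.symm ⟨x, hx⟩ : Ω) := by
      simp [σ, Equiv.Set.sumCompl_symm_apply_of_notMem hx]
    rw [this]
    exact iff_of_false hx (not_not.mpr (e.symm ⟨x, hx⟩).2)

open Equiv Cfsg.Agent.Lib.Helper98 in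
theorem stabilizer_lt_partStab {Ω : Type*} [Finite Ω] (O : Set Ω) (hne : O.Nonempty)
    (hO : Nat.card O = Nat.card ↥Oᶜ) :
    MulAction.stabilizer (Perm Ω) O < partStab (fun x => x ∈ O) := by
  have hstab : ∀ g : Perm Ω, g ∈ MulAction.stabilizer (Perm Ω) O ↔ ∀ x, g x ∈ O ↔ x ∈ O := by
    intro g
    rw [MulAction.mem_stabilizer_set]
    rfl
  refine lt_of_le_of_ne ?_ ?_
  · intro g hg x y
    rw [hstab] at hg
    simp only [hg]
  · intro heq
    obtain ⟨σ, hσ⟩ := exists_flip O hO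
    have hmem : σ ∈ partStab (fun x => x ∈ O) := by
      intro x y
      simp only [eq_iff_iff, hσ x, hσ y]
      exact not_iff_not
    rw [← heq, hstab] at hmem
    obtain ⟨x, hx⟩ := hne
    exact (hσ x).mp hx ((hmem x).mpr hx)

open Equiv Cfsg.Agent.Lib.Helper98 in
theorem partStab_mem_ne_top {Ω : Type*} [DecidableEq Ω] (O : Set Ω) {a b c : Ω} (ha : a ∈ O)
    (hb : b ∈ O) (hab : a ≠ b) (hc : c ∉ O) : partStab (fun x => x ∈ O) ≠ ⊤ := by
  intro htop
  have hmem : swap b c ∈ partStab (fun x => x ∈ O) := htop ▸ Subgroup.mem_top _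
  have hac : a ≠ c := fun h => hc (h ▸ ha)
  have := (hmem a b).mp (by simp [ha, hb])
  rw [swap_apply_left, swap_apply_of_ne_of_ne hab hac] at this
  simp [ha, hc] at this

/-- Let Ω be a finite set with more than two elements and O ⊆ Ω a subset with exactly as many elements as its complement. Then the setwise stabilizer of O in the symmetric group on Ω is not a maximal subgroup (it is properly contained in the stabilizer of the partition {O, Ω ∖ O}, which is proper). -/
theorem result {Ω : Type*} [Fintype Ω] [DecidableEq Ω] (hΩ : 2 < Fintype.card Ω)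
    (O : Set Ω) (hO : Nat.card O = Nat.card ↥Oᶜ) :
    ¬ IsCoatom (MulAction.stabilizer (Equiv.Perm Ω) O) := by
  intro hco
  have hsum : Nat.card O + Nat.card ↥Oᶜ = Fintype.card Ω := by
    rw [Nat.card_coe_set_eq, Nat.card_coe_set_eq, Set.ncard_add_ncard_compl,
      Nat.card_eq_fintype_card]
  have h1 : 1 < Nat.card O := by omega
  have h2 : 0 < Nat.card ↥Oᶜ := by omega
  obtain ⟨⟨a, ha⟩, ⟨b, hb⟩, hab⟩ := (Finite.one_lt_card_iff_nontrivial.mp h1).exists_pair_ne
  obtain ⟨⟨c, hc⟩⟩ := (Nat.card_pos_iff.mp h2).1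
  have hlt := stabilizer_lt_partStab O ⟨a, ha⟩ hO
  exact partStab_mem_ne_top O ha hb (fun h => hab (Subtype.ext h)) hc (hco.2 _ hlt)

end Cfsg.Agent.S5904
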