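import Cfsg.Statements.S5894
-- import your own Cfsg.Agent.* helpers here
import Cfsg.Agent.Lib.Helper98.Partition
import Cfsg.Agent.S5904

set_option autoImplicit false
open Cfsg

namespace Cfsg.Agent.S5894

theorem isCoatom_map_subgroupOf_range {G' G : Type*} [Group G'] [Group G] (φ : G' →* G)
    (hφ : Function.Injective φ) (S : Subgroup G') (hS : IsCoatom S) :
    IsCoatom ((S.map φ).subgroupOf φ.range) := by
  have : (S.map φ).subgroupOf φ.range = S.map ((MonoidHom.ofInjective hφ : G' ≃* φ.range) : G' →* φ.range) := by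
    ext x
    rw [Subgroup.mem_subgroupOf, Subgroup.mem_map, Subgroup.mem_map]
    constructor
    · rintro ⟨s, hs, hsx⟩
      exact ⟨s, hs, Subtype.ext hsx⟩
    · rintro ⟨s, hs, hsx⟩
      exact ⟨s, hs, congrArg Subtype.val hsx⟩
  rw [this]
  exact ((MonoidHom.ofInjective hφ).mapSubgroup.isCoatom_iff S).mpr hS

open scoped Pointwise in
open Equiv Cfsg.Agent.Lib.Helper98 in
theorem general {Ω : Type*} [Fintype Ω] [DecidableEq Ω] (O : Set Ω)
    (hO : Nat.card O = Nat.card ↥Oᶜ) (a a1 c : Ω) (ha : a ∈ O) (ha1 : a1 ∈ O) (hne : a ≠ a1)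
    (hc : c ∉ O) :
    ∃ M H K : Subgroup (Perm Ω), IsCoatom M ∧ M.index = Fintype.card Ω ∧ H ≤ M ∧
      IsCoatom (H.subgroupOf M) ∧ IsCoatom K ∧ H ≤ K ∧ ¬ IsCoatom (H.subgroupOf K) := by
  have hsum : Nat.card O + Nat.card ↥Oᶜ = Fintype.card Ω := by
    rw [Nat.card_coe_set_eq, Nat.card_coe_set_eq, Set.ncard_add_ncard_compl,
      Nat.card_eq_fintype_card]
  have hnt : Nontrivial Ω := ⟨a, a1, hne⟩
  let φ : Perm {x : Ω // x ≠ a} →* Perm Ω := Perm.ofSubtype
  have hφ : Function.Injective φ := Perm.ofSubtype_injective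
  let O' : Set {x : Ω // x ≠ a} := Subtype.val ⁻¹' O
  have hS' : IsCoatom (MulAction.stabilizer (Perm {x : Ω // x ≠ a}) O') := by
    apply Perm.isCoatom_stabilizer
    · exact ⟨⟨a1, hne.symm⟩, ha1⟩
    · exact ⟨⟨c, fun h => hc (h ▸ ha)⟩, hc⟩
    · have : Nat.card {x : Ω // x ≠ a} = Fintype.card Ω - 1 := by
        rw [Nat.card_eq_fintype_card, Fintype.card_subtype_compl, Fintype.card_subtype_eq]
      have hpos : 0 < Fintype.card Ω := Fintype.card_pos
      omega
  have hrange : φ.range = MulAction.stabilizer (Perm Ω) a := by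
    ext g
    rw [MulAction.mem_stabilizer_iff]
    constructor
    · rintro ⟨s, rfl⟩
      exact Perm.ofSubtype_apply_of_not_mem s (by simp)
    · intro hg
      have hg' : g a = a := hg
      refine ⟨g.subtypePerm (fun x => ?_), Perm.ofSubtype_subtypePerm _ (fun x hx => ?_)⟩
      · rw [not_iff_not]
        constructor
        · intro h
          apply g.injective
          rw [h, hg']
        · intro h
          rw [h, hg']
      · rintro rfl
        exact hx hg'
  have hstab : ∀ (X : Type _) (T : Set X) (g : Perm X),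
      g ∈ MulAction.stabilizer (Perm X) T ↔ ∀ x, g x ∈ T ↔ x ∈ T := by
    intro X T g
    rw [MulAction.mem_stabilizer_set]
    rfl
  have hHS : (MulAction.stabilizer (Perm {x : Ω // x ≠ a}) O').map φ ≤
      MulAction.stabilizer (Perm Ω) O := by
    rintro _ ⟨s, hs, rfl⟩
    rw [SetLike.mem_coe, hstab] at hs
    rw [hstab]
    intro x
    by_cases hx : x = a
    · have : φ s x = x := Perm.ofSubtype_apply_of_not_mem s (by simp [hx])
      rw [this]
    · have : φ s x = s ⟨x, hx⟩ := Perm.ofSubtype_apply_of_mem s hx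
      rw [this]
      exact hs ⟨x, hx⟩
  have hlt := Cfsg.Agent.S5904.stabilizer_lt_partStab O ⟨a, ha⟩ hO
  have hntop := Cfsg.Agent.S5904.partStab_mem_ne_top O ha ha1 hne hc
  obtain ⟨K, hK, hle⟩ := (eq_top_or_exists_le_coatom _).resolve_left hntop
  refine ⟨φ.range, (MulAction.stabilizer (Perm {x : Ω // x ≠ a}) O').map φ, K, ?_, ?_,
    Subgroup.map_le_range _ _, isCoatom_map_subgroupOf_range φ hφ _ hS', hK,
    hHS.trans (hlt.le.trans hle), ?_⟩
  · rw [hrange]
    exact MulAction.IsPreprimitive.isCoatom_stabilizer_of_isPreprimitive _ a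
  · rw [hrange, MulAction.index_stabilizer_of_transitive, Nat.card_eq_fintype_card]
  · intro hco
    have h1 : ((MulAction.stabilizer (Perm {x : Ω // x ≠ a}) O').map φ).subgroupOf K <
        (MulAction.stabilizer (Perm Ω) O).subgroupOf K := by
      refine lt_of_le_of_ne (Subgroup.comap_mono hHS) (fun heq => ?_)
      have hsw : swap a a1 ∈ MulAction.stabilizer (Perm Ω) O := by
        rw [hstab]
        intro x
        rw [swap_apply_def]
        split_ifs with h1 h2
        · rw [h1]; exact iff_of_true ha1 ha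
        · rw [h2]; exact iff_of_true ha ha1
        · rfl
      have hmem : (⟨swap a a1, hle (hlt.le hsw)⟩ : K) ∈
          (MulAction.stabilizer (Perm Ω) O).subgroupOf K := hsw
      rw [← heq] at hmem
      have h2 : swap a a1 ∈ φ.range := Subgroup.map_le_range _ _ hmem
      rw [hrange, MulAction.mem_stabilizer_iff] at h2
      have h3 : swap a a1 a = a := h2
      rw [swap_apply_left] at h3
      exact hne h3.symm
    have h2 := hco.2 _ h1
    rw [Subgroup.subgroupOf_eq_top] at h2
    exact absurd (lt_of_lt_of_le hlt (hle.trans h2)) (lt_irrefl _)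

/-- For every m ≥ 2 the symmetric group on 2m letters has a maximal subgroup M of index 2m together with a maximal subgroup H of M that is not second maximal: some maximal subgroup K of the symmetric group contains H without H being maximal in K. (One may take M the stabiliser of a letter, H ≅ S_m × S_{m−1} inside it, and K ≅ S_m ≀ S₂ the stabiliser of a partition into two m-sets, with H < S_m × S_m < K.) So the prime-index hypothesis in the second-maximality criterion cannot be relaxed to any even index ≥ 4. -/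
theorem result (m : ℕ) (hm : 2 ≤ m) :
    ∃ M H K : Subgroup (Equiv.Perm (Fin (2 * m))), IsCoatom M ∧ M.index = 2 * m ∧ H ≤ M ∧ IsCoatom (H.subgroupOf M) ∧
      IsCoatom K ∧ H ≤ K ∧ ¬ IsCoatom (H.subgroupOf K) := by
  have h := general (Ω := Fin (2 * m)) {x | x.val < m} ?_ ⟨0, by omega⟩ ⟨1, by omega⟩ ⟨m, by omega⟩
    (by simp; omega) (by simp; omega) (by simp) (by simp)
  · simpa using h
  · have h1 : Nat.card ↥{x : Fin (2 * m) | x.val < m} = m := by
      rw [Nat.card_eq_fintype_card, Fintype.card_subtype]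
      have := Fin.card_filter_val_lt (n := 2 * m) (m := m)
      simpa [show min (2 * m) m = m by omega] using this
    have hsum : Nat.card ↥{x : Fin (2 * m) | x.val < m} + Nat.card ↥{x : Fin (2 * m) | x.val < m}ᶜ
        = 2 * m := by
      rw [Nat.card_coe_set_eq, Nat.card_coe_set_eq, Set.ncard_add_ncard_compl,
        Nat.card_eq_fintype_card, Fintype.card_fin]
    omega

end Cfsg.Agent.S5894
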