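import Cfsg.Statements.S5938
import Cfsg.Agent.Lib.Helper7.PSL2Max2
import Cfsg.Agent.S0803
-- import your own Cfsg.Agent.* helpers here

set_option autoImplicit false
open Cfsg

namespace Cfsg.Agent.S5938

open Cfsg.Agent.Lib.Helper7 Cfsg.Agent.Lib.Helper7.PMax

/-- Let p be a prime with p ≡ ±1 (mod 8) and F a field with p elements. Then PSL_2(F) has a maximal subgroup isomorphic to the symmetric group S_4. -/
theorem result {F : Type*} [Field F] [Fintype F] (p : ℕ) [Fact p.Prime] (hF : Fintype.card F = p) (hp : p % 8 = 1 ∨ p % 8 = 7) : ∃ H : Subgroup (Matrix.ProjectiveSpecialLinearGroup (Fin 2) F), IsCoatom H ∧ Nonempty (H ≃* Equiv.Perm (Fin 4)) := by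
  classical
  haveI : CharP F p := charP_of_card_prime hF
  have hpp : p.Prime := Fact.out
  have hp7 : 7 ≤ p := by
    rcases hp with h | h
    · by_contra hlt
      have : p = 1 := by omega
      exact hpp.one_lt.ne' this
    · omega
  have h16 : p ^ 2 % 16 = 1 := by
    have : p % 16 = 1 ∨ p % 16 = 9 ∨ p % 16 = 7 ∨ p % 16 = 15 := by omega
    rcases this with h | h | h | h <;> simp [Nat.pow_mod, h]
  obtain ⟨H, ⟨e⟩⟩ := (Cfsg.Agent.S0803.result hF).2 h16
  refine ⟨H, ?_, ⟨e⟩⟩
  have hH24 : Nat.card H = 24 := by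
    rw [Nat.card_congr e.toEquiv, Nat.card_eq_fintype_card, Fintype.card_perm]; rfl
  have hP := card_PSL (F := F)
  rw [hF] at hP
  have hbig : 336 ≤ p * (p ^ 2 - 1) :=
    Nat.mul_le_mul hp7 (Nat.sub_le_sub_right (Nat.pow_le_pow_left hp7 2) 1)
  have hz : zc F = 1 ∨ zc F = 2 := zc_cases F
  constructor
  · intro h
    rw [h, Subgroup.card_top] at hH24
    rw [hH24] at hP
    rcases hz with h | h <;> rw [h] at hP <;> omega
  · intro M hlt
    have hle : H ≤ M := hlt.le
    have hdvd : 24 ∣ Nat.card M := hH24 ▸ Subgroup.card_dvd_of_le hle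
    rcases psl_dickson_num p M with ⟨-, h, -⟩ | ⟨h, -⟩ | h | ⟨q₀, m, h3, hq, h⟩
    · exact absurd (transfer_meta hle e h) S4_not_meta
    · exact absurd (transfer_sq hle e h) S4_not_sq
    · exfalso
      rcases h with h | h | h
      · omega
      · exact hlt.ne (Subgroup.eq_of_le_of_card_ge hle (by rw [h, hH24]))
      · omega
    · rw [hF] at hq
      have := base_eq_of_prime hpp h3 hq
      subst this
      apply eq_top_of_card
      rw [hF]; exact h

end Cfsg.Agent.S5938
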