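import Cfsg.Statements.S5939
import Cfsg.Agent.Lib.Helper7.PSL2Max2
import Cfsg.Agent.S0804
-- import your own Cfsg.Agent.* helpers here

set_option autoImplicit false
open Cfsg

namespace Cfsg.Agent.S5939

open Cfsg.Agent.Lib.Helper7 Cfsg.Agent.Lib.Helper7.PMax

theorem mod5 {p : ℕ} (h : p % 5 = 2 ∨ p % 5 = 3) : (p * (p ^ 2 - 1)) % 5 ≠ 0 := by
  have h2 : p ^ 2 % 5 = 4 := by
    rcases h with h | h <;> simp [Nat.pow_mod, h]
  have h3 : (p ^ 2 - 1) % 5 = 3 := by omega
  rw [Nat.mul_mod, h3]
  rcases h with h | h <;> rw [h] <;> norm_num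

theorem dvd5 {q : ℕ} (hq : 1 ≤ q) (h : q % 5 = 1 ∨ q % 5 = 4) : 5 ∣ q * (q ^ 2 - 1) := by
  have h2 : q ^ 2 % 5 = 1 := by
    rcases h with h | h <;> simp [Nat.pow_mod, h]
  have h1 : 1 ≤ q ^ 2 := Nat.one_le_pow _ _ hq
  have h3 : (q ^ 2 - 1) % 5 = 0 := by omega
  exact Dvd.dvd.mul_left (Nat.dvd_of_mod_eq_zero h3) q

/-- Let p be a prime and F a finite field of characteristic p such that either F has p elements and p ≡ ±1 (mod 10), or F has p² elements and p ≡ ±3 (mod 10). Then PSL_2(F) has a maximal subgroup isomorphic to the alternating group A_5. -/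
theorem result {F : Type*} [Field F] [Fintype F] (p : ℕ) [Fact p.Prime] [CharP F p] (h : (Fintype.card F = p ∧ (p % 10 = 1 ∨ p % 10 = 9)) ∨ (Fintype.card F = p ^ 2 ∧ (p % 10 = 3 ∨ p % 10 = 7))) : ∃ H : Subgroup (Matrix.ProjectiveSpecialLinearGroup (Fin 2) F), IsCoatom H ∧ Nonempty (H ≃* alternatingGroup (Fin 5)) := by
  classical
  have hpp : p.Prime := Fact.out
  set q := Fintype.card F with hqdef
  have hq9 : 9 ≤ q := by
    rcases h with ⟨h1, h2⟩ | ⟨h1, h2⟩
    · rw [h1]
      by_contra hlt
      have : p = 1 := by omega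
      exact hpp.one_lt.ne' this
    · rw [h1]
      have : 3 ≤ p := by omega
      calc 9 = 3 ^ 2 := by norm_num
        _ ≤ p ^ 2 := Nat.pow_le_pow_left this 2
  have h5 : 5 ∣ q * (q ^ 2 - 1) := by
    apply dvd5 (by omega)
    rcases h with ⟨h1, h2⟩ | ⟨h1, h2⟩
    · rw [h1]; omega
    · rw [h1]
      right
      have : p % 5 = 3 ∨ p % 5 = 2 := by omega
      rcases this with h | h <;> simp [Nat.pow_mod, h]
  obtain ⟨H, ⟨e⟩⟩ := (Cfsg.Agent.S0804.result (F := F) hqdef.symm).2 h5
  refine ⟨H, ?_, ⟨e⟩⟩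
  have hH60 : Nat.card H = 60 := by
    rw [Nat.card_congr e.toEquiv, Nat.card_eq_fintype_card]
    have := two_mul_card_alternatingGroup (α := Fin 5)
    rw [Fintype.card_perm] at this
    have h120 : (Fintype.card (Fin 5)).factorial = 120 := rfl
    omega
  have hP := card_PSL (F := F)
  rw [← hqdef] at hP
  have hbig : 720 ≤ q * (q ^ 2 - 1) :=
    Nat.mul_le_mul hq9 (Nat.sub_le_sub_right (Nat.pow_le_pow_left hq9 2) 1)
  have hz : zc F = 1 ∨ zc F = 2 := zc_cases F
  constructor
  · intro h
    rw [h, Subgroup.card_top] at hH60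
    rw [hH60] at hP
    rcases hz with h | h <;> rw [h] at hP <;> omega
  · intro M hlt
    have hle : H ≤ M := hlt.le
    have hdvd : 60 ∣ Nat.card M := hH60 ▸ Subgroup.card_dvd_of_le hle
    rcases psl_dickson_num p M with ⟨-, h, -⟩ | ⟨h, -⟩ | h | ⟨q₀, m, h3, hq, hM⟩
    · exact absurd (transfer_meta hle e h) A5_not_meta
    · exact absurd (transfer_sq hle e h) A5_not_sq
    · exfalso
      rcases h with h | h | h
      · omega
      · omega
      · exact hlt.ne (Subgroup.eq_of_le_of_card_ge hle (by rw [h, hH60]))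
    · rw [← hqdef] at hq
      rcases h with ⟨h1, h2⟩ | ⟨h1, h2⟩
      · rw [h1] at hq
        have := base_eq_of_prime hpp h3 hq
        apply eq_top_of_card
        rw [← hqdef, h1, ← this]; exact hM
      · have hm : m ≠ 0 := by
          rintro rfl
          rw [pow_zero] at hq
          omega
        have hd : q₀ ∣ p ^ 2 := by
          rw [← h1, hq]; exact dvd_pow_self _ hm
        obtain ⟨k, hk, rfl⟩ := (Nat.dvd_prime_pow hpp).1 hd
        have hk' : k = 0 ∨ k = 1 ∨ k = 2 := by omega
        rcases hk' with rfl | rfl | rfl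
        · simp at h3
        · exfalso
          rw [pow_one] at hM
          have h5' : p % 5 = 2 ∨ p % 5 = 3 := by omega
          have hne := mod5 h5'
          obtain ⟨j, hj⟩ := hdvd
          rcases hM with hM | hM
          · rw [← hM, hj] at hne
            apply hne
            have : zc F * (60 * j) = 5 * (zc F * 12 * j) := by ring
            rw [this]; simp
          · rw [← hM, hj] at hne
            omega
        · apply eq_top_of_card
          rw [← hqdef, h1]; exact hM

end Cfsg.Agent.S5939
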