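import Cfsg.Statements.S5940
import Cfsg.Agent.Lib.Helper7.PSL2Max2
import Cfsg.Agent.S0802
-- import your own Cfsg.Agent.* helpers here

set_option autoImplicit false
open Cfsg

namespace Cfsg.Agent.S5940

open Cfsg.Agent.Lib.Helper7 Cfsg.Agent.Lib.Helper7.PMax

theorem mod16 {p : ℕ} (h8 : p % 8 = 3 ∨ p % 8 = 5) : (p * (p ^ 2 - 1)) % 16 = 8 := by
  have h1 : p % 16 = 3 ∨ p % 16 = 11 ∨ p % 16 = 5 ∨ p % 16 = 13 := by omega
  have h2 : p ^ 2 % 16 = 9 := by
    rcases h1 with h | h | h | h <;> simp [Nat.pow_mod, h]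
  have h3 : (p ^ 2 - 1) % 16 = 8 := by omega
  rw [Nat.mul_mod, h3]
  rcases h1 with h | h | h | h <;> rw [h]

theorem mod5 {p : ℕ} (h : p % 5 = 2 ∨ p % 5 = 3) : (p * (p ^ 2 - 1)) % 5 ≠ 0 := by
  have h2 : p ^ 2 % 5 = 4 := by
    rcases h with h | h <;> simp [Nat.pow_mod, h]
  have h3 : (p ^ 2 - 1) % 5 = 3 := by omega
  rw [Nat.mul_mod, h3]
  rcases h with h | h <;> rw [h] <;> norm_num

/-- Let p ≥ 5 be a prime with p ≡ ±3 (mod 8) and p ≢ ±1 (mod 10), and F a field with p elements. Then PSL_2(F) has a maximal subgroup isomorphic to the alternating group A_4. -/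
theorem result {F : Type*} [Field F] [Fintype F] (p : ℕ) [Fact p.Prime] (hF : Fintype.card F = p) (h5 : 5 ≤ p) (h8 : p % 8 = 3 ∨ p % 8 = 5) (h10 : p % 10 ≠ 1 ∧ p % 10 ≠ 9) : ∃ H : Subgroup (Matrix.ProjectiveSpecialLinearGroup (Fin 2) F), IsCoatom H ∧ Nonempty (H ≃* alternatingGroup (Fin 4)) := by
  classical
  haveI : CharP F p := charP_of_card_prime hF
  have hpp : p.Prime := Fact.out
  have hodd : Odd p := by
    rw [Nat.odd_iff]; omega
  obtain ⟨H, ⟨e⟩⟩ := (Cfsg.Agent.S0802.result p 1 (by rw [hF, pow_one])).2 (by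
    rintro ⟨h, -⟩; omega)
  refine ⟨H, ?_, ⟨e⟩⟩
  have hH12 : Nat.card H = 12 := by
    rw [Nat.card_congr e.toEquiv, Nat.card_eq_fintype_card]
    have := two_mul_card_alternatingGroup (α := Fin 4)
    rw [Fintype.card_perm] at this
    have h24 : (Fintype.card (Fin 4)).factorial = 24 := rfl
    omega
  have hP := card_PSL (F := F)
  rw [hF] at hP
  have h2 : (2 : F) ≠ 0 := by
    intro h
    have h' : ((2 : ℕ) : F) = 0 := by exact_mod_cast h
    rw [CharP.cast_eq_zero_iff F p] at h'
    have := Nat.le_of_dvd (by norm_num) h'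
    omega
  have hz : zc F = 2 := zc_of_two_ne h2
  rw [hz] at hP
  have hbig : 120 ≤ p * (p ^ 2 - 1) :=
    Nat.mul_le_mul h5 (Nat.sub_le_sub_right (Nat.pow_le_pow_left h5 2) 1)
  constructor
  · intro h
    rw [h, Subgroup.card_top] at hH12
    omega
  · intro M hlt
    have hle : H ≤ M := hlt.le
    have hdvd : 12 ∣ Nat.card M := hH12 ▸ Subgroup.card_dvd_of_le hle
    have hMP : Nat.card M ∣ Nat.card (Matrix.ProjectiveSpecialLinearGroup (Fin 2) F) :=
      Subgroup.card_subgroup_dvd_card M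
    rcases psl_dickson_num p M with ⟨h, -, -⟩ | ⟨h, -⟩ | h | ⟨q₀, m, h3, hq, h⟩
    · exact absurd (transfer_pow hle e p h) (A4_not_pow hodd)
    · exact absurd (transfer_sq hle e h) A4_not_sq
    · rcases h with h | h | h
      · exact absurd (Subgroup.eq_of_le_of_card_ge hle (by rw [h, hH12])) hlt.ne
      · exfalso
        rw [h] at hMP
        obtain ⟨k, hk⟩ := hMP
        have := mod16 h8
        rw [← hP, hk] at this
        omega
      · by_cases hp5 : p = 5
        · apply eq_top_of_card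
          left
          rw [hz, h, hF, hp5]; norm_num
        · exfalso
          rw [h] at hMP
          obtain ⟨k, hk⟩ := hMP
          have h5' : p % 5 = 2 ∨ p % 5 = 3 := by
            have hne : p % 5 ≠ 0 := by
              intro h0
              have := (Nat.prime_dvd_prime_iff_eq Nat.prime_five hpp).1 (Nat.dvd_of_mod_eq_zero h0)
              exact hp5 this.symm
            omega
          have := mod5 h5'
          rw [← hP, hk] at this
          omega
    · rw [hF] at hq
      have := base_eq_of_prime hpp h3 hq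
      subst this
      apply eq_top_of_card
      rw [hF]; exact h

end Cfsg.Agent.S5940
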