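import Cfsg.Statements.S5947
import Cfsg.Agent.Lib.Helper99.SingerConj
import Cfsg.Agent.S2904

set_option autoImplicit false
open Cfsg

namespace Cfsg.Agent.S5947

open Cfsg.Agent.Lib.Helper99 in
/-- A prime power `p ^ k` with `p ^ k + 1` a power of two is a prime. -/
lemma eq_one_of_pow_add_one_eq_two_pow {p k m : ℕ} (hp : p.Prime) (hk : 1 ≤ k) (h : p ^ k + 1 = 2 ^ m) :
    k = 1 := by
  have hp2 : p ≠ 2 := by
    rintro rfl
    have h1 : 2 ∣ 2 ^ k := dvd_pow_self 2 (by omega)
    have hm : m ≠ 0 := by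
      rintro rfl
      have : 0 < 2 ^ k := by positivity
      simp at h
    have h2 : 2 ∣ 2 ^ m := dvd_pow_self 2 hm
    omega
  have hodd : Odd p := hp.odd_of_ne_two hp2
  have hp3 : 3 ≤ p := by
    have := hp.two_le
    omega
  rcases Nat.even_or_odd k with hke | hko
  · exfalso
    obtain ⟨j, rfl⟩ := hke
    have hj : 1 ≤ j := by omega
    have h1 : (p ^ j) % 2 = 1 := Nat.odd_iff.1 (hodd.pow)
    have h2 : (p ^ (j + j)) % 4 = 1 := by
      rw [pow_add]
      have h3 : p ^ j % 4 = 1 ∨ p ^ j % 4 = 3 := by omega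
      rcases h3 with h3 | h3 <;> simp [Nat.mul_mod, h3]
    have h4 : 9 ≤ p ^ (j + j) := by
      calc 9 = 3 ^ 2 := by norm_num
        _ ≤ p ^ 2 := Nat.pow_le_pow_left hp3 2
        _ ≤ p ^ (j + j) := Nat.pow_le_pow_right (by omega) (by omega)
    have hm : 2 ≤ m := by
      by_contra hm
      have : m = 0 ∨ m = 1 := by omega
      rcases this with rfl | rfl <;> simp at h <;> omega
    obtain ⟨m', rfl⟩ : ∃ m', m = m' + 2 := ⟨m - 2, by omega⟩
    rw [pow_add 2 m' 2] at h
    omega
  · have h1 : p + 1 ∣ p ^ k + 1 := by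
      have := hko.nat_add_dvd_pow_add_pow p 1
      simpa using this
    rw [h] at h1
    obtain ⟨a, ha, hpa⟩ := (Nat.dvd_prime_pow Nat.prime_two).1 h1
    -- `p ^ 2 ≡ 1` modulo `2 (p + 1)`
    have h2 : p ^ 2 ≡ 1 [MOD 2 * (p + 1)] := by
      obtain ⟨t, rfl⟩ := hodd
      apply Nat.ModEq.symm
      rw [Nat.modEq_iff_dvd' (Nat.one_le_pow _ _ (by omega))]
      refine ⟨t, ?_⟩
      have : (2 * t + 1) ^ 2 = 2 * (2 * t + 1 + 1) * t + 1 := by ring
      rw [this]; simp
    obtain ⟨j, rfl⟩ := hko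
    have h3 : p ^ (2 * j + 1) ≡ p [MOD 2 * (p + 1)] := by
      rw [pow_succ, pow_mul]
      have := (h2.pow j).mul_right p
      simpa using this
    have h4 : p ^ (2 * j + 1) + 1 ≡ p + 1 [MOD 2 * (p + 1)] := h3.add_right 1
    by_contra hj
    have hlt : p + 1 < p ^ (2 * j + 1) + 1 := by
      have : p ^ 1 < p ^ (2 * j + 1) := Nat.pow_lt_pow_right (by omega) (by omega)
      simpa using this
    rw [h, hpa] at hlt
    have ham : a < m := (Nat.pow_lt_pow_iff_right (by norm_num)).1 hlt
    have h5 : 2 * (p + 1) ∣ p ^ (2 * j + 1) + 1 := by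
      rw [h, hpa, ← pow_succ']
      exact pow_dvd_pow 2 ham
    have h6 : 2 * (p + 1) ∣ p + 1 := (Nat.modEq_zero_iff_dvd.1 (h4.symm.trans (Nat.modEq_zero_iff_dvd.2 h5)))
    have := Nat.le_of_dvd (by omega) h6
    omega

/-- Let F ⊆ K be finite fields with |F| = q and [K : F] = n ≥ 2, regard K as an n-dimensional F-vector space, and let M ≤ GL_F(K) be the Singer group of multiplications by non-zero elements of K (cyclic of order q^n − 1). Assume (n, q) ≠ (6, 2), and that it is not the case that n = 2 with q a prime such that q + 1 is a power of 2. Then every abelian subgroup of GL_F(K) of order q^n − 1 is conjugate to M. -/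
theorem result {F K : Type*} [Field F] [Fintype F] [Field K] [Fintype K] [Algebra F K] (n : ℕ) (hn : 2 ≤ n) (hdim : Module.finrank F K = n)
    (hex1 : ¬ (n = 6 ∧ Fintype.card F = 2))
    (hex2 : ¬ (n = 2 ∧ (Fintype.card F).Prime ∧ ∃ a : ℕ, Fintype.card F + 1 = 2 ^ a))
    (U : Subgroup (Module.End F K)ˣ) (hU : IsMulCommutative U) (hcard : Nat.card U = Fintype.card K - 1) :
    ∃ g : (Module.End F K)ˣ, U.map (MulAut.conj g).toMonoidHom = (Units.map ((Algebra.lmul F K : K →ₐ[F] Module.End F K) : K →* Module.End F K)).range := by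
  classical
  obtain ⟨p, hpF⟩ := CharP.exists F
  obtain ⟨⟨k, hk0⟩, hp, hqk⟩ := FiniteField.card F p
  set q := Fintype.card F with hq
  have hq1 : 1 < q := Fintype.one_lt_card
  have hKcard : Fintype.card K = q ^ n := by rw [Module.card_eq_pow_finrank (K := F), hdim]
  have hz2 : ¬ (n = 2 ∧ ∃ m : ℕ, q + 1 = 2 ^ m) := by
    rintro ⟨hn2, m, hm⟩
    apply hex2
    refine ⟨hn2, ?_, m, hm⟩
    rw [hqk] at hm ⊢
    have := eq_one_of_pow_add_one_eq_two_pow hp hk0 hm
    simp only [PNat.mk_coe] at this ⊢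
    rw [this, pow_one]
    exact hp
  obtain ⟨r, hr, hrn, hrk⟩ := Cfsg.Agent.S2904.result q n hq1 (by omega) (fun h => hex1 ⟨h.2, h.1⟩) hz2
  have : Fact r.Prime := ⟨hr⟩
  have hfinE : Finite (Module.End F K) :=
    Finite.of_injective (fun f : Module.End F K => (f : K → K)) DFunLike.coe_injective
  have hfin : Finite (Module.End F K)ˣ := inferInstance
  have hrq : ¬ r ∣ q := by
    intro h
    have h1 : r ∣ q ^ n := dvd_pow h (by omega)
    have h2 : 1 ≤ q ^ n := Nat.one_le_pow _ _ (by omega)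
    have h3 : r ∣ 1 := by
      have := (Nat.dvd_sub h1 hrn)
      rwa [Nat.sub_sub_self h2] at this
    exact hr.one_lt.ne' (Nat.dvd_one.1 h3)
  have hiff : ∀ e : ℕ, r ∣ q ^ e - 1 ↔ ((q : ℕ) : ZMod r) ^ e = 1 := by
    intro e
    have h1 : 1 ≤ q ^ e := Nat.one_le_pow _ _ (by omega)
    rw [← ZMod.natCast_eq_zero_iff, Nat.cast_sub h1, sub_eq_zero]
    push_cast
    rfl
  -- an element of order `r` in `U`
  have hrU : r ∣ Nat.card U := by rw [hcard, hKcard]; exact hrn
  obtain ⟨x, hx⟩ := exists_prime_orderOf_dvd_card' r hrU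
  set T : Module.End F K := ((x : (Module.End F K)ˣ) : Module.End F K) with hT
  have hTr : T ^ r = 1 := by
    have h1 : x ^ r = 1 := by rw [← hx]; exact pow_orderOf_eq_one x
    have h2 := congrArg (fun y : U => ((y : (Module.End F K)ˣ) : Module.End F K)) h1
    simpa using h2
  have hT1 : T ≠ 1 := by
    intro h
    have h1 : x = 1 := by
      apply Subtype.ext
      apply Units.ext
      exact h
    rw [h1, orderOf_one] at hx
    exact hr.one_lt.ne hx
  have hirr := Cfsg.Agent.Lib.Helper99.irreducible_of_primitive (F := F) (V := K) hrq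
    (by
      intro e he0 hen h
      rw [hdim] at hen
      exact hrk e he0 hen ((hiff e).2 h)) T hTr hT1
  -- a root of the minimal polynomial
  have hrK : r ∣ Nat.card Kˣ := by
    rw [Nat.card_eq_fintype_card, Fintype.card_units, hKcard]; exact hrn
  obtain ⟨ζ₀, hζ₀⟩ := exists_prime_orderOf_dvd_card' r hrK
  have hprimroot : IsPrimitiveRoot (ζ₀ : K) r := by
    rw [← hζ₀, ← orderOf_units]
    exact IsPrimitiveRoot.orderOf _
  have hsplit := Polynomial.X_pow_sub_one_splits hprimroot
  have hTint : IsIntegral F T := Algebra.IsIntegral.isIntegral T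
  have hdvd : minpoly F T ∣ (Polynomial.X ^ r - 1 : Polynomial F) := by
    apply minpoly.dvd
    simp [hTr]
  have hdvd' : (minpoly F T).map (algebraMap F K) ∣ (Polynomial.X ^ r - 1 : Polynomial K) := by
    have := Polynomial.map_dvd (algebraMap F K) hdvd
    simpa using this
  have hne : (Polynomial.X ^ r - 1 : Polynomial K) ≠ 0 :=
    Polynomial.X_pow_sub_C_ne_zero hr.pos 1
  obtain ⟨ζ, hζ⟩ := (hsplit.of_dvd hne hdvd').exists_eval_eq_zero (by
    rw [Polynomial.degree_map]
    exact (minpoly.degree_pos hTint).ne')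
  have hζ' : Polynomial.aeval ζ (minpoly F T) = 0 := by
    rw [Polynomial.aeval_def, Polynomial.eval₂_eq_eval_map]; exact hζ
  obtain ⟨g, hg⟩ := Cfsg.Agent.Lib.Helper99.exists_conj_lmul T hirr ζ hζ'
  refine ⟨LinearMap.GeneralLinearGroup.ofLinearEquiv g, ?_⟩
  apply Subgroup.eq_of_le_of_card_ge
  · rintro _ ⟨y, hy, rfl⟩
    have hcomm : Commute (y : Module.End F K) T := by
      have h1 : (⟨y, hy⟩ : U) * x = x * ⟨y, hy⟩ := hU.is_comm.comm _ _
      have h2 := congrArg (fun y : U => ((y : (Module.End F K)ˣ) : Module.End F K)) h1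
      exact h2
    obtain ⟨c, hc⟩ := hg _ hcomm
    have hc0 : c ≠ 0 := by
      rintro rfl
      have h1 := hc (y⁻¹.1 (g.symm 1))
      rw [zero_mul] at h1
      have h2 : (y : Module.End F K) (y⁻¹.1 (g.symm 1)) = g.symm 1 := by
        have : (y : Module.End F K) * y⁻¹.1 = 1 := y.mul_inv
        exact LinearMap.congr_fun this _
      rw [h2, LinearEquiv.apply_symm_apply] at h1
      exact one_ne_zero h1
    refine ⟨Units.mk0 c hc0, ?_⟩
    apply Units.ext
    apply LinearMap.ext
    intro w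
    show c * w = g ((y : Module.End F K) (g.symm w))
    rw [hc, LinearEquiv.apply_symm_apply]
  · have h1 : Nat.card (U.map (MulAut.conj (LinearMap.GeneralLinearGroup.ofLinearEquiv g)).toMonoidHom)
        = Nat.card U := Subgroup.card_map_of_injective (MulEquiv.injective _)
    rw [h1, hcard]
    have hinj : Function.Injective
        (Units.map ((Algebra.lmul F K : K →ₐ[F] Module.End F K) : K →* Module.End F K)) := by
      apply Units.map_injective
      intro a b hab
      have := LinearMap.congr_fun hab 1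
      simpa using this
    rw [Nat.card_congr (MonoidHom.ofInjective hinj).symm.toEquiv, Nat.card_eq_fintype_card, Fintype.card_units]

end Cfsg.Agent.S5947
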